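import Mathlib
import Cfsg.Prelude.Def_SporadicCombinatorics
import Cfsg.Agent.H9.Golay

/-! Explicit permutations of the 24 points from base-32 codes, their action on bit masks,
membership in `M24`, and orbit computations. -/

set_option autoImplicit false

namespace H28

open Cfsg Finset H9
open scoped symmDiff Pointwise

/-- digit `i` of a permutation code. -/
def pf (c i : ℕ) : ℕ := Nat.mod (Nat.shiftRight c (Nat.mul 5 i)) 32

/-- the code describes a permutation of `0..23`. -/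
def okP (c : ℕ) : Bool := Nat.beq (orLt 24 fun i => Nat.shiftLeft 1 (pf c i)) 16777215

/-- the map on points described by a code. -/
def pmFun (c : ℕ) (p : GolayPt) : GolayPt := pt (pf c (ix p))

theorem okP_spec {c : ℕ} (h : okP c = true) :
    (∀ i < 24, pf c i < 24) ∧ ∀ j < 24, ∃ i < 24, pf c i = j := by
  have h1 : (orLt 24 fun i => Nat.shiftLeft 1 (pf c i)) = 2 ^ 24 - 1 := (beq_iff _ _).1 h
  have h2 : ∀ j, j < 24 ↔ ∃ i < 24, pf c i = j := by
    intro j
    have := testBit_orLt 24 (fun i => Nat.shiftLeft 1 (pf c i)) j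
    rw [h1, Nat.testBit_two_pow_sub_one] at this
    simp only [decide_eq_true_eq] at this
    rw [this]
    refine exists_congr fun i => and_congr_right fun _ => ?_
    have e : Nat.shiftLeft 1 (pf c i) = 2 ^ (pf c i) := Nat.one_shiftLeft _
    rw [e, Nat.testBit_two_pow]
    simp
  exact ⟨fun i hi => (h2 _).2 ⟨i, hi, rfl⟩, fun j hj => (h2 j).1 hj⟩

theorem pmFun_bij {c : ℕ} (h : okP c = true) : Function.Bijective (pmFun c) := by
  apply Function.Surjective.bijective_of_finite
  intro q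
  obtain ⟨i, hi, e⟩ := (okP_spec h).2 (ix q) (ix_lt q)
  exact ⟨pt i, by rw [pmFun, ix_pt hi, e, pt_ix]⟩

open Classical in
/-- the permutation described by a code (the identity for an invalid code). -/
noncomputable def pm (c : ℕ) : Equiv.Perm GolayPt :=
  if h : okP c = true then Equiv.ofBijective (pmFun c) (pmFun_bij h) else 1

theorem pm_apply {c : ℕ} (h : okP c = true) (p : GolayPt) : pm c p = pt (pf c (ix p)) := by
  rw [pm, dif_pos h]; rfl

theorem pm_pt {c i : ℕ} (h : okP c = true) (hi : i < 24) : pm c (pt i) = pt (pf c i) := by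
  rw [pm_apply h, ix_pt hi]

theorem ix_pm {c : ℕ} (h : okP c = true) (p : GolayPt) : ix (pm c p) = pf c (ix p) := by
  rw [pm_apply h, ix_pt ((okP_spec h).1 _ (ix_lt p))]

/-- image of a mask under a permutation code. -/
def actM (c n : ℕ) : ℕ := orLt 24 fun i => Nat.shiftLeft (bit n i) (pf c i)

theorem testBit_actM (c n j : ℕ) :
    (actM c n).testBit j = true ↔ ∃ i < 24, n.testBit i = true ∧ pf c i = j := by
  rw [actM, testBit_orLt]
  refine exists_congr fun i => and_congr_right fun _ => ?_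
  have e : Nat.shiftLeft (bit n i) (pf c i) = (bit n i) <<< (pf c i) := rfl
  rw [e, bit_eq]
  cases n.testBit i
  · simp
  · simp only [if_true, Nat.one_shiftLeft, Nat.testBit_two_pow, true_and]
    simp

theorem actM_lt {c : ℕ} (h : okP c = true) (n : ℕ) : actM c n < 2 ^ 24 := by
  apply Nat.lt_pow_two_of_testBit
  intro j hj
  by_contra hh
  obtain ⟨i, hi, _, e⟩ := (testBit_actM c n j).1 (by simpa using hh)
  have := (okP_spec h).1 i hi
  omega

theorem smul_ofMask {c : ℕ} (h : okP c = true) (n : ℕ) : pm c • ofMask n = ofMask (actM c n) := by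
  ext q
  rw [Finset.mem_smul_finset, mem_ofMask, testBit_actM]
  constructor
  · rintro ⟨p, hp, rfl⟩
    exact ⟨ix p, ix_lt p, mem_ofMask.1 hp, (ix_pm h p).symm⟩
  · rintro ⟨i, hi, hb, e⟩
    refine ⟨pt i, (pt_mem_ofMask hi).2 hb, ?_⟩
    change pm c (pt i) = q
    rw [pm_pt h hi, e, pt_ix]

theorem smul_mem_GC {g : Equiv.Perm GolayPt} (hg : g ∈ M24) {s : Finset GolayPt} (hs : s ∈ GC) :
    g • s ∈ GC := by
  have h : g • GC = GC := hg
  rw [← h]
  exact Set.smul_mem_smul_set hs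

theorem smul_mem_GC_iff {g : Equiv.Perm GolayPt} (hg : g ∈ M24) {s : Finset GolayPt} :
    g • s ∈ GC ↔ s ∈ GC :=
  ⟨fun h => by simpa using smul_mem_GC (M24.inv_mem hg) h, smul_mem_GC hg⟩

theorem smul_mem_octads_iff {g : Equiv.Perm GolayPt} (hg : g ∈ M24) {s : Finset GolayPt} :
    g • s ∈ octads ↔ s ∈ octads := by
  rw [mem_octads, mem_octads, smul_mem_GC_iff hg, Finset.card_smul_finset]

theorem smul_mem_dodecads_iff {g : Equiv.Perm GolayPt} (hg : g ∈ M24) {s : Finset GolayPt} :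
    g • s ∈ dodecads ↔ s ∈ dodecads := by
  rw [mem_dodecads, mem_dodecads, smul_mem_GC_iff hg, Finset.card_smul_finset]

theorem mem_M24_of_maps {g : Equiv.Perm GolayPt} (h : ∀ s ∈ GC, g • s ∈ GC) : g ∈ M24 := by
  change g • GC = GC
  have hfin : GC.Finite := Set.toFinite _
  apply Set.eq_of_subset_of_ncard_le _ _ hfin
  · rintro _ ⟨s, hs, rfl⟩
    exact h s hs
  · rw [Set.ncard_smul_set]

theorem smul_symmDiff' (g : Equiv.Perm GolayPt) (s t : Finset GolayPt) :
    g • (s ∆ t) = (g • s) ∆ (g • t) := by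
  ext p
  simp only [← Finset.inv_smul_mem_iff, Finset.mem_symmDiff]

theorem smul_compl' (g : Equiv.Perm GolayPt) (s : Finset GolayPt) : g • sᶜ = (g • s)ᶜ := by
  ext p
  simp only [← Finset.inv_smul_mem_iff, Finset.mem_compl]

theorem smul_union' (g : Equiv.Perm GolayPt) (s t : Finset GolayPt) :
    g • (s ∪ t) = (g • s) ∪ (g • t) := by
  ext p
  simp only [← Finset.inv_smul_mem_iff, Finset.mem_union]

theorem smul_inter' (g : Equiv.Perm GolayPt) (s t : Finset GolayPt) :
    g • (s ∩ t) = (g • s) ∩ (g • t) := by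
  ext p
  simp only [← Finset.inv_smul_mem_iff, Finset.mem_inter]

theorem smul_sdiff' (g : Equiv.Perm GolayPt) (s t : Finset GolayPt) :
    g • (s \ t) = (g • s) \ (g • t) := by
  ext p
  simp only [← Finset.inv_smul_mem_iff, Finset.mem_sdiff]

theorem card_inter_smul (g : Equiv.Perm GolayPt) (s t : Finset GolayPt) :
    (g • s ∩ g • t).card = (s ∩ t).card := by
  rw [← smul_inter', Finset.card_smul_finset]

theorem smul_mem_smul' (g : Equiv.Perm GolayPt) (p : GolayPt) (s : Finset GolayPt) :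
    g p ∈ g • s ↔ p ∈ s := Finset.smul_mem_smul_finset_iff g

/-- membership test for `M24`. -/
def isM24 (c : ℕ) : Bool := okP c && allL basL fun b => isCw (actM c b)

theorem okP_of_isM24 {c : ℕ} (h : isM24 c = true) : okP c = true := by
  rw [isM24, Bool.and_eq_true] at h; exact h.1

theorem pm_mem_M24 {c : ℕ} (h : isM24 c = true) : pm c ∈ M24 := by
  rw [isM24, Bool.and_eq_true, allL_iff] at h
  apply mem_M24_of_maps
  intro s hs
  obtain ⟨m, hm, rfl⟩ := exists_cw_of_mem hs
  rw [(cw_facts hm).1]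
  refine lin_induction (fun n => pm c • ofMask n ∈ GC) ?_ ?_ basL ?_ m
  · simp only [ofMask_zero, Finset.smul_finset_empty]; exact empty_mem_GC
  · intro a b ha hb
    simp only [ofMask_xor, smul_symmDiff']
    exact symmDiff_mem_GC ha hb
  · intro b hb
    simp only [smul_ofMask h.1]
    exact mem_GC_of_isCw (h.2 b hb)

theorem isCw_actM {c n : ℕ} (h : isM24 c = true) (hn : isCw n = true) :
    isCw (actM c n) = true := by
  rw [← ofMask_mem_GC_iff (actM_lt (okP_of_isM24 h) n), ← smul_ofMask (okP_of_isM24 h)]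
  exact smul_mem_GC (pm_mem_M24 h) (mem_GC_of_isCw hn)

theorem pm_smul_eq {c n : ℕ} (h : okP c = true) (e : Nat.beq (actM c n) n = true) :
    pm c • ofMask n = ofMask n := by
  rw [smul_ofMask h, (beq_iff _ _).1 e]

theorem pm_fix {c i : ℕ} (h : okP c = true) (hi : i < 24) (e : Nat.beq (pf c i) i = true) :
    pm c (pt i) = pt i := by
  rw [pm_pt h hi, (beq_iff _ _).1 e]

/-- two codes agree on all digits. -/
def eqP (c d : ℕ) : Bool := allLt 24 fun i => Nat.beq (pf c i) (pf d i)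

theorem pm_eq_of_eqP {c d : ℕ} (hc : okP c = true) (hd : okP d = true) (h : eqP c d = true) :
    pm c = pm d := by
  ext p
  rw [pm_apply hc, pm_apply hd, (beq_iff _ _).1 ((allLt_iff _ _).1 h _ (ix_lt p))]

theorem eqP_of_pm_eq {c d : ℕ} (hc : okP c = true) (hd : okP d = true) (h : pm c = pm d) :
    eqP c d = true := by
  rw [eqP, allLt_iff]
  intro i hi
  rw [beq_iff, ← ix_pt hi, ← ix_pm hc, ← ix_pm hd, h]

/-- `e` is the product of `c` and `d`. -/
def isMul (c d e : ℕ) : Bool := allLt 24 fun i => Nat.beq (pf c (pf d i)) (pf e i)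

theorem pm_mul_of_isMul {c d e : ℕ} (hc : okP c = true) (hd : okP d = true) (he : okP e = true)
    (h : isMul c d e = true) : pm c * pm d = pm e := by
  ext p
  rw [Equiv.Perm.mul_apply, pm_apply hc, pm_apply he, ix_pm hd,
    (beq_iff _ _).1 ((allLt_iff _ _).1 h _ (ix_lt p))]

/-- the code of the identity. -/
def idP : ℕ := 984818244535754528103549039458486304

theorem okP_idP : okP idP = true := by decide +kernel

theorem pm_idP : pm idP = 1 := by
  ext p
  rw [pm_apply okP_idP]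
  have : ∀ i < 24, pf idP i = i := by decide +kernel
  rw [this _ (ix_lt p), pt_ix]; rfl

/-! ### The syndrome index -/

/-- the syndrome of a mask: constant exactly on the cosets of the code. -/
def syn (n : ℕ) : ℕ := Nat.shiftRight (Nat.xor n (cw n)) 12

theorem isCw_xor_of_syn {a b : ℕ} (h : syn a = syn b) : isCw (a ^^^ b) = true := by
  have e : ∀ n : ℕ, (n ^^^ cw n) % 4096 = 0 := by
    intro n
    have : (n ^^^ cw n) % 2 ^ 12 = n % 2 ^ 12 ^^^ cw n % 2 ^ 12 := Nat.xor_mod_two_pow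
    norm_num at this
    rw [this, cw_mod_self, Nat.xor_self]
  have h' : (a ^^^ cw a) / 4096 = (b ^^^ cw b) / 4096 := by
    have h1 : (a ^^^ cw a) >>> 12 = (b ^^^ cw b) >>> 12 := h
    simpa [Nat.shiftRight_eq_div_pow] using h1
  have h2 : a ^^^ cw a = b ^^^ cw b := by
    have := e a; have := e b; omega
  rw [isCw_iff_eq, cw_xor]
  have h3 : cw a = a ^^^ (b ^^^ cw b) := by rw [← h2, ← Nat.xor_assoc, Nat.xor_self, Nat.zero_xor]
  rw [h3, Nat.xor_assoc, Nat.xor_assoc, Nat.xor_self, Nat.xor_zero]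

theorem syn_eq_of_isCw {a b : ℕ} (h : isCw (a ^^^ b) = true) : syn a = syn b := by
  rw [isCw_iff_eq, cw_xor] at h
  have h2 : a ^^^ cw a = b ^^^ cw b := by
    have : cw a = (a ^^^ b) ^^^ cw b := by rw [← h, Nat.xor_assoc, Nat.xor_self, Nat.xor_zero]
    rw [this, Nat.xor_assoc a b, ← Nat.xor_assoc, Nat.xor_self, Nat.zero_xor]
  change (a ^^^ cw a) >>> 12 = (b ^^^ cw b) >>> 12
  rw [h2]

theorem symmDiff_mem_of_syn {a b : ℕ} (h : syn a = syn b) : ofMask a ∆ ofMask b ∈ GC := by
  rw [← ofMask_xor]; exact mem_GC_of_isCw (isCw_xor_of_syn h)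

theorem eq_of_syn {a b : ℕ} (h : syn a = syn b) (hab : pc a + pc b < 8) : ofMask a = ofMask b := by
  have h1 := card_of_mem_GC (symmDiff_mem_of_syn h)
  have h2 := card_symmDiff_add (ofMask a) (ofMask b)
  rw [card_ofMask a, card_ofMask b] at h2
  have h3 : (ofMask a ∆ ofMask b).card = 0 := by omega
  exact symmDiff_eq_bot.1 (Finset.card_eq_zero.1 h3)

/-! ### Orbits computed in the kernel -/

/-- union of the orbits of the roots. -/
def orbU (act : ℕ → ℕ → ℕ) (idx : ℕ → ℕ) (gens : List ℕ) (fuel : ℕ) (roots : List ℕ) : ℕ :=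
  List.rec 0 (fun r _ s => Nat.lor (orbSet act idx gens fuel r) s) roots

theorem orbU_sound (act : ℕ → ℕ → ℕ) (idx : ℕ → ℕ) (gens : List ℕ) (fuel : ℕ) (roots : List ℕ)
    (Q : ℕ → Prop) (h0 : ∀ r ∈ roots, Q r) (hQ : ∀ g ∈ gens, ∀ y, Q y → Q (act g y)) (i : ℕ)
    (hi : tb (orbU act idx gens fuel roots) i = true) : ∃ y, Q y ∧ idx y = i := by
  rw [tb_eq] at hi
  induction roots with
  | nil => simp [orbU] at hi
  | cons r rs ih =>
    have e : orbU act idx gens fuel (r :: rs) =
        orbSet act idx gens fuel r ||| orbU act idx gens fuel rs := rfl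
    rw [e, Nat.testBit_or, Bool.or_eq_true] at hi
    rcases hi with hi | hi
    · exact orbSet_sound act idx gens fuel r Q (h0 r List.mem_cons_self) hQ i hi
    · exact ih (fun r hr => h0 r (List.mem_cons_of_mem _ hr)) hi

/-- Orbits on masks: a marked index belongs to an image of one of the roots. -/
theorem orbU_mask (K : Subgroup (Equiv.Perm GolayPt)) (gens : List ℕ)
    (hg : ∀ c ∈ gens, okP c = true ∧ pm c ∈ K) (idx : ℕ → ℕ) (fuel : ℕ) (roots : List ℕ)
    (hr : ∀ r ∈ roots, r < 2 ^ 24) (i : ℕ) (hi : tb (orbU actM idx gens fuel roots) i = true) :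
    ∃ y < 2 ^ 24, idx y = i ∧ ∃ r ∈ roots, ∃ g ∈ K, g • ofMask r = ofMask y := by
  obtain ⟨y, ⟨h1, h2⟩, h3⟩ := orbU_sound actM idx gens fuel roots
    (fun y => y < 2 ^ 24 ∧ ∃ r ∈ roots, ∃ g ∈ K, g • ofMask r = ofMask y)
    (fun r h => ⟨hr r h, r, h, 1, K.one_mem, one_smul _ _⟩)
    (fun c hc y ⟨_, r, h1, g, h2, h3⟩ => ⟨actM_lt (hg c hc).1 y, r, h1, pm c * g,
      K.mul_mem (hg c hc).2 h2, by rw [mul_smul, h3, smul_ofMask (hg c hc).1]⟩) i hi
  exact ⟨y, h1, h3, h2⟩

/-- low twelve bits. -/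
def lo (n : ℕ) : ℕ := Nat.mod n 4096

/-- Orbits on code words: every code word satisfying `f` is an image of a root. -/
theorem cw_orbits (K : Subgroup (Equiv.Perm GolayPt)) (hK : K ≤ M24) (gens : List ℕ)
    (hg : ∀ c ∈ gens, okP c = true ∧ pm c ∈ K) (fuel : ℕ) (roots : List ℕ)
    (hr : allL roots isCw = true) (f : ℕ → Bool)
    (hc : force (orbU actM lo gens fuel roots)
      (fun B => treeAll (fun m => cond (f (cw m)) (tb B m) true) 12 0) = true)
    (n : ℕ) (hn : isCw n = true) (hf : f n = true) :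
    ∃ r ∈ roots, ∃ g ∈ K, g • ofMask r = ofMask n := by
  rw [force_eq, treeAll_iff] at hc
  rw [allL_iff] at hr
  have h1 := hc (n % 4096) (Nat.mod_lt _ (by norm_num))
  rw [cw_mod, isCw_iff_eq.1 hn, hf, cond_true] at h1
  obtain ⟨y, hy, e, r, h2, g, h3, h4⟩ := orbU_mask K gens hg lo fuel roots
    (fun r h => lt_of_isCw (hr r h)) _ h1
  refine ⟨r, h2, g, h3, ?_⟩
  have h5 : isCw y = true := by
    rw [← ofMask_mem_GC_iff hy, ← h4]
    exact smul_mem_GC (hK h3) (mem_GC_of_isCw (hr r h2))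
  have e' : y % 4096 = n % 4096 := e
  rw [h4, ← isCw_iff_eq.1 h5, ← cw_mod, e', cw_mod, isCw_iff_eq.1 hn]

/-- Orbits on points, as singleton masks are not needed: the orbit of point indices. -/
theorem pt_orbit (K : Subgroup (Equiv.Perm GolayPt)) (gens : List ℕ)
    (hg : ∀ c ∈ gens, okP c = true ∧ pm c ∈ K) (r : ℕ) (hr : r < 24) (n : ℕ)
    (hn : Nat.beq (orbSet pf id gens 24 r) n = true) (q : GolayPt) (hq : q ∈ ofMask n) :
    ∃ g ∈ K, g (pt r) = q := by
  rw [mem_ofMask, ← (beq_iff _ _).1 hn] at hq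
  obtain ⟨y, ⟨h1, g, h2, h3⟩, h4⟩ := orbSet_sound pf id gens 24 r
    (fun y => y < 24 ∧ ∃ g ∈ K, g (pt r) = pt y) ⟨hr, 1, K.one_mem, rfl⟩
    (fun c hc y ⟨h1, g, h2, h3⟩ => ⟨(okP_spec (hg c hc).1).1 y h1, pm c * g,
      K.mul_mem (hg c hc).2 h2, by rw [Equiv.Perm.mul_apply, h3, pm_pt (hg c hc).1 h1]⟩) _ hq
  refine ⟨g, h2, ?_⟩
  rw [h3, show y = ix q from h4, pt_ix]

end H28
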