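import Mathlib
import Cfsg.Agent.H28.Perm24

/-! Enumeration of small subsets, stabiliser subgroups given by masks, a maximality criterion. -/

set_option autoImplicit false

namespace H28

open Cfsg Finset H9
open scoped symmDiff Pointwise

/-- sum of `f (acc ||| m)` over the masks `m < 2 ^ n` with `k` bits. -/
def sumSub (f : ℕ → ℕ) (n : ℕ) : ℕ → ℕ → ℕ :=
  Nat.rec (fun k acc => Nat.rec (f acc) (fun _ _ => 0) k)
    (fun n r k acc => Nat.rec (f acc) (fun k' _ =>
      force (Nat.lor acc (Nat.shiftLeft 1 n)) fun acc' =>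
        Nat.add (r (Nat.succ k') acc) (r k' acc')) k) n

/-- the points of index below `n`. -/
def lowPts (n : ℕ) : Finset GolayPt := univ.filter fun p => ix p < n

theorem lowPts_succ {n : ℕ} (hn : n < 24) : lowPts (n + 1) = insert (pt n) (lowPts n) := by
  ext p
  simp only [lowPts, mem_filter, mem_univ, true_and, mem_insert]
  constructor
  · intro h
    rcases Nat.lt_succ_iff_lt_or_eq.1 h with h | h
    · exact Or.inr h
    · left; rw [← h, pt_ix]
  · rintro (rfl | h)
    · rw [ix_pt hn]; omega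
    · omega

theorem or_lt {a b : ℕ} (ha : a < 2 ^ 24) (hb : b < 2 ^ 24) : a ||| b < 2 ^ 24 :=
  Nat.or_lt_two_pow ha hb

theorem xor_lt {a b : ℕ} (ha : a < 2 ^ 24) (hb : b < 2 ^ 24) : a ^^^ b < 2 ^ 24 :=
  Nat.xor_lt_two_pow ha hb

theorem sumSub_eq (f : ℕ → ℕ) (F : Finset GolayPt → ℕ) (hF : ∀ m < 2 ^ 24, f m = F (ofMask m))
    (n : ℕ) (hn : n ≤ 24) (k acc : ℕ) (ha : acc < 2 ^ 24) :
    sumSub f n k acc = ∑ s ∈ powersetCard k (lowPts n), F (ofMask acc ∪ s) := by
  induction n generalizing k acc with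
  | zero =>
    have e : lowPts 0 = ∅ := by simp [lowPts]
    cases k with
    | zero => simpa [sumSub] using hF acc ha
    | succ k => rw [e, powersetCard_eq_empty.2 (by simp)]; rfl
  | succ n ih =>
    cases k with
    | zero => simpa [sumSub] using hF acc ha
    | succ k =>
      have e : sumSub f (n + 1) (k + 1) acc =
          sumSub f n (k + 1) acc + sumSub f n k (acc ||| (1 <<< n)) := by
        have e0 : sumSub f (n + 1) (k + 1) acc = force (acc ||| (1 <<< n)) fun acc' =>
          sumSub f n (k + 1) acc + sumSub f n k acc' := rfl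
        rw [e0, force_eq]
      have hn' : n < 24 := hn
      have hp : pt n ∉ lowPts n := by simp [lowPts, ix_pt hn']
      have h2 : 2 ^ n < 2 ^ 24 := Nat.pow_lt_pow_right (by norm_num) hn'
      rw [e, lowPts_succ hn', powersetCard_succ_insert hp, sum_union, sum_image, ih hn'.le _ _ ha,
        Nat.one_shiftLeft, ih hn'.le _ _ (or_lt ha h2)]
      · congr 1
        apply sum_congr rfl
        intro s _
        rw [ofMask_or, ofMask_two_pow hn', union_assoc, ← insert_eq]
      · intro s hs t ht h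
        have hs' : pt n ∉ s := fun h => hp ((mem_powersetCard.1 hs).1 h)
        have ht' : pt n ∉ t := fun h => hp ((mem_powersetCard.1 ht).1 h)
        rw [← erase_insert hs', ← erase_insert ht']
        exact congrArg (fun u => erase u (pt n)) h
      · rw [disjoint_left]
        intro s hs hs'
        obtain ⟨t, _, rfl⟩ := mem_image.1 hs'
        exact hp ((mem_powersetCard.1 hs).1 (mem_insert_self _ _))

/-- number of `k`-subsets with a property. -/
def cntSub (k : ℕ) (p : ℕ → Bool) : ℕ := sumSub (fun m => cond (p m) 1 0) 24 k 0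

theorem ncard_sub (k : ℕ) (P : Finset GolayPt → Prop) (p : ℕ → Bool)
    (h : ∀ m < 2 ^ 24, pc m = k → (P (ofMask m) ↔ p m = true)) :
    {s | s.card = k ∧ P s}.ncard = cntSub k p := by
  classical
  rw [cntSub, sumSub_eq _ (fun s => cond (p (toMask s)) 1 0) _ 24 le_rfl k 0 (by norm_num)]
  · have e : lowPts 24 = univ := by
      ext q; simp [lowPts, ix_lt]
    rw [e, ofMask_zero]
    have : {s | s.card = k ∧ P s} = ((powersetCard k univ).filter P : Finset (Finset GolayPt)) := by
      ext s; simp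
    rw [this, Set.ncard_coe_finset, card_filter]
    apply sum_congr rfl
    intro s hs
    have hk : pc (toMask s) = k := by
      rw [← card_ofMask, ofMask_toMask]; exact (mem_powersetCard.1 hs).2
    have := h _ (toMask_lt s) hk
    rw [ofMask_toMask] at this
    rw [empty_union]
    by_cases hp : P s
    · simp [hp, this.1 hp]
    · have : p (toMask s) = false := by
        cases hh : p (toMask s)
        · rfl
        · exact absurd (this.2 hh) hp
      simp [hp, this]
  · intro m hm
    rw [ofMask_inj (toMask_lt _) hm (ofMask_toMask _)]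

theorem forall_sub (k : ℕ) (p : ℕ → Bool) (h : cntSub k (fun m => !p m) = 0) (m : ℕ)
    (hm : m < 2 ^ 24) (hk : pc m = k) : p m = true := by
  rw [← ncard_sub k (fun s => p (toMask s) = false)] at h
  · rw [Set.ncard_eq_zero] at h
    cases hp : p m
    · have : ofMask m ∈ ({s | s.card = k ∧ p (toMask s) = false} : Set _) :=
        ⟨by rw [card_ofMask, hk], by rw [ofMask_inj (toMask_lt _) hm (ofMask_toMask _), hp]⟩
      rw [h] at this
      exact this.elim
    · rfl
  · intro m hm _
    rw [ofMask_inj (toMask_lt _) hm (ofMask_toMask _)]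
    simp

/-- the family of sets with the listed masks. -/
def famL (L : List ℕ) : Finset (Finset GolayPt) := (L.map ofMask).toFinset

theorem mem_famL {L : List ℕ} {s : Finset GolayPt} : s ∈ famL L ↔ ∃ m ∈ L, ofMask m = s := by
  simp [famL]

/-- membership in a list. -/
def memL (L : List ℕ) (x : ℕ) : Bool := anyL L fun a => Nat.beq a x

theorem memL_iff {L : List ℕ} {x : ℕ} : memL L x = true ↔ x ∈ L := by
  rw [memL, anyL_iff]
  simp only [beq_iff]
  exact ⟨fun ⟨a, h, e⟩ => e ▸ h, fun h => ⟨x, h, rfl⟩⟩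

theorem smul_famL_of {c : ℕ} (hc : okP c = true) {L L' : List ℕ}
    (h : allL L (fun m => force (actM c m) (memL L')) = true) (hcard : (famL L').card ≤ (famL L).card) :
    pm c • famL L = famL L' := by
  apply eq_of_subset_of_card_le
  · intro s hs
    obtain ⟨t, ht, rfl⟩ := mem_smul_finset.1 hs
    obtain ⟨m, hm, rfl⟩ := mem_famL.1 ht
    have := (allL_iff _ _).1 h m hm
    rw [force_eq, memL_iff] at this
    exact mem_famL.2 ⟨_, this, (smul_ofMask hc m).symm⟩
  · rwa [card_smul_finset]

theorem card_famL {L : List ℕ} (h1 : ∀ m ∈ L, m < 2 ^ 24) (h2 : L.Nodup) :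
    (famL L).card = L.length := by
  rw [famL, List.toFinset_card_of_nodup, List.length_map]
  exact h2.map_on fun a ha b hb e => ofMask_inj (h1 a ha) (h1 b hb) e

/-- the elements of `M24` fixing the sets `ms` and the families `fs`. -/
def SG (ms : List ℕ) (fs : List (List ℕ)) : Subgroup (Equiv.Perm GolayPt) where
  carrier := {g | g ∈ M24 ∧ (∀ m ∈ ms, g • ofMask m = ofMask m) ∧ ∀ L ∈ fs, g • famL L = famL L}
  one_mem' := ⟨M24.one_mem, fun _ _ => one_smul _ _, fun _ _ => one_smul _ _⟩
  mul_mem' := fun {a b} ha hb => ⟨M24.mul_mem ha.1 hb.1,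
    fun m hm => by rw [mul_smul, hb.2.1 m hm, ha.2.1 m hm],
    fun L hL => by rw [mul_smul, hb.2.2 L hL, ha.2.2 L hL]⟩
  inv_mem' := fun {a} ha => ⟨M24.inv_mem ha.1,
    fun m hm => by rw [inv_smul_eq_iff, ha.2.1 m hm],
    fun L hL => by rw [inv_smul_eq_iff, ha.2.2 L hL]⟩

theorem mem_SG {ms : List ℕ} {fs : List (List ℕ)} {g : Equiv.Perm GolayPt} :
    g ∈ SG ms fs ↔ g ∈ M24 ∧ (∀ m ∈ ms, g • ofMask m = ofMask m) ∧
      ∀ L ∈ fs, g • famL L = famL L := Iff.rfl

theorem SG_le (ms : List ℕ) (fs : List (List ℕ)) : SG ms fs ≤ M24 := fun _ h => h.1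

/-- all of `gens` lie in `SG ms fs`. -/
def okSG (ms : List ℕ) (fs : List (List ℕ)) (gens : List ℕ) : Bool :=
  allL gens fun c => isM24 c && allL ms (fun m => Nat.beq (actM c m) m) &&
    fs.all fun L => allL L fun m => force (actM c m) (memL L)

theorem okSG_spec {ms : List ℕ} {fs : List (List ℕ)} {gens : List ℕ} (h : okSG ms fs gens = true) :
    ∀ c ∈ gens, okP c = true ∧ pm c ∈ SG ms fs := by
  intro c hc
  have := (allL_iff _ _).1 h c hc
  rw [Bool.and_eq_true, Bool.and_eq_true, allL_iff, List.all_eq_true] at this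
  obtain ⟨⟨h1, h2⟩, h3⟩ := this
  have h0 := okP_of_isM24 h1
  exact ⟨h0, pm_mem_M24 h1, fun m hm => pm_smul_eq h0 (h2 m hm),
    fun L hL => smul_famL_of h0 (h3 L hL) le_rfl⟩

theorem smul_pt_iff {g : Equiv.Perm GolayPt} {i : ℕ} (hi : i < 24) :
    g • ofMask (2 ^ i) = ofMask (2 ^ i) ↔ g (pt i) = pt i := by
  rw [ofMask_two_pow hi, smul_finset_singleton, singleton_inj]; rfl

/-- Orbits on small sets, indexed by the syndrome. -/
theorem syn_orbits (K : Subgroup (Equiv.Perm GolayPt)) (gens : List ℕ)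
    (hg : ∀ c ∈ gens, okP c = true ∧ pm c ∈ K) (fuel : ℕ) (roots : List ℕ)
    (hr : allL roots (fun r => Nat.ble r 16777215) = true) (n : ℕ)
    (hn : tb (orbU actM syn gens fuel roots) (syn n) = true) :
    ∃ r ∈ roots, ∃ g ∈ K, (g • ofMask r) ∆ ofMask n ∈ GC := by
  obtain ⟨y, _, e, r, h2, g, h3, h4⟩ := orbU_mask K gens hg syn fuel roots
    (fun r h => Nat.lt_succ_of_le ((ble_iff _ _).1 ((allL_iff _ _).1 hr r h))) _ hn
  exact ⟨r, h2, g, h3, h4 ▸ symmDiff_mem_of_syn e⟩

theorem eq_of_symmDiff_mem {s t : Finset GolayPt} (h : s ∆ t ∈ GC) (hc : s.card + t.card < 8) :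
    s = t := by
  have h1 := card_of_mem_GC h
  have h2 := card_symmDiff_add s t
  have h3 : (s ∆ t).card = 0 := by omega
  exact symmDiff_eq_bot.1 (Finset.card_eq_zero.1 h3)

/-- Orbits on sets of at most three points. -/
theorem small_orbits (K : Subgroup (Equiv.Perm GolayPt)) (gens : List ℕ)
    (hg : ∀ c ∈ gens, okP c = true ∧ pm c ∈ K) (fuel : ℕ) (roots : List ℕ)
    (hr : allL roots (fun r => Nat.ble r 16777215 && Nat.ble (pc r) 3) = true) (n : ℕ)
    (hn3 : pc n ≤ 3) (hn : tb (orbU actM syn gens fuel roots) (syn n) = true) :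
    ∃ r ∈ roots, ∃ g ∈ K, g • ofMask r = ofMask n := by
  rw [allL_iff] at hr
  simp only [Bool.and_eq_true] at hr
  obtain ⟨r, h1, g, h2, h3⟩ := syn_orbits K gens hg fuel roots
    ((allL_iff _ _).2 fun r h => (hr r h).1) n hn
  refine ⟨r, h1, g, h2, eq_of_symmDiff_mem h3 ?_⟩
  have := (ble_iff _ _).1 (hr r h1).2
  rw [card_smul_finset, card_ofMask, card_ofMask]
  omega

theorem ncard_smul_congr {G X : Type*} [Group G] [MulAction G X] (g : G) (P Q : X → Prop)
    (h : ∀ x, P (g • x) ↔ Q x) : {x | P x}.ncard = {x | Q x}.ncard := by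
  have : {x | P x} = (fun x => g • x) '' {x | Q x} := by
    ext x
    constructor
    · intro hx
      exact ⟨g⁻¹ • x, (h _).1 (by simpa using hx), by simp⟩
    · rintro ⟨y, hy, rfl⟩
      exact (h y).2 hy
  rw [this, Set.ncard_image_of_injective _ (MulAction.injective g)]

/-- A maximality criterion for a point stabiliser. -/
theorem isCoatom_stabilizer {G X : Type*} [Group G] [Finite G] [MulAction G X] (x : X) (Ω : Set X)
    (hΩ : MulAction.orbit G x = Ω) (hne : Ω ≠ {x})
    (h : ∀ B : Set X, x ∈ B → B ⊆ Ω → (∀ g : G, g • x = x → ∀ y ∈ B, g • y ∈ B) →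
      B.ncard ∣ Ω.ncard → B = {x} ∨ B = Ω) : IsCoatom (MulAction.stabilizer G x) := by
  constructor
  · intro ht
    apply hne
    rw [← hΩ]
    ext y
    constructor
    · rintro ⟨g, rfl⟩
      have : g ∈ MulAction.stabilizer G x := ht ▸ Subgroup.mem_top g
      exact this
    · rintro rfl; exact MulAction.mem_orbit_self _
  · intro H hH
    have hB := h (MulAction.orbit H x) (MulAction.mem_orbit_self _)
      (hΩ ▸ MulAction.orbit_subgroup_subset H x)
      (by
        rintro g hg _ ⟨k, rfl⟩
        exact ⟨⟨g, hH.le hg⟩ * k, mul_smul _ _ _⟩)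
      (by
        have e1 : Ω.ncard = (MulAction.stabilizer G x).index := by
          rw [← hΩ, MulAction.index_stabilizer]
        have e2 : (MulAction.orbit H x).ncard = (MulAction.stabilizer G x).relIndex H := by
          rw [← MulAction.index_stabilizer]; rfl
        rw [e1, e2, ← Subgroup.relIndex_mul_index hH.le]
        exact Dvd.intro _ rfl)
    rcases hB with hB | hB
    · exfalso
      apply hH.not_ge
      intro g hg
      have : (⟨g, hg⟩ : H) • x ∈ MulAction.orbit H x := MulAction.mem_orbit _ _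
      rw [hB] at this
      exact this
    · rw [eq_top_iff]
      intro g _
      have : g • x ∈ MulAction.orbit H x := by
        rw [hB, ← hΩ]; exact MulAction.mem_orbit _ _
      obtain ⟨k, hk⟩ := this
      have h2 : (k : G)⁻¹ * g ∈ MulAction.stabilizer G x := by
        rw [MulAction.mem_stabilizer_iff, mul_smul, inv_smul_eq_iff]; exact hk.symm
      have := H.mul_mem k.2 (hH.le h2)
      simpa using this

end H28
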