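import Mathlib
import Cfsg.Agent.H28.Sub

/-! Maximality of a stabiliser from the sizes of its orbits. -/

set_option autoImplicit false

namespace H28

open Finset

theorem isCoatom_of_classes {G X : Type*} [Group G] [Finite G] [MulAction G X] (x : X) (Ω : Set X)
    (hΩ : MulAction.orbit G x = Ω) (cl : X → ℕ) (V : Finset ℕ) (n : ℕ → ℕ) (N c : ℕ)
    (hN : Ω.ncard = N) (hN1 : N ≠ 1) (hc : cl x = c) (hV : ∀ y ∈ Ω, cl y ∈ V)
    (htr : ∀ y ∈ Ω, ∀ z ∈ Ω, cl y = cl z → ∃ g : G, g • x = x ∧ g • y = z)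
    (hn : ∀ i ∈ V, i ≠ c → {y | y ∈ Ω ∧ cl y = i}.ncard = n i) (hn1 : n c = 1)
    (hdec : ∀ I ∈ V.powerset, c ∈ I → (∑ i ∈ I, n i) ∣ N → I = {c} ∨ I = V) :
    IsCoatom (MulAction.stabilizer G x) := by
  classical
  have hfin : Ω.Finite := hΩ ▸ Set.finite_range _
  have hx : x ∈ Ω := hΩ ▸ MulAction.mem_orbit_self x
  have hcx : ∀ y ∈ Ω, cl y = c → y = x := by
    intro y hy h
    obtain ⟨g, h1, h2⟩ := htr x hx y hy (hc.trans h.symm)
    rw [← h2, h1]
  have hn' : ∀ i ∈ V, {y | y ∈ Ω ∧ cl y = i}.ncard = n i := by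
    intro i hi
    by_cases h : i = c
    · subst h
      rw [hn1, Set.ncard_eq_one]
      refine ⟨x, ?_⟩
      ext y
      exact ⟨fun h => hcx y h.1 h.2, fun h => by rw [Set.mem_singleton_iff.1 h]; exact ⟨hx, hc⟩⟩
    · exact hn i hi h
  apply isCoatom_stabilizer x Ω hΩ
  · intro h
    rw [h, Set.ncard_singleton] at hN
    exact hN1 hN.symm
  · intro B hxB hB hcl hdvd
    have hBf : B.Finite := hfin.subset hB
    have key : ∀ y ∈ B, ∀ z ∈ Ω, cl y = cl z → z ∈ B := by
      intro y hy z hz h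
      obtain ⟨g, h1, h2⟩ := htr y (hB hy) z hz h
      exact h2 ▸ hcl g h1 y hy
    have hI : hBf.toFinset.image cl ∈ V.powerset := by
      rw [mem_powerset]
      intro i hi
      obtain ⟨y, hy, rfl⟩ := mem_image.1 hi
      exact hV y (hB (hBf.mem_toFinset.1 hy))
    have hsum : B.ncard = ∑ i ∈ hBf.toFinset.image cl, n i := by
      rw [Set.ncard_eq_toFinset_card B hBf, card_eq_sum_card_image cl]
      apply sum_congr rfl
      intro i hi
      rw [← hn' i (mem_powerset.1 hI hi), ← Set.ncard_coe_finset]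
      obtain ⟨y, hy, rfl⟩ := mem_image.1 hi
      congr 1
      ext z
      simp only [coe_filter, Set.Finite.mem_toFinset, Set.mem_setOf_eq]
      exact ⟨fun h => ⟨hB h.1, h.2⟩, fun h => ⟨key y (hBf.mem_toFinset.1 hy) z h.1 h.2.symm, h.2⟩⟩
    rcases hdec _ hI (mem_image.2 ⟨x, hBf.mem_toFinset.2 hxB, hc⟩) (by rw [← hsum, ← hN]; exact hdvd)
      with h | h
    · left
      ext y
      refine ⟨fun hy => hcx y (hB hy) ?_, fun hy => by rw [Set.mem_singleton_iff.1 hy]; exact hxB⟩
      have : cl y ∈ hBf.toFinset.image cl := mem_image.2 ⟨y, hBf.mem_toFinset.2 hy, rfl⟩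
      rw [h] at this
      exact mem_singleton.1 this
    · right
      apply Set.Subset.antisymm hB
      intro z hz
      have := hV z hz
      rw [← h] at this
      obtain ⟨y, hy, e⟩ := mem_image.1 this
      exact key y (hBf.mem_toFinset.1 hy) z hz e

/-- Maximality of stabilisers is invariant under the action. -/
theorem isCoatom_stabilizer_smul {G X : Type*} [Group G] [MulAction G X] (g : G) (x : X)
    (h : IsCoatom (MulAction.stabilizer G x)) : IsCoatom (MulAction.stabilizer G (g • x)) := by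
  rw [MulAction.stabilizer_smul_eq_stabilizer_map_conj]
  exact (OrderIso.isCoatom_iff (MulEquiv.mapSubgroup (MulAut.conj g)) _).2 h

end H28
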