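import Mathlib
import Cfsg.Agent.H28.Sub

/-! Basic transitivity properties of `M24` on small configurations, with standard representatives. -/

set_option autoImplicit false

namespace H28

open Cfsg Finset H9
open scoped symmDiff Pointwise

theorem trans_of_roots {G X : Type*} [Group G] [MulAction G X] (K : Subgroup G) (R : List ℕ)
    (dec : ℕ → X) (cl : X → ℕ) (hcl : ∀ g ∈ K, ∀ x, cl (g • x) = cl x)
    (hR : ∀ r ∈ R, ∀ r' ∈ R, cl (dec r) = cl (dec r') → r = r') {x y : X}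
    (hx : ∃ r ∈ R, ∃ g ∈ K, g • dec r = x) (hy : ∃ r ∈ R, ∃ g ∈ K, g • dec r = y)
    (h : cl x = cl y) : ∃ g ∈ K, g • x = y := by
  obtain ⟨r, hr, g, hg, rfl⟩ := hx
  obtain ⟨r', hr', g', hg', rfl⟩ := hy
  rw [hcl g hg, hcl g' hg'] at h
  obtain rfl := hR r hr r' hr' h
  exact ⟨g' * g⁻¹, K.mul_mem hg' (K.inv_mem hg), by rw [mul_smul, inv_smul_smul]⟩

theorem exists_isCw {s : Finset GolayPt} (hs : s ∈ GC) : ∃ n, isCw n = true ∧ s = ofMask n := by
  obtain ⟨m, _, rfl⟩ := exists_cw_of_mem hs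
  exact ⟨cw m, isCw_cw m, rfl⟩

theorem apply_eq_of_smul {g g' : Equiv.Perm GolayPt} (i : ℕ) (hi : i < 24) {m : ℕ}
    (h : g' • ofMask m = g • ofMask m) (hm : m = 2 ^ i) : g' (pt i) = g (pt i) := by
  rw [hm, ofMask_two_pow hi, smul_finset_singleton, smul_finset_singleton, singleton_inj] at h
  exact h

theorem fix_of_smul {g : Equiv.Perm GolayPt} (i : ℕ) (hi : i < 24) {m : ℕ}
    (h : g • ofMask m = ofMask m) (hm : m = 2 ^ i) : g (pt i) = pt i := by
  rw [hm] at h; exact (smul_pt_iff hi).1 h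

/-- one step down a stabiliser chain. -/
theorem pt_step (ms gens : List ℕ) (r n : ℕ)
    (h : (okSG ms [] gens && Nat.ble r 23 && Nat.beq (orbSet pf id gens 24 r) n) = true)
    {g : Equiv.Perm GolayPt} (hg : g ∈ M24) (q : GolayPt) (hq : q ∈ ofMask n) :
    ∃ g' ∈ M24, (∀ m ∈ ms, g' • ofMask m = g • ofMask m) ∧ g' (pt r) = g q := by
  rw [Bool.and_eq_true, Bool.and_eq_true, ble_iff] at h
  obtain ⟨k, hk, e⟩ := pt_orbit (SG ms []) gens (okSG_spec h.1.1) r (Nat.lt_succ_of_le h.1.2) n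
    h.2 q hq
  exact ⟨g * k, M24.mul_mem hg hk.1, fun m hm => by rw [mul_smul, hk.2.1 m hm],
    by rw [Equiv.Perm.mul_apply, e]⟩

/-- generators of `M24`. -/
def gM : List ℕ := [956302485175575353788796878166559809, 1795248432537898728475572672376535,
  974380510768821363662145534143076928]

theorem gM_ok : okSG [] [] gM = true := by decide +kernel

theorem T_cw (n : ℕ) (hn : isCw n = true) (h : (Nat.beq (pc n) 8 || Nat.beq (pc n) 12) = true) :
    ∃ r ∈ [13062145, 340831], ∃ g ∈ SG [] [], g • ofMask r = ofMask n :=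
  cw_orbits _ (SG_le _ _) gM (okSG_spec gM_ok) 2600 _ (by decide +kernel)
    (fun n => Nat.beq (pc n) 8 || Nat.beq (pc n) 12) (by decide +kernel) n hn h

theorem pc_O0 : pc 13062145 = 8 := by decide +kernel
theorem pc_D0 : pc 340831 = 12 := by decide +kernel

theorem O0_mem : ofMask 13062145 ∈ octads :=
  ⟨mem_GC_of_isCw (by decide +kernel), by rw [card_ofMask, pc_O0]⟩

theorem D0_mem : ofMask 340831 ∈ dodecads :=
  ⟨mem_GC_of_isCw (by decide +kernel), by rw [card_ofMask, pc_D0]⟩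

theorem T_oct {o : Finset GolayPt} (ho : o ∈ octads) : ∃ g ∈ M24, g • ofMask 13062145 = o := by
  obtain ⟨n, hn, rfl⟩ := exists_isCw ho.1
  have h8 : pc n = 8 := by rw [← card_ofMask]; exact ho.2
  obtain ⟨r, hr, g, hg, e⟩ := T_cw n hn (by rw [h8]; rfl)
  have := congrArg Finset.card e
  rw [card_smul_finset, card_ofMask, card_ofMask, h8] at this
  simp only [List.mem_cons, List.not_mem_nil, or_false] at hr
  rcases hr with rfl | rfl
  · exact ⟨g, hg.1, e⟩
  · rw [pc_D0] at this; omega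

theorem T_dod {d : Finset GolayPt} (hd : d ∈ dodecads) : ∃ g ∈ M24, g • ofMask 340831 = d := by
  obtain ⟨n, hn, rfl⟩ := exists_isCw hd.1
  have h8 : pc n = 12 := by rw [← card_ofMask]; exact hd.2
  obtain ⟨r, hr, g, hg, e⟩ := T_cw n hn (by rw [h8]; rfl)
  have := congrArg Finset.card e
  rw [card_smul_finset, card_ofMask, card_ofMask, h8] at this
  simp only [List.mem_cons, List.not_mem_nil, or_false] at hr
  rcases hr with rfl | rfl
  · rw [pc_O0] at this; omega
  · exact ⟨g, hg.1, e⟩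

theorem T_pt (p : GolayPt) : ∃ g ∈ M24, g (pt 23) = p := by
  obtain ⟨g, hg, _, e⟩ := pt_step [] gM 23 16777215 (by decide +kernel) M24.one_mem p
    (by rw [ofMask_full]; exact mem_univ _)
  exact ⟨g, hg, e⟩

theorem T_pt2 {p q : GolayPt} (h : p ≠ q) : ∃ g ∈ M24, g (pt 23) = p ∧ g (pt 0) = q := by
  obtain ⟨g, hg, rfl⟩ := T_pt p
  obtain ⟨q, rfl⟩ := g.surjective q
  obtain ⟨g', hg', h1, e⟩ := pt_step [8388608] [958654472950265499234755158353583209,
    984267467527475781124977185336270403] 0 8388607 (by decide +kernel) hg q (by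
      have h' : pt 23 ≠ q := fun e => h (by rw [e])
      rw [mem_ofMask]; clear h; revert q; decide +kernel)
  exact ⟨g', hg', apply_eq_of_smul 23 (by norm_num) (h1 8388608 (by simp)) (by norm_num), e⟩

theorem T_pt3 {p q r : GolayPt} (h : p ≠ q) (h2 : p ≠ r) (h3 : q ≠ r) :
    ∃ g ∈ M24, g (pt 23) = p ∧ g (pt 0) = q ∧ g (pt 1) = r := by
  obtain ⟨g, hg, rfl, rfl⟩ := T_pt2 h
  obtain ⟨r, rfl⟩ := g.surjective r
  obtain ⟨g', hg', h1, e⟩ := pt_step [8388608, 1] [981635732080845510763669495204061312,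
    984352924542791547061414764087557632] 1 8388606 (by decide +kernel) hg r (by
      have h' : pt 23 ≠ r := fun e => h2 (by rw [e])
      have h'' : pt 0 ≠ r := fun e => h3 (by rw [e])
      rw [mem_ofMask]; clear h2 h3; revert r; decide +kernel)
  exact ⟨g', hg', apply_eq_of_smul 23 (by norm_num) (h1 8388608 (by simp)) (by norm_num),
    apply_eq_of_smul 0 (by norm_num) (h1 1 (by simp)) (by norm_num), e⟩

theorem T_pt4 {p q r s : GolayPt} (h : p ≠ q) (h2 : p ≠ r) (h3 : q ≠ r) (h4 : p ≠ s) (h5 : q ≠ s)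
    (h6 : r ≠ s) : ∃ g ∈ M24, g (pt 23) = p ∧ g (pt 0) = q ∧ g (pt 1) = r ∧ g (pt 2) = s := by
  obtain ⟨g, hg, rfl, rfl, rfl⟩ := T_pt3 h h2 h3
  obtain ⟨s, rfl⟩ := g.surjective s
  obtain ⟨g', hg', h1, e⟩ := pt_step [8388608, 1, 2] [972918455565883633003829819688955936,
    984439257356139332555165694800927776] 2 8388604 (by decide +kernel) hg s (by
      have h' : pt 23 ≠ s := fun e => h4 (by rw [e])
      have h'' : pt 0 ≠ s := fun e => h5 (by rw [e])
      have h''' : pt 1 ≠ s := fun e => h6 (by rw [e])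
      rw [mem_ofMask]; clear h4 h5 h6; revert s; decide +kernel)
  exact ⟨g', hg', apply_eq_of_smul 23 (by norm_num) (h1 8388608 (by simp)) (by norm_num),
    apply_eq_of_smul 0 (by norm_num) (h1 1 (by simp)) (by norm_num),
    apply_eq_of_smul 1 (by norm_num) (h1 2 (by simp)) (by norm_num), e⟩

theorem T_pt5 {p q r s t : GolayPt} (h : p ≠ q) (h2 : p ≠ r) (h3 : q ≠ r) (h4 : p ≠ s)
    (h5 : q ≠ s) (h6 : r ≠ s) (h7 : p ≠ t) (h8 : q ≠ t) (h9 : r ≠ t) (h10 : s ≠ t) :
    ∃ g ∈ M24, g (pt 23) = p ∧ g (pt 0) = q ∧ g (pt 1) = r ∧ g (pt 2) = s ∧ g (pt 3) = t := by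
  obtain ⟨g, hg, rfl, rfl, rfl, rfl⟩ := T_pt4 h h2 h3 h4 h5 h6
  obtain ⟨t, rfl⟩ := g.surjective t
  obtain ⟨g', hg', h1, e⟩ := pt_step [8388608, 1, 2, 4] [983106628972214293427927936646154272,
    976853383919023967549387414331197472] 3 8388600 (by decide +kernel) hg t (by
      have h' : pt 23 ≠ t := fun e => h7 (by rw [e])
      have h'' : pt 0 ≠ t := fun e => h8 (by rw [e])
      have h''' : pt 1 ≠ t := fun e => h9 (by rw [e])
      have h'''' : pt 2 ≠ t := fun e => h10 (by rw [e])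
      rw [mem_ofMask]; clear h7 h8 h9 h10; revert t; decide +kernel)
  exact ⟨g', hg', apply_eq_of_smul 23 (by norm_num) (h1 8388608 (by simp)) (by norm_num),
    apply_eq_of_smul 0 (by norm_num) (h1 1 (by simp)) (by norm_num),
    apply_eq_of_smul 1 (by norm_num) (h1 2 (by simp)) (by norm_num),
    apply_eq_of_smul 2 (by norm_num) (h1 4 (by simp)) (by norm_num), e⟩

theorem ofMask_duad : ofMask 8388609 = {pt 23, pt 0} := by decide +kernel
theorem ofMask_triad : ofMask 8388611 = {pt 23, pt 0, pt 1} := by decide +kernel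
theorem ofMask_tetrad : ofMask 8388615 = {pt 23, pt 0, pt 1, pt 2} := by decide +kernel
theorem ofMask_pentad : ofMask 8388623 = {pt 23, pt 0, pt 1, pt 2, pt 3} := by decide +kernel

theorem T_duad {s : Finset GolayPt} (hs : s.card = 2) : ∃ g ∈ M24, g • ofMask 8388609 = s := by
  obtain ⟨p, q, h, rfl⟩ := card_eq_two.1 hs
  obtain ⟨g, hg, rfl, rfl⟩ := T_pt2 h
  exact ⟨g, hg, by simp [ofMask_duad, smul_finset_insert]⟩

theorem T_triad {s : Finset GolayPt} (hs : s.card = 3) : ∃ g ∈ M24, g • ofMask 8388611 = s := by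
  obtain ⟨p, q, r, h, h2, h3, rfl⟩ := card_eq_three.1 hs
  obtain ⟨g, hg, rfl, rfl, rfl⟩ := T_pt3 h h2 h3
  exact ⟨g, hg, by simp [ofMask_triad, smul_finset_insert]⟩

theorem T_tetrad {s : Finset GolayPt} (hs : s.card = 4) : ∃ g ∈ M24, g • ofMask 8388615 = s := by
  obtain ⟨p, t, hp, rfl, ht⟩ := card_eq_succ.1 hs
  obtain ⟨q, r, s, h, h2, h3, rfl⟩ := card_eq_three.1 ht
  simp only [mem_insert, mem_singleton, not_or] at hp
  obtain ⟨g, hg, rfl, rfl, rfl, rfl⟩ := T_pt4 hp.1 hp.2.1 h hp.2.2 h2 h3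
  exact ⟨g, hg, by simp [ofMask_tetrad, smul_finset_insert]⟩

theorem T_pentad {s : Finset GolayPt} (hs : s.card = 5) : ∃ g ∈ M24, g • ofMask 8388623 = s := by
  obtain ⟨p, t, hp, rfl, ht⟩ := card_eq_succ.1 hs
  obtain ⟨p', u, hp', rfl, hu⟩ := card_eq_succ.1 ht
  obtain ⟨q, r, s, h, h2, h3, rfl⟩ := card_eq_three.1 hu
  simp only [mem_insert, mem_singleton, not_or] at hp hp'
  obtain ⟨g, hg, rfl, rfl, rfl, rfl, rfl⟩ := T_pt5 hp.1 hp.2.1 hp'.1 hp.2.2.1 hp'.2.1 h hp.2.2.2
    hp'.2.2 h2 h3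
  exact ⟨g, hg, by simp [ofMask_pentad, smul_finset_insert]⟩

/-- every set of five points lies in an octad. -/
theorem exists_octad {s : Finset GolayPt} (hs : s.card = 5) : ∃ o ∈ octads, s ⊆ o := by
  obtain ⟨g, hg, rfl⟩ := T_pentad hs
  refine ⟨g • ofMask 8536111, (smul_mem_octads_iff hg).2 ⟨mem_GC_of_isCw (by decide +kernel), ?_⟩,
    smul_finset_subset_smul_finset ?_⟩
  · rw [card_ofMask]; decide +kernel
  · rw [ofMask_subset_iff (by norm_num)]; decide +kernel

/-- generators of the stabiliser of the standard octad. -/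
def gO : List ℕ := [735251468787442451844720347449015607, 777833011127734934123413320950451374]

theorem T_oct_in {o : Finset GolayPt} (ho : o ∈ octads) {p : GolayPt} (hp : p ∈ o) :
    ∃ g ∈ M24, g • ofMask 13062145 = o ∧ g (pt 23) = p := by
  obtain ⟨g, hg, rfl⟩ := T_oct ho
  obtain ⟨p, rfl⟩ := g.surjective p
  obtain ⟨g', hg', h1, e⟩ := pt_step [13062145] gO 23 13062145 (by decide +kernel) hg p
    ((smul_mem_smul' _ _ _).1 hp)
  exact ⟨g', hg', h1 _ (by simp), e⟩

theorem T_oct_out {o : Finset GolayPt} (ho : o ∈ octads) {p : GolayPt} (hp : p ∉ o) :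
    ∃ g ∈ M24, g • ofMask 13062145 = o ∧ g (pt 1) = p := by
  obtain ⟨g, hg, rfl⟩ := T_oct ho
  obtain ⟨p, rfl⟩ := g.surjective p
  obtain ⟨g', hg', h1, e⟩ := pt_step [13062145] gO 1 3715070 (by decide +kernel) hg p (by
    rw [smul_mem_smul', mem_ofMask] at hp
    rw [mem_ofMask]; revert p; decide +kernel)
  exact ⟨g', hg', h1 _ (by simp), e⟩

/-- generators of the stabiliser of the standard octad and its point `23`. -/
def gO23 : List ℕ := [977703956421364385602635895112015534, 971003428082184351427811220613504144]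

theorem T_oct_in2 {o : Finset GolayPt} (ho : o ∈ octads) {p q : GolayPt} (hp : p ∈ o) (hq : q ∈ o)
    (h : p ≠ q) : ∃ g ∈ M24, g • ofMask 13062145 = o ∧ g (pt 23) = p ∧ g (pt 0) = q := by
  obtain ⟨g, hg, rfl, rfl⟩ := T_oct_in ho hp
  obtain ⟨q, rfl⟩ := g.surjective q
  obtain ⟨g', hg', h1, e⟩ := pt_step [13062145, 8388608] gO23 0 4673537 (by decide +kernel) hg q (by
    have h' : pt 23 ≠ q := fun e => h (by rw [e])
    rw [smul_mem_smul', mem_ofMask] at hq
    rw [mem_ofMask]; clear h; revert q; decide +kernel)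
  exact ⟨g', hg', h1 _ (by simp),
    apply_eq_of_smul 23 (by norm_num) (h1 8388608 (by simp)) (by norm_num), e⟩

theorem T_oct_in_out {o : Finset GolayPt} (ho : o ∈ octads) {p q : GolayPt} (hp : p ∈ o)
    (hq : q ∉ o) : ∃ g ∈ M24, g • ofMask 13062145 = o ∧ g (pt 23) = p ∧ g (pt 1) = q := by
  obtain ⟨g, hg, rfl, rfl⟩ := T_oct_in ho hp
  obtain ⟨q, rfl⟩ := g.surjective q
  obtain ⟨g', hg', h1, e⟩ := pt_step [13062145, 8388608] gO23 1 3715070 (by decide +kernel) hg q (by
    rw [smul_mem_smul', mem_ofMask] at hq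
    rw [mem_ofMask]; revert q; decide +kernel)
  exact ⟨g', hg', h1 _ (by simp),
    apply_eq_of_smul 23 (by norm_num) (h1 8388608 (by simp)) (by norm_num), e⟩

/-- generators of the stabiliser of the standard dodecad. -/
def gD : List ℕ := [855647083152433629136870875173439876, 978248039711265561428909073514053714]

/-- generators of the stabiliser of the standard dodecad and its point `0`. -/
def gD0 : List ℕ := [636268622027093654959322126785644800, 320126546235481876715629218993094848]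

theorem T_dod_in {d : Finset GolayPt} (hd : d ∈ dodecads) {p : GolayPt} (hp : p ∈ d) :
    ∃ g ∈ M24, g • ofMask 340831 = d ∧ g (pt 0) = p := by
  obtain ⟨g, hg, rfl⟩ := T_dod hd
  obtain ⟨p, rfl⟩ := g.surjective p
  obtain ⟨g', hg', h1, e⟩ := pt_step [340831] gD 0 340831 (by decide +kernel) hg p
    ((smul_mem_smul' _ _ _).1 hp)
  exact ⟨g', hg', h1 _ (by simp), e⟩

theorem T_dod_in2 {d : Finset GolayPt} (hd : d ∈ dodecads) {p q : GolayPt} (hp : p ∈ d)
    (hq : q ∈ d) (h : p ≠ q) : ∃ g ∈ M24, g • ofMask 340831 = d ∧ g (pt 0) = p ∧ g (pt 1) = q := by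
  obtain ⟨g, hg, rfl, rfl⟩ := T_dod_in hd hp
  obtain ⟨q, rfl⟩ := g.surjective q
  obtain ⟨g', hg', h1, e⟩ := pt_step [340831, 1] gD0 1 340830 (by decide +kernel) hg q (by
    have h' : pt 0 ≠ q := fun e => h (by rw [e])
    rw [smul_mem_smul', mem_ofMask] at hq
    rw [mem_ofMask]; clear h; revert q; decide +kernel)
  exact ⟨g', hg', h1 _ (by simp),
    apply_eq_of_smul 0 (by norm_num) (h1 1 (by simp)) (by norm_num), e⟩

theorem T_dod_in3 {d : Finset GolayPt} (hd : d ∈ dodecads) {p q r : GolayPt} (hp : p ∈ d)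
    (hq : q ∈ d) (hr : r ∈ d) (h : p ≠ q) (h2 : p ≠ r) (h3 : q ≠ r) :
    ∃ g ∈ M24, g • ofMask 340831 = d ∧ g (pt 0) = p ∧ g (pt 1) = q ∧ g (pt 2) = r := by
  obtain ⟨g, hg, rfl, rfl, rfl⟩ := T_dod_in2 hd hp hq h
  obtain ⟨r, rfl⟩ := g.surjective r
  obtain ⟨g', hg', h1, e⟩ := pt_step [340831, 1, 2] [444780054035498696916454447640594464,
    891433896116670714362000325138850848] 2 340828 (by decide +kernel) hg r (by
    have h' : pt 0 ≠ r := fun e => h2 (by rw [e])
    have h'' : pt 1 ≠ r := fun e => h3 (by rw [e])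
    rw [smul_mem_smul', mem_ofMask] at hr
    rw [mem_ofMask]; clear h2 h3; revert r; decide +kernel)
  exact ⟨g', hg', h1 _ (by simp),
    apply_eq_of_smul 0 (by norm_num) (h1 1 (by simp)) (by norm_num),
    apply_eq_of_smul 1 (by norm_num) (h1 2 (by simp)) (by norm_num), e⟩

theorem T_dod_in_out {d : Finset GolayPt} (hd : d ∈ dodecads) {p q : GolayPt} (hp : p ∈ d)
    (hq : q ∉ d) : ∃ g ∈ M24, g • ofMask 340831 = d ∧ g (pt 0) = p ∧ g (pt 23) = q := by
  obtain ⟨g, hg, rfl, rfl⟩ := T_dod_in hd hp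
  obtain ⟨q, rfl⟩ := g.surjective q
  obtain ⟨g', hg', h1, e⟩ := pt_step [340831, 1] gD0 23 16436384 (by decide +kernel) hg q (by
    rw [smul_mem_smul', mem_ofMask] at hq
    rw [mem_ofMask]; revert q; decide +kernel)
  exact ⟨g', hg', h1 _ (by simp),
    apply_eq_of_smul 0 (by norm_num) (h1 1 (by simp)) (by norm_num), e⟩

/-- generators of the stabiliser of the standard dodecad and the points `0`, `23`. -/
def gL : List ℕ := [983350421025751342245979588562986080, 969262417262277329501245019176187136]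

theorem T_dod_in_out2 {d : Finset GolayPt} (hd : d ∈ dodecads) {p q r : GolayPt} (hp : p ∈ d)
    (hq : q ∉ d) (hr : r ∉ d) (h : q ≠ r) :
    ∃ g ∈ M24, g • ofMask 340831 = d ∧ g (pt 0) = p ∧ g (pt 23) = q ∧ g (pt 5) = r := by
  obtain ⟨g, hg, rfl, rfl, rfl⟩ := T_dod_in_out hd hp hq
  obtain ⟨r, rfl⟩ := g.surjective r
  obtain ⟨g', hg', h1, e⟩ := pt_step [340831, 1, 8388608] gL 5 8047776 (by decide +kernel) hg r (by
    have h' : pt 23 ≠ r := fun e => h (by rw [e])
    rw [smul_mem_smul', mem_ofMask] at hr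
    rw [mem_ofMask]; clear h; revert r; decide +kernel)
  exact ⟨g', hg', h1 _ (by simp),
    apply_eq_of_smul 0 (by norm_num) (h1 1 (by simp)) (by norm_num),
    apply_eq_of_smul 23 (by norm_num) (h1 8388608 (by simp)) (by norm_num), e⟩

end H28
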