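import Mathlib
import Cfsg.Agent.H28.Trans
import Cfsg.Agent.H28.Coatom

/-! Orbits of stabilisers on octads. -/

set_option autoImplicit false

namespace H28

open Cfsg Finset H9
open scoped symmDiff Pointwise

theorem card_inter_mask (a b : ℕ) : (ofMask a ∩ ofMask b).card = pc (Nat.land a b) := by
  rw [← ofMask_and, card_ofMask]; rfl

theorem conj_apply_fix {g h : Equiv.Perm GolayPt} {p : GolayPt} (e : h p = p) :
    (g * h * g⁻¹) (g p) = g p := by
  simp [e]

theorem conj_smul_eq {G X : Type*} [Group G] [MulAction G X] {g h : G} {x y : X} (e : h • x = y) :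
    (g * h * g⁻¹) • (g • x) = g • y := by
  rw [mul_smul, inv_smul_smul, mul_smul, e]

theorem conj_mem {g h : Equiv.Perm GolayPt} (hg : g ∈ M24) (hh : h ∈ M24) : g * h * g⁻¹ ∈ M24 :=
  M24.mul_mem (M24.mul_mem hg hh) (M24.inv_mem hg)

/-- Code words of weight `w` satisfying `f`, classified under `SG ms []` by their intersection with
the first mask `a`. -/
theorem cw_class (a : ℕ) (ms gens roots : List ℕ) (fuel w : ℕ) (f : ℕ → Bool)
    (h1 : (okSG (a :: ms) [] gens && allL roots isCw &&
      allL roots (fun r => allL roots fun r' =>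
        cond (Nat.beq (pc (Nat.land a r)) (pc (Nat.land a r'))) (Nat.beq r r') true)) = true)
    (h2 : force (orbU actM lo gens fuel roots) (fun B => treeAll (fun m =>
      cond ((fun n => f n && Nat.beq (pc n) w) (cw m)) (tb B m) true) 12 0) = true)
    (P : Finset GolayPt → Prop) (hP : ∀ n, P (ofMask n) → f n = true)
    {x y : Finset GolayPt} (hx : x ∈ GC ∧ x.card = w) (hy : y ∈ GC ∧ y.card = w) (px : P x)
    (py : P y) (h : (ofMask a ∩ x).card = (ofMask a ∩ y).card) :
    ∃ g ∈ SG (a :: ms) [], g • x = y := by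
  rw [Bool.and_eq_true, Bool.and_eq_true] at h1
  have key : ∀ x : Finset GolayPt, x ∈ GC ∧ x.card = w → P x →
      ∃ r ∈ roots, ∃ g ∈ SG (a :: ms) [], g • ofMask r = x := by
    intro x hx px
    obtain ⟨n, hn, rfl⟩ := exists_isCw hx.1
    refine cw_orbits _ (SG_le _ _) gens (okSG_spec h1.1.1) fuel roots h1.1.2
      (fun n => f n && Nat.beq (pc n) w) h2 n hn ?_
    rw [Bool.and_eq_true, beq_iff, ← card_ofMask]
    exact ⟨hP n px, hx.2⟩
  refine trans_of_roots _ roots ofMask (fun x => (ofMask a ∩ x).card) ?_ ?_ (key x hx px)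
    (key y hy py) h
  · intro g hg x
    conv_lhs => rw [← hg.2.1 a (by simp)]
    exact card_inter_smul _ _ _
  · intro r hr r' hr' e
    have := (allL_iff _ _).1 ((allL_iff _ _).1 h1.2 r hr) r' hr'
    simp only [card_inter_mask] at e
    rw [e, Nat.beq_refl, cond_true, beq_iff] at this
    exact this

/-- Counting code words of weight `w`. -/
theorem ncard_cw (w : ℕ) (P : Finset GolayPt → Prop) (f : ℕ → Bool)
    (h : ∀ n, P (ofMask n) ↔ f n = true) :
    {s | (s ∈ GC ∧ s.card = w) ∧ P s}.ncard =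
      treeCnt (fun m => (fun n => f n && Nat.beq (pc n) w) (cw m)) 12 := by
  rw [← ncard_GC (fun s => s.card = w ∧ P s) (fun n => f n && Nat.beq (pc n) w)]
  · simp only [and_assoc]
  · intro m _
    rw [Bool.and_eq_true, beq_iff, card_ofMask, h, and_comm]

theorem pt_mem_iff {i : ℕ} (hi : i < 24) (n : ℕ) : pt i ∈ ofMask n ↔ tb n i = true := by
  rw [tb_eq, pt_mem_ofMask hi]

theorem pt_notMem_iff {i : ℕ} (hi : i < 24) (n : ℕ) : pt i ∉ ofMask n ↔ (!tb n i) = true := by
  rw [pt_mem_iff hi]; simp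

theorem oct_orbits {o o' o'' : Finset GolayPt} (ho : o ∈ octads) (ho' : o' ∈ octads)
    (ho'' : o'' ∈ octads) (h : (o ∩ o').card = (o ∩ o'').card) :
    ∃ g : Equiv.Perm GolayPt, g ∈ M24 ∧ g • o = o ∧ g • o' = o'' := by
  obtain ⟨g, hg, rfl⟩ := T_oct ho
  obtain ⟨x, rfl⟩ := MulAction.surjective g o'
  obtain ⟨y, rfl⟩ := MulAction.surjective g o''
  rw [smul_mem_octads_iff hg] at ho' ho''
  rw [card_inter_smul, card_inter_smul] at h
  obtain ⟨k, hk, e⟩ := cw_class 13062145 [] gO [13062145, 4845570, 12222476, 1613974] 500 8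
    (fun _ => true) (by decide +kernel) (by decide +kernel) (fun _ => True) (fun _ _ => rfl)
    ho' ho'' trivial trivial h
  exact ⟨_, conj_mem hg hk.1, conj_smul_eq (hk.2.1 _ (by simp)), conj_smul_eq e⟩

theorem oct_count {o : Finset GolayPt} (ho : o ∈ octads) (k : ℕ) :
    {x | x ∈ octads ∧ (o ∩ x).card = k}.ncard =
      treeCnt (fun m => (fun n => Nat.beq (pc (Nat.land 13062145 n)) k && Nat.beq (pc n) 8)
        (cw m)) 12 := by
  obtain ⟨g, hg, rfl⟩ := T_oct ho
  rw [ncard_smul_congr g _ (fun x => x ∈ octads ∧ (ofMask 13062145 ∩ x).card = k)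
    (fun x => by simp only [smul_mem_octads_iff hg, card_inter_smul])]
  exact ncard_cw 8 (fun x => (ofMask 13062145 ∩ x).card = k)
    (fun n => Nat.beq (pc (Nat.land 13062145 n)) k) fun n => by rw [card_inter_mask, beq_iff]

theorem orbit_octad {o : Finset GolayPt} (ho : o ∈ octads) : MulAction.orbit M24 o = octads := by
  ext x
  constructor
  · rintro ⟨g, rfl⟩
    exact (smul_mem_octads_iff g.2).2 ho
  · intro hx
    obtain ⟨g, hg, rfl⟩ := T_oct ho
    obtain ⟨g', hg', rfl⟩ := T_oct hx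
    exact ⟨⟨g' * g⁻¹, M24.mul_mem hg' (M24.inv_mem hg)⟩, by simp [mul_smul]⟩

theorem orbit_dodecad {o : Finset GolayPt} (ho : o ∈ dodecads) :
    MulAction.orbit M24 o = dodecads := by
  ext x
  constructor
  · rintro ⟨g, rfl⟩
    exact (smul_mem_dodecads_iff g.2).2 ho
  · intro hx
    obtain ⟨g, hg, rfl⟩ := T_dod ho
    obtain ⟨g', hg', rfl⟩ := T_dod hx
    exact ⟨⟨g' * g⁻¹, M24.mul_mem hg' (M24.inv_mem hg)⟩, by simp [mul_smul]⟩

theorem octad_coatom {o : Finset GolayPt} (ho : o ∈ octads) :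
    IsCoatom (MulAction.stabilizer M24 o) := by
  refine isCoatom_of_classes o octads (orbit_octad ho) (fun x => (o ∩ x).card) {0, 2, 4, 8}
    (fun i => if i = 0 then 30 else if i = 2 then 448 else if i = 4 then 280 else 1) 759 8
    ncard_octads (by norm_num) (by rw [inter_self]; exact ho.2) ?_ ?_ ?_ rfl (by decide +kernel)
  · intro y hy
    by_cases e : o = y
    · subst e; rw [inter_self, ho.2]; simp
    · rcases octad_inter ho hy e with h | h | h <;> simp [h]
  · intro y hy z hz h
    obtain ⟨g, hg, h1, h2⟩ := oct_orbits ho hy hz h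
    exact ⟨⟨g, hg⟩, h1, h2⟩
  · intro i hi hi'
    rw [oct_count ho]
    simp only [mem_insert, mem_singleton] at hi
    rcases hi with rfl | rfl | rfl | rfl
    · decide +kernel
    · decide +kernel
    · decide +kernel
    · exact absurd rfl hi'

end H28
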