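import Mathlib
import Cfsg.Agent.H28.Oct

/-! Orbits of stabilisers on duads and triads. -/

set_option autoImplicit false

namespace H28

open Cfsg Finset H9
open scoped symmDiff Pointwise

theorem small_class (K : Subgroup (Equiv.Perm GolayPt)) (gens : List ℕ)
    (hg : ∀ c ∈ gens, okP c = true ∧ pm c ∈ K) (roots : List ℕ) (fuel k : ℕ) (hk : k ≤ 3)
    (f : ℕ → Bool)
    (h1 : allL roots (fun r => Nat.ble r 16777215 && Nat.ble (pc r) 3) = true)
    (h2 : force (orbU actM syn gens fuel roots) (fun B =>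
      Nat.beq (cntSub k (fun m => !(fun m => cond (f m) (tb B (syn m)) true) m)) 0) = true)
    (n : ℕ) (hn : n < 2 ^ 24) (hs : pc n = k) (hf : f n = true) :
    ∃ r ∈ roots, ∃ g ∈ K, g • ofMask r = ofMask n := by
  rw [force_eq, beq_iff] at h2
  have := forall_sub k (fun m => cond (f m) (tb (orbU actM syn gens fuel roots) (syn m)) true) h2
    n hn hs
  simp only [hf, cond_true] at this
  exact small_orbits K gens hg fuel roots h1 n (hs ▸ hk) this

/-- the syndromes of the pairs. -/
def synPairs : ℕ := 0x200000000801000001080000000000400000040000108000400000220000000000010081000611004000000000210000420000000001000490404000400008040000001000008000008000001000020002008000800860800001000004008000020000000041000000002408000000020920020002008000420000000000001000000400400000200080100200000000040409420000040200000409220200080010000000010000000002000400800000002400008000004000000200000010008200000100000088600080008400001000040000008000008000020000001000004000200008010080000000000010020000040000001000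080010001011600100008040000001061001000100200800001000000002000100000000840000008088600001008001000088000000000000008024000000400200000000001000020000002004000100400800000000004000010000800020000800000000101000008800000008000000068808001002040000000000100000001800101160400200049040400001000000400008000020040040000000000080020000001000000080420000002004000000000011000000000008001008000010001011620009220040020000008200000000001000020000080000140000001000101160040200000000001000000018001011608000001000101160001011601161668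

theorem synPairs_eq : orbU actM syn gM 300 [3] = synPairs := by decide +kernel

theorem synPairs_all : cntSub 2 (fun m => !(fun m => tb synPairs (syn m)) m) = 0 := by
  decide +kernel

/-- a set of at most six points lies in an octad. -/
def inOct (n : ℕ) : Bool := Nat.ble (pc n) 5 || tb synPairs (syn n)

theorem exists_octad_le {s : Finset GolayPt} (hs : s.card ≤ 5) : ∃ o ∈ octads, s ⊆ o := by
  obtain ⟨t, h1, h2⟩ := exists_superset_card_eq hs (by rw [card_golayPt]; norm_num)
  obtain ⟨o, ho, h⟩ := exists_octad h2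
  exact ⟨o, ho, h1.trans h⟩

theorem inOct_iff {n : ℕ} (hn : n < 2 ^ 24) (h6 : pc n ≤ 6) :
    (∃ o ∈ octads, ofMask n ⊆ o) ↔ inOct n = true := by
  rw [inOct, Bool.or_eq_true, ble_iff]
  by_cases h5 : pc n ≤ 5
  · exact ⟨fun _ => Or.inl h5, fun _ => exists_octad_le (by rwa [card_ofMask])⟩
  have h : pc n = 6 := by omega
  constructor
  · rintro ⟨o, ho, hs⟩
    right
    obtain ⟨m, hm, rfl⟩ := exists_isCw ho.1
    have hm' := lt_of_isCw hm
    have e : syn n = syn (n ^^^ m) := by
      apply syn_eq_of_isCw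
      rwa [← Nat.xor_assoc, Nat.xor_self, Nat.zero_xor]
    rw [e]
    refine forall_sub 2 (fun m => tb synPairs (syn m)) synPairs_all _ (xor_lt hn hm') ?_
    have h1 := card_symmDiff_add (ofMask n) (ofMask m)
    rw [inter_eq_left.2 hs, ← ofMask_xor, ho.2, card_ofMask, card_ofMask] at h1
    omega
  · rintro (h' | h')
    · exact absurd h' h5
    · rw [← synPairs_eq] at h'
      obtain ⟨r, hr, g, _, e⟩ := syn_orbits _ gM (okSG_spec gM_ok) 300 [3] (by decide) n h'
      obtain rfl : r = 3 := by simpa using hr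
      have h1 := card_symmDiff_add (g • ofMask 3) (ofMask n)
      have h3 : pc 3 = 2 := by decide +kernel
      rw [card_smul_finset, card_ofMask, card_ofMask, h, h3] at h1
      have h2 := card_of_mem_GC e
      have h4 : (g • ofMask 3 ∩ ofMask n).card ≤ 2 := by
        have := card_le_card (inter_subset_left (s₁ := g • ofMask 3) (s₂ := ofMask n))
        rwa [card_smul_finset, card_ofMask, h3] at this
      have h6 : (g • ofMask 3 ∩ ofMask n).card = 0 := by omega
      refine ⟨_, ⟨e, by omega⟩, ?_⟩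
      intro p hp
      rw [Finset.mem_symmDiff]
      refine Or.inr ⟨hp, fun h => ?_⟩
      have : p ∈ g • ofMask 3 ∩ ofMask n := mem_inter.2 ⟨h, hp⟩
      rw [card_eq_zero.1 h6] at this
      simp at this

theorem exists_oct_smul {g : Equiv.Perm GolayPt} (hg : g ∈ M24) (s : Finset GolayPt) :
    (∃ o ∈ octads, g • s ⊆ o) ↔ ∃ o ∈ octads, s ⊆ o := by
  constructor
  · rintro ⟨o, ho, h⟩
    obtain ⟨o, rfl⟩ := MulAction.surjective g o
    exact ⟨o, (smul_mem_octads_iff hg).1 ho, smul_finset_subset_smul_finset_iff.1 h⟩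
  · rintro ⟨o, ho, h⟩
    exact ⟨g • o, (smul_mem_octads_iff hg).2 ho, smul_finset_subset_smul_finset h⟩

theorem disjoint_smul' (g : Equiv.Perm GolayPt) (s t : Finset GolayPt) :
    Disjoint (g • s) (g • t) ↔ Disjoint s t := by
  rw [disjoint_iff_inter_eq_empty, disjoint_iff_inter_eq_empty, ← card_eq_zero, ← card_eq_zero,
    card_inter_smul]

theorem orbit_sub {k : ℕ} {m : ℕ} (hT : ∀ s : Finset GolayPt, s.card = k → ∃ g ∈ M24, g • ofMask m = s)
    {s : Finset GolayPt} (hs : s.card = k) : MulAction.orbit M24 s = {t | t.card = k} := by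
  ext x
  constructor
  · rintro ⟨g, rfl⟩
    exact (card_smul_finset _ _).trans hs
  · intro hx
    obtain ⟨g, hg, rfl⟩ := hT s hs
    obtain ⟨g', hg', rfl⟩ := hT x hx
    exact ⟨⟨g' * g⁻¹, M24.mul_mem hg' (M24.inv_mem hg)⟩, by simp [mul_smul]⟩

theorem ncard_card (k : ℕ) : {t : Finset GolayPt | t.card = k}.ncard = Nat.choose 24 k := by
  have : {t : Finset GolayPt | t.card = k} = (powersetCard k univ : Finset (Finset GolayPt)) := by
    ext t; simp
  rw [this, Set.ncard_coe_finset, card_powersetCard, card_univ, card_golayPt]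

theorem duad_coatom {s : Finset GolayPt} (hs : s.card = 2) :
    IsCoatom (MulAction.stabilizer M24 s) := by
  obtain ⟨g, hg, rfl⟩ := T_duad hs
  refine isCoatom_stabilizer_smul (⟨g, hg⟩ : M24) _ ?_
  have h2 : (ofMask 8388609).card = 2 := by rw [card_ofMask]; decide +kernel
  refine isCoatom_of_classes _ _ (orbit_sub (fun _ => T_duad) h2)
    (fun x => (ofMask 8388609 ∩ x).card) {0, 1, 2}
    (fun i => if i = 0 then 231 else if i = 1 then 44 else 1) 276 2
    (ncard_card 2) (by norm_num) (by rw [inter_self]; exact h2) ?_ ?_ ?_ rfl (by decide +kernel)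
  · intro y _
    have := card_le_card (inter_subset_left (s₁ := ofMask 8388609) (s₂ := y))
    simp only [mem_insert, mem_singleton]
    omega
  · intro y hy z hz h
    have key : ∀ y : Finset GolayPt, y.card = 2 → ∃ r ∈ [3, 8388609, 6],
        ∃ g ∈ SG [8388609] [], g • ofMask r = y := by
      intro y hy
      obtain ⟨n, hn, rfl⟩ := exists_mask y
      exact small_class _ [3058132432934211072249901838664919, 19697132719801567889031008874878391]
        (okSG_spec (by decide +kernel)) _ 300 2 (by norm_num) (fun _ => true) (by decide +kernel)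
        (by decide +kernel) n hn (by rwa [← card_ofMask]) rfl
    obtain ⟨g, hg, e⟩ := trans_of_roots _ _ ofMask (fun x => (ofMask 8388609 ∩ x).card)
      (fun g hg x => by
        conv_lhs => rw [← hg.2.1 8388609 (by simp)]
        exact card_inter_smul _ _ _)
      (by simp only [card_inter_mask]; decide +kernel) (key y hy) (key z hz) h
    exact ⟨⟨g, hg.1⟩, hg.2.1 _ (by simp), e⟩
  · intro i hi hi'
    refine (ncard_sub 2 (fun x => (ofMask 8388609 ∩ x).card = i)
      (fun n => Nat.beq (pc (Nat.land 8388609 n)) i)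
      (fun n _ _ => by rw [card_inter_mask, beq_iff])).trans ?_
    simp only [mem_insert, mem_singleton] at hi
    rcases hi with rfl | rfl | rfl
    · decide +kernel
    · decide +kernel
    · exact absurd rfl hi'

open Classical in
/-- class of a set relative to a fixed set `T`. -/
noncomputable def clT (T U : Finset GolayPt) : ℕ :=
  (T ∩ U).card + if ∃ o ∈ octads, T ∪ U ⊆ o then 10 else 0

theorem clT_congr {T U T' U' : Finset GolayPt} (h1 : (T ∩ U).card = (T' ∩ U').card)
    (h2 : (∃ o ∈ octads, T ∪ U ⊆ o) ↔ ∃ o ∈ octads, T' ∪ U' ⊆ o) : clT T U = clT T' U' := by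
  rw [clT, clT, h1]
  by_cases h : ∃ o ∈ octads, T ∪ U ⊆ o
  · rw [if_pos h, if_pos (h2.1 h)]
  · rw [if_neg h, if_neg (fun h' => h (h2.2 h'))]

theorem clT_smul {g : Equiv.Perm GolayPt} (hg : g ∈ M24) (T U : Finset GolayPt) :
    clT (g • T) (g • U) = clT T U := by
  exact clT_congr (card_inter_smul _ _ _) (by rw [← smul_union', exists_oct_smul hg])

theorem pc_or_le (a b : ℕ) : pc (a ||| b) ≤ pc a + pc b := by
  rw [← card_ofMask, ← card_ofMask, ← card_ofMask, ofMask_or]
  exact card_union_le _ _

theorem clT_mask {a b : ℕ} (ha : a < 2 ^ 24) (hb : b < 2 ^ 24) (h : pc a + pc b ≤ 6) :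
    clT (ofMask a) (ofMask b) = Nat.add (pc (Nat.land a b)) (cond (inOct (Nat.lor a b)) 10 0) := by
  have := inOct_iff (or_lt ha hb) ((pc_or_le a b).trans h)
  rw [clT, card_inter_mask, ← ofMask_or]
  have e : ∀ x y : ℕ, Nat.add x y = x + y := fun _ _ => rfl
  have e' : Nat.lor a b = a ||| b := rfl
  rw [e, e']
  refine congrArg _ ?_
  cases h' : inOct (a ||| b)
  · rw [if_neg (by rw [this, h']; simp)]; rfl
  · rw [if_pos (by rw [this, h'])]; rfl

theorem pc_triad : pc 8388611 = 3 := by decide +kernel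

theorem triad_orbits {T U U' : Finset GolayPt} (hT : T.card = 3) (hU : U.card = 3)
    (hU' : U'.card = 3) (h : clT T U = clT T U') :
    ∃ g : Equiv.Perm GolayPt, g ∈ M24 ∧ g • T = T ∧ g • U = U' := by
  obtain ⟨g, hg, rfl⟩ := T_triad hT
  obtain ⟨x, rfl⟩ := MulAction.surjective g U
  obtain ⟨y, rfl⟩ := MulAction.surjective g U'
  rw [card_smul_finset] at hU hU'
  rw [clT_smul hg, clT_smul hg] at h
  have key : ∀ y : Finset GolayPt, y.card = 3 → ∃ r ∈ [7, 8388611, 13, 28, 44],
      ∃ g ∈ SG [8388611] [], g • ofMask r = y := by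
    intro y hy
    obtain ⟨n, hn, rfl⟩ := exists_mask y
    exact small_class _ [60364574026043945980610601205060320, 28948234345528576852910509110445111]
      (okSG_spec (by decide +kernel)) _ 1200 3 (by norm_num) (fun _ => true) (by decide +kernel)
      (by decide +kernel) n hn (by rwa [← card_ofMask]) rfl
  obtain ⟨k, hk, e⟩ := trans_of_roots _ _ ofMask (clT (ofMask 8388611))
    (fun g hg x => by
      conv_lhs => rw [← hg.2.1 8388611 (by simp)]
      exact clT_smul hg.1 _ _)
    (by
      have h0 : ∀ r ∈ [7, 8388611, 13, 28, 44], r < 2 ^ 24 ∧ pc 8388611 + pc r ≤ 6 := by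
        decide +kernel
      intro r hr r' hr'
      rw [clT_mask (by norm_num) (h0 r hr).1 (h0 r hr).2,
        clT_mask (by norm_num) (h0 r' hr').1 (h0 r' hr').2]
      clear h0; revert r r'; decide +kernel) (key x hU) (key y hU') h
  exact ⟨_, conj_mem hg hk.1, conj_smul_eq (hk.2.1 _ (by simp)), conj_smul_eq e⟩

theorem triad_count {T : Finset GolayPt} (hT : T.card = 3) (i : ℕ) :
    {U : Finset GolayPt | U.card = 3 ∧ clT T U = i}.ncard = cntSub 3 fun n =>
      Nat.beq (Nat.add (pc (Nat.land 8388611 n)) (cond (inOct (Nat.lor 8388611 n)) 10 0)) i := by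
  obtain ⟨g, hg, rfl⟩ := T_triad hT
  rw [ncard_smul_congr g _ (fun x => x.card = 3 ∧ clT (ofMask 8388611) x = i)
    (fun x => by simp only [card_smul_finset, clT_smul hg])]
  refine ncard_sub 3 (fun x => clT (ofMask 8388611) x = i) _ fun n hn h3 => ?_
  rw [clT_mask (by norm_num) hn (by rw [h3, pc_triad]), beq_iff]

theorem triad_count0 {T : Finset GolayPt} (hT : T.card = 3) :
    {U : Finset GolayPt | U.card = 3 ∧ clT T U = 0}.ncard = 1120 := by
  rw [triad_count hT]; decide +kernel

theorem triad_count10 {T : Finset GolayPt} (hT : T.card = 3) :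
    {U : Finset GolayPt | U.card = 3 ∧ clT T U = 10}.ncard = 210 := by
  rw [triad_count hT]; decide +kernel

theorem s1562 (T : Finset GolayPt) (hT : T.card = 3) :
    {U : Finset GolayPt | U.card = 3 ∧ Disjoint T U ∧ (∃ o ∈ octads, T ∪ U ⊆ o)}.ncard = 210 ∧
    {U : Finset GolayPt | U.card = 3 ∧ Disjoint T U ∧ ¬ (∃ o ∈ octads, T ∪ U ⊆ o)}.ncard = 1120 ∧
    ∀ U U' : Finset GolayPt, U.card = 3 → U'.card = 3 → Disjoint T U → Disjoint T U' →
      ((∃ o ∈ octads, T ∪ U ⊆ o) ↔ (∃ o ∈ octads, T ∪ U' ⊆ o)) →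
      ∃ g : Equiv.Perm GolayPt, g ∈ M24 ∧ g • T = T ∧ g • U = U' := by
  have hle : ∀ U : Finset GolayPt, (T ∩ U).card ≤ 3 := fun U =>
    hT ▸ card_le_card inter_subset_left
  refine ⟨?_, ?_, ?_⟩
  · rw [← triad_count10 hT]
    congr 1
    ext U
    refine and_congr_right fun _ => ?_
    have := hle U
    rw [disjoint_iff_inter_eq_empty, ← card_eq_zero, clT]
    split_ifs with h
    · simp only [h, and_true]; omega
    · simp only [h, and_false, false_iff]; omega
  · rw [← triad_count0 hT]
    congr 1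
    ext U
    refine and_congr_right fun _ => ?_
    rw [disjoint_iff_inter_eq_empty, ← card_eq_zero, clT]
    split_ifs with h
    · simp only [h, not_true, and_false]
    · simp only [h, not_false_eq_true, and_true]; omega
  · intro U U' hU hU' h1 h2 h
    apply triad_orbits hT hU hU'
    rw [disjoint_iff_inter_eq_empty] at h1 h2
    exact clT_congr (by rw [h1, h2]) h

theorem triad_coatom {T : Finset GolayPt} (hT : T.card = 3) :
    IsCoatom (MulAction.stabilizer M24 T) := by
  refine isCoatom_of_classes _ _ (orbit_sub (fun _ => T_triad) hT)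
    (clT T) {0, 10, 11, 12, 13}
    (fun i => if i = 0 then 1120 else if i = 10 then 210 else if i = 11 then 630 else
      if i = 12 then 63 else 1) 2024 13
    (ncard_card 3) (by norm_num) ?_ ?_ ?_ ?_ rfl (by decide +kernel)
  · rw [clT, inter_self, union_self, hT, if_pos (exists_octad_le (by omega))]
  · intro y hy
    have h1 : (T ∩ y).card ≤ 3 := hT ▸ card_le_card inter_subset_left
    have h2 := card_union_add_card_inter T y
    have hy' : y.card = 3 := hy
    rw [clT]
    simp only [mem_insert, mem_singleton]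
    split_ifs with h
    · omega
    · have : ¬ (T ∪ y).card ≤ 5 := fun h' => h (exists_octad_le h')
      omega
  · intro y hy z hz h
    obtain ⟨g, hg, h1, h2⟩ := triad_orbits hT hy hz h
    exact ⟨⟨g, hg⟩, h1, h2⟩
  · intro i hi hi'
    simp only [mem_insert, mem_singleton] at hi
    rcases hi with rfl | rfl | rfl | rfl | rfl
    · exact triad_count0 hT
    · exact triad_count10 hT
    · exact (triad_count hT 11).trans (by decide +kernel)
    · exact (triad_count hT 12).trans (by decide +kernel)
    · exact absurd rfl hi'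

theorem s1638 (p q : GolayPt) (hpq : p ≠ q) (s : Finset GolayPt)
    (hs : (s.card = 2 ∧ p ∉ s ∧ q ∉ s)) :
    {t : Finset GolayPt | (t.card = 2 ∧ p ∉ t ∧ q ∉ t) ∧ Disjoint s t ∧
      (∃ o ∈ octads, p ∈ o ∧ q ∈ o ∧ s ∪ t ⊆ o)}.ncard = 30 ∧
    {t : Finset GolayPt | (t.card = 2 ∧ p ∉ t ∧ q ∉ t) ∧ Disjoint s t ∧
      ¬ (∃ o ∈ octads, p ∈ o ∧ q ∈ o ∧ s ∪ t ⊆ o)}.ncard = 160 ∧
    ∀ t t' : Finset GolayPt, (t.card = 2 ∧ p ∉ t ∧ q ∉ t) → (t'.card = 2 ∧ p ∉ t' ∧ q ∉ t') →
      t ≠ s → t' ≠ s → (s ∩ t).card = (s ∩ t').card →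
      ((∃ o ∈ octads, p ∈ o ∧ q ∈ o ∧ s ∪ t ⊆ o) ↔ (∃ o ∈ octads, p ∈ o ∧ q ∈ o ∧ s ∪ t' ⊆ o)) →
      ∃ g : Equiv.Perm GolayPt, g ∈ M24 ∧ g p = p ∧ g q = q ∧ g • s = s ∧ g • t = t' := by
  obtain ⟨a, b, hab, rfl⟩ := card_eq_two.1 hs.1
  simp only [mem_insert, mem_singleton, not_or] at hs
  obtain ⟨g, hg, rfl, rfl, rfl, rfl⟩ := T_pt4 hpq hs.2.1.1 hs.2.2.1 hs.2.1.2 hs.2.2.2 hab
  have e6 : ({g (pt 1), g (pt 2)} : Finset GolayPt) = g • ofMask 6 := by
    have : ofMask 6 = {pt 1, pt 2} := by decide +kernel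
    simp [this, smul_finset_insert]
  have eT : ofMask 8388615 = insert (pt 23) (insert (pt 0) (ofMask 6)) := by decide +kernel
  have key : ∀ t : Finset GolayPt, (∃ o ∈ octads, g (pt 23) ∈ o ∧ g (pt 0) ∈ o ∧
      g • ofMask 6 ∪ g • t ⊆ o) ↔ ∃ o ∈ octads, ofMask 8388615 ∪ t ⊆ o := by
    intro t
    rw [← exists_oct_smul hg, smul_union', eT]
    simp only [smul_finset_insert, insert_union, insert_subset_iff, Equiv.Perm.smul_def]
  have h4 : pc 8388615 = 4 := by decide +kernel
  have hO : ∀ n < 2 ^ 24, pc n = 2 → ((∃ o ∈ octads, ofMask 8388615 ∪ ofMask n ⊆ o) ↔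
      inOct (Nat.lor 8388615 n) = true) := by
    intro n hn h2
    rw [← ofMask_or]
    exact inOct_iff (or_lt (by norm_num) hn) ((pc_or_le _ _).trans (by rw [h4, h2]))
  have hd : ∀ n, (pt 23 ∉ ofMask n ∧ pt 0 ∉ ofMask n) ∧ Disjoint (ofMask 6) (ofMask n) ↔
      Nat.beq (pc (Nat.land 8388615 n)) 0 = true := by
    intro n
    rw [beq_iff, ← card_inter_mask, card_eq_zero, ← disjoint_iff_inter_eq_empty, eT]
    simp only [disjoint_insert_left, and_assoc]
  rw [e6]
  refine ⟨?_, ?_, ?_⟩
  · rw [ncard_smul_congr g _ (fun t => t.card = 2 ∧ ((pt 23 ∉ t ∧ pt 0 ∉ t) ∧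
      Disjoint (ofMask 6) t) ∧ ∃ o ∈ octads, ofMask 8388615 ∪ t ⊆ o) (fun t => by
        rw [key, card_smul_finset, smul_mem_smul', smul_mem_smul', disjoint_smul']
        simp only [and_assoc])]
    refine (ncard_sub 2 (fun t => ((pt 23 ∉ t ∧ pt 0 ∉ t) ∧
      Disjoint (ofMask 6) t) ∧ ∃ o ∈ octads, ofMask 8388615 ∪ t ⊆ o)
      (fun n => Nat.beq (pc (Nat.land 8388615 n)) 0 && inOct (Nat.lor 8388615 n))
      (fun n hn h2 => by rw [hd, hO n hn h2, Bool.and_eq_true])).trans ?_
    decide +kernel
  · rw [ncard_smul_congr g _ (fun t => t.card = 2 ∧ ((pt 23 ∉ t ∧ pt 0 ∉ t) ∧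
      Disjoint (ofMask 6) t) ∧ ¬ ∃ o ∈ octads, ofMask 8388615 ∪ t ⊆ o) (fun t => by
        rw [key, card_smul_finset, smul_mem_smul', smul_mem_smul', disjoint_smul']
        simp only [and_assoc])]
    refine (ncard_sub 2 (fun t => ((pt 23 ∉ t ∧ pt 0 ∉ t) ∧
      Disjoint (ofMask 6) t) ∧ ¬ ∃ o ∈ octads, ofMask 8388615 ∪ t ⊆ o)
      (fun n => Nat.beq (pc (Nat.land 8388615 n)) 0 && !inOct (Nat.lor 8388615 n))
      (fun n hn h2 => by rw [hd, hO n hn h2, Bool.and_eq_true]; simp)).trans ?_
    decide +kernel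
  · intro t t' ht ht' h1 h2 h _
    obtain ⟨x, rfl⟩ := MulAction.surjective g t
    obtain ⟨y, rfl⟩ := MulAction.surjective g t'
    rename_i h'
    rw [key, key] at h'
    rw [card_inter_smul, card_inter_smul] at h
    simp only [card_smul_finset, smul_mem_smul'] at ht ht'
    have key2 : ∀ y : Finset GolayPt, (y.card = 2 ∧ pt 23 ∉ y ∧ pt 0 ∉ y) → ∃ r ∈ [6, 10, 24, 40],
        ∃ g ∈ SG [8388615, 6, 8388608, 1] [], g • ofMask r = y := by
      intro y hy
      obtain ⟨n, hn, rfl⟩ := exists_mask y
      exact small_class _ [973853049281896405752303907507669024,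
        964070359369583356051758867390137408]
        (okSG_spec (by decide +kernel)) _ 200 2 (by norm_num) (fun n => (!tb n 23) && !tb n 0)
        (by decide +kernel) (by decide +kernel) n hn (by rw [← card_ofMask]; exact hy.1) (by
          rw [Bool.and_eq_true, ← pt_notMem_iff (by norm_num), ← pt_notMem_iff (by norm_num)]
          exact hy.2)
    have hi : ∀ y : Finset GolayPt, (y.card = 2 ∧ pt 23 ∉ y ∧ pt 0 ∉ y) →
        ofMask 8388615 ∩ y = ofMask 6 ∩ y := by
      intro y hy
      rw [eT, insert_inter_of_notMem hy.2.1, insert_inter_of_notMem hy.2.2]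
    obtain ⟨k, hk, e⟩ := trans_of_roots _ _ ofMask (clT (ofMask 8388615))
      (fun g hg x => by
        conv_lhs => rw [← hg.2.1 8388615 (by simp)]
        exact clT_smul hg.1 _ _)
      (by
        have h0 : ∀ r ∈ [6, 10, 24, 40], r < 2 ^ 24 ∧ pc 8388615 + pc r ≤ 6 := by
          decide +kernel
        intro r hr r' hr'
        rw [clT_mask (by norm_num) (h0 r hr).1 (h0 r hr).2,
          clT_mask (by norm_num) (h0 r' hr').1 (h0 r' hr').2]
        clear h0; revert r r'; decide +kernel) (key2 x ht) (key2 y ht')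
      (clT_congr (by rw [hi x ht, hi y ht', h]) h')
    exact ⟨_, conj_mem hg hk.1,
      conj_apply_fix (fix_of_smul 23 (by norm_num) (hk.2.1 8388608 (by simp)) (by norm_num)),
      conj_apply_fix (fix_of_smul 0 (by norm_num) (hk.2.1 1 (by simp)) (by norm_num)),
      conj_smul_eq (hk.2.1 _ (by simp)), conj_smul_eq e⟩

end H28
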