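import Mathlib
import Cfsg.Agent.H28.Small

/-! Sextets. -/

set_option autoImplicit false

namespace H28

open Cfsg Finset H9
open scoped symmDiff Pointwise

open Classical in
/-- the tetrads congruent to `t` modulo the code. -/
noncomputable def sext (t : Finset GolayPt) : Finset (Finset GolayPt) :=
  univ.filter fun u => u.card = 4 ∧ t ∆ u ∈ GC

theorem mem_sext {t u : Finset GolayPt} : u ∈ sext t ↔ u.card = 4 ∧ t ∆ u ∈ GC := by
  simp [sext]

theorem self_mem_sext {t : Finset GolayPt} (ht : t.card = 4) : t ∈ sext t :=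
  mem_sext.2 ⟨ht, by rw [symmDiff_self]; exact empty_mem_GC⟩

theorem smul_sext {g : Equiv.Perm GolayPt} (hg : g ∈ M24) (t : Finset GolayPt) :
    g • sext t = sext (g • t) := by
  ext u
  obtain ⟨u, rfl⟩ := MulAction.surjective g u
  rw [smul_mem_smul_finset_iff, mem_sext, mem_sext, card_smul_finset, ← smul_symmDiff',
    smul_mem_GC_iff hg]

theorem sext_congr {t u : Finset GolayPt} (h : t ∆ u ∈ GC) : sext t = sext u := by
  ext v
  rw [mem_sext, mem_sext]
  refine and_congr_right fun _ => ⟨fun h' => ?_, fun h' => ?_⟩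
  · have := symmDiff_mem_GC h h'
    rwa [symmDiff_comm t u, symmDiff_assoc, symmDiff_symmDiff_cancel_left] at this
  · have := symmDiff_mem_GC h h'
    rwa [symmDiff_assoc, symmDiff_symmDiff_cancel_left] at this

theorem disjoint_of_tetrads {t u : Finset GolayPt} (ht : t.card = 4) (hu : u.card = 4)
    (h : t ∆ u ∈ GC) (hne : t ≠ u) : Disjoint t u := by
  have h0 := card_symmDiff_add t u
  have h3 := card_of_mem_GC h
  have h4 : (t ∆ u).card ≠ 0 := by
    rw [Ne, Finset.card_eq_zero]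
    exact fun h' => hne (symmDiff_eq_bot.1 h')
  rw [disjoint_iff_inter_eq_empty, ← card_eq_zero]
  omega

theorem symmDiff_eq_union' {t u : Finset GolayPt} (h : Disjoint t u) : t ∆ u = t ∪ u :=
  h.symmDiff_eq_sup

theorem union_mem_octads_iff {t u : Finset GolayPt} (ht : t.card = 4) (hu : u.card = 4)
    (hne : t ≠ u) : t ∪ u ∈ octads ↔ t ∆ u ∈ GC := by
  constructor
  · intro h
    have h1 := card_union_add_card_inter t u
    have h2 : Disjoint t u := by
      rw [disjoint_iff_inter_eq_empty, ← card_eq_zero]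
      have := h.2
      omega
    rw [symmDiff_eq_union' h2]; exact h.1
  · intro h
    have h2 := disjoint_of_tetrads ht hu h hne
    exact ⟨symmDiff_eq_union' h2 ▸ h, by rw [card_union_of_disjoint h2, ht, hu]⟩

theorem sext_eq_famL (n : ℕ) (L : List ℕ)
    (h : (Nat.ble n 16777215 && allL L (fun m => Nat.beq (pc m) 4 && isCw (Nat.xor n m)) &&
      treeAll (fun m => force (Nat.xor n (cw m)) fun x =>
        cond (Nat.beq (pc x) 4) (memL L x) true) 12 0) = true) : sext (ofMask n) = famL L := by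
  rw [Bool.and_eq_true, Bool.and_eq_true, allL_iff, treeAll_iff, ble_iff] at h
  obtain ⟨⟨h0, h1⟩, h2⟩ := h
  ext u
  rw [mem_sext, mem_famL]
  constructor
  · rintro ⟨h4, hc⟩
    obtain ⟨m, hm, e⟩ := exists_cw_of_mem hc
    have e' : u = ofMask (n ^^^ cw m) := by
      rw [ofMask_xor, ← e, symmDiff_symmDiff_cancel_left]
    have := h2 m hm
    rw [force_eq] at this
    have e2 : pc (Nat.xor n (cw m)) = 4 := by
      rw [← card_ofMask, ← h4, e']; rfl
    rw [e2] at this
    exact ⟨_, memL_iff.1 this, e'.symm⟩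
  · rintro ⟨m, hm, rfl⟩
    have := h1 m hm
    rw [Bool.and_eq_true, beq_iff] at this
    exact ⟨by rw [card_ofMask, this.1], by rw [← ofMask_xor]; exact mem_GC_of_isCw this.2⟩

/-- the standard sextet. -/
def S0L : List ℕ := [8388615, 147496, 268544, 1082880, 2621632, 4268048]

theorem sext_S0 : sext (ofMask 8388615) = famL S0L := sext_eq_famL _ _ (by decide +kernel)

theorem card_sext {t : Finset GolayPt} (ht : t.card = 4) : (sext t).card = 6 := by
  obtain ⟨g, hg, rfl⟩ := T_tetrad ht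
  rw [← smul_sext hg, card_smul_finset, sext_S0, card_famL (by decide) (by decide)]
  rfl

theorem sext_cover {t : Finset GolayPt} (ht : t.card = 4) (p : GolayPt) : ∃ u ∈ sext t, p ∈ u := by
  obtain ⟨g, hg, rfl⟩ := T_tetrad ht
  obtain ⟨p, rfl⟩ := g.surjective p
  have : ∀ p : GolayPt, ∃ m ∈ S0L, m.testBit (ix p) = true := by decide +kernel
  obtain ⟨m, hm, h⟩ := this p
  refine ⟨g • ofMask m, ?_, (smul_mem_smul' _ _ _).2 (mem_ofMask.2 h)⟩
  rw [← smul_sext hg, smul_mem_smul_finset_iff, sext_S0]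
  exact mem_famL.2 ⟨m, hm, rfl⟩

theorem sext_mem {t : Finset GolayPt} (ht : t.card = 4) : sext t ∈ sextets := by
  refine ⟨card_sext ht, fun u hu => (mem_sext.1 hu).1, fun u hu v hv hne => ?_⟩
  rw [mem_sext] at hu hv
  rw [union_mem_octads_iff hu.1 hv.1 hne]
  have := symmDiff_mem_GC hu.2 hv.2
  rwa [symmDiff_comm t u, symmDiff_assoc, symmDiff_symmDiff_cancel_left] at this

theorem eq_sext {S : Finset (Finset GolayPt)} (hS : S ∈ sextets) {t : Finset GolayPt}
    (ht : t ∈ S) : S = sext t := by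
  have h4 := hS.2.1 t ht
  apply eq_of_subset_of_card_le
  · intro u hu
    by_cases e : t = u
    · exact e ▸ self_mem_sext h4
    · exact mem_sext.2 ⟨hS.2.1 u hu,
        (union_mem_octads_iff h4 (hS.2.1 u hu) e).1 (hS.2.2 t ht u hu e)⟩
  · rw [card_sext h4, hS.1]

theorem exists_eq_sext {S : Finset (Finset GolayPt)} (hS : S ∈ sextets) (p : GolayPt) :
    ∃ t, t.card = 4 ∧ p ∈ t ∧ S = sext t := by
  obtain ⟨t, ht⟩ : S.Nonempty := by rw [← card_pos, hS.1]; norm_num
  obtain ⟨u, hu, hp⟩ := sext_cover (hS.2.1 t ht) p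
  rw [← eq_sext hS ht] at hu
  exact ⟨u, hS.2.1 u hu, hp, eq_sext hS hu⟩

theorem smul_mem_sextets {g : Equiv.Perm GolayPt} (hg : g ∈ M24) {S : Finset (Finset GolayPt)}
    (hS : S ∈ sextets) : g • S ∈ sextets := by
  obtain ⟨t, ht, _, rfl⟩ := exists_eq_sext hS none
  rw [smul_sext hg]
  exact sext_mem (by rwa [card_smul_finset])

theorem smul_mem_sextets_iff {g : Equiv.Perm GolayPt} (hg : g ∈ M24)
    {S : Finset (Finset GolayPt)} : g • S ∈ sextets ↔ S ∈ sextets :=
  ⟨fun h => by simpa using smul_mem_sextets (M24.inv_mem hg) h, smul_mem_sextets hg⟩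

theorem T_sextet {S : Finset (Finset GolayPt)} (hS : S ∈ sextets) :
    ∃ g ∈ M24, g • famL S0L = S := by
  obtain ⟨t, ht, _, rfl⟩ := exists_eq_sext hS none
  obtain ⟨g, hg, rfl⟩ := T_tetrad ht
  exact ⟨g, hg, by rw [← sext_S0, smul_sext hg]⟩

theorem S0_mem : famL S0L ∈ sextets := by
  rw [← sext_S0]; exact sext_mem (by rw [card_ofMask]; decide +kernel)

theorem orbit_sextet {S : Finset (Finset GolayPt)} (hS : S ∈ sextets) :
    MulAction.orbit M24 S = sextets := by
  ext x
  constructor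
  · rintro ⟨g, rfl⟩
    exact smul_mem_sextets g.2 hS
  · intro hx
    obtain ⟨g, hg, rfl⟩ := T_sextet hS
    obtain ⟨g', hg', rfl⟩ := T_sextet hx
    exact ⟨⟨g' * g⁻¹, M24.mul_mem hg' (M24.inv_mem hg)⟩, by simp [mul_smul]⟩

theorem ncard_sextets_with (P : Finset (Finset GolayPt) → Prop) :
    {S | S ∈ sextets ∧ P S}.ncard = {t | t.card = 4 ∧ (pt 23 ∈ t ∧ P (sext t))}.ncard := by
  have : {S | S ∈ sextets ∧ P S} = sext '' {t | t.card = 4 ∧ (pt 23 ∈ t ∧ P (sext t))} := by
    ext S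
    constructor
    · rintro ⟨hS, h⟩
      obtain ⟨t, ht, hp, rfl⟩ := exists_eq_sext hS (pt 23)
      exact ⟨t, ⟨ht, hp, h⟩, rfl⟩
    · rintro ⟨t, ⟨ht, _, h⟩, rfl⟩
      exact ⟨sext_mem ht, h⟩
  rw [this, Set.InjOn.ncard_image]
  intro t ht u hu h
  by_contra hne
  have h1 : u ∈ sext t := h ▸ self_mem_sext hu.1
  exact disjoint_left.1 (disjoint_of_tetrads ht.1 hu.1 (mem_sext.1 h1).2 hne) ht.2.1 hu.2.1

theorem ncard_sextets : sextets.ncard = 1771 := by
  have := ncard_sextets_with (fun _ => True)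
  simp only [and_true, Set.ofPred_mem_eq] at this
  rw [this]
  refine (ncard_sub 4 (fun t => pt 23 ∈ t) (fun n => tb n 23)
    fun n _ _ => pt_mem_iff (by norm_num) n).trans ?_
  decide +kernel

theorem s1550 : (∀ t : Finset GolayPt, t.card = 4 →
    ∃! S : Finset (Finset GolayPt), S ∈ sextets ∧ t ∈ S) ∧ sextets.ncard = 1771 :=
  ⟨fun t ht => ⟨sext t, ⟨sext_mem ht, self_mem_sext ht⟩, fun _ h => eq_sext h.1 h.2⟩,
    ncard_sextets⟩

theorem octads_through_tetrad {s : Finset GolayPt} (hs : s.card = 4) :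
    {o | o ∈ octads ∧ s ⊆ o}.ncard = 5 := by
  obtain ⟨g, hg, rfl⟩ := T_tetrad hs
  rw [ncard_smul_congr g _ (fun o => o ∈ octads ∧ ofMask 8388615 ⊆ o)
    (fun x => by simp only [smul_mem_octads_iff hg, smul_finset_subset_smul_finset_iff])]
  refine (ncard_cw 8 (fun o => ofMask 8388615 ⊆ o)
    (fun n => Nat.beq (Nat.land 8388615 n) 8388615) fun n => ?_).trans (by decide +kernel)
  rw [ofMask_subset_iff (by norm_num), beq_iff]; rfl

/-- sum of the squares of the intersection numbers of two families. -/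
def clF (S X : Finset (Finset GolayPt)) : ℕ := ∑ a ∈ S, ∑ b ∈ X, (a ∩ b).card ^ 2

theorem sum_smul_fam (g : Equiv.Perm GolayPt) (S : Finset (Finset GolayPt))
    (f : Finset GolayPt → ℕ) : ∑ a ∈ g • S, f a = ∑ a ∈ S, f (g • a) := by
  rw [smul_finset_def, sum_image fun a _ b _ h => MulAction.injective g h]

theorem clF_smul (g : Equiv.Perm GolayPt) (S X : Finset (Finset GolayPt)) :
    clF (g • S) (g • X) = clF S X := by
  simp only [clF, sum_smul_fam, card_inter_smul]

theorem sum_famL {L : List ℕ} (h1 : ∀ m ∈ L, m < 2 ^ 24) (h2 : L.Nodup) (f : Finset GolayPt → ℕ) :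
    ∑ a ∈ famL L, f a = (L.map fun m => f (ofMask m)).sum := by
  rw [famL, List.sum_toFinset _ (h2.map_on fun a ha b hb e => ofMask_inj (h1 a ha) (h1 b hb) e),
    List.map_map]
  rfl

theorem clF_famL {L L' : List ℕ} (h1 : ∀ m ∈ L, m < 2 ^ 24) (h2 : L.Nodup)
    (h1' : ∀ m ∈ L', m < 2 ^ 24) (h2' : L'.Nodup) :
    clF (famL L) (famL L') = (L.map fun a => (L'.map fun b => pc (Nat.land a b) ^ 2).sum).sum := by
  rw [clF, sum_famL h1 h2]
  simp only [sum_famL h1' h2', card_inter_mask]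

end H28
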