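import Mathlib
import Cfsg.Agent.H28.Sextet

/-! Orbits of a sextet stabiliser on sextets. -/

set_option autoImplicit false

namespace H28

open Cfsg Finset H9
open scoped symmDiff Pointwise

theorem orbit_stabilizer_eq_class {G X : Type*} [Group G] [MulAction G X] (K : Subgroup G)
    (Ω : Set X) (cl : X → ℕ) (hΩ : ∀ g ∈ K, ∀ y ∈ Ω, g • y ∈ Ω)
    (hcl : ∀ g ∈ K, ∀ y, cl (g • y) = cl y)
    (htr : ∀ y ∈ Ω, ∀ z ∈ Ω, cl y = cl z → ∃ g ∈ K, g • y = z) {y : X} (hy : y ∈ Ω) :
    MulAction.orbit K y = {z | z ∈ Ω ∧ cl z = cl y} := by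
  ext z
  constructor
  · rintro ⟨g, rfl⟩
    exact ⟨hΩ g g.2 y hy, hcl g g.2 y⟩
  · rintro ⟨h1, h2⟩
    obtain ⟨g, hg, e⟩ := htr y hy z h1 h2.symm
    exact ⟨⟨g, hg⟩, e⟩

theorem exists_of_ncard {X : Type*} {Ω : Set X} {cl : X → ℕ} {i n : ℕ}
    (h : {z | z ∈ Ω ∧ cl z = i}.ncard = n + 1) : ∃ z ∈ Ω, cl z = i :=
  Set.nonempty_of_ncard_ne_zero (s := {z | z ∈ Ω ∧ cl z = i}) (by rw [h]; omega)

/-- generators of the stabiliser of the standard sextet. -/
def gS : List ℕ := [853513832742047185000365641631638863, 166487346448006919459127171898065613]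

theorem gS_ok : okSG [] [S0L] gS = true := by decide +kernel

/-- marked syndromes of the orbit of the sextet through `r`. -/
def sxB (r : ℕ) : ℕ := orbU actM syn gS 1500 [r]

theorem sxB_sound {r n : ℕ} (hr : r ∈ [8388615, 15, 27, 43]) (h : tb (sxB r) (syn n) = true) :
    ∃ g ∈ SG [] [S0L], g • sext (ofMask r) = sext (ofMask n) := by
  obtain ⟨r', hr', g, hg, e⟩ := syn_orbits _ gS (okSG_spec gS_ok) 1500 [r]
    (by clear h; revert r; decide) n h
  obtain rfl : r' = r := by simpa using hr'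
  exact ⟨g, hg, by rw [smul_sext hg.1, sext_congr e]⟩

theorem sx_cover {n : ℕ} (hn : n < 2 ^ 24) (h4 : pc n = 4) (h23 : tb n 23 = true) :
    ∃ r ∈ [8388615, 15, 27, 43], tb (sxB r) (syn n) = true := by
  have h : (force (sxB 8388615) fun B0 => force (sxB 15) fun B1 => force (sxB 27) fun B2 =>
      force (sxB 43) fun B3 => cntSub 4 fun m => !(fun m => cond (tb m 23) (force (syn m) fun s =>
        tb B2 s || tb B1 s || tb B3 s || tb B0 s) true) m) = 0 := by decide +kernel
  simp only [force_eq] at h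
  have := forall_sub 4 (fun m => cond (tb m 23) (tb (sxB 27) (syn m) || tb (sxB 15) (syn m) ||
    tb (sxB 43) (syn m) || tb (sxB 8388615) (syn m)) true) h n hn h4
  simp only [h23, cond_true, Bool.or_eq_true] at this
  rcases this with ((h | h) | h) | h
  · exact ⟨_, by simp, h⟩
  · exact ⟨_, by simp, h⟩
  · exact ⟨_, by simp, h⟩
  · exact ⟨_, by simp, h⟩

theorem clF_SG {L : List ℕ} {ms : List ℕ} {fs : List (List ℕ)} {g : Equiv.Perm GolayPt}
    (hg : g ∈ SG ms (L :: fs)) (X : Finset (Finset GolayPt)) :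
    clF (famL L) (g • X) = clF (famL L) X := by
  conv_lhs => rw [← hg.2.2 L (by simp)]
  exact clF_smul _ _ _

theorem sx_cl0 : clF (famL S0L) (sext (ofMask 8388615)) = 96 := by
  rw [sext_S0, clF_famL (by decide) (by decide) (by decide) (by decide)]; decide +kernel

theorem sx_cl1 : clF (famL S0L) (sext (ofMask 15)) = 36 := by
  rw [sext_eq_famL 15 [15, 5264, 622848, 3416064, 4196928, 8536096] (by decide +kernel),
    clF_famL (by decide) (by decide) (by decide) (by decide)]
  decide +kernel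

theorem sx_cl2 : clF (famL S0L) (sext (ofMask 27)) = 32 := by
  rw [sext_eq_famL 27 [27, 5252, 57856, 2162784, 4587776, 9963520] (by decide +kernel),
    clF_famL (by decide) (by decide) (by decide) (by decide)]
  decide +kernel

theorem sx_cl3 : clF (famL S0L) (sext (ofMask 43)) = 48 := by
  rw [sext_eq_famL 43 [43, 297984, 1053440, 2162768, 4726912, 8536068] (by decide +kernel),
    clF_famL (by decide) (by decide) (by decide) (by decide)]
  decide +kernel

theorem sx_distinct : ∀ r ∈ [8388615, 15, 27, 43], ∀ r' ∈ [8388615, 15, 27, 43],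
    clF (famL S0L) (sext (ofMask r)) = clF (famL S0L) (sext (ofMask r')) → r = r' := by
  simp only [List.mem_cons, List.not_mem_nil, or_false, forall_eq_or_imp, forall_eq, sx_cl0, sx_cl1,
    sx_cl2, sx_cl3]
  decide

theorem sx_root {X : Finset (Finset GolayPt)} (hX : X ∈ sextets) :
    ∃ r ∈ [8388615, 15, 27, 43], ∃ g ∈ SG [] [S0L], g • sext (ofMask r) = X := by
  obtain ⟨t, ht, hp, rfl⟩ := exists_eq_sext hX (pt 23)
  obtain ⟨n, hn, rfl⟩ := exists_mask t
  obtain ⟨r, hr, h⟩ := sx_cover hn (by rwa [← card_ofMask]) ((pt_mem_iff (by norm_num) n).1 hp)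
  exact ⟨r, hr, sxB_sound hr h⟩

theorem sextet_orbits {S X Y : Finset (Finset GolayPt)} (hS : S ∈ sextets) (hX : X ∈ sextets)
    (hY : Y ∈ sextets) (h : clF S X = clF S Y) :
    ∃ g : Equiv.Perm GolayPt, g ∈ M24 ∧ g • S = S ∧ g • X = Y := by
  obtain ⟨g, hg, rfl⟩ := T_sextet hS
  obtain ⟨x, rfl⟩ := MulAction.surjective g X
  obtain ⟨y, rfl⟩ := MulAction.surjective g Y
  rw [smul_mem_sextets_iff hg] at hX hY
  rw [clF_smul, clF_smul] at h
  obtain ⟨k, hk, e⟩ := trans_of_roots _ _ (fun r => sext (ofMask r)) (clF (famL S0L))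
    (fun g hg x => clF_SG hg x) sx_distinct (sx_root hX) (sx_root hY) h
  exact ⟨_, conj_mem hg hk.1, conj_smul_eq (hk.2.2 _ (by simp)), conj_smul_eq e⟩

theorem sextet_cl_values {S X : Finset (Finset GolayPt)} (hS : S ∈ sextets) (hX : X ∈ sextets) :
    clF S X = 96 ∨ clF S X = 36 ∨ clF S X = 32 ∨ clF S X = 48 := by
  obtain ⟨g, hg, rfl⟩ := T_sextet hS
  obtain ⟨x, rfl⟩ := MulAction.surjective g X
  rw [smul_mem_sextets_iff hg] at hX
  obtain ⟨r, hr, k, hk, rfl⟩ := sx_root hX
  simp only [clF_smul, clF_SG hk]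
  simp only [List.mem_cons, List.not_mem_nil, or_false] at hr
  rcases hr with rfl | rfl | rfl | rfl <;> simp [sx_cl0, sx_cl1, sx_cl2, sx_cl3]

theorem sextet_cl_self {S : Finset (Finset GolayPt)} (hS : S ∈ sextets) : clF S S = 96 := by
  obtain ⟨g, hg, rfl⟩ := T_sextet hS
  rw [clF_smul]
  conv_lhs => enter [2]; rw [← sext_S0]
  exact sx_cl0

theorem sextet_count {S : Finset (Finset GolayPt)} (hS : S ∈ sextets) {r : ℕ}
    (hr : r ∈ [8388615, 15, 27, 43]) :
    {X | X ∈ sextets ∧ clF S X = clF (famL S0L) (sext (ofMask r))}.ncard =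
      force (sxB r) fun B => cntSub 4 fun n => tb n 23 && tb B (syn n) := by
  obtain ⟨g, hg, rfl⟩ := T_sextet hS
  rw [ncard_smul_congr g _ (fun X => X ∈ sextets ∧
    clF (famL S0L) X = clF (famL S0L) (sext (ofMask r)))
    (fun x => by simp only [smul_mem_sextets_iff hg, clF_smul]), ncard_sextets_with, force_eq]
  refine ncard_sub 4 (fun t => pt 23 ∈ t ∧
    clF (famL S0L) (sext t) = clF (famL S0L) (sext (ofMask r))) _ fun n hn h4 => ?_
  rw [Bool.and_eq_true, pt_mem_iff (by norm_num)]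
  refine and_congr_right fun h23 => ⟨fun h => ?_, fun h => ?_⟩
  · obtain ⟨r', hr', h'⟩ := sx_cover hn h4 h23
    obtain ⟨k, hk, e⟩ := sxB_sound hr' h'
    rw [← e, clF_SG hk] at h
    rwa [← sx_distinct r' hr' r hr h]
  · obtain ⟨k, hk, e⟩ := sxB_sound hr h
    rw [← e, clF_SG hk]

theorem sextet_count36 {S : Finset (Finset GolayPt)} (hS : S ∈ sextets) :
    {X | X ∈ sextets ∧ clF S X = 36}.ncard = 240 := by
  rw [← sx_cl1, sextet_count hS (by simp)]; decide +kernel

theorem sextet_count32 {S : Finset (Finset GolayPt)} (hS : S ∈ sextets) :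
    {X | X ∈ sextets ∧ clF S X = 32}.ncard = 1440 := by
  rw [← sx_cl2, sextet_count hS (by simp)]; decide +kernel

theorem sextet_count48 {S : Finset (Finset GolayPt)} (hS : S ∈ sextets) :
    {X | X ∈ sextets ∧ clF S X = 48}.ncard = 90 := by
  rw [← sx_cl3, sextet_count hS (by simp)]; decide +kernel

theorem sextet_coatom {S : Finset (Finset GolayPt)} (hS : S ∈ sextets) :
    IsCoatom (MulAction.stabilizer M24 S) := by
  refine isCoatom_of_classes _ _ (orbit_sextet hS) (clF S) {96, 36, 32, 48}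
    (fun i => if i = 36 then 240 else if i = 32 then 1440 else if i = 48 then 90 else 1) 1771 96
    ncard_sextets (by norm_num) (sextet_cl_self hS) ?_ ?_ ?_ rfl (by decide +kernel)
  · intro y hy
    simpa using sextet_cl_values hS hy
  · intro y hy z hz h
    obtain ⟨g, hg, h1, h2⟩ := sextet_orbits hS hy hz h
    exact ⟨⟨g, hg⟩, h1, h2⟩
  · intro i hi hi'
    simp only [mem_insert, mem_singleton] at hi
    rcases hi with rfl | rfl | rfl | rfl
    · exact absurd rfl hi'
    · exact sextet_count36 hS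
    · exact sextet_count32 hS
    · exact sextet_count48 hS

theorem s1552 (S : Finset (Finset GolayPt)) (hS : S ∈ sextets) :
    ∃ X₁ ∈ sextets, ∃ X₂ ∈ sextets, ∃ X₃ ∈ sextets,
      (MulAction.orbit ↥(MulAction.stabilizer M24 S) X₁).ncard = 90 ∧
      (MulAction.orbit ↥(MulAction.stabilizer M24 S) X₂).ncard = 240 ∧
      (MulAction.orbit ↥(MulAction.stabilizer M24 S) X₃).ncard = 1440 ∧
      sextets = {S} ∪ MulAction.orbit ↥(MulAction.stabilizer M24 S) X₁ ∪
        MulAction.orbit ↥(MulAction.stabilizer M24 S) X₂ ∪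
        MulAction.orbit ↥(MulAction.stabilizer M24 S) X₃ ∧
      IsCoatom (MulAction.stabilizer M24 S) := by
  have key : ∀ y ∈ sextets, MulAction.orbit (MulAction.stabilizer M24 S) y =
      {z | z ∈ sextets ∧ clF S z = clF S y} := fun y hy =>
    orbit_stabilizer_eq_class (MulAction.stabilizer M24 S) sextets (clF S)
      (fun g _ y hy => smul_mem_sextets g.2 hy)
      (fun g hg y => by
        conv_lhs => rw [← MulAction.mem_stabilizer_iff.1 hg]
        exact clF_smul _ _ _)
      (fun y hy z hz h => by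
        obtain ⟨g, hg, h1, h2⟩ := sextet_orbits hS hy hz h
        exact ⟨⟨g, hg⟩, h1, h2⟩) hy
  obtain ⟨X₁, h1, e1⟩ := exists_of_ncard (sextet_count48 hS)
  obtain ⟨X₂, h2, e2⟩ := exists_of_ncard (sextet_count36 hS)
  obtain ⟨X₃, h3, e3⟩ := exists_of_ncard (sextet_count32 hS)
  refine ⟨X₁, h1, X₂, h2, X₃, h3, ?_, ?_, ?_, ?_, sextet_coatom hS⟩
  · rw [key _ h1, e1, sextet_count48 hS]
  · rw [key _ h2, e2, sextet_count36 hS]
  · rw [key _ h3, e3, sextet_count32 hS]
  · rw [key _ h1, key _ h2, key _ h3, e1, e2, e3]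
    ext y
    simp only [Set.mem_union, Set.mem_singleton_iff, Set.mem_ofPred_eq]
    constructor
    · intro hy
      rcases sextet_cl_values hS hy with h | h | h | h
      · obtain ⟨g, _, h1, h2⟩ := sextet_orbits hS hS hy ((sextet_cl_self hS).trans h.symm)
        exact Or.inl (Or.inl (Or.inl (h2.symm.trans h1)))
      · exact Or.inl (Or.inr ⟨hy, h⟩)
      · exact Or.inr ⟨hy, h⟩
      · exact Or.inl (Or.inl (Or.inr ⟨hy, h⟩))
    · rintro (((rfl | h) | h) | h)
      · exact hS
      · exact h.1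
      · exact h.1
      · exact h.1

end H28
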