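import Mathlib
import Cfsg.Agent.H28.SextetOrb
import Cfsg.Agent.H9.M24

/-! Quartets of a dodecad. -/

set_option autoImplicit false

namespace H28

open Cfsg Finset H9
open scoped symmDiff Pointwise

theorem validP_iff_okP {c : ℕ} : validP c = true ↔ okP c = true := by
  have : H9.actM c 16777215 = orLt 24 fun i => Nat.shiftLeft 1 (pf c i) := by
    apply Nat.eq_of_testBit_eq
    intro j
    rw [Bool.eq_iff_iff, H9.testBit_actM, testBit_orLt]
    refine exists_congr fun i => and_congr_right fun hi => ?_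
    have e : Nat.shiftLeft 1 (pf c i) = 2 ^ (pf c i) := Nat.one_shiftLeft _
    rw [e, Nat.testBit_two_pow, testBit_full]
    simp only [hi, true_and, decide_eq_true_eq]
    rfl
  rw [validP, okP, this]

theorem pm9_eq (c : ℕ) : H9.pm c = pm c := by
  by_cases h : okP c = true
  · ext1 p
    rw [H9.pm_apply (validP_iff_okP.2 h), pm_apply h]; rfl
  · rw [pm, dif_neg h, H9.pm, dif_neg (fun h' => h (validP_iff_okP.1 h'))]

theorem cl_induction {gens : List ℕ} (P : Equiv.Perm GolayPt → Prop) (h1 : P 1)
    (h : ∀ c ∈ gens, ∀ g, P g → P (pm c * g)) {g : Equiv.Perm GolayPt} (hg : g ∈ cl gens) : P g := by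
  have hg' : g ∈ Submonoid.closure {g | ∃ c ∈ gens, g = H9.pm c} := by
    rw [← Subgroup.closure_toSubmonoid_of_finite] ; exact hg
  induction hg' using Submonoid.closure_induction_left with
  | one => exact h1
  | mul_left x hx y hy ih =>
    obtain ⟨c, hc, rfl⟩ := hx
    rw [pm9_eq]
    exact h c hc y (ih (by rw [← Subgroup.closure_toSubmonoid_of_finite] at hy; exact hy))

/-! ### Lists of families -/

/-- position of the first member of `QL` containing all of `imgs`. -/
def findF (QL : List (List ℕ)) (imgs : List ℕ) : ℕ → ℕ :=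
  List.rec (fun k => k) (fun L _ r k => cond (allL imgs (memL L)) k (r (Nat.succ k))) QL

theorem findF_spec (QL : List (List ℕ)) (imgs : List ℕ) (k : ℕ) :
    k ≤ findF QL imgs k ∧ (findF QL imgs k < k + QL.length →
      allL imgs (memL (QL.getD (findF QL imgs k - k) [])) = true) ∧
    ∀ i < QL.length, allL imgs (memL (QL.getD i [])) = true → findF QL imgs k ≤ k + i := by
  induction QL generalizing k with
  | nil => simp [findF]
  | cons L QL ih =>
    have e : findF (L :: QL) imgs k = cond (allL imgs (memL L)) k (findF QL imgs (k + 1)) := rfl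
    obtain ⟨h1, h2, h3⟩ := ih (k + 1)
    rw [e]
    cases h : allL imgs (memL L)
    · simp only [cond_false, List.length_cons]
      refine ⟨by omega, fun h' => ?_, fun i hi h' => ?_⟩
      · have := h2 (by omega)
        rwa [show findF QL imgs (k + 1) - k = (findF QL imgs (k + 1) - (k + 1)) + 1 by omega,
          List.getD_cons_succ]
      · cases i with
        | zero => rw [List.getD_cons_zero, h] at h'; exact absurd h' (by simp)
        | succ i =>
          rw [List.getD_cons_succ] at h'
          have := h3 i (by omega) h'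
          omega
    · simp only [cond_true]
      exact ⟨le_rfl, fun _ => by rwa [Nat.sub_self, List.getD_cons_zero], fun i _ _ => by omega⟩

/-- action on the positions of a list of families. -/
def actF (QL : List (List ℕ)) (N c i : ℕ) : ℕ :=
  cond (Nat.ble (Nat.succ i) N) (findF QL ((QL.getD i []).map (actM c)) 0) N

theorem actF_spec {QL : List (List ℕ)} {c i k : ℕ} (hc : okP c = true)
    (hk : ∀ i < QL.length, (famL (QL.getD i [])).card = k) (h : actF QL QL.length c i < QL.length) :
    i < QL.length ∧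
      pm c • famL (QL.getD i []) = famL (QL.getD (actF QL QL.length c i) []) := by
  by_cases hi : i < QL.length
  · refine ⟨hi, smul_famL_of hc ?_ (by rw [hk _ h, hk _ hi])⟩
    have e : actF QL QL.length c i = findF QL ((QL.getD i []).map (actM c)) 0 := by
      rw [actF, (ble_iff _ _).2 hi, cond_true]
    rw [e] at h ⊢
    have := (findF_spec QL _ 0).2.1 (by simpa using h)
    rw [allL_iff] at this ⊢
    intro m hm
    rw [force_eq]
    exact this _ (List.mem_map_of_mem hm)
  · exfalso
    have : Nat.ble (Nat.succ i) QL.length = false := by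
      rw [← Bool.not_eq_true, ble_iff]; exact hi
    rw [actF, this, cond_false] at h
    exact lt_irrefl _ h

theorem fam_orbits (QL : List (List ℕ)) (k : ℕ)
    (hk : ∀ i < QL.length, (famL (QL.getD i [])).card = k) (K : Subgroup (Equiv.Perm GolayPt))
    (gens : List ℕ) (hg : ∀ c ∈ gens, okP c = true ∧ pm c ∈ K) (fuel : ℕ) (roots : List ℕ) (i : ℕ)
    (hi : i < QL.length) (h : tb (orbU (actF QL QL.length) id gens fuel roots) i = true) :
    ∃ r ∈ roots, ∃ g ∈ K, g • famL (QL.getD r []) = famL (QL.getD i []) := by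
  obtain ⟨y, h1, rfl⟩ := orbU_sound (actF QL QL.length) id gens fuel roots
    (fun y => y < QL.length → ∃ r ∈ roots, ∃ g ∈ K, g • famL (QL.getD r []) = famL (QL.getD y []))
    (fun r hr _ => ⟨r, hr, 1, K.one_mem, one_smul _ _⟩)
    (fun c hc y hy hlt => by
      obtain ⟨h1, h2⟩ := actF_spec (hg c hc).1 hk hlt
      obtain ⟨r, hr, g, h3, h4⟩ := hy h1
      exact ⟨r, hr, pm c * g, K.mul_mem (hg c hc).2 h3, by rw [mul_smul, h4, h2]⟩) i h
  exact h1 hi

theorem fam_inj (QL : List (List ℕ)) (hlt : ∀ L ∈ QL, ∀ m ∈ L, m < 2 ^ 24)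
    (h : allLt QL.length (fun j => Nat.beq (findF QL (QL.getD j []) 0) j) = true) {i j : ℕ}
    (hi : i < QL.length) (hj : j < QL.length) (e : famL (QL.getD i []) = famL (QL.getD j [])) :
    i = j := by
  have key : ∀ i j, i < QL.length → j < QL.length →
      famL (QL.getD i []) = famL (QL.getD j []) → j ≤ i := by
    intro i j hi hj e
    have h1 := (beq_iff _ _).1 ((allLt_iff _ _).1 h j hj)
    have h2 := (findF_spec QL (QL.getD j []) 0).2.2 i hi (by
      rw [allL_iff]
      intro m hm
      have : ofMask m ∈ famL (QL.getD i []) := e ▸ mem_famL.2 ⟨m, hm, rfl⟩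
      obtain ⟨m', hm', e'⟩ := mem_famL.1 this
      rw [List.getD_eq_getElem _ _ hi] at hm'
      rw [List.getD_eq_getElem _ _ hj] at hm
      rw [memL_iff, List.getD_eq_getElem _ _ hi,
        ← ofMask_inj (hlt _ (List.getElem_mem hi) _ hm') (hlt _ (List.getElem_mem hj) _ hm) e']
      exact hm')
    omega
  exact le_antisymm (key j i hj hi e.symm) (key i j hi hj e)

/-! ### Hexads and quartets -/

theorem smul_mem_hexadsOn {g : Equiv.Perm GolayPt} (hg : g ∈ M24) {d h : Finset GolayPt} :
    g • h ∈ hexadsOn (g • d) ↔ h ∈ hexadsOn d := by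
  simp only [hexadsOn, Set.mem_ofPred_eq, card_smul_finset]
  refine and_congr_right fun _ => ⟨?_, ?_⟩
  · rintro ⟨o, ho, e⟩
    obtain ⟨o, rfl⟩ := MulAction.surjective g o
    refine ⟨o, (smul_mem_octads_iff hg).1 ho, MulAction.injective g ?_⟩
    simpa only [smul_inter'] using e
  · rintro ⟨o, ho, rfl⟩
    exact ⟨g • o, (smul_mem_octads_iff hg).2 ho, (smul_inter' _ _ _).symm⟩

theorem smul_mem_quartets {g : Equiv.Perm GolayPt} (hg : g ∈ M24) {d : Finset GolayPt}
    {Q : Finset (Finset GolayPt)} : g • Q ∈ quartets (g • d) ↔ Q ∈ quartets d := by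
  simp only [quartets, Set.mem_ofPred_eq, card_smul_finset]
  refine and_congr_right fun _ => and_congr ?_ ?_
  · rw [(MulAction.surjective g).forall]
    simp only [smul_mem_smul_finset_iff, card_smul_finset, smul_finset_subset_smul_finset_iff]
  · rw [(MulAction.surjective g).forall]
    refine forall_congr' fun t => ?_
    rw [(MulAction.surjective g).forall]
    simp only [smul_mem_smul_finset_iff, ← smul_union', smul_mem_hexadsOn hg, ne_eq,
      smul_left_cancel_iff]

theorem mem_hexadsOn_iff {d h : Finset GolayPt} (hd : d ∈ dodecads) :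
    h ∈ hexadsOn d ↔ h.card = 6 ∧ h ⊆ d ∧ ∃ o ∈ octads, h ⊆ o := by
  refine and_congr_right fun h6 => ⟨?_, ?_⟩
  · rintro ⟨o, ho, rfl⟩
    exact ⟨inter_subset_right, o, ho, inter_subset_left⟩
  · rintro ⟨h1, o, ho, h2⟩
    refine ⟨o, ho, (eq_of_subset_of_card_le (subset_inter h2 h1) ?_).symm⟩
    have h3 := card_symmDiff_add o d
    have h4 := card_of_mem_GC (symmDiff_mem_GC ho.1 hd.1)
    have h5 := ho.2
    have h7 := hd.2
    have h8 := card_le_card (inter_subset_left (s₁ := o) (s₂ := d))
    omega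

/-- test for the hexads of the standard dodecad. -/
def isHex (n : ℕ) : Bool := Nat.beq (Nat.land n 340831) n && (Nat.beq (pc n) 6 && inOct n)

theorem isHex_iff {n : ℕ} (hn : n < 2 ^ 24) :
    ofMask n ∈ hexadsOn (ofMask 340831) ↔ isHex n = true := by
  rw [mem_hexadsOn_iff D0_mem, isHex, Bool.and_eq_true, Bool.and_eq_true, beq_iff, beq_iff,
    card_ofMask, ofMask_subset_iff hn]
  constructor
  · rintro ⟨h1, h2, h3⟩
    exact ⟨h2, h1, (inOct_iff hn h1.le).1 h3⟩
  · rintro ⟨h1, h2, h3⟩
    exact ⟨h2, h1, (inOct_iff hn h2.le).2 h3⟩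

theorem T_hexpair {d t u : Finset GolayPt} (hd : d ∈ dodecads) (ht : t.card = 3) (hu : u.card = 3)
    (hh : t ∪ u ∈ hexadsOn d) :
    ∃ g ∈ M24, g • ofMask 340831 = d ∧ g • ofMask 7 = t ∧ g • ofMask 336 = u := by
  have hsub := ((mem_hexadsOn_iff hd).1 hh).2.1
  obtain ⟨p, q, r, h1, h2, h3, rfl⟩ := card_eq_three.1 ht
  obtain ⟨g, hg, rfl, rfl, rfl, rfl⟩ := T_dod_in3 hd (p := p) (q := q) (r := r) (hsub (by simp))
    (hsub (by simp)) (hsub (by simp)) h1 h2 h3
  have e : ({g (pt 0), g (pt 1), g (pt 2)} : Finset GolayPt) = g • ofMask 7 := by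
    have : ofMask 7 = {pt 0, pt 1, pt 2} := by decide +kernel
    simp [this, smul_finset_insert]
  rw [e] at hh ⊢
  obtain ⟨u, rfl⟩ := MulAction.surjective g u
  rw [← smul_union', smul_mem_hexadsOn hg] at hh
  rw [card_smul_finset] at hu
  obtain ⟨n, hn, rfl⟩ := exists_mask u
  obtain ⟨r, hr, k, hk, e'⟩ := small_class (SG [340831, 7] [])
    [487371495132080763089106095441051682, 648700721299907946199551991620961282]
    (okSG_spec (by decide +kernel)) [336] 20 3 le_rfl (fun n => isHex (Nat.lor 7 n))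
    (by decide +kernel) (by decide +kernel) n hn (by rwa [← card_ofMask])
    (by rw [← ofMask_or] at hh; exact (isHex_iff (or_lt (by norm_num) hn)).1 hh)
  obtain rfl : r = 336 := by simpa using hr
  exact ⟨g * k, M24.mul_mem hg hk.1, by rw [mul_smul, hk.2.1 _ (by simp)],
    by rw [mul_smul, hk.2.1 _ (by simp)], by rw [mul_smul, e']⟩

/-- test for quartets of the standard dodecad. -/
def isQuart (L : List ℕ) : Bool := allL L fun a => Nat.ble a 16777215 && Nat.beq (pc a) 3 &&
  Nat.beq (Nat.land a 340831) a && allL L fun b => Nat.beq a b || isHex (Nat.lor a b)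

theorem famL_mem_quartets {L : List ℕ} (h : isQuart L = true) (h2 : L.Nodup) (h4 : L.length = 4) :
    famL L ∈ quartets (ofMask 340831) := by
  simp only [isQuart, allL_iff, Bool.and_eq_true, beq_iff, ble_iff, Bool.or_eq_true] at h
  have hlt : ∀ m ∈ L, m < 2 ^ 24 := fun m hm => Nat.lt_succ_of_le (h m hm).1.1.1
  refine ⟨by rw [card_famL hlt h2, h4], ?_, ?_⟩
  · intro t ht
    obtain ⟨m, hm, rfl⟩ := mem_famL.1 ht
    exact ⟨by rw [card_ofMask, (h m hm).1.1.2], (ofMask_subset_iff (hlt m hm)).2 (h m hm).1.2⟩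
  · intro t ht u hu hne
    obtain ⟨a, ha, rfl⟩ := mem_famL.1 ht
    obtain ⟨b, hb, rfl⟩ := mem_famL.1 hu
    rcases (h a ha).2 b hb with e | e
    · exact absurd (by rw [e]) hne
    · rw [← ofMask_or]
      exact (isHex_iff (or_lt (hlt a ha) (hlt b hb))).2 e

/-- the standard quartet. -/
def Q0L : List ℕ := [7, 336, 70144, 270344]

theorem Q0_mem : famL Q0L ∈ quartets (ofMask 340831) :=
  famL_mem_quartets (by decide +kernel) (by decide) rfl

theorem eq_Q0 {Q : Finset (Finset GolayPt)} (hQ : Q ∈ quartets (ofMask 340831))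
    (h1 : ofMask 7 ∈ Q) (h2 : ofMask 336 ∈ Q) : Q = famL Q0L := by
  apply eq_of_subset_of_card_le _ (by rw [hQ.1, Q0_mem.1])
  intro v hv
  obtain ⟨n, hn, rfl⟩ := exists_mask v
  by_cases e1 : ofMask 7 = ofMask n
  · exact mem_famL.2 ⟨7, by simp [Q0L], e1⟩
  by_cases e2 : ofMask 336 = ofMask n
  · exact mem_famL.2 ⟨336, by simp [Q0L], e2⟩
  have h3 := hQ.2.2 _ h1 _ hv e1
  have h4 := hQ.2.2 _ h2 _ hv e2
  rw [← ofMask_or, isHex_iff (or_lt (by norm_num) hn)] at h3 h4
  have := forall_sub 3 (fun n => cond (isHex (Nat.lor 7 n) && isHex (Nat.lor 336 n))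
    (memL Q0L n) true) (by decide +kernel) n hn (by rw [← card_ofMask]; exact (hQ.2.1 _ hv).1)
  have e3 : (isHex (Nat.lor 7 n) && isHex (Nat.lor 336 n)) = true := by
    rw [Bool.and_eq_true]; exact ⟨h3, h4⟩
  simp only [e3, cond_true, memL_iff] at this
  exact mem_famL.2 ⟨n, this, rfl⟩

theorem s1596 (d : Finset GolayPt) (hd : d ∈ dodecads) (t u : Finset GolayPt) (ht : t.card = 3)
    (hu : u.card = 3) (hh : t ∪ u ∈ hexadsOn d) :
    ∃! Q : Finset (Finset GolayPt), Q ∈ quartets d ∧ t ∈ Q ∧ u ∈ Q := by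
  obtain ⟨g, hg, rfl, rfl, rfl⟩ := T_hexpair hd ht hu hh
  refine ⟨g • famL Q0L, ⟨(smul_mem_quartets hg).2 Q0_mem, ?_, ?_⟩, ?_⟩
  · exact (smul_mem_smul_finset_iff _).2 (mem_famL.2 ⟨7, by simp [Q0L], rfl⟩)
  · exact (smul_mem_smul_finset_iff _).2 (mem_famL.2 ⟨336, by simp [Q0L], rfl⟩)
  · rintro Q ⟨h1, h2, h3⟩
    obtain ⟨Q, rfl⟩ := MulAction.surjective g Q
    rw [smul_mem_quartets hg] at h1
    rw [smul_mem_smul_finset_iff] at h2 h3
    rw [eq_Q0 h1 h2 h3]

theorem T_quartet {d : Finset GolayPt} (hd : d ∈ dodecads) {Q : Finset (Finset GolayPt)}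
    (hQ : Q ∈ quartets d) : ∃ g ∈ M24, g • ofMask 340831 = d ∧ g • famL Q0L = Q := by
  obtain ⟨t, ht, u, hu, hne⟩ := one_lt_card.1 (show 1 < Q.card by rw [hQ.1]; norm_num)
  obtain ⟨g, hg, rfl, rfl, rfl⟩ := T_hexpair hd (hQ.2.1 t ht).1 (hQ.2.1 u hu).1
    (hQ.2.2 t ht u hu hne)
  obtain ⟨Q, rfl⟩ := MulAction.surjective g Q
  rw [smul_mem_quartets hg] at hQ
  rw [smul_mem_smul_finset_iff] at ht hu
  exact ⟨g, hg, rfl, by rw [eq_Q0 hQ ht hu]⟩

/-- the quartets of the standard dodecad. -/
def QL : List (List ℕ) := [[7, 336, 70144, 270344], [7, 584, 73744, 266496], [7, 4120, 8960, 327744], [7, 12352, 65800, 262672], [11, 580, 77824, 262416], [11, 4116, 8512, 328192], [11, 4864, 65616, 270340], [11, 8720, 65796, 266304], [13, 578, 12544, 327696], [13, 784, 69696, 270338], [13, 4114, 74240, 262464], [13, 8272, 65794, 266752], [14, 577, 8464, 331776], [14, 4113, 73792, 262912], [14, 4416, 66064, 270337], [14, 12800, 65793, 262224], [19, 324, 8712, 331776], [19, 4108, 66304, 270400], [19, 4672, 73732, 262408],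 [19, 12544, 65608, 262660], [21, 322, 12800, 327688], [21, 776, 73730, 266304], [21, 4106, 66112, 270592], [21, 8264, 69888, 262658], [22, 321, 66056, 274432], [22, 4105, 8768, 327936], [22, 4864, 73729, 262216], [22, 8456, 69696, 262657], [25, 772, 65602, 274432], [25, 4102, 73984, 262720], [25, 4416, 8706, 327684], [25, 8260, 70144, 262402], [26, 832, 4101, 335872], [26, 8452, 65601, 266752], [26, 8705, 69888, 262212], [26, 12352, 66052, 262401], [28, 769, 77824, 262210], [28, 4099, 65856, 270848], [28, 4672, 8450, 327681], [28, 8257, 66050, 266496], [67, 276, 74240, 266248], [67, 524, 69888, 270352], [67, 4624, 8456, 327684], [67, 12292, 65560, 262912], [69, 274, 69640, 270848], [69, 522, 73984, 266256], [69, 4864, 8216, 327682], [69, 12290, 66064, 262408], [70, 273, 73736, 266752], [70, 521, 69648, 270592], [70, 4360, 8720, 327681], [70, 12289, 66304, 262168], [73, 518, 4368, 335872], [73, 8212, 66304, 266242], [73, 8450, 69636, 262672], [73, 12800, 65554, 262404], [74, 517, 12304, 327936], [74,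 784, 73732, 266241], [74, 4356, 65553, 270848], [74, 8449, 70144, 262164], [76, 515, 65808, 274432], [76, 4354, 8209, 328192], [76, 4624, 73730, 262401], [76, 8960, 69633, 262162], [81, 262, 77824, 262664], [81, 4360, 66052, 270338], [81, 4610, 8204, 327936], [81, 8960, 65546, 266244], [82, 261, 12296, 328192], [82, 776, 69636, 270337], [82, 4609, 73984, 262156], [82, 8708, 65545, 266496], [84, 259, 4616, 335872], [84, 8201, 69634, 262912], [84, 8706, 65800, 266241], [84, 12544, 66049, 262154], [88, 770, 8197, 331776], [88, 4353, 74240, 262150], [88, 4612, 65539, 270592], [88, 12290, 65796, 262657], [259, 8264, 66064, 266244], [259, 8708, 69696, 262168], [259, 12304, 65548, 262720], [261, 536, 73792, 266242], [261, 4672, 65546, 270352], [261, 8706, 69648, 262216], [262, 4168, 8705, 327696], [262, 4624, 65545, 270400], [262, 8216, 66112, 266241], [265, 532, 8258, 331776], [265, 4176, 65542, 270848], [265, 4610, 73744, 262212], [265, 12292, 66112, 262162], [266, 592, 65541, 274432], [266, 4164, 74240,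 262161], [266, 4609, 8212, 327744], [266, 8257, 69648, 262660], [268, 529, 4162, 335872], [268, 8210, 70144, 262209], [268, 8768, 65539, 266256], [268, 12289, 65616, 262658], [273, 524, 12290, 327744], [273, 4168, 66050, 270340], [273, 8768, 69636, 262154], [274, 584, 12289, 327684], [274, 4612, 73792, 262153], [274, 8204, 66049, 266304], [276, 521, 12352, 327682], [276, 4610, 65608, 270337], [276, 8202, 69633, 262720], [280, 517, 69634, 270400], [280, 578, 73729, 266244], [280, 4161, 8198, 328192], [280, 12800, 65604, 262147], [321, 4120, 73732, 262658], [321, 4612, 8202, 327696], [321, 8720, 69634, 262156], [322, 536, 69633, 270340], [322, 4108, 73744, 262657], [322, 8201, 66052, 266256], [324, 4106, 73729, 262672], [324, 4609, 65560, 270338], [324, 12304, 66050, 262153], [328, 530, 77824, 262149], [328, 4102, 66049, 270352], [328, 4113, 8708, 327682], [328, 8195, 65556, 266752], [336, 522, 12292, 327681], [336, 4105, 73730, 262660], [336, 8705, 65548, 266242], [515, 4176, 8452, 327688], [515, 4360,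 73792, 262164], [515, 8216, 69636, 262464], [517, 4416, 73736, 262162], [517, 8450, 65616, 266248], [518, 8272, 69633, 262408], [518, 8449, 65560, 266304], [518, 12296, 65856, 262161], [521, 4354, 73732, 262224], [521, 8210, 65856, 266244], [522, 4353, 65556, 270400], [522, 8209, 69696, 262404], [524, 4176, 73729, 262402], [524, 8512, 65554, 266241], [529, 8202, 65604, 266496], [529, 8512, 69640, 262150], [529, 12292, 65794, 262216], [530, 4161, 65548, 270592], [530, 4356, 8201, 327744], [530, 8260, 65793, 266248], [532, 4168, 73984, 262147], [532, 4354, 65601, 270344], [532, 12289, 65546, 262464], [536, 4164, 8195, 327936], [536, 12544, 65542, 262209], [577, 4114, 65800, 270340], [577, 4356, 73730, 262168], [577, 12296, 65556, 262402], [578, 4113, 65796, 270344], [578, 8212, 69640, 262401], [580, 4120, 65794, 270337], [580, 4353, 8210, 327688], [580, 8456, 65553, 266242], [584, 4116, 65793, 270338], [584, 8452, 69634, 262161], [592, 4099, 73736, 262404], [592, 4108, 8449, 327682], [592, 8198, 69888,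 262153], [769, 4106, 8272, 327684], [769, 4164, 65554, 270344], [769, 8198, 65608, 266256], [770, 4105, 65604, 270352], [770, 4116, 73736, 262209], [770, 12352, 65553, 262156], [772, 4114, 8264, 327681], [772, 4161, 73744, 262154], [772, 8195, 69640, 262224], [776, 4099, 8260, 327696], [776, 12304, 65601, 262150], [784, 4102, 8257, 327688], [784, 12296, 65539, 262212], [832, 8204, 69648, 262147], [832, 8209, 65542, 266248], [832, 12290, 65545, 262164], [4099, 8464, 66052, 262216], [4101, 8258, 65808, 262664], [4101, 8456, 66050, 262224], [4101, 8720, 65608, 262402], [4102, 8712, 65616, 262401], [4105, 8452, 66064, 262210], [4106, 8708, 65808, 262209], [4108, 8706, 65601, 262416], [4113, 8450, 66056, 262212], [4114, 8449, 65604, 262664], [4116, 8705, 65602, 262408], [4120, 8258, 66049, 262404], [4161, 8712, 65794, 262164], [4162, 8197, 66056, 262416], [4162, 8216, 65793, 262660], [4162, 8960, 65556, 262153], [4164, 8464, 65545, 262658], [4168, 8210, 65541, 262912], [4176, 8202, 66304, 262149], [4353,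 8204, 65602, 262672], [4354, 8768, 65560, 262149], [4356, 8272, 66056, 262147], [4360, 8197, 65554, 262720], [4368, 8195, 66112, 262156], [4368, 8260, 65546, 262657], [4368, 8712, 65541, 262210], [4416, 8212, 65539, 262664], [4609, 8264, 65542, 262416], [4610, 8512, 65541, 262168], [4612, 8209, 65800, 262210], [4616, 8198, 65553, 262464], [4616, 8257, 65796, 262162], [4616, 8464, 65602, 262149], [4624, 8197, 65856, 262154], [4672, 8201, 65808, 262150], [4864, 8258, 65548, 262161]]

theorem QL_ok : ∀ L ∈ QL, isQuart L = true ∧ L.Nodup ∧ L.length = 4 ∧ ∀ m ∈ L, m < 2 ^ 24 := by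
  decide +kernel

theorem QL_length : QL.length = 220 := by decide +kernel

theorem QL_mem {i : ℕ} (hi : i < QL.length) : famL (QL.getD i []) ∈ quartets (ofMask 340831) := by
  rw [List.getD_eq_getElem _ _ hi]
  obtain ⟨h1, h2, h3, _⟩ := QL_ok _ (List.getElem_mem hi)
  exact famL_mem_quartets h1 h2 h3

theorem QL_complete {Q : Finset (Finset GolayPt)} (hQ : Q ∈ quartets (ofMask 340831)) :
    ∃ i < QL.length, famL (QL.getD i []) = Q := by
  obtain ⟨g, hg, h1, rfl⟩ := T_quartet D0_mem hQ
  have hg' : g ∈ cl g12 := by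
    rw [cl_g12]; exact ⟨hg, by simp, fun s hs => by rw [List.mem_singleton.1 hs]; exact h1⟩
  refine cl_induction (fun g => ∃ i < QL.length, famL (QL.getD i []) = g • famL Q0L)
    ⟨0, by rw [QL_length]; norm_num, (one_smul _ _).symm⟩ ?_ hg'
  rintro c hc g ⟨i, hi, e⟩
  have h : allL g12 (fun c => okP c && allLt 220 fun i =>
      Nat.ble (Nat.succ (actF QL 220 c i)) 220) = true := by decide +kernel
  have h2 := (allL_iff _ _).1 h c hc
  rw [Bool.and_eq_true, allLt_iff, ← QL_length] at h2
  have h3 := (ble_iff _ _).1 (h2.2 i hi)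
  exact ⟨_, h3, by rw [mul_smul, ← e, (actF_spec h2.1 (fun i hi => (QL_mem hi).1) h3).2]⟩

theorem ncard_quartets_with (P : Finset (Finset GolayPt) → Prop) (p : ℕ → Bool)
    (h : ∀ i < QL.length, P (famL (QL.getD i [])) ↔ p i = true) :
    {X | X ∈ quartets (ofMask 340831) ∧ P X}.ncard = sumLt 220 fun i => cond (p i) 1 0 := by
  have e : {X | X ∈ quartets (ofMask 340831) ∧ P X} = (fun i => famL (QL.getD i [])) ''
      ((range 220).filter fun i => p i = true : Finset ℕ) := by
    ext X
    simp only [Set.mem_ofPred_eq, coe_filter, mem_range, Set.mem_image, ← QL_length]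
    constructor
    · rintro ⟨h1, h2⟩
      obtain ⟨i, hi, rfl⟩ := QL_complete h1
      exact ⟨i, ⟨hi, (h i hi).1 h2⟩, rfl⟩
    · rintro ⟨i, ⟨hi, h1⟩, rfl⟩
      exact ⟨QL_mem hi, (h i hi).2 h1⟩
  rw [e, Set.InjOn.ncard_image, Set.ncard_coe_finset, card_filter, sumLt_eq]
  · refine sum_congr rfl fun i _ => ?_
    cases p i <;> rfl
  · intro i hi j hj e
    simp only [coe_filter, mem_range, Set.mem_ofPred_eq, ← QL_length] at hi hj
    exact fam_inj QL (fun L hL => (QL_ok L hL).2.2.2) (by decide +kernel) hi.1 hj.1 e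

theorem ncard_quartets {d : Finset GolayPt} (hd : d ∈ dodecads) : (quartets d).ncard = 220 := by
  obtain ⟨g, hg, rfl⟩ := T_dod hd
  have := ncard_smul_congr g (fun Q => Q ∈ quartets (g • ofMask 340831))
    (fun Q => Q ∈ quartets (ofMask 340831) ∧ True)
    (fun x => by simp only [smul_mem_quartets hg, and_true])
  rw [ncard_quartets_with (fun _ => True) (fun _ => true) (by simp)] at this
  exact this.trans (by decide +kernel)

theorem s1597 (d : Finset GolayPt) (hd : d ∈ dodecads) : (quartets d).ncard = 220 ∧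
    ∀ Q ∈ quartets d, ∀ Q' ∈ quartets d,
      ∃ g : Equiv.Perm GolayPt, g ∈ M24 ∧ g • d = d ∧ g • Q = Q' := by
  refine ⟨ncard_quartets hd, fun Q hQ Q' hQ' => ?_⟩
  obtain ⟨g, hg, h1, rfl⟩ := T_quartet hd hQ
  obtain ⟨g', hg', h1', rfl⟩ := T_quartet hd hQ'
  refine ⟨g' * g⁻¹, M24.mul_mem hg' (M24.inv_mem hg), ?_, by simp [mul_smul]⟩
  conv_lhs => rw [← h1]
  simp [mul_smul, h1']

end H28
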