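import Mathlib
import Cfsg.Agent.H28.Quartet
import Cfsg.Agent.H9.M24b

/-! Homomorphisms into `Perm GolayPt` from Cayley tables, element lists of small subgroups,
complements and quotients. -/

set_option autoImplicit false

namespace H28

open Cfsg Finset H9

/-! ### Abstract lemmas -/

theorem quot_equiv_of_compl {Γ T : Type*} [Group Γ] [Finite Γ] [Group T] (K N : Subgroup Γ)
    (φ : T →* Γ) (hNK : N ≤ K) (hφ : ∀ t, φ t ∈ K)
    (hn : ∀ t, ∀ x ∈ N, φ t * x * (φ t)⁻¹ ∈ N) (hi : ∀ t, φ t ∈ N → t = 1)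
    (hc : Nat.card K = Nat.card N * Nat.card T) :
    ∃ _ : (N.subgroupOf K).Normal, Nonempty (K ⧸ N.subgroupOf K ≃* T) := by
  have hT : Finite T := by
    apply Nat.finite_of_card_ne_zero
    intro h
    rw [h, mul_zero] at hc
    exact Nat.card_pos.ne' hc
  let f : N × T → K := fun x => ⟨x.1 * φ x.2, K.mul_mem (hNK x.1.2) (hφ _)⟩
  have hf : Function.Injective f := by
    rintro ⟨n, t⟩ ⟨n', t'⟩ h
    have h1 : (n : Γ) * φ t = n' * φ t' := congrArg Subtype.val h
    have h2 : φ (t * t'⁻¹) = (n : Γ)⁻¹ * n' := by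
      rw [map_mul, map_inv, eq_inv_mul_iff_mul_eq, ← mul_assoc, h1]; simp
    have h3 : t = t' := mul_inv_eq_one.1 (hi _ (h2 ▸ N.mul_mem (N.inv_mem n.2) n'.2))
    subst h3
    rw [Subtype.ext (mul_right_cancel h1)]
  have hs : Function.Surjective f :=
    (hf.bijective_of_nat_card_le (by rw [Nat.card_prod, hc])).2
  have hN : (N.subgroupOf K).Normal := ⟨fun x hx g => by
    obtain ⟨⟨n, t⟩, rfl⟩ := hs g
    have := N.mul_mem (N.mul_mem n.2 (hn t x hx)) (N.inv_mem n.2)
    rw [Subgroup.mem_subgroupOf]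
    simpa [f, mul_assoc] using this⟩
  refine ⟨hN, ⟨(MulEquiv.ofBijective
    ((QuotientGroup.mk' (N.subgroupOf K)).comp (φ.codRestrict K hφ)) ⟨?_, ?_⟩).symm⟩⟩
  · rw [injective_iff_map_eq_one]
    intro t ht
    exact hi t ((QuotientGroup.eq_one_iff (N := N.subgroupOf K) (φ.codRestrict K hφ t)).1 ht)
  · intro q
    obtain ⟨g, rfl⟩ := QuotientGroup.mk_surjective q
    obtain ⟨⟨n, t⟩, rfl⟩ := hs g
    refine ⟨t, ?_⟩
    have : f (n, t) = (⟨n, hNK n.2⟩ : K) * φ.codRestrict K hφ t := rfl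
    rw [this, QuotientGroup.mk_mul, (QuotientGroup.eq_one_iff (⟨n, hNK n.2⟩ : K)).2 n.2, one_mul]
    rfl

theorem transport_quot {A B T : Type*} [Group A] [Group B] [Group T] (e : A ≃* B)
    (N : Subgroup B) [N.Normal] (h : Nonempty (B ⧸ N ≃* T)) :
    ∃ (N' : Subgroup A) (_ : N'.Normal), Nat.card N' = Nat.card N ∧ (∀ x ∈ N', e x ∈ N) ∧
      Nonempty (A ⧸ N' ≃* T) := by
  obtain ⟨f⟩ := h
  refine ⟨N.comap e.toMonoidHom, inferInstance, ?_, fun x hx => hx,
    ⟨(QuotientGroup.congr _ N e (Subgroup.map_comap_eq_self_of_surjective e.surjective N)).trans f⟩⟩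
  rw [Subgroup.comap_equiv_eq_map_symm']
  exact Subgroup.card_map_of_injective e.symm.injective

theorem equiv_of_inj {Γ T : Type*} [Group Γ] [Finite Γ] [Group T] (K : Subgroup Γ)
    (φ : T →* Γ) (hφ : ∀ t, φ t ∈ K) (hi : ∀ t, φ t = 1 → t = 1)
    (hc : Nat.card K = Nat.card T) : Nonempty (K ≃* T) := by
  have hf : Function.Injective (φ.codRestrict K hφ) := by
    rw [injective_iff_map_eq_one]
    intro t ht
    exact hi t (congrArg Subtype.val ht)
  exact ⟨(MulEquiv.ofBijective _ (hf.bijective_of_nat_card_le hc.le)).symm⟩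

/-! ### Canonical codes -/

theorem mkP_lt (f : ℕ → ℕ) (hf : ∀ i < 24, f i < 32) : mkP f < 2 ^ 120 := by
  apply Nat.lt_pow_two_of_testBit
  intro j hj
  by_contra h
  rw [Bool.not_eq_false, mkP, testBit_orLt] at h
  obtain ⟨i, hi, h⟩ := h
  have e : Nat.shiftLeft (f i) (Nat.mul 5 i) = f i <<< (5 * i) := rfl
  rw [e, Nat.testBit_shiftLeft, Bool.and_eq_true] at h
  rw [Nat.testBit_lt_two_pow (lt_of_lt_of_le (hf i hi)
    (Nat.pow_le_pow_right (n := 2) (by norm_num) (show 5 ≤ j - 5 * i by omega)))] at h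
  exact absurd h.2 (by simp)

theorem mulP_lt (c d : ℕ) : mulP c d < 2 ^ 120 := mkP_lt _ fun _ _ => dig_lt32 _ _

theorem code_inj {c d : ℕ} (hc : validP c = true) (hd : validP d = true) (hc' : c < 2 ^ 120)
    (hd' : d < 2 ^ 120) (h : H9.pm c = H9.pm d) : c = d := by
  apply Nat.eq_of_testBit_eq
  intro j
  by_cases hj : j < 120
  · have h1 := pm_inj hc hd h (i := j / 5) (by omega)
    have h2 := congrArg (fun x => x.testBit (j % 5)) h1
    simp only [testBit_dig, Nat.div_add_mod, Nat.mod_lt j (show 5 > 0 by norm_num), decide_true,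
      Bool.true_and] at h2
    exact h2
  · rw [Nat.testBit_lt_two_pow (lt_of_lt_of_le hc' (Nat.pow_le_pow_right (by norm_num) (by omega))),
      Nat.testBit_lt_two_pow (lt_of_lt_of_le hd' (Nat.pow_le_pow_right (by norm_num) (by omega)))]

theorem idP_lt : H9.idP < 2 ^ 120 := by decide +kernel

theorem cl_ind {gens : List ℕ} (P : Equiv.Perm GolayPt → Prop) (h1 : P 1)
    (h : ∀ c ∈ gens, ∀ g, P g → P (H9.pm c * g)) {g : Equiv.Perm GolayPt} (hg : g ∈ cl gens) :
    P g :=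
  cl_induction P h1 (fun c hc g hg => pm9_eq c ▸ h c hc g hg) hg

theorem pm_mem_cl {gens : List ℕ} {c : ℕ} (hc : c ∈ gens) : H9.pm c ∈ cl gens :=
  Subgroup.subset_closure ⟨c, hc, rfl⟩

/-! ### Element lists -/

/-- push the unseen products. -/
def elPush (x : ℕ) (gens : List ℕ) (k : List ℕ → List ℕ → List ℕ) : List ℕ → List ℕ → List ℕ :=
  List.rec k (fun a _ r st acc => force (mulP a x) fun y =>
    cond (memL acc y) (r st acc) (r (y :: st) (y :: acc))) gens

/-- depth-first enumeration. -/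
def elGo (gens : List ℕ) (fuel : ℕ) : List ℕ → List ℕ → List ℕ :=
  Nat.rec (fun _ acc => acc) (fun _ r st acc =>
    List.rec acc (fun x st' _ => elPush x gens r st' acc) st) fuel

/-- the list of (codes of) elements of the group generated by `gens`. -/
def elems (gens : List ℕ) (fuel : ℕ) : List ℕ := elGo gens fuel [H9.idP] [H9.idP]

theorem elPush_sound (Q : ℕ → Prop) (x : ℕ) (gens : List ℕ) (hg : ∀ a ∈ gens, Q (mulP a x))
    (k : List ℕ → List ℕ → List ℕ)
    (hk : ∀ st acc, (∀ y ∈ st, Q y) → (∀ y ∈ acc, Q y) → acc.Nodup →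
      (∀ y ∈ k st acc, Q y) ∧ (k st acc).Nodup) (st acc : List ℕ)
    (h1 : ∀ y ∈ st, Q y) (h2 : ∀ y ∈ acc, Q y) (h3 : acc.Nodup) :
    (∀ y ∈ elPush x gens k st acc, Q y) ∧ (elPush x gens k st acc).Nodup := by
  induction gens generalizing st acc with
  | nil => exact hk st acc h1 h2 h3
  | cons a gens ih =>
    have e : elPush x (a :: gens) k st acc = force (mulP a x) fun y =>
      cond (memL acc y) (elPush x gens k st acc) (elPush x gens k (y :: st) (y :: acc)) := rfl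
    rw [e, force_eq]
    have hg' : ∀ a ∈ gens, Q (mulP a x) := fun a ha => hg a (List.mem_cons_of_mem _ ha)
    have hq := hg a List.mem_cons_self
    cases h : memL acc (mulP a x)
    · refine ih hg' _ _ (List.forall_mem_cons.2 ⟨hq, h1⟩) (List.forall_mem_cons.2 ⟨hq, h2⟩)
        (List.nodup_cons.2 ⟨fun h' => ?_, h3⟩)
      rw [memL_iff.2 h'] at h
      exact absurd h (by simp)
    · exact ih hg' _ _ h1 h2 h3

theorem elGo_sound (Q : ℕ → Prop) (gens : List ℕ) (hQ : ∀ a ∈ gens, ∀ y, Q y → Q (mulP a y))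
    (fuel : ℕ) (st acc : List ℕ) (h1 : ∀ y ∈ st, Q y) (h2 : ∀ y ∈ acc, Q y) (h3 : acc.Nodup) :
    (∀ y ∈ elGo gens fuel st acc, Q y) ∧ (elGo gens fuel st acc).Nodup := by
  induction fuel generalizing st acc with
  | zero => exact ⟨h2, h3⟩
  | succ n ih =>
    cases st with
    | nil => exact ⟨h2, h3⟩
    | cons x st =>
      exact elPush_sound Q x gens (fun a ha => hQ a ha x (h1 x List.mem_cons_self)) _ ih st acc
        (fun y hy => h1 y (List.mem_cons_of_mem _ hy)) h2 h3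

/-- evaluate a list once. -/
def forceL {β : Type} (l : List ℕ) (k : List ℕ → β) : β :=
  List.rec (k []) (fun a l _ => k (a :: l)) l

theorem forceL_eq {β : Type} (l : List ℕ) (k : List ℕ → β) : forceL l k = k l := by
  cases l <;> rfl

/-- `elems gens fuel` is closed. -/
def elOK (gens : List ℕ) (fuel : ℕ) : Bool :=
  allL gens validP && forceL (elems gens fuel) fun L =>
    memL L H9.idP && allL L fun x => allL gens fun a => force (mulP a x) (memL L)

theorem elems_valid {gens : List ℕ} {fuel : ℕ} (h : elOK gens fuel = true) :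
    (∀ c ∈ elems gens fuel, validP c = true ∧ c < 2 ^ 120 ∧ H9.pm c ∈ cl gens) ∧
      (elems gens fuel).Nodup := by
  rw [elOK, Bool.and_eq_true, allL_iff] at h
  have h0 : validP H9.idP = true ∧ H9.idP < 2 ^ 120 ∧ H9.pm H9.idP ∈ cl gens :=
    ⟨validP_idP, idP_lt, by rw [H9.pm_idP]; exact one_mem _⟩
  exact elGo_sound (fun c => validP c = true ∧ c < 2 ^ 120 ∧ H9.pm c ∈ cl gens) gens
    (fun a ha y hy => ⟨validP_mulP (h.1 a ha) hy.1, mulP_lt _ _, by
      rw [pm_mulP (h.1 a ha) hy.1]; exact mul_mem (pm_mem_cl ha) hy.2.2⟩) fuel _ _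
    (by simpa using h0) (by simpa using h0) (by simp)

theorem mem_cl_iff {gens : List ℕ} {fuel : ℕ} (h : elOK gens fuel = true)
    {g : Equiv.Perm GolayPt} : g ∈ cl gens ↔ ∃ c ∈ elems gens fuel, H9.pm c = g := by
  have hv := (elems_valid h).1
  refine ⟨fun hg => ?_, fun ⟨c, hc, e⟩ => e ▸ (hv c hc).2.2⟩
  rw [elOK, Bool.and_eq_true, allL_iff, forceL_eq, Bool.and_eq_true, memL_iff, allL_iff] at h
  refine cl_ind (fun g => ∃ c ∈ elems gens fuel, H9.pm c = g) ⟨_, h.2.1, H9.pm_idP⟩ ?_ hg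
  rintro a ha _ ⟨c, hc, rfl⟩
  have := (allL_iff _ _).1 (h.2.2 c hc) a ha
  rw [force_eq, memL_iff] at this
  exact ⟨_, this, pm_mulP (h.1 a ha) (hv c hc).1⟩

theorem pm_mem_cl_iff {gens : List ℕ} {fuel : ℕ} (h : elOK gens fuel = true) {c : ℕ}
    (hc : validP c = true) (hc' : c < 2 ^ 120) : H9.pm c ∈ cl gens ↔ c ∈ elems gens fuel := by
  have hv := (elems_valid h).1
  rw [mem_cl_iff h]
  exact ⟨fun ⟨d, hd, e⟩ => code_inj (hv d hd).1 hc (hv d hd).2.1 hc' e ▸ hd, fun h => ⟨c, h, rfl⟩⟩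

theorem card_cl {gens : List ℕ} {fuel : ℕ} (h : elOK gens fuel = true) :
    Nat.card (cl gens) = (elems gens fuel).length := by
  classical
  obtain ⟨hv, hn⟩ := elems_valid h
  have e : (cl gens : Set (Equiv.Perm GolayPt)) = ((elems gens fuel).map H9.pm).toFinset := by
    ext g
    simp only [SetLike.mem_coe, mem_cl_iff h, List.coe_toFinset, List.mem_map, Set.mem_ofPred_eq]
  rw [← SetLike.coe_sort_coe, e, Nat.card_coe_set_eq, Set.ncard_coe_finset,
    List.toFinset_card_of_nodup (hn.map_on fun a ha b hb e =>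
      code_inj (hv a ha).1 (hv b hb).1 (hv a ha).2.1 (hv b hb).2.1 e), List.length_map]

theorem forall_cl {gens : List ℕ} {fuel : ℕ} (h : elOK gens fuel = true) (p : ℕ → Bool)
    (hp : allL (elems gens fuel) p = true) {g : Equiv.Perm GolayPt} (hg : g ∈ cl gens) :
    ∃ c, validP c = true ∧ c < 2 ^ 120 ∧ p c = true ∧ H9.pm c = g := by
  obtain ⟨c, hc, e⟩ := (mem_cl_iff h).1 hg
  have := (elems_valid h).1 c hc
  exact ⟨c, this.1, this.2.1, (allL_iff _ _).1 hp c hc, e⟩

/-- `a` normalises the group generated by `gens`. -/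
def normOK (gens : List ℕ) (fuel : ℕ) (a : ℕ) : Bool :=
  validP a && forceL (elems gens fuel) fun L =>
    allL gens fun n => force (mulP a n) fun y => anyL L fun m => Nat.beq (mulP m a) y

theorem conj_mem_cl {gens : List ℕ} {fuel : ℕ} (h : elOK gens fuel = true) {a : ℕ}
    (ha : normOK gens fuel a = true) :
    ∀ x ∈ cl gens, H9.pm a * x * (H9.pm a)⁻¹ ∈ cl gens := by
  have hv := (elems_valid h).1
  rw [normOK, Bool.and_eq_true, forceL_eq, allL_iff] at ha
  rw [elOK, Bool.and_eq_true, allL_iff] at h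
  intro x hx
  refine cl_ind (fun x => H9.pm a * x * (H9.pm a)⁻¹ ∈ cl gens) (by simp) ?_ hx
  intro n hn g hg
  have := ha.2 n hn
  rw [force_eq, anyL_iff] at this
  obtain ⟨m, hm, e⟩ := this
  have e2 := congrArg H9.pm ((beq_iff _ _).1 e)
  rw [pm_mulP (hv m hm).1 ha.1, pm_mulP ha.1 (h.1 n hn)] at e2
  have : H9.pm a * (H9.pm n * g) * (H9.pm a)⁻¹ = H9.pm m * (H9.pm a * g * (H9.pm a)⁻¹) := by
    rw [← mul_assoc (H9.pm a), ← e2]; simp [mul_assoc]
  rw [this]
  exact mul_mem (hv m hm).2.2 hg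

/-! ### Cayley tables -/

/-- entry `k` of a table with 120-bit entries. -/
def look (tab k : ℕ) : ℕ :=
  Nat.mod (Nat.shiftRight tab (Nat.mul 120 k)) 1329227995784915872903807060280344576

theorem look_lt (tab k : ℕ) : look tab k < 2 ^ 120 := Nat.mod_lt _ (by norm_num)

/-- push the unseen neighbours. -/
def tabPush (mk : ℕ → ℕ → ℕ) (x c : ℕ) (gens : List (ℕ × ℕ)) (k : List ℕ → ℕ → ℕ) :
    List ℕ → ℕ → ℕ :=
  List.rec k (fun g _ r st tab => force (mk g.1 x) fun y =>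
    cond (Nat.beq (look tab y) 0)
      (force (Nat.add tab (Nat.shiftLeft (mulP g.2 c) (Nat.mul 120 y))) fun tab' =>
        r (y :: st) tab') (r st tab)) gens

/-- depth-first construction of the table (not verified, only checked afterwards). -/
def tabGo (mk : ℕ → ℕ → ℕ) (gens : List (ℕ × ℕ)) (fuel : ℕ) : List ℕ → ℕ → ℕ :=
  Nat.rec (fun _ tab => tab) (fun _ r st tab =>
    List.rec tab (fun x st' _ => force (look tab x) fun c => tabPush mk x c gens r st' tab) st) fuel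

/-- the table. -/
def mkTab (mk : ℕ → ℕ → ℕ) (gens : List (ℕ × ℕ)) (fuel k1 : ℕ) : ℕ :=
  tabGo mk gens fuel [k1] (Nat.shiftLeft H9.idP (Nat.mul 120 k1))

/-- the table check. -/
def tabOK (mk : ℕ → ℕ → ℕ) (gens : List (ℕ × ℕ)) (fuel k1 k : ℕ) (V : ℕ → Bool)
    (P : ℕ → ℕ → Bool) : Bool :=
  gens.all (fun g => validP g.2) && force (mkTab mk gens fuel k1) fun tab =>
    force (orbSet mk id (gens.map Prod.fst) fuel k1) fun B =>
      Nat.beq (look tab k1) H9.idP && treeAll (fun n => cond (V n) (tb B n &&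
        force (look tab n) fun c => validP c && P n c &&
          gens.all fun g => Nat.beq (look tab (mk g.1 n)) (mulP g.2 c)) true) k 0

theorem table_hom {T : Type*} [Group T] (enc : T → ℕ) (hinj : Function.Injective enc)
    (V : ℕ → Bool) (k : ℕ) (hV : ∀ t, enc t < 2 ^ k ∧ V (enc t) = true) (b : ℕ → T)
    (mk : ℕ → ℕ → ℕ) (gens : List (ℕ × ℕ))
    (hmk : ∀ g ∈ gens, ∀ t, enc (b g.1 * t) = mk g.1 (enc t)) (fuel : ℕ) (P : ℕ → ℕ → Bool)
    {k1 : ℕ} (hk1 : enc 1 = k1) (hc : tabOK mk gens fuel k1 k V P = true) :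
    Nat.card T = treeCnt V k ∧ ∃ φ : T →* Equiv.Perm GolayPt,
      (∀ t, ∃ c, validP c = true ∧ c < 2 ^ 120 ∧ P (enc t) c = true ∧ φ t = H9.pm c) ∧
      ∀ Q : Equiv.Perm GolayPt → Prop, Q 1 → (∀ g ∈ gens, ∀ x, Q x → Q (H9.pm g.2 * x)) →
        ∀ t, Q (φ t) := by
  subst hk1
  rw [tabOK, Bool.and_eq_true, force_eq, force_eq, Bool.and_eq_true, treeAll_iff, beq_iff,
    List.all_eq_true] at hc
  obtain ⟨hg, h1, hc⟩ := hc
  generalize mkTab mk gens fuel (enc 1) = tab at h1 hc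
  have hc' : ∀ t, tb (orbSet mk id (gens.map Prod.fst) fuel (enc 1)) (enc t) = true ∧
      validP (look tab (enc t)) = true ∧ P (enc t) (look tab (enc t)) = true ∧
      ∀ g ∈ gens, look tab (mk g.1 (enc t)) = mulP g.2 (look tab (enc t)) := by
    intro t
    have := hc _ (hV t).1
    simp only [(hV t).2, cond_true, force_eq, Bool.and_eq_true, List.all_eq_true, beq_iff] at this
    exact ⟨this.1, this.2.1.1, this.2.1.2, this.2.2⟩
  have hind : ∀ Q : T → Prop, Q 1 → (∀ g ∈ gens, ∀ t, Q t → Q (b g.1 * t)) → ∀ n,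
      tb (orbSet mk id (gens.map Prod.fst) fuel (enc 1)) n = true → ∃ t, Q t ∧ enc t = n := by
    intro Q q1 q2 n hn
    rw [tb_eq] at hn
    obtain ⟨y, hy, rfl⟩ := orbSet_sound mk id _ fuel (enc 1) (fun n => ∃ t, Q t ∧ enc t = n)
      ⟨1, q1, rfl⟩ (by
        rintro i hi _ ⟨t, ht, rfl⟩
        obtain ⟨g, hg, rfl⟩ := List.mem_map.1 hi
        exact ⟨_, q2 g hg t ht, hmk g hg t⟩) n hn
    exact hy
  have hind' : ∀ Q : T → Prop, Q 1 → (∀ g ∈ gens, ∀ t, Q t → Q (b g.1 * t)) → ∀ t, Q t := by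
    intro Q q1 q2 t
    obtain ⟨t', h, e⟩ := hind Q q1 q2 _ (hc' t).1
    exact hinj e ▸ h
  have hF : ∀ g ∈ gens, ∀ t, H9.pm (look tab (enc (b g.1 * t))) =
      H9.pm g.2 * H9.pm (look tab (enc t)) := fun g h t => by
    rw [hmk g h, (hc' t).2.2.2 g h, pm_mulP (hg g h) (hc' t).2.1]
  have hF1 : H9.pm (look tab (enc 1)) = 1 := by rw [h1, H9.pm_idP]
  constructor
  · rw [treeCnt_eq, ← Set.ncard_coe_finset, ← Set.ncard_range_of_injective hinj]
    congr 1
    ext n
    simp only [Set.mem_range, coe_filter, mem_range, Set.mem_ofPred_eq]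
    refine ⟨fun ⟨t, e⟩ => e ▸ hV t, fun ⟨h2, h3⟩ => ?_⟩
    have := hc n h2
    simp only [h3, cond_true, Bool.and_eq_true] at this
    obtain ⟨t, _, e⟩ := hind (fun _ => True) trivial (fun _ _ _ _ => trivial) n this.1
    exact ⟨t, e⟩
  · refine ⟨MonoidHom.mk' (fun t => H9.pm (look tab (enc t))) ?_, fun t =>
      ⟨_, (hc' t).2.1, look_lt _ _, (hc' t).2.2.1, rfl⟩, fun Q q1 q2 => ?_⟩
    · refine hind' _ (fun y => by rw [one_mul, hF1, one_mul]) fun g h t ih y => ?_
      rw [mul_assoc, hF g h, hF g h, ih, mul_assoc]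
    · refine hind' _ (by simpa [hF1] using q1) fun g h t ih => ?_
      simp only [MonoidHom.mk'_apply] at ih ⊢
      rw [hF g h]
      exact q2 g h _ ih

end H28
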