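import Mathlib
import Cfsg.Agent.H28.Table

/-! Encodings of small groups by natural numbers, for Cayley tables. -/

set_option autoImplicit false

namespace H28

open Cfsg Finset H9 Matrix

/-- conclusion of `table_hom` for two generators. -/
def TabHom (T : Type) [Group T] (enc : T → ℕ) (a0 a1 : ℕ) (P : ℕ → ℕ → Bool) : Prop :=
  ∃ φ : T →* Equiv.Perm GolayPt,
    (∀ t, ∃ c, validP c = true ∧ c < 2 ^ 120 ∧ P (enc t) c = true ∧ φ t = H9.pm c) ∧
    ∀ Q : Equiv.Perm GolayPt → Prop, Q 1 → (∀ x, Q x → Q (H9.pm a0 * x)) →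
      (∀ x, Q x → Q (H9.pm a1 * x)) → ∀ t, Q (φ t)

theorem tabHom_of {T : Type} [Group T] (enc : T → ℕ) (hinj : Function.Injective enc)
    (V : ℕ → Bool) (k : ℕ) (hV : ∀ t, enc t < 2 ^ k ∧ V (enc t) = true) (b0 b1 : T)
    (mk : ℕ → ℕ → ℕ) (h0 : ∀ t, enc (b0 * t) = mk 0 (enc t)) (h1 : ∀ t, enc (b1 * t) = mk 1 (enc t))
    (fuel : ℕ) {k1 : ℕ} (hk1 : enc 1 = k1) {a0 a1 : ℕ} {P : ℕ → ℕ → Bool}
    (hc : tabOK mk [(0, a0), (1, a1)] fuel k1 k V P = true) :
    Nat.card T = treeCnt V k ∧ TabHom T enc a0 a1 P := by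
  obtain ⟨h, φ, h2, h3⟩ := table_hom enc hinj V k hV (fun i => if i = 0 then b0 else b1) mk _
    (by simpa using ⟨h0, h1⟩) fuel P hk1 hc
  exact ⟨h, φ, h2, fun Q q1 q2 q3 => h3 Q q1 (by simpa using ⟨q2, q3⟩)⟩

/-- the entry is not in `L` unless the key is `k1`. -/
def avoidP (L : List ℕ) (k1 n c : ℕ) : Bool := Nat.beq n k1 || !memL L c

theorem TabHom.equiv {T : Type} [Group T] {enc : T → ℕ} (hinj : Function.Injective enc)
    {a0 a1 : ℕ} (h : TabHom T enc a0 a1 (avoidP [H9.idP] (enc 1)))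
    (K : Subgroup (Equiv.Perm GolayPt)) (h0 : H9.pm a0 ∈ K) (h1 : H9.pm a1 ∈ K)
    (hc : Nat.card K = Nat.card T) : Nonempty (K ≃* T) := by
  obtain ⟨φ, h2, h3⟩ := h
  refine equiv_of_inj K φ (h3 _ K.one_mem (fun x => K.mul_mem h0) (fun x => K.mul_mem h1))
    (fun t ht => ?_) hc
  obtain ⟨c, c1, c2, c3, e⟩ := h2 t
  rw [e, ← H9.pm_idP] at ht
  rw [code_inj c1 validP_idP c2 idP_lt ht, avoidP, memL_iff.2 (List.mem_singleton_self _)] at c3
  exact hinj (by simpa [beq_iff] using c3)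

theorem TabHom.quot {T : Type} [Group T] {enc : T → ℕ} (hinj : Function.Injective enc)
    {a0 a1 : ℕ} {gens : List ℕ} {fuel : ℕ} (hN : elOK gens fuel = true)
    (h : TabHom T enc a0 a1 (avoidP (elems gens fuel) (enc 1)))
    (K : Subgroup (Equiv.Perm GolayPt)) (h0 : H9.pm a0 ∈ K) (h1 : H9.pm a1 ∈ K)
    (hNK : cl gens ≤ K) (n0 : normOK gens fuel a0 = true) (n1 : normOK gens fuel a1 = true)
    (hc : Nat.card K = Nat.card (cl gens) * Nat.card T) :
    ∃ _ : ((cl gens).subgroupOf K).Normal, Nonempty (K ⧸ (cl gens).subgroupOf K ≃* T) := by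
  obtain ⟨φ, h2, h3⟩ := h
  refine quot_equiv_of_compl K _ φ hNK
    (h3 _ K.one_mem (fun x => K.mul_mem h0) (fun x => K.mul_mem h1))
    (h3 (fun g => ∀ x ∈ cl gens, g * x * g⁻¹ ∈ cl gens) (by simp)
      (fun g hg x hx => by simpa [mul_assoc] using conj_mem_cl hN n0 _ (hg x hx))
      (fun g hg x hx => by simpa [mul_assoc] using conj_mem_cl hN n1 _ (hg x hx)))
    (fun t ht => ?_) hc
  obtain ⟨c, c1, c2, c3, e⟩ := h2 t
  rw [e, pm_mem_cl_iff hN c1 c2] at ht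
  rw [avoidP, memL_iff.2 ht] at c3
  exact hinj (by simpa [beq_iff] using c3)

/-! ### `GL(2, 3)` -/

/-- key of four residues. -/
def key4 (p : ℕ) (a b c d : ZMod p) : ℕ := a.val + p * b.val + p ^ 2 * c.val + p ^ 3 * d.val

theorem key4_inj {p : ℕ} [NeZero p] {a b c d a' b' c' d' : ZMod p}
    (h : key4 p a b c d = key4 p a' b' c' d') : a = a' ∧ b = b' ∧ c = c' ∧ d = d' := by
  have e : ∀ a b c d : ZMod p, key4 p a b c d = a.val + p * (b.val + p * (c.val + p * d.val)) := by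
    intros; rw [key4]; ring
  have k : ∀ (a a' : ZMod p) (x y : ℕ), a.val + p * x = a'.val + p * y → a = a' ∧ x = y := by
    intro a a' x y h
    have h1 := congrArg (· % p) h
    simp only [Nat.add_mul_mod_self_left, Nat.mod_eq_of_lt (ZMod.val_lt _)] at h1
    rw [h1, add_right_inj] at h
    exact ⟨ZMod.val_injective p h1, Nat.eq_of_mul_eq_mul_left (NeZero.pos p) h⟩
  rw [e, e] at h
  obtain ⟨h1, h⟩ := k _ _ _ _ h
  obtain ⟨h2, h⟩ := k _ _ _ _ h
  obtain ⟨h3, h⟩ := k _ _ _ _ h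
  exact ⟨h1, h2, h3, ZMod.val_injective p h⟩

/-- digit `i` in base `p`. -/
def dg (p n i : ℕ) : ℕ := Nat.mod (Nat.div n (Nat.pow p i)) p

/-- key of a matrix. -/
def encGL23 (t : GL (Fin 2) (ZMod 3)) : ℕ := key4 3 (t 0 0) (t 0 1) (t 1 0) (t 1 1)

theorem encGL23_inj : Function.Injective encGL23 := fun s t h => by
  obtain ⟨h1, h2, h3, h4⟩ := key4_inj h
  ext i j
  fin_cases i <;> fin_cases j <;> assumption

/-- row operations on keys. -/
def mkGL23 (i n : ℕ) : ℕ := cond (Nat.beq i 0)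
  ((dg 3 n 0 + dg 3 n 2) % 3 + 3 * ((dg 3 n 1 + dg 3 n 3) % 3) + 9 * dg 3 n 2 + 27 * dg 3 n 3)
  (dg 3 n 2 + 3 * dg 3 n 3 + 9 * dg 3 n 0 + 27 * dg 3 n 1)

/-- valid keys. -/
def VGL23 (n : ℕ) : Bool :=
  Nat.ble n 80 && !Nat.beq ((dg 3 n 0 * dg 3 n 3 + 2 * dg 3 n 1 * dg 3 n 2) % 3) 0

theorem gl23_hom {a0 a1 : ℕ} {P : ℕ → ℕ → Bool}
    (hc : tabOK mkGL23 [(0, a0), (1, a1)] 48 28 7 VGL23 P = true) :
    Nat.card (GL (Fin 2) (ZMod 3)) = 48 ∧ TabHom _ encGL23 a0 a1 P := by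
  have h := tabHom_of encGL23 encGL23_inj VGL23 7 (fun t => by
      have h : ∀ a b c d : ZMod 3, a * d - b * c ≠ 0 →
        key4 3 a b c d < 2 ^ 7 ∧ VGL23 (key4 3 a b c d) = true := by decide +kernel
      refine h _ _ _ _ ?_
      rw [← det_fin_two]
      exact t.det_ne_zero)
    ⟨!![1, 1; 0, 1], !![1, 2; 0, 1], by decide, by decide⟩
    ⟨!![0, 1; 1, 0], !![0, 1; 1, 0], by decide, by decide⟩ mkGL23
    (fun t => by
      have h : ∀ a b c d : ZMod 3, key4 3 (a + c) (b + d) c d = mkGL23 0 (key4 3 a b c d) := by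
        decide +kernel
      simp [encGL23, ← h, mul_apply, Fin.sum_univ_two])
    (fun t => by
      have h : ∀ a b c d : ZMod 3, key4 3 c d a b = mkGL23 1 (key4 3 a b c d) := by
        decide +kernel
      simp [encGL23, ← h, mul_apply, Fin.sum_univ_two]) 48 (by decide) hc
  exact ⟨h.1.trans (by decide +kernel), h.2⟩

theorem encGL23_one : encGL23 1 = 28 := by decide

/-! ### `SL(2, 11)` -/

/-- key of a matrix. -/
def encSL11 (t : SpecialLinearGroup (Fin 2) (ZMod 11)) : ℕ :=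
  key4 11 (t 0 0) (t 0 1) (t 1 0) (t 1 1)

theorem encSL11_inj : Function.Injective encSL11 := fun s t h => by
  obtain ⟨h1, h2, h3, h4⟩ := key4_inj h
  ext i j
  fin_cases i <;> fin_cases j <;> assumption

/-- row operations on keys. -/
def mkSL11 (i n : ℕ) : ℕ := cond (Nat.beq i 0)
  ((dg 11 n 0 + dg 11 n 2) % 11 + 11 * ((dg 11 n 1 + dg 11 n 3) % 11) + 121 * dg 11 n 2 +
    1331 * dg 11 n 3)
  ((11 - dg 11 n 2) % 11 + 11 * ((11 - dg 11 n 3) % 11) + 121 * dg 11 n 0 + 1331 * dg 11 n 1)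

/-- valid keys. -/
def VSL11 (n : ℕ) : Bool :=
  Nat.ble n 14640 && Nat.beq ((dg 11 n 0 * dg 11 n 3 + 10 * dg 11 n 1 * dg 11 n 2) % 11) 1

/-- a transvection. -/
def slU : SpecialLinearGroup (Fin 2) (ZMod 11) := ⟨!![1, 1; 0, 1], by decide⟩

/-- the Weyl element. -/
def slW : SpecialLinearGroup (Fin 2) (ZMod 11) := ⟨!![0, -1; 1, 0], by decide⟩

theorem sl11_hom {a0 a1 : ℕ} {P : ℕ → ℕ → Bool}
    (hc : tabOK mkSL11 [(0, a0), (1, a1)] 1320 1332 14 VSL11 P = true) :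
    Nat.card (SpecialLinearGroup (Fin 2) (ZMod 11)) = 1320 ∧ TabHom _ encSL11 a0 a1 P := by
  have h := tabHom_of encSL11 encSL11_inj VSL11 14 (fun t => by
      have h : ∀ a b c d : ZMod 11, a * d - b * c = 1 →
        key4 11 a b c d < 2 ^ 14 ∧ VSL11 (key4 11 a b c d) = true := by decide +kernel
      refine h _ _ _ _ ?_
      rw [← det_fin_two]
      exact t.det_coe)
    slU slW mkSL11
    (fun t => by
      have h : ∀ a b c d : ZMod 11, key4 11 (a + c) (b + d) c d = mkSL11 0 (key4 11 a b c d) := by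
        decide +kernel
      have e : ∀ i j, (slU * t) i j = ((!![1, 1; 0, 1] : Matrix (Fin 2) (Fin 2) (ZMod 11)) * t.1) i j :=
        fun _ _ => rfl
      simp only [encSL11]
      rw [← h, e, e, e, e]
      simp [mul_apply, Fin.sum_univ_two])
    (fun t => by
      have h : ∀ a b c d : ZMod 11, key4 11 (-c) (-d) a b = mkSL11 1 (key4 11 a b c d) := by
        decide +kernel
      have e : ∀ i j, (slW * t) i j = ((!![0, -1; 1, 0] : Matrix (Fin 2) (Fin 2) (ZMod 11)) * t.1) i j :=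
        fun _ _ => rfl
      simp only [encSL11]
      rw [← h, e, e, e, e]
      simp [mul_apply, Fin.sum_univ_two]) 1320 (by decide) hc
  exact ⟨h.1.trans (by decide +kernel), h.2⟩

/-! ### `S₅` -/

/-- key of a permutation. -/
def encS5 (t : Equiv.Perm (Fin 5)) : ℕ := key4 5 (t 0) (t 1) (t 2) (t 3) + 625 * (t 4).val

theorem encS5_inj : Function.Injective encS5 := fun s t h => by
  have h1 : ∀ a b c d : ZMod 5, key4 5 a b c d < 625 := by decide +kernel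
  have h2 := h1 (s 0) (s 1) (s 2) (s 3)
  have h3 := h1 (t 0) (t 1) (t 2) (t 3)
  rw [encS5, encS5] at h
  have h4 : (s 4).val = (t 4).val := by omega
  rw [h4, add_left_inj] at h
  obtain ⟨h1, h2, h3, h5⟩ := key4_inj h
  ext1 i
  fin_cases i
  exacts [h1, h2, h3, h5, Fin.ext h4]

/-- apply `f` to the five digits. -/
def map5 (f : ℕ → ℕ) (n : ℕ) : ℕ :=
  f (dg 5 n 0) + 5 * f (dg 5 n 1) + 25 * f (dg 5 n 2) + 125 * f (dg 5 n 3) + 625 * f (dg 5 n 4)

/-- left multiplication on keys. -/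
def mkS5 (i n : ℕ) : ℕ := cond (Nat.beq i 0)
  (map5 (fun x => cond (Nat.ble x 1) (1 - x) x) n) (map5 (fun x => (x + 1) % 5) n)

/-- valid keys. -/
def VS5 (n : ℕ) : Bool :=
  Nat.ble n 3124 && Nat.beq (orLt 5 fun i => Nat.shiftLeft 1 (dg 5 n i)) 31

theorem s5_hom {a0 a1 : ℕ} {P : ℕ → ℕ → Bool}
    (hc : tabOK mkS5 [(0, a0), (1, a1)] 120 2930 12 VS5 P = true) :
    TabHom _ encS5 a0 a1 P :=
  (tabHom_of encS5 encS5_inj VS5 12 (fun t => by
      have h : ∀ a b c d e : Fin 5, [a, b, c, d, e].Nodup →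
        key4 5 a b c d + 625 * e.val < 2 ^ 12 ∧ VS5 (key4 5 a b c d + 625 * e.val) = true := by
        decide +kernel
      refine h _ _ _ _ _ ?_
      simp)
    (Equiv.swap 0 1) (finRotate 5) mkS5
    (fun t => by
      have h : ∀ a b c d e : Fin 5, key4 5 (Equiv.swap 0 1 a) (Equiv.swap 0 1 b) (Equiv.swap 0 1 c)
          (Equiv.swap 0 1 d) + 625 * (Equiv.swap 0 1 e).val =
          mkS5 0 (key4 5 a b c d + 625 * e.val) := by
        decide +kernel
      exact h _ _ _ _ _)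
    (fun t => by
      have h : ∀ a b c d e : Fin 5, key4 5 (finRotate 5 a) (finRotate 5 b) (finRotate 5 c)
          (finRotate 5 d) + 625 * (finRotate 5 e).val =
          mkS5 1 (key4 5 a b c d + 625 * e.val) := by
        decide +kernel
      exact h _ _ _ _ _) 120 (by decide) hc).2

theorem encS5_one : encS5 1 = 2930 := by decide

/-! ### `GL(3, 2) × S₃` -/

/-- key of a row. -/
def key3 (p : ℕ) (a b c : ZMod p) : ℕ := a.val + p * b.val + p ^ 2 * c.val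

theorem key3_inj {p : ℕ} [NeZero p] {a b c a' b' c' : ZMod p}
    (h : key3 p a b c = key3 p a' b' c') : a = a' ∧ b = b' ∧ c = c' := by
  have := key4_inj (p := p) (a := a) (b := b) (c := c) (d := 0) (a' := a') (b' := b') (c' := c')
    (d' := 0) (by simpa [key4, key3] using h)
  exact ⟨this.1, this.2.1, this.2.2.1⟩

/-- key of a pair. -/
def encT (t : GL (Fin 3) (ZMod 2) × Equiv.Perm (Fin 3)) : ℕ :=
  key3 2 (t.1 0 0) (t.1 0 1) (t.1 0 2) + 8 * key3 2 (t.1 1 0) (t.1 1 1) (t.1 1 2) +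
    64 * key3 2 (t.1 2 0) (t.1 2 1) (t.1 2 2) + 512 * key3 3 (t.2 0) (t.2 1) (t.2 2)

theorem encT_inj : Function.Injective encT := fun s t h => by
  have h1 : ∀ a b c : ZMod 2, key3 2 a b c < 8 := by decide
  rw [encT, encT] at h
  have a0 := h1 (s.1 0 0) (s.1 0 1) (s.1 0 2)
  have a1 := h1 (s.1 1 0) (s.1 1 1) (s.1 1 2)
  have a2 := h1 (s.1 2 0) (s.1 2 1) (s.1 2 2)
  have b0 := h1 (t.1 0 0) (t.1 0 1) (t.1 0 2)
  have b1 := h1 (t.1 1 0) (t.1 1 1) (t.1 1 2)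
  have b2 := h1 (t.1 2 0) (t.1 2 1) (t.1 2 2)
  obtain ⟨c0, c1, c2⟩ := key3_inj (show key3 2 (s.1 0 0) (s.1 0 1) (s.1 0 2) =
    key3 2 (t.1 0 0) (t.1 0 1) (t.1 0 2) by omega)
  obtain ⟨c3, c4, c5⟩ := key3_inj (show key3 2 (s.1 1 0) (s.1 1 1) (s.1 1 2) =
    key3 2 (t.1 1 0) (t.1 1 1) (t.1 1 2) by omega)
  obtain ⟨c6, c7, c8⟩ := key3_inj (show key3 2 (s.1 2 0) (s.1 2 1) (s.1 2 2) =
    key3 2 (t.1 2 0) (t.1 2 1) (t.1 2 2) by omega)
  obtain ⟨d0, d1, d2⟩ := key3_inj (show key3 3 (s.2 0) (s.2 1) (s.2 2) =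
    key3 3 (t.2 0) (t.2 1) (t.2 2) by omega)
  ext i j
  · fin_cases i <;> fin_cases j <;> assumption
  · fin_cases i
    exacts [congrArg Fin.val d0, congrArg Fin.val d1, congrArg Fin.val d2]

/-- apply `f` to three digits. -/
def map3 (f : ℕ → ℕ) (n : ℕ) : ℕ := f (dg 3 n 0) + 3 * f (dg 3 n 1) + 9 * f (dg 3 n 2)

/-- left multiplication on keys. -/
def mkT (i n : ℕ) : ℕ := cond (Nat.beq i 0)
  (Nat.xor (dg 8 n 0) (dg 8 n 1) + 8 * dg 8 n 1 + 64 * dg 8 n 2 +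
    512 * map3 (fun x => cond (Nat.ble x 1) (1 - x) x) (n / 512))
  (dg 8 n 2 + 8 * dg 8 n 0 + 64 * dg 8 n 1 + 512 * map3 (fun x => (x + 1) % 3) (n / 512))

/-- valid keys. -/
def VT (n : ℕ) : Bool :=
  Nat.ble n 13823 && Nat.beq (orLt 3 fun i => Nat.shiftLeft 1 (dg 3 (n / 512) i)) 7 &&
    allLt 7 fun m => !Nat.beq (lin [dg 8 n 0, dg 8 n 1, dg 8 n 2] (m + 1)) 0

theorem glT_hom {a0 a1 : ℕ} {P : ℕ → ℕ → Bool}
    (hc : tabOK mkT [(0, a0), (1, a1)] 1008 11025 14 VT P = true) :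
    Nat.card (GL (Fin 3) (ZMod 2) × Equiv.Perm (Fin 3)) = 1008 ∧ TabHom _ encT a0 a1 P := by
  have h := tabHom_of encT encT_inj VT 14 (fun t => by
      have h : ∀ a b c d e f g h i : ZMod 2,
        a * e * i - a * f * h - b * d * i + b * f * g + c * d * h - c * e * g ≠ 0 →
        ∀ x y z : Fin 3, [x, y, z].Nodup →
        key3 2 a b c + 8 * key3 2 d e f + 64 * key3 2 g h i + 512 * key3 3 x y z < 2 ^ 14 ∧
        VT (key3 2 a b c + 8 * key3 2 d e f + 64 * key3 2 g h i + 512 * key3 3 x y z) = true := by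
        decide +kernel
      refine h _ _ _ _ _ _ _ _ _ ?_ _ _ _ (by simp)
      rw [← det_fin_three]
      exact t.1.det_ne_zero)
    (⟨!![1, 1, 0; 0, 1, 0; 0, 0, 1], !![1, 1, 0; 0, 1, 0; 0, 0, 1], by decide, by decide⟩,
      Equiv.swap 0 1)
    (⟨!![0, 0, 1; 1, 0, 0; 0, 1, 0], !![0, 1, 0; 0, 0, 1; 1, 0, 0], by decide, by decide⟩,
      finRotate 3) mkT
    (fun t => by
      have h : ∀ a b c d e f g h i : ZMod 2, ∀ x y z : Fin 3,
          key3 2 (a + d) (b + e) (c + f) + 8 * key3 2 d e f + 64 * key3 2 g h i +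
            512 * key3 3 (Equiv.swap 0 1 x) (Equiv.swap 0 1 y) (Equiv.swap 0 1 z) =
          mkT 0 (key3 2 a b c + 8 * key3 2 d e f + 64 * key3 2 g h i + 512 * key3 3 x y z) := by
        decide +kernel
      simp [encT, ← h, mul_apply, Fin.sum_univ_three]
      rfl)
    (fun t => by
      have h : ∀ a b c d e f g h i : ZMod 2, ∀ x y z : Fin 3,
          key3 2 g h i + 8 * key3 2 a b c + 64 * key3 2 d e f +
            512 * key3 3 (finRotate 3 x) (finRotate 3 y) (finRotate 3 z) =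
          mkT 1 (key3 2 a b c + 8 * key3 2 d e f + 64 * key3 2 g h i + 512 * key3 3 x y z) := by
        decide +kernel
      simp [encT, ← h, mul_apply, Fin.sum_univ_three]) 1008 (by decide) hc
  exact ⟨h.1.trans (by decide +kernel), h.2⟩

theorem encT_one : encT 1 = 11025 := by decide

end H28
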