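import Mathlib
import Cfsg.Agent.H9.PermLemmas

/-! Small abstract group lemmas: conjugating `p`-subgroups, fixed points, orbit bounds. -/

set_option autoImplicit false

namespace H28

open MulAction
open scoped Pointwise

/-- a `p`-subgroup is conjugate into any subgroup of index prime to `p`. -/
theorem exists_conj_le {G : Type*} [Group G] {p : ℕ} [Fact p.Prime] (P H : Subgroup G)
    (hP : IsPGroup p P) (hH : ¬ p ∣ H.index) : ∃ g : G, ∀ x ∈ P, g⁻¹ * x * g ∈ H := by
  obtain ⟨q, hq⟩ := hP.nonempty_fixed_point_of_prime_not_dvd_card (G ⧸ H) hH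
  obtain ⟨g, rfl⟩ := QuotientGroup.mk_surjective q
  refine ⟨g, fun x hx => ?_⟩
  have h : ((x * g : G) : G ⧸ H) = g := hq ⟨x, hx⟩
  have := QuotientGroup.eq.1 h.symm
  rwa [← mul_assoc] at this

theorem exists_conj_le' {Γ : Type*} [Group Γ] [Finite Γ] {p : ℕ} (hp : p.Prime)
    {G P H : Subgroup Γ} (hPG : P ≤ G) (hHG : H ≤ G) (hP : IsPGroup p P) {n : ℕ}
    (hc : Nat.card G = n * Nat.card H) (hn : ¬ p ∣ n) :
    ∃ g ∈ G, ∀ x ∈ P, g⁻¹ * x * g ∈ H := by
  have := Fact.mk hp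
  have h1 : (H.subgroupOf G).index = n := by
    have h := (H.subgroupOf G).index_mul_card
    rw [Nat.card_congr (Subgroup.subgroupOfEquivOfLe hHG).toEquiv, hc] at h
    exact Nat.eq_of_mul_eq_mul_right Nat.card_pos h
  obtain ⟨g, hg⟩ := exists_conj_le (P.subgroupOf G) (H.subgroupOf G) hP.comap_subtype (h1 ▸ hn)
  exact ⟨g, g.2, fun x hx => hg ⟨x, hPG hx⟩ hx⟩

theorem isPGroup_zpowers {Γ : Type*} [Group Γ] {p : ℕ} {x : Γ} {k : ℕ} (hx : x ^ p ^ k = 1) :
    IsPGroup p (Subgroup.zpowers x) := by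
  intro y
  obtain ⟨n, hn⟩ := Subgroup.mem_zpowers_iff.1 y.2
  refine ⟨k, Subtype.ext ?_⟩
  rw [Subgroup.coe_pow, ← hn, ← zpow_natCast, ← zpow_mul, mul_comm, zpow_mul, zpow_natCast, hx,
    one_zpow, Subgroup.coe_one]

theorem card_le_of_orbit {Γ X : Type*} [Group Γ] [MulAction Γ X] (G : Subgroup Γ) (x : X)
    (s : Finset X) (h : ∀ g ∈ G, g • x ∈ s) :
    Nat.card G ≤ s.card * Nat.card ↥(G ⊓ stabilizer Γ x) := by
  rw [H9.card_eq_orbit_mul G x, ← Set.ncard_coe_finset]
  refine Nat.mul_le_mul_right _ (Set.ncard_le_ncard ?_ s.finite_toSet)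
  rintro _ ⟨g, hg, rfl⟩
  exact h g hg

theorem equiv_of_inj_le {Γ T : Type*} [Group Γ] [Finite Γ] [Group T] (K : Subgroup Γ)
    (φ : T →* Γ) (hφ : ∀ t, φ t ∈ K) (hi : ∀ t, φ t = 1 → t = 1)
    (hc : Nat.card K ≤ Nat.card T) : Nonempty (K ≃* T) := by
  have hf : Function.Injective (φ.codRestrict K hφ) := by
    rw [injective_iff_map_eq_one]
    intro t ht
    exact hi t (congrArg Subtype.val ht)
  exact ⟨(MulEquiv.ofBijective _ (hf.bijective_of_nat_card_le hc)).symm⟩

theorem centralizer_equiv {A B : Type*} [Group A] [Group B] (e : A ≃* B) (x : A) :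
    Nonempty (Subgroup.centralizer ({x} : Set A) ≃* Subgroup.centralizer ({e x} : Set B)) := by
  refine ⟨(e.subgroupMap _).trans (MulEquiv.subgroupCongr ?_)⟩
  ext y
  obtain ⟨y, rfl⟩ := e.surjective y
  refine (Subgroup.mem_map_equiv (f := e)).trans ?_
  simp only [MulEquiv.symm_apply_apply, Subgroup.mem_centralizer_singleton_iff, ← map_mul,
    e.injective.eq_iff]

/-- congruence for the fixed points of a `p`-element on an invariant finite set. -/
theorem card_modEq_fixed {Γ X : Type*} [Group Γ] [MulAction Γ X] {p : ℕ} (hp : p.Prime) {g : Γ}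
    {k : ℕ} (hg : g ^ p ^ k = 1) (s : Set X) (hf : s.Finite) (hs : ∀ x ∈ s, g • x ∈ s) :
    s.ncard ≡ {x | x ∈ s ∧ g • x = x}.ncard [MOD p] := by
  classical
  have := Fact.mk hp
  have := hf.fintype
  let f : Function.End s := fun x => ⟨g • x.1, hs x x.2⟩
  have h1 : ∀ n : ℕ, ∀ x : s, ((f ^ n) x).1 = g ^ n • x.1 := by
    intro n
    induction n with
    | zero => intro x; simp; rfl
    | succ n ih =>
      intro x
      rw [pow_succ', pow_succ', mul_smul, ← ih]
      rfl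
  have h2 : f ^ p ^ k = 1 := by
    funext x
    apply Subtype.ext
    rw [h1, hg, one_smul]
    rfl
  have h3 := Equiv.Perm.card_fixedPoints_modEq h2
  rw [← Nat.card_eq_fintype_card, ← Nat.card_eq_fintype_card, Nat.card_coe_set_eq,
    Nat.card_coe_set_eq, ← Set.ncard_image_of_injective _ Subtype.val_injective] at h3
  convert h3 using 2
  ext x
  simp only [Set.mem_ofPred_eq, Set.mem_image]
  constructor
  · rintro ⟨h, e⟩
    exact ⟨⟨x, h⟩, Subtype.ext e, rfl⟩
  · rintro ⟨y, e, rfl⟩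
    exact ⟨y.2, congrArg Subtype.val e⟩

theorem eq_of_le_of_card_le {Γ : Type*} [Group Γ] [Finite Γ] {H K : Subgroup Γ} (h : H ≤ K)
    (hc : Nat.card K ≤ Nat.card H) : H = K :=
  Subgroup.eq_of_le_of_card_ge h hc

end H28
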