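import Mathlib
import Cfsg.Agent.H28.Quartet

/-! Orbits of a quartet stabiliser on the quartets of its dodecad. -/

set_option autoImplicit false

namespace H28

open Cfsg Finset H9
open scoped symmDiff Pointwise

/-- fourth-power intersection invariant. -/
def cl4 (S X : Finset (Finset GolayPt)) : ℕ := ∑ a ∈ S, ∑ b ∈ X, (a ∩ b).card ^ 4

theorem cl4_smul (g : Equiv.Perm GolayPt) (S X : Finset (Finset GolayPt)) :
    cl4 (g • S) (g • X) = cl4 S X := by
  simp only [cl4, sum_smul_fam, card_inter_smul]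

/-- `cl4` on mask lists. -/
def cl4L (L L' : List ℕ) : ℕ := (L.map fun a => (L'.map fun b => pc (Nat.land a b) ^ 4).sum).sum

theorem cl4_famL {L L' : List ℕ} (h1 : ∀ m ∈ L, m < 2 ^ 24) (h2 : L.Nodup)
    (h1' : ∀ m ∈ L', m < 2 ^ 24) (h2' : L'.Nodup) : cl4 (famL L) (famL L') = cl4L L L' := by
  rw [cl4, sum_famL h1 h2]
  simp only [sum_famL h1' h2', card_inter_mask, cl4L]

theorem cl4_QL {i : ℕ} (hi : i < QL.length) :
    cl4 (famL Q0L) (famL (QL.getD i [])) = cl4L Q0L (QL.getD i []) := by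
  rw [List.getD_eq_getElem _ _ hi]
  obtain ⟨_, h2, _, h4⟩ := QL_ok _ (List.getElem_mem hi)
  exact cl4_famL (by decide) (by decide) h4 h2

/-- generators of the stabiliser of the standard quartet. -/
def gQ : List ℕ := [321463131140878978495652364297969860, 304343231724423757625299716181002241]

theorem gQ_ok : okSG [340831] [Q0L] gQ = true := by decide +kernel

theorem q_root {X : Finset (Finset GolayPt)} (hX : X ∈ quartets (ofMask 340831)) :
    ∃ r ∈ [0, 1, 4, 6, 7], ∃ g ∈ SG [340831] [Q0L], g • famL (QL.getD r []) = X := by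
  obtain ⟨i, hi, rfl⟩ := QL_complete hX
  refine fam_orbits QL 4 (fun i hi => (QL_mem hi).1) _ gQ (okSG_spec gQ_ok) 300 _ i hi ?_
  have h : (force (orbU (actF QL 220) id gQ 300 [0, 1, 4, 6, 7]) fun B => allLt 220 (tb B)) = true := by
    decide +kernel
  rw [force_eq, allLt_iff] at h
  rw [QL_length] at hi ⊢
  exact h i hi

theorem cl4_SG {g : Equiv.Perm GolayPt} (hg : g ∈ SG [340831] [Q0L])
    (X : Finset (Finset GolayPt)) : cl4 (famL Q0L) (g • X) = cl4 (famL Q0L) X := by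
  conv_lhs => rw [← hg.2.2 Q0L (by simp)]
  exact cl4_smul _ _ _

theorem q_cl : cl4 (famL Q0L) (famL (QL.getD 0 [])) = 324 ∧
    cl4 (famL Q0L) (famL (QL.getD 1 [])) = 90 ∧ cl4 (famL Q0L) (famL (QL.getD 4 [])) = 54 ∧
    cl4 (famL Q0L) (famL (QL.getD 6 [])) = 68 ∧ cl4 (famL Q0L) (famL (QL.getD 7 [])) = 26 := by
  rw [cl4_QL (by rw [QL_length]; norm_num), cl4_QL (by rw [QL_length]; norm_num),
    cl4_QL (by rw [QL_length]; norm_num), cl4_QL (by rw [QL_length]; norm_num),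
    cl4_QL (by rw [QL_length]; norm_num)]
  decide +kernel

theorem q_distinct : ∀ r ∈ [0, 1, 4, 6, 7], ∀ r' ∈ [0, 1, 4, 6, 7],
    cl4 (famL Q0L) (famL (QL.getD r [])) = cl4 (famL Q0L) (famL (QL.getD r' [])) → r = r' := by
  obtain ⟨h0, h1, h2, h3, h4⟩ := q_cl
  simp only [List.mem_cons, List.not_mem_nil, or_false, forall_eq_or_imp, forall_eq, h0, h1,
    h2, h3, h4]
  decide

/-- joint transport to the standard pair. -/
theorem T_quartet' {d : Finset GolayPt} (hd : d ∈ dodecads) {Q : Finset (Finset GolayPt)}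
    (hQ : Q ∈ quartets d) : ∃ g ∈ M24, d = g • ofMask 340831 ∧ Q = g • famL Q0L := by
  obtain ⟨g, hg, h1, h2⟩ := T_quartet hd hQ
  exact ⟨g, hg, h1.symm, h2.symm⟩

theorem quartet_orbits {d : Finset GolayPt} (hd : d ∈ dodecads) {S X Y : Finset (Finset GolayPt)}
    (hS : S ∈ quartets d) (hX : X ∈ quartets d) (hY : Y ∈ quartets d) (h : cl4 S X = cl4 S Y) :
    ∃ g : Equiv.Perm GolayPt, g ∈ M24 ∧ g • d = d ∧ g • S = S ∧ g • X = Y := by
  obtain ⟨g, hg, rfl, rfl⟩ := T_quartet' hd hS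
  obtain ⟨x, rfl⟩ := MulAction.surjective g X
  obtain ⟨y, rfl⟩ := MulAction.surjective g Y
  rw [smul_mem_quartets hg] at hX hY
  rw [cl4_smul, cl4_smul] at h
  obtain ⟨k, hk, e⟩ := trans_of_roots _ _ (fun r => famL (QL.getD r [])) (cl4 (famL Q0L))
    (fun g hg x => cl4_SG hg x) q_distinct (q_root hX) (q_root hY) h
  exact ⟨_, conj_mem hg hk.1, conj_smul_eq (hk.2.1 _ (by simp)), conj_smul_eq (hk.2.2 _ (by simp)),
    conj_smul_eq e⟩

theorem quartet_cl_values {d : Finset GolayPt} (hd : d ∈ dodecads)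
    {S X : Finset (Finset GolayPt)} (hS : S ∈ quartets d) (hX : X ∈ quartets d) :
    cl4 S X = 324 ∨ cl4 S X = 90 ∨ cl4 S X = 54 ∨ cl4 S X = 68 ∨ cl4 S X = 26 := by
  obtain ⟨g, hg, rfl, rfl⟩ := T_quartet' hd hS
  obtain ⟨x, rfl⟩ := MulAction.surjective g X
  rw [smul_mem_quartets hg] at hX
  obtain ⟨r, hr, k, hk, rfl⟩ := q_root hX
  obtain ⟨h0, h1, h2, h3, h4⟩ := q_cl
  simp only [cl4_smul, cl4_SG hk]
  simp only [List.mem_cons, List.not_mem_nil, or_false] at hr
  rcases hr with rfl | rfl | rfl | rfl | rfl <;> simp only [h0, h1, h2, h3, h4] <;> simp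

theorem quartet_cl_self {d : Finset GolayPt} (hd : d ∈ dodecads) {S : Finset (Finset GolayPt)}
    (hS : S ∈ quartets d) : cl4 S S = 324 := by
  obtain ⟨g, hg, rfl, rfl⟩ := T_quartet' hd hS
  rw [cl4_smul]
  exact q_cl.1

theorem quartet_count {d : Finset GolayPt} (hd : d ∈ dodecads) {S : Finset (Finset GolayPt)}
    (hS : S ∈ quartets d) (v : ℕ) :
    {X | X ∈ quartets d ∧ cl4 S X = v}.ncard =
      sumLt 220 fun i => cond (Nat.beq (cl4L Q0L (QL.getD i [])) v) 1 0 := by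
  obtain ⟨g, hg, rfl, rfl⟩ := T_quartet' hd hS
  rw [ncard_smul_congr g _ (fun X => X ∈ quartets (ofMask 340831) ∧ cl4 (famL Q0L) X = v)
    (fun x => by simp only [smul_mem_quartets hg, cl4_smul])]
  exact ncard_quartets_with _ _ fun i hi => by rw [cl4_QL hi, beq_iff]

theorem s1599 (d : Finset GolayPt) (hd : d ∈ dodecads) (Q : Finset (Finset GolayPt))
    (hQ : Q ∈ quartets d) :
    ∃ X₁ ∈ quartets d, ∃ X₂ ∈ quartets d, ∃ X₃ ∈ quartets d, ∃ X₄ ∈ quartets d,
      (MulAction.orbit ↥(MulAction.stabilizer M24 d ⊓ MulAction.stabilizer M24 Q) X₁).ncard = 12 ∧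
      (MulAction.orbit ↥(MulAction.stabilizer M24 d ⊓ MulAction.stabilizer M24 Q) X₂).ncard = 27 ∧
      (MulAction.orbit ↥(MulAction.stabilizer M24 d ⊓ MulAction.stabilizer M24 Q) X₃).ncard = 72 ∧
      (MulAction.orbit ↥(MulAction.stabilizer M24 d ⊓ MulAction.stabilizer M24 Q) X₄).ncard = 108 ∧
      quartets d = {Q} ∪
        MulAction.orbit ↥(MulAction.stabilizer M24 d ⊓ MulAction.stabilizer M24 Q) X₁ ∪
        MulAction.orbit ↥(MulAction.stabilizer M24 d ⊓ MulAction.stabilizer M24 Q) X₂ ∪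
        MulAction.orbit ↥(MulAction.stabilizer M24 d ⊓ MulAction.stabilizer M24 Q) X₃ ∪
        MulAction.orbit ↥(MulAction.stabilizer M24 d ⊓ MulAction.stabilizer M24 Q) X₄ := by
  have key : ∀ y ∈ quartets d,
      MulAction.orbit ↥(MulAction.stabilizer M24 d ⊓ MulAction.stabilizer M24 Q) y =
      {z | z ∈ quartets d ∧ cl4 Q z = cl4 Q y} := fun y hy =>
    orbit_stabilizer_eq_class _ (quartets d) (cl4 Q)
      (fun g hg y hy => by
        rw [← MulAction.mem_stabilizer_iff.1 hg.1]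
        exact (smul_mem_quartets g.2).2 hy)
      (fun g hg y => by
        conv_lhs => rw [← MulAction.mem_stabilizer_iff.1 hg.2]
        exact cl4_smul _ _ _)
      (fun y hy z hz h => by
        obtain ⟨g, hg, h0, h1, h2⟩ := quartet_orbits hd hQ hy hz h
        exact ⟨⟨g, hg⟩, ⟨h0, h1⟩, h2⟩) hy
  have c1 : {X | X ∈ quartets d ∧ cl4 Q X = 90}.ncard = 12 := by
    rw [quartet_count hd hQ]; decide +kernel
  have c2 : {X | X ∈ quartets d ∧ cl4 Q X = 68}.ncard = 27 := by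
    rw [quartet_count hd hQ]; decide +kernel
  have c3 : {X | X ∈ quartets d ∧ cl4 Q X = 54}.ncard = 72 := by
    rw [quartet_count hd hQ]; decide +kernel
  have c4 : {X | X ∈ quartets d ∧ cl4 Q X = 26}.ncard = 108 := by
    rw [quartet_count hd hQ]; decide +kernel
  obtain ⟨X₁, h1, e1⟩ := exists_of_ncard c1
  obtain ⟨X₂, h2, e2⟩ := exists_of_ncard c2
  obtain ⟨X₃, h3, e3⟩ := exists_of_ncard c3
  obtain ⟨X₄, h4, e4⟩ := exists_of_ncard c4
  refine ⟨X₁, h1, X₂, h2, X₃, h3, X₄, h4, ?_, ?_, ?_, ?_, ?_⟩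
  · rw [key _ h1, e1, c1]
  · rw [key _ h2, e2, c2]
  · rw [key _ h3, e3, c3]
  · rw [key _ h4, e4, c4]
  · rw [key _ h1, key _ h2, key _ h3, key _ h4, e1, e2, e3, e4]
    ext y
    simp only [Set.mem_union, Set.mem_singleton_iff, Set.mem_ofPred_eq]
    constructor
    · intro hy
      rcases quartet_cl_values hd hQ hy with h | h | h | h | h
      · obtain ⟨g, _, _, h1, h2⟩ :=
          quartet_orbits hd hQ hQ hy ((quartet_cl_self hd hQ).trans h.symm)
        exact Or.inl (Or.inl (Or.inl (Or.inl (h2.symm.trans h1))))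
      · exact Or.inl (Or.inl (Or.inl (Or.inr ⟨hy, h⟩)))
      · exact Or.inl (Or.inr ⟨hy, h⟩)
      · exact Or.inl (Or.inl (Or.inr ⟨hy, h⟩))
      · exact Or.inr ⟨hy, h⟩
    · rintro ((((rfl | h) | h) | h) | h)
      · exact hQ
      · exact h.1
      · exact h.1
      · exact h.1
      · exact h.1

end H28
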