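import Mathlib
import Cfsg.Agent.H28.Enc
import Cfsg.Agent.H28.GrpLem
import Cfsg.Agent.H28.QuartetOrb

/-! Subgroups of `M11` and `M12` identified with classical groups. -/

set_option autoImplicit false

namespace H28

open Cfsg Finset H9 MulAction
open scoped Pointwise

theorem TabHom.equiv_le {T : Type} [Group T] {enc : T → ℕ} (hinj : Function.Injective enc)
    {a0 a1 : ℕ} (h : TabHom T enc a0 a1 (avoidP [H9.idP] (enc 1)))
    (K : Subgroup (Equiv.Perm GolayPt)) (h0 : H9.pm a0 ∈ K) (h1 : H9.pm a1 ∈ K)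
    (hc : Nat.card K ≤ Nat.card T) : Nonempty (K ≃* T) := by
  obtain ⟨φ, h2, h3⟩ := h
  refine equiv_of_inj_le K φ (h3 _ K.one_mem (fun x => K.mul_mem h0) (fun x => K.mul_mem h1))
    (fun t ht => ?_) hc
  obtain ⟨c, c1, c2, c3, e⟩ := h2 t
  rw [e, ← H9.pm_idP] at ht
  rw [code_inj c1 validP_idP c2 idP_lt ht, avoidP, memL_iff.2 (List.mem_singleton_self _)] at c3
  exact hinj (by simpa [beq_iff] using c3)

theorem card_level_le {pts sets : List ℕ} {b m : ℕ}
    (hup : ∀ g ∈ Stab pts sets, g (pt b) ∈ ofMask m) :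
    Nat.card (Stab pts sets) ≤ pc m * Nat.card (Stab (b :: pts) sets) := by
  rw [← card_ofMask, ← Stab_cons_pt]
  exact card_le_of_orbit _ _ _ hup

theorem Stab_mono {pts sets pts' sets' : List ℕ} (h1 : ∀ i ∈ pts', i ∈ pts)
    (h2 : ∀ s ∈ sets', s ∈ sets) : Stab pts sets ≤ Stab pts' sets' :=
  fun _ hg => ⟨hg.1, fun i hi => hg.2.1 i (h1 i hi), fun s hs => hg.2.2 s (h2 s hs)⟩

theorem card_c1 : Nat.card (Stab [23, 0] [dod0]) = 660 :=
  card_level' gi11 (by decide) (orbit_up (by decide) (by decide) cinv0 (by decide)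
    (by decide +kernel)) card_d1 (by decide +kernel) (by decide)

theorem card_c2 : Nat.card (Stab [5, 23, 0] [dod0]) = 60 :=
  card_level' gi11a (by decide) (orbit_up (by decide) (by decide) cinv1 (by decide)
    (by decide +kernel)) card_c1 (by decide +kernel) (by decide)

/-! ### `L₂(11)` -/

theorem l211_equiv : Nonempty (Stab [23, 0] [dod0] ≃*
    Matrix.ProjectiveSpecialLinearGroup (Fin 2) (ZMod 11)) := by
  obtain ⟨hc, φ, h2, h3⟩ := sl11_hom (a0 := 983107971135018222094309733584740480)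
    (a1 := 983556734225721270408659688667254880)
    (P := fun n c => (Nat.beq n 1332 || Nat.beq n 13320) == Nat.beq c H9.idP) (by decide +kernel)
  have k1 : ∀ t, φ t = 1 ↔ encSL11 t = 1332 ∨ encSL11 t = 13320 := by
    intro t
    obtain ⟨c, c1, c2, c3, e⟩ := h2 t
    rw [beq_iff_eq, Bool.eq_iff_iff, Bool.or_eq_true, beq_iff, beq_iff, beq_iff] at c3
    rw [c3, e, ← H9.pm_idP]
    exact ⟨code_inj c1 validP_idP c2 idP_lt, fun h => h ▸ rfl⟩
  have k2 : ∀ t, t ∈ Subgroup.center _ ↔ encSL11 t = 1332 ∨ encSL11 t = 13320 := by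
    intro t
    constructor
    · intro h
      obtain ⟨r, hr, e⟩ := Matrix.SpecialLinearGroup.mem_center_iff.1 h
      have h1 : ∀ r : ZMod 11, r ^ 2 = 1 → key4 11 r 0 0 r = 1332 ∨ key4 11 r 0 0 r = 13320 := by
        decide
      have h2 : ∀ i j, t i j = Matrix.scalar (Fin 2) r i j := fun i j => by rw [e]
      simpa [encSL11, h2] using h1 r hr
    · rintro (h | h)
      · rw [encSL11_inj (h.trans (show 1332 = encSL11 1 by decide))]
        exact Subgroup.one_mem _
      · rw [encSL11_inj (h.trans (show 13320 = encSL11 (-1) by decide)), Subgroup.mem_center_iff]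
        simp
  have hK : ∀ t, φ t ∈ Stab [23, 0] [dod0] :=
    h3 _ (Subgroup.one_mem _) (fun x => Subgroup.mul_mem _ (mem_Stab_of_inStab (by decide +kernel)))
      (fun x => Subgroup.mul_mem _ (mem_Stab_of_inStab (by decide +kernel)))
  refine equiv_of_inj_le _ (QuotientGroup.lift _ φ fun t ht => (k1 t).2 ((k2 t).1 ht)) ?_ ?_ ?_
  · intro q
    obtain ⟨t, rfl⟩ := QuotientGroup.mk_surjective q
    exact hK t
  · intro q hq
    obtain ⟨t, rfl⟩ := QuotientGroup.mk_surjective q
    exact (QuotientGroup.eq_one_iff _).2 ((k2 t).2 ((k1 t).1 hq))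
  · have h4 := Subgroup.card_eq_card_quotient_mul_card_subgroup
      (Subgroup.center (Matrix.SpecialLinearGroup (Fin 2) (ZMod 11)))
    have h5 : Nat.card (Subgroup.center (Matrix.SpecialLinearGroup (Fin 2) (ZMod 11))) ≤ 2 := by
      have := Nat.card_le_card_of_injective
        (fun t : Subgroup.center (Matrix.SpecialLinearGroup (Fin 2) (ZMod 11)) =>
          (⟨encSL11 t, by simpa using (k2 t).1 t.2⟩ : ({1332, 13320} : Finset ℕ)))
        (fun s t h => Subtype.ext (encSL11_inj (congrArg Subtype.val h)))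
      rwa [Nat.card_eq_finsetCard] at this
    rw [card_c1]
    rw [hc] at h4
    change 660 ≤ Nat.card (_ ⧸ _)
    nlinarith

theorem s1601 (d : Finset GolayPt) (hd : d ∈ dodecads) (p q : GolayPt) (hp : p ∈ d) (hq : q ∉ d) :
    Nonempty (↥(stabilizer M24 d ⊓ stabilizer M24 p ⊓ stabilizer M24 q) ≃*
      Matrix.ProjectiveSpecialLinearGroup (Fin 2) (ZMod 11)) := by
  obtain ⟨g, hg, rfl, rfl, rfl⟩ := T_dod_in_out hd hp hq
  obtain ⟨e⟩ := l211_equiv
  obtain ⟨f⟩ := nonempty_equiv_of_conj (stabilizer M24 (g • ofMask 340831) ⊓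
    stabilizer M24 (g (pt 0)) ⊓ stabilizer M24 (g (pt 23))) _ (Stab_le [23, 0] [dod0]) g hg
    fun x => by
      simp only [mem_Stab, conj_mem_M24 hg x, List.forall_mem_cons, conj_smul_eq_iff,
        conj_apply_iff, Subgroup.mem_inf, mem_stab_pt, mem_stab_set, dod0,
        List.not_mem_nil, IsEmpty.forall_iff, implies_true, and_true, true_and]
      exact ⟨fun ⟨⟨a, b⟩, c⟩ => ⟨⟨c, b⟩, a⟩, fun ⟨⟨c, b⟩, a⟩ => ⟨⟨a, b⟩, c⟩⟩
  exact ⟨f.trans e⟩

/-! ### `S₅` -/

theorem s5_equiv : Nonempty (Stab [0] [dod0, 8388640] ≃* Equiv.Perm (Fin 5)) := by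
  refine TabHom.equiv_le encS5_inj (s5_hom (a0 := 221546328109491013656963159965188384)
    (a1 := 965300289861748889990672440075108384) (by decide +kernel)) _
    (mem_Stab_of_inStab (by decide +kernel)) (mem_Stab_of_inStab (by decide +kernel)) ?_
  have h1 := card_level_le (orbit_up (pts := [0]) (sets := [dod0, 8388640]) (b := 23)
    (s := 8388640) (m := 8388640) (by decide) (by decide) (fun g hg => hg.2.2 _ (by simp))
    (by decide) (by decide +kernel))
  have h2 := card_level_le (orbit_up (pts := [23, 0]) (sets := [dod0, 8388640]) (b := 5)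
    (s := 8388640) (m := 32) (by decide) (by decide) (fun g hg => hg.2.2 _ (by simp))
    (by decide) (by decide +kernel))
  have h3 := Subgroup.card_le_of_le (Stab_mono (pts := [5, 23, 0]) (sets := [dod0, 8388640])
    (pts' := [5, 23, 0]) (sets' := [dod0]) (by simp) (by simp))
  rw [card_c2] at h3
  rw [show pc 8388640 = 2 by decide +kernel] at h1
  rw [show pc 32 = 1 by decide +kernel] at h2
  rw [Nat.card_perm, Nat.card_fin, show Nat.factorial 5 = 120 by decide]
  omega

theorem s1602 (d : Finset GolayPt) (hd : d ∈ dodecads) (p q q' : GolayPt) (hp : p ∈ d)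
    (hq : q ∉ d) (hq' : q' ∉ d) (hqq' : q ≠ q') :
    Nonempty (↥(stabilizer M24 d ⊓ stabilizer M24 p ⊓ stabilizer M24 ({q, q'} : Finset GolayPt)) ≃*
      Equiv.Perm (Fin 5)) := by
  obtain ⟨g, hg, rfl, rfl, rfl, rfl⟩ := T_dod_in_out2 hd hp hq hq' hqq'
  obtain ⟨e⟩ := s5_equiv
  have h1 : ({g (pt 23), g (pt 5)} : Finset GolayPt) = g • ofMask 8388640 := by
    rw [show ofMask 8388640 = {pt 23, pt 5} by decide +kernel]
    simp [smul_finset_insert]
  obtain ⟨f⟩ := nonempty_equiv_of_conj (stabilizer M24 (g • ofMask 340831) ⊓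
    stabilizer M24 (g (pt 0)) ⊓ stabilizer M24 ({g (pt 23), g (pt 5)} : Finset GolayPt)) _
    (Stab_le [0] [dod0, 8388640]) g hg fun x => by
      simp only [mem_Stab, conj_mem_M24 hg x, List.forall_mem_cons, conj_smul_eq_iff,
        conj_apply_iff, Subgroup.mem_inf, mem_stab_pt, mem_stab_set, dod0, h1,
        List.not_mem_nil, IsEmpty.forall_iff, implies_true, and_true, true_and]
      exact ⟨fun ⟨⟨a, b⟩, c⟩ => ⟨b, a, c⟩, fun ⟨b, a, c⟩ => ⟨⟨a, b⟩, c⟩⟩
  exact ⟨f.trans e⟩

/-! ### Three points of a dodecad -/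

theorem s1600 (d : Finset GolayPt) (hd : d ∈ dodecads) (p q r : GolayPt) (hp : p ∈ d) (hq : q ∈ d)
    (hr : r ∈ d) (hpq : p ≠ q) (hpr : p ≠ r) (hqr : q ≠ r) :
    Nat.card ↥(stabilizer M24 d ⊓ stabilizer M24 p ⊓ stabilizer M24 q ⊓ stabilizer M24 r) = 72 ∧
    ∀ x ∉ d, ∀ y ∉ d, ∃ g ∈ (stabilizer M24 d ⊓ stabilizer M24 p ⊓ stabilizer M24 q ⊓
      stabilizer M24 r), ((g : ↥M24) : Equiv.Perm GolayPt) x = y := by
  obtain ⟨g, hg, rfl, rfl, rfl, rfl⟩ := T_dod_in3 hd hp hq hr hpq hpr hqr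
  constructor
  · refine card_of_equiv (nonempty_equiv_of_conj _ _ (Stab_le [2, 1, 0] [dod0]) g hg fun x => ?_)
      card_d3
    simp only [mem_Stab, conj_mem_M24 hg x, List.forall_mem_cons, conj_smul_eq_iff,
      conj_apply_iff, Subgroup.mem_inf, mem_stab_pt, mem_stab_set, dod0,
      List.not_mem_nil, IsEmpty.forall_iff, implies_true, and_true, true_and]
    exact ⟨fun ⟨⟨⟨a, b⟩, c⟩, d⟩ => ⟨⟨d, c, b⟩, a⟩, fun ⟨⟨d, c, b⟩, a⟩ => ⟨⟨⟨a, b⟩, c⟩, d⟩⟩
  · have h : ∀ x ∉ g • ofMask 340831, ∃ k ∈ Stab [2, 1, 0] [dod0], g (k (pt 23)) = x := by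
      intro x hx
      obtain ⟨x, rfl⟩ := g.surjective x
      obtain ⟨k, hk, e⟩ := gi9.orbPt (b := 23) (by decide) x (by
        rw [show orbPt g9 23 = 340831 ^^^ 16777215 by decide +kernel, ofMask_compl, mem_compl]
        exact fun h => hx (smul_mem_smul_finset h))
      exact ⟨k, hk, congrArg g e⟩
    intro x hx y hy
    obtain ⟨k, hk, rfl⟩ := h x hx
    obtain ⟨l, hl, rfl⟩ := h y hy
    have hm := Subgroup.mul_mem _ hl (Subgroup.inv_mem _ hk)
    refine ⟨⟨_, conj_mem hg hm.1⟩, ⟨⟨⟨conj_smul_eq (hm.2.2 _ (by simp [dod0])),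
      conj_apply_fix (hm.2.1 _ (by simp))⟩, conj_apply_fix (hm.2.1 _ (by simp))⟩,
      conj_apply_fix (hm.2.1 _ (by simp))⟩, by simp⟩

/-! ### Involution centralisers in `M11` -/

/-- the central involution of the quaternion group fixing `0, 1, 2, 3`. -/
def x0 : ℕ := 970499966350631336865513127433832480

theorem x0_mem : H9.pm x0 ∈ Stab [0] [dod0] := mem_Stab_of_inStab (by decide +kernel)

/-- generators of a Sylow 2-subgroup of `M11`. -/
def gSD : List ℕ := [232652365823391711183829569059784736, 601915135321570999558303616165022752]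

theorem m11_invol {y : Equiv.Perm GolayPt} (hy : y ∈ Stab [0] [dod0]) (h2 : y ^ 2 = 1)
    (h1 : y ≠ 1) : ∃ k ∈ Stab [0] [dod0], k * y * k⁻¹ = H9.pm x0 := by
  have hel : elOK gSD 16 = true := by decide +kernel
  obtain ⟨g, hg, h⟩ := exists_conj_le' Nat.prime_two ((Subgroup.zpowers_le).2 hy)
    (gensIn_Stab (gens := gSD) (by decide +kernel)).cl_le (isPGroup_zpowers (k := 1) h2)
    (n := 495) (by rw [card_d1, card_cl hel]; decide +kernel) (by decide)
  obtain ⟨c, c1, c2, c3, e⟩ := forall_cl hel (fun c => Nat.beq c H9.idP ||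
    !Nat.beq (mulP c c) H9.idP || anyL [479623986318016222713448381946146848,
      984818244535754528103549039458486304, 927623144109041997241796304361893920,
      228117936289437779564256441794703392, 606498202275493554735876872429776928]
      fun k => inStab [0] [dod0] k && Nat.beq (mulP k c) (mulP x0 k)) (by decide +kernel)
    (h y (Subgroup.mem_zpowers y))
  have hc1 : Nat.beq c H9.idP = false := by
    rw [← Bool.not_eq_true, beq_iff]
    rintro rfl
    rw [H9.pm_idP, eq_comm, mul_assoc, inv_mul_eq_one, eq_comm, mul_eq_right] at e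
    exact h1 e
  have hc2 : mulP c c = H9.idP := by
    apply code_inj (validP_mulP c1 c1) validP_idP (mulP_lt _ _) idP_lt
    rw [pm_mulP c1 c1, e, H9.pm_idP]
    rw [pow_two] at h2
    simp [mul_assoc, ← mul_assoc y y, h2]
  simp only [hc1, hc2, Nat.beq_refl, Bool.not_true, Bool.or_self, Bool.false_or, anyL_iff,
    Bool.and_eq_true, beq_iff] at c3
  obtain ⟨k, -, k1, k2⟩ := c3
  have k3 := congrArg H9.pm k2
  rw [pm_mulP (validP_of_inStab k1) c1, pm_mulP (by decide +kernel) (validP_of_inStab k1), e] at k3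
  refine ⟨H9.pm k * g⁻¹, Subgroup.mul_mem _ (mem_Stab_of_inStab k1) (Subgroup.inv_mem _ hg), ?_⟩
  rw [← mul_inv_eq_iff_eq_mul] at k3
  rw [← k3]
  simp [mul_assoc]

theorem cent_x0 : Nonempty (↥(Stab [0] [dod0] ⊓ Subgroup.centralizer {H9.pm x0}) ≃*
    GL (Fin 2) (ZMod 3)) := by
  obtain ⟨hc, h⟩ := gl23_hom (a0 := 235742061483406767849477376128910432)
    (a1 := 965346966670364367458681901213092896) (P := avoidP [H9.idP] 28) (by decide +kernel)
  have hx : validP x0 = true := by decide +kernel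
  have comm : ∀ a, validP a = true → mulP a x0 = mulP x0 a →
      H9.pm a ∈ Subgroup.centralizer {H9.pm x0} := fun a ha e => by
    rw [Subgroup.mem_centralizer_singleton_iff, ← pm_mulP ha hx, e, pm_mulP hx ha]
  refine TabHom.equiv_le encGL23_inj h _
    ⟨mem_Stab_of_inStab (by decide +kernel), comm _ (by decide +kernel) (by decide +kernel)⟩
    ⟨mem_Stab_of_inStab (by decide +kernel), comm _ (by decide +kernel) (by decide +kernel)⟩ ?_
  have h0 : Stab [0] [dod0] ⊓ Subgroup.centralizer {H9.pm x0} ≤ Stab [0] [dod0, 14] := by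
    rintro g ⟨hg, hc⟩
    refine ⟨hg.1, hg.2.1, List.forall_mem_cons.2 ⟨hg.2.2 _ (by simp), ?_⟩⟩
    simp only [List.mem_singleton, forall_eq]
    have key : ∀ z, z ∈ ofMask 14 ↔ z ∈ ofMask 340830 ∧ H9.pm x0 z = z := by
      simp only [H9.pm_apply hx]
      decide +kernel
    apply eq_of_subset_of_card_le _ (by rw [card_smul_finset])
    intro z hz
    obtain ⟨z, h1, rfl⟩ := mem_smul_finset.1 hz
    rw [key] at h1 ⊢
    refine ⟨dinv1 g hg ▸ smul_mem_smul_finset h1.1, ?_⟩
    have := congrArg (fun f : Equiv.Perm GolayPt => f z)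
      (Subgroup.mem_centralizer_singleton_iff.1 hc)
    simp only [Equiv.Perm.mul_apply, h1.2] at this
    exact this.symm
  have h1 := card_level_le (orbit_up (pts := [0]) (sets := [dod0, 14]) (b := 1)
    (s := 14) (m := 14) (by decide) (by decide) (fun g hg => hg.2.2 _ (by simp))
    (by decide) (by decide +kernel))
  have h2 := card_level_le (orbit_up (pts := [1, 0]) (sets := [dod0, 14]) (b := 2)
    (s := 14) (m := 12) (by decide) (by decide) (fun g hg => hg.2.2 _ (by simp))
    (by decide) (by decide +kernel))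
  have h3 := card_level_le (orbit_up (pts := [2, 1, 0]) (sets := [dod0, 14]) (b := 3)
    (s := 14) (m := 8) (by decide) (by decide) (fun g hg => hg.2.2 _ (by simp))
    (by decide) (by decide +kernel))
  have h4 := Subgroup.card_le_of_le (Stab_mono (pts := [3, 2, 1, 0]) (sets := [dod0, 14])
    (pts' := [3, 2, 1, 0]) (sets' := [dod0]) (by simp) (by simp))
  have h5 := Subgroup.card_le_of_le h0
  rw [card_d4] at h4
  rw [show pc 14 = 3 by decide +kernel] at h1
  rw [show pc 12 = 2 by decide +kernel] at h2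
  rw [show pc 8 = 1 by decide +kernel] at h3
  omega

theorem s1603 (d : Finset GolayPt) (hd : d ∈ dodecads) (p : GolayPt) (hp : p ∈ d)
    (x : ↥(stabilizer M24 d ⊓ stabilizer M24 p)) (hx : orderOf x = 2) :
    Nonempty (↥(Subgroup.centralizer ({x} : Set ↥(stabilizer M24 d ⊓ stabilizer M24 p))) ≃*
      GL (Fin 2) (ZMod 3)) := by
  obtain ⟨e⟩ := stabdp_equiv hd hp
  have h1 : orderOf (e x) = 2 := by rw [MulEquiv.orderOf_eq, hx]
  obtain ⟨k, hk, h⟩ := m11_invol (e x).2
    (by rw [← Subgroup.coe_pow, ← h1, pow_orderOf_eq_one, Subgroup.coe_one])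
    (fun h => by
      rw [show e x = 1 from Subtype.ext h, orderOf_one] at h1; exact absurd h1 (by decide))
  obtain ⟨f⟩ := centralizer_equiv (e.trans (MulAut.conj ⟨k, hk⟩)) x
  obtain ⟨f'⟩ := cent_x0
  have e2 : (e.trans (MulAut.conj ⟨k, hk⟩)) x = ⟨H9.pm x0, x0_mem⟩ := Subtype.ext h
  rw [e2] at f
  refine ⟨f.trans ((MulEquiv.subgroupCongr ?_).trans
    ((Subgroup.subgroupOfEquivOfLe inf_le_left).trans f'))⟩
  ext y
  simp [Subgroup.mem_centralizer_singleton_iff, Subgroup.mem_subgroupOf, Subtype.ext_iff]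

/-! ### The quartet stabiliser -/

theorem card_SGQ : Nat.card (SG [340831] [Q0L]) = 432 := by
  have h := card_eq_orbit_mul (Stab [] [dod0]) (famL Q0L)
  have e : {y | ∃ g ∈ Stab [] [dod0], g • famL Q0L = y} = quartets (ofMask 340831) := by
    ext y
    constructor
    · rintro ⟨g, hg, rfl⟩
      rw [← show g • ofMask 340831 = ofMask 340831 from hg.2.2 _ (by simp [dod0])]
      exact (smul_mem_quartets hg.1).2 Q0_mem
    · intro hy
      obtain ⟨g, hg, h1, h2⟩ := T_quartet D0_mem hy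
      exact ⟨g, ⟨hg, by simp, by simpa [dod0] using h1⟩, h2⟩
  have e2 : Stab [] [dod0] ⊓ stabilizer _ (famL Q0L) = SG [340831] [Q0L] := by
    ext g
    simp [mem_Stab, mem_SG, dod0, and_assoc]
  rw [e, ncard_quartets D0_mem, card_d0, e2] at h
  omega

theorem mem_SG_of {ms : List ℕ} {fs : List (List ℕ)} {gens : List ℕ} (h : okSG ms fs gens = true) :
    GensIn gens (SG ms fs) := fun c hc =>
  ⟨validP_iff_okP.2 (okSG_spec h c hc).1, pm9_eq c ▸ (okSG_spec h c hc).2⟩

theorem s1598 (d : Finset GolayPt) (hd : d ∈ dodecads) (Q : Finset (Finset GolayPt))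
    (hQ : Q ∈ quartets d) : Nat.card ↥(stabilizer M24 d ⊓ stabilizer M24 Q) = 432 ∧
    (∃ (N : Subgroup ↥(stabilizer M24 d ⊓ stabilizer M24 Q)) (_ : N.Normal), Nat.card N = 9 ∧
      Nonempty (↥(stabilizer M24 d ⊓ stabilizer M24 Q) ⧸ N ≃* GL (Fin 2) (ZMod 3))) ∧
    ∀ p ∈ d, ∀ q ∈ d, ∃ g ∈ (stabilizer M24 d ⊓ stabilizer M24 Q),
      ((g : ↥M24) : Equiv.Perm GolayPt) p = q := by
  obtain ⟨g, hg, rfl, rfl⟩ := T_quartet' hd hQ
  obtain ⟨e⟩ := nonempty_equiv_of_conj (stabilizer M24 (g • ofMask 340831) ⊓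
    stabilizer M24 (g • famL Q0L)) _ (SG_le [340831] [Q0L]) g hg fun x => by
      simp only [mem_SG, conj_mem_M24 hg x, List.forall_mem_cons, conj_smul_eq_iff,
        Subgroup.mem_inf, mem_stabilizer_iff, Subgroup.smul_def]
      simp
  refine ⟨card_of_equiv ⟨e⟩ card_SGQ, ?_, ?_⟩
  · have hel : elOK [304627508251958497223725218456470530, 648616937721000595807566695070498881]
        9 = true := by decide +kernel
    have h9 := (card_cl hel).trans (show _ = 9 by decide +kernel)
    obtain ⟨hc, h⟩ := gl23_hom (a0 := 975683237387894466859158378297540908)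
      (a1 := 944569772236290697579231267829188640) (P := avoidP (elems
        [304627508251958497223725218456470530, 648616937721000595807566695070498881] 9) 28)
      (by decide +kernel)
    have hg := mem_SG_of (ms := [340831]) (fs := [Q0L]) (gens :=
      [975683237387894466859158378297540908, 944569772236290697579231267829188640])
      (by decide +kernel)
    have hle := (mem_SG_of (ms := [340831]) (fs := [Q0L]) (gens :=
      [304627508251958497223725218456470530, 648616937721000595807566695070498881])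
      (by decide +kernel)).cl_le
    obtain ⟨hN, hq⟩ := TabHom.quot encGL23_inj hel h _ (hg _ (by simp)).2 (hg _ (by simp)).2 hle
      (by decide +kernel) (by decide +kernel) (by rw [card_SGQ, h9, hc])
    obtain ⟨N, hN', h1, -, h2⟩ := transport_quot e _ hq
    exact ⟨N, hN', by rw [h1, Nat.card_congr (Subgroup.subgroupOfEquivOfLe hle).toEquiv, h9], h2⟩
  · have h : ∀ x ∈ g • ofMask 340831, ∃ k ∈ SG [340831] [Q0L], g (k (pt 0)) = x := by
      intro x hx
      obtain ⟨x, hx', rfl⟩ := mem_smul_finset.1 hx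
      obtain ⟨k, hk, e⟩ := (mem_SG_of gQ_ok).orbPt (b := 0) (by decide) x (by
        rw [show orbPt gQ 0 = 340831 by decide +kernel]; exact hx')
      exact ⟨k, hk, congrArg g e⟩
    intro x hx y hy
    obtain ⟨k, hk, rfl⟩ := h x hx
    obtain ⟨l, hl, rfl⟩ := h y hy
    have hm := Subgroup.mul_mem _ hl (Subgroup.inv_mem _ hk)
    exact ⟨⟨_, conj_mem hg hm.1⟩, ⟨conj_smul_eq (hm.2.1 _ (by simp)),
      conj_smul_eq (hm.2.2 _ (by simp))⟩, by simp⟩

end H28
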