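import Mathlib
import Cfsg.Agent.H12.NGMc
import Cfsg.Agent.H12.NGC1
import Cfsg.Agent.H3.NG1

/-!
# N-groups: helpers for the tensor lemma (sections, words in two subgroups)
-/

set_option autoImplicit false
set_option linter.unusedSectionVars false
set_option linter.unusedVariables false

namespace H28.NT

open Subgroup Cfsg H24 H11.ZN H12.NG
open scoped commutatorElement

universe u

variable {G : Type u} [Group G] [Finite G] {V H T X K R A S M Cm : Subgroup G} {g w w' m h : G} {n k : ℕ}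

/-- `Md.m1` for the action of `H` on a section `X / K` with kernel `R` -/
theorem m1_sec (hK : K ⊴ X) (hX : H ≤ N[X]) (hH : H ≤ N[K]) (h1 : ∀ x ∈ X, x * x ∈ K) (hs : Sol H)
    (hR : ∀ h ∈ H, (∀ x ∈ X, h * x * h⁻¹ * x⁻¹ ∈ K) ↔ h ∈ R)
    (hO : ∀ T, T ⊴ H → (∀ t ∈ T, ∃ n : ℕ, t ^ 2 ^ n ∈ R) → T ≤ R)
    (hA : A ≤ H) (hA2 : ∀ a ∈ A, a * a ∈ R)
    (hC : ∀ x ∈ X, x ∈ Cm → ∀ a ∈ A, a * x * a⁻¹ * x⁻¹ ∈ K) : R.relIndex A ≤ Cm.relIndex X := by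
  obtain ⟨Γ, _, _, ι, ρ, hsec⟩ := exists_sec hK hX hH
  have hk : ∀ h ∈ H, ap ρ h = 1 ↔ h ∈ R := fun h hh => (hsec.kerρ h hh).trans (hR h hh)
  have md := hsec.md hX h1 hs fun T hT h2 t ht => (hk t (hT.le ht)).2 (hO T hT (fun t ht => by
    obtain ⟨n, e⟩ := h2 t ht
    exact ⟨n, (hk _ (pow_mem (hT.le ht) _)).1 (by rw [ap_pow _ (hT.le ht), e])⟩) ht)
  have hE : EA (img ρ A) := ea_of_sq fun x hx => by
    obtain ⟨a, ha, ha', rfl⟩ := mem_img.1 hx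
    rw [← ap_mul _ ha' ha']
    exact (hk _ (mul_mem ha' ha')).2 (hA2 a ha)
  have e1 := md.m1 hE (img_le_range ρ A)
  have e2 : ♯(img ρ A) = R.relIndex A := by
    rw [card_img ρ hA, ← inf_relIndex_right, ← inf_relIndex_right R]
    congr 1
    ext a
    simp only [mem_inf, mem_pre_bot]
    exact ⟨fun e => ⟨(hk a e.1.1).1 e.1.2, e.2⟩, fun e => ⟨⟨hA e.2, (hk a (hA e.2)).2 e.1⟩, e.2⟩⟩
  have e3 := card_inf_mul_relIndex C[img ρ A] ι.range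
  rw [inf_comm] at e3
  have e4 : ♯(img ρ A) ≤ (C[img ρ A]).relIndex ι.range := by
    rw [← e3, mul_comm] at e1
    exact Nat.le_of_mul_le_mul_left e1 (card_pos _)
  rw [← img_dom ι, ← relIndex_pre ι _ le_rfl] at e4
  rw [← e2, ← inf_relIndex_right Cm]
  refine e4.trans (relIndex_le_of_le_left (fun x hx => mem_pre.2 ⟨hx.2, mem_C.2 fun y hy => ?_⟩)
    (relIndex_ne_zero' _ _))
  obtain ⟨a, ha, ha', rfl⟩ := mem_img.1 hy
  have := (hsec.ker _ (mul_mem (conj_mem (hX ha') hx.2) (inv_mem hx.2))).2 (hC x hx.2 hx.1 a ha)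
  rw [ap_mul _ (conj_mem (hX ha') hx.2) (inv_mem hx.2), hsec.act a ha' x hx.2, ap_inv _ hx.2, mul_inv_eq_one,
    mul_inv_eq_iff_eq_mul] at this
  exact this

theorem ea_ncl (hV : EA V) (h : ∀ g ∈ S, cj g V ≤ C[V]) : EA (ncl V S) := by
  have h1 : ∀ g ∈ S, cj g V ≤ C[ncl V S] := fun g hg => cents_symm (H3.NG.ncl_le fun g' hg' => by
    rw [← cj_C, le_cj_iff, ← cj_mul]
    exact h _ (mul_mem (inv_mem hg) hg'))
  refine ea_le (OZ_ea (ncl V S)) (H3.NG.ncl_le fun g hg x hx => mem_OZ.2 ⟨H3.NG.le_ncl hg hx, h1 g hg hx, ?_⟩)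
  rw [sq]; exact ea_sq (H3.NG.ea_cj hV g) hx

/-- products `m₁ h₁ ⋯ mₙ hₙ` -/
def Wd (M H : Subgroup G) : ℕ → Set G
  | 0 => {1}
  | n + 1 => {g | ∃ m ∈ M, ∃ h ∈ H, ∃ w ∈ Wd M H n, g = m * h * w}

theorem Wd.zero : w ∈ Wd M H 0 ↔ w = 1 := Iff.rfl

theorem Wd.cons (hm : m ∈ M) (hh : h ∈ H) (hw : w ∈ Wd M H n) : m * h * w ∈ Wd M H (n + 1) :=
  ⟨m, hm, h, hh, w, hw, rfl⟩

theorem Wd.mul (hw : w ∈ Wd M H n) (hw' : w' ∈ Wd M H k) : w * w' ∈ Wd M H (k + n) := by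
  induction n generalizing w with
  | zero => rw [Wd.zero.1 hw, one_mul]; exact hw'
  | succ n ih =>
    obtain ⟨m, hm, h, hh, w, hw, rfl⟩ := hw
    rw [mul_assoc]
    exact Wd.cons hm hh (ih hw)

theorem Wd.snoc (hw : w ∈ Wd M H n) (hm : m ∈ M) (hh : h ∈ H) : w * m * h ∈ Wd M H (n + 1) := by
  have := Wd.mul hw (Wd.cons hm hh (Wd.zero.2 rfl))
  rwa [mul_one, ← mul_assoc, add_comm] at this

theorem Wd.unsnoc (hw : w ∈ Wd M H (n + 1)) : ∃ w' ∈ Wd M H n, ∃ m ∈ M, ∃ h ∈ H, w = w' * m * h := by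
  induction n generalizing w with
  | zero =>
    obtain ⟨m, hm, h, hh, w, hw, rfl⟩ := hw
    exact ⟨1, rfl, m, hm, h, hh, by rw [Wd.zero.1 hw]; group⟩
  | succ n ih =>
    obtain ⟨m, hm, h, hh, w, hw, rfl⟩ := hw
    obtain ⟨w', hw', m', hm', h', hh', rfl⟩ := ih hw
    exact ⟨_, Wd.cons hm hh hw', m', hm', h', hh', by group⟩

theorem Wd.inv (hw : w ∈ Wd M H n) : ∃ w' ∈ Wd M H n, ∃ m ∈ M, w⁻¹ = w' * m := by
  induction n generalizing w with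
  | zero => exact ⟨1, rfl, 1, one_mem _, by rw [Wd.zero.1 hw]; group⟩
  | succ n ih =>
    obtain ⟨m, hm, h, hh, w, hw, rfl⟩ := hw
    obtain ⟨w', hw', m', hm', e⟩ := ih hw
    exact ⟨_, Wd.snoc hw' hm' (inv_mem hh), m⁻¹, inv_mem hm, by rw [← e]; group⟩

theorem Wd.exists (hg : g ∈ M ⊔ H) : ∃ n, g ∈ Wd M H n := by
  let S : Subgroup G :=
    { carrier := {g | ∃ n, g ∈ Wd M H n}
      mul_mem' := fun ⟨_, h1⟩ ⟨_, h2⟩ => ⟨_, Wd.mul h1 h2⟩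
      one_mem' := ⟨0, rfl⟩
      inv_mem' := fun ⟨n, h1⟩ => by
        obtain ⟨w', hw', m, hm, e⟩ := Wd.inv h1
        exact ⟨_, by rw [e, ← mul_one (w' * m)]; exact Wd.snoc hw' hm (one_mem _)⟩ }
  have : M ⊔ H ≤ S := sup_le
    (fun m hm => ⟨1, by simpa using Wd.cons hm (one_mem H) (Wd.zero.2 rfl)⟩)
    (fun h hh => ⟨1, by simpa using Wd.cons (one_mem M) hh (Wd.zero.2 rfl)⟩)
  exact this hg

theorem num_end {K J K' J' : ℕ} (h0 : K ≠ 0) (h1 : K' ^ 2 ≤ J * K) (h2 : J' ^ 2 ≤ K) (h3 : K ^ 2 ≤ J' * K')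
    (h4 : J ^ 2 ≤ K') : K = 1 := by
  have p : 0 < K := Nat.pos_of_ne_zero h0
  have p' : 0 < K' := by
    rcases Nat.eq_zero_or_pos K' with e | e
    · rw [e] at h3; nlinarith
    · exact e
  have e1 : K ^ 3 ≤ K' ^ 2 := by
    have : K ^ 4 ≤ K * K' ^ 2 := by
      calc K ^ 4 = (K ^ 2) ^ 2 := by ring
        _ ≤ (J' * K') ^ 2 := Nat.pow_le_pow_left h3 2
        _ = J' ^ 2 * K' ^ 2 := by ring
        _ ≤ _ := Nat.mul_le_mul_right _ h2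
    exact Nat.le_of_mul_le_mul_left (by rw [← pow_succ']; exact this) p
  have e2 : K' ^ 3 ≤ K ^ 2 := by
    have : K' ^ 4 ≤ K' * K ^ 2 := by
      calc K' ^ 4 = (K' ^ 2) ^ 2 := by ring
        _ ≤ (J * K) ^ 2 := Nat.pow_le_pow_left h1 2
        _ = J ^ 2 * K ^ 2 := by ring
        _ ≤ _ := Nat.mul_le_mul_right _ h4
    exact Nat.le_of_mul_le_mul_left (by rw [← pow_succ']; exact this) p'
  have e3 : K ^ 9 ≤ K ^ 4 := by
    calc K ^ 9 = (K ^ 3) ^ 3 := by ring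
      _ ≤ (K' ^ 2) ^ 3 := Nat.pow_le_pow_left e1 3
      _ = (K' ^ 3) ^ 2 := by ring
      _ ≤ (K ^ 2) ^ 2 := Nat.pow_le_pow_left e2 2
      _ = _ := by ring
  by_contra e
  have := (Nat.pow_le_pow_iff_right (by omega : 1 < K)).1 e3
  omega

end H28.NT
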