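import Mathlib
import Cfsg.Agent.H6.XDefs

/-! Small tools for quadratic spaces over the field with two elements. -/

set_option autoImplicit false
set_option linter.unusedSectionVars false

namespace H28
namespace XL

open H15 H6.XS Module

variable {V : Type*} [AddCommGroup V] [Module (ZMod 2) V] {q : QuadraticForm (ZMod 2) V}

theorem z2 (a : ZMod 2) : a = 0 ∨ a = 1 := by revert a; decide
theorem z2sq (a : ZMod 2) : a * a = a := by revert a; decide
theorem z2ne {a : ZMod 2} (h : a ≠ 0) : a = 1 := by revert a; decide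
theorem z2ne' {a : ZMod 2} (h : a ≠ 1) : a = 0 := by revert a; decide
theorem z2add (a : ZMod 2) : a + a = 0 := by revert a; decide
theorem z2eq {a b : ZMod 2} (h : a + b = 0) : a = b := by revert a b; decide
theorem z11 : (1 : ZMod 2) + 1 = 0 := by decide

theorem vext {x y : V} (h : ∀ φ : V →ₗ[ZMod 2] ZMod 2, φ x = φ y) : x = y := by
  rw [← sub_eq_zero, ← Module.forall_dual_apply_eq_zero_iff (ZMod 2)]
  intro φ; rw [map_sub, h, sub_self]

theorem vv (x : V) : x + x = 0 := by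
  rw [← two_smul (ZMod 2)]; exact zero_smul _ _

theorem vv1 (x y : V) : x + (x + y) = y := by rw [← add_assoc, vv, zero_add]
theorem vv2 (x y : V) : x + y + y = x := by rw [add_assoc, vv, add_zero]
theorem vv3 (x y : V) : x + y + x = y := by rw [add_comm x y, vv2]
theorem vv4 (x y : V) : x + (y + x) = y := by rw [add_comm y x, vv1]

theorem veq {x y : V} : x + y = 0 ↔ x = y :=
  ⟨fun h => by rw [← vv2 x y, h, zero_add], fun h => by rw [h, vv]⟩

theorem veq' {x y z : V} : x + y = z ↔ x = z + y :=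
  ⟨fun h => by rw [← h, vv2], fun h => by rw [h, vv2]⟩

theorem pp (x : V) : pol q x x = 0 := by
  rw [pol_self]; exact mul_eq_zero_of_left (by decide) _

theorem pl (x y z : V) : pol q (x + y) z = pol q x z + pol q y z := by
  rw [map_add, LinearMap.add_apply]

theorem pr (x y z : V) : pol q x (y + z) = pol q x y + pol q x z := map_add _ _ _

theorem psl (c : ZMod 2) (x z : V) : pol q (c • x) z = c * pol q x z := by
  rw [map_smul, LinearMap.smul_apply, smul_eq_mul]

theorem psr (c : ZMod 2) (x z : V) : pol q x (c • z) = c * pol q x z := by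
  rw [map_smul, smul_eq_mul]

theorem p0l (x : V) : pol q 0 x = 0 := by simp
theorem p0r (x : V) : pol q x 0 = 0 := by simp

theorem qs (c : ZMod 2) (x : V) : q (c • x) = c * q x := by
  rw [quad_smul, pow_two, z2sq]

theorem pc {x y : V} {c : ZMod 2} (h : pol q x y = c) : pol q y x = c := by rw [pol_comm, h]

theorem mem_sp {v x : V} : x ∈ Submodule.span (ZMod 2) {v} ↔ x = 0 ∨ x = v := by
  rw [Submodule.mem_span_singleton]
  constructor
  · rintro ⟨c, rfl⟩
    rcases z2 c with rfl | rfl <;> simp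
  · rintro (rfl | rfl)
    · exact ⟨0, by simp⟩
    · exact ⟨1, by simp⟩

theorem mem_sup_sp {B : Submodule (ZMod 2) V} {v x : V} :
    x ∈ B ⊔ Submodule.span (ZMod 2) {v} ↔ x ∈ B ∨ x + v ∈ B := by
  rw [Submodule.mem_sup]
  constructor
  · rintro ⟨a, ha, b, hb, rfl⟩
    rcases mem_sp.1 hb with rfl | rfl
    · left; simpa using ha
    · right; rwa [vv2]
  · rintro (h | h)
    · exact ⟨x, h, 0, zero_mem _, by simp⟩
    · exact ⟨x + v, h, v, mem_sp.2 (Or.inr rfl), vv2 _ _⟩

theorem mem_sp2 {u v x : V} :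
    x ∈ Submodule.span (ZMod 2) {u, v} ↔ x = 0 ∨ x = u ∨ x = v ∨ x = u + v := by
  rw [Submodule.mem_span_pair]
  constructor
  · rintro ⟨a, b, rfl⟩
    rcases z2 a with rfl | rfl <;> rcases z2 b with rfl | rfl <;> simp
  · rintro (rfl | rfl | rfl | rfl)
    · exact ⟨0, 0, by simp⟩
    · exact ⟨1, 0, by simp⟩
    · exact ⟨0, 1, by simp⟩
    · exact ⟨1, 1, by simp⟩

theorem mem_l {B : Submodule (ZMod 2) V} {x y : V} (h : x + y ∈ B) (hy : y ∈ B) : x ∈ B := by
  have := add_mem h hy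
  rwa [vv2] at this

theorem mem_r {B : Submodule (ZMod 2) V} {x y : V} (h : x + y ∈ B) (hx : x ∈ B) : y ∈ B := by
  have := add_mem hx h
  rwa [vv1] at this

theorem mem_pp {B : Submodule (ZMod 2) V} {y : V} :
    y ∈ (ofQuad q).perp B ↔ ∀ x ∈ B, pol q x y = 0 := Iff.rfl

theorem ts_pol {B : Submodule (ZMod 2) V} (h : TS q B) {x y : V} (hx : x ∈ B) (hy : y ∈ B) :
    pol q x y = 0 := by
  have := quad_add q x y
  rw [h _ (add_mem hx hy), h x hx, h y hy] at this
  simpa using this.symm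

theorem g_add (g : (ofQuad q).Isom) (x y : V) : g.1 (x + y) = g.1 x + g.1 y := map_add _ _ _
theorem g_smul (g : (ofQuad q).Isom) (c : ZMod 2) (x : V) : g.1 (c • x) = c • g.1 x :=
  map_smul _ _ _
theorem g_zero (g : (ofQuad q).Isom) : g.1 0 = 0 := map_zero _
theorem g_pol (g : (ofQuad q).Isom) (x y : V) : pol q (g.1 x) (g.1 y) = pol q x y :=
  Form.Isom.map_pol g x y
theorem g_q (g : (ofQuad q).Isom) (x : V) : q (g.1 x) = q x := Form.Isom.map_quad g x
theorem g_inj (g : (ofQuad q).Isom) {x y : V} (h : g.1 x = g.1 y) : x = y := g.1.injective h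
theorem g_ne (g : (ofQuad q).Isom) {x : V} (h : x ≠ 0) : g.1 x ≠ 0 := fun h' =>
  h (g_inj g (h'.trans (g_zero g).symm))
theorem g_pol_l (g : (ofQuad q).Isom) (x y : V) : pol q (g.1 x) y = pol q x ((g⁻¹).1 y) :=
  Form.Isom.B_left g x y
theorem g_pol_r (g : (ofQuad q).Isom) (x y : V) : pol q x (g.1 y) = pol q ((g⁻¹).1 x) y :=
  Form.Isom.B_right g x y
theorem g_sq {g : (ofQuad q).Isom} (h : g * g = 1) (x : V) : g.1 (g.1 x) = x := by
  rw [← Form.Isom.mul_apply, h, Form.Isom.one_apply]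

theorem inv_mem_iff {H : Subgroup (ofQuad q).Isom} {B : Submodule (ZMod 2) V} (h : InvS H B)
    {g : (ofQuad q).Isom} (hg : g ∈ H) {x : V} : g.1 x ∈ B ↔ x ∈ B :=
  ⟨fun hx => by simpa using h _ (inv_mem hg) _ hx, h g hg x⟩

theorem inv_inf {H : Subgroup (ofQuad q).Isom} {A B : Submodule (ZMod 2) V} (hA : InvS H A)
    (hB : InvS H B) : InvS H (A ⊓ B) := fun g hg b hb => ⟨hA g hg b hb.1, hB g hg b hb.2⟩

theorem inv_sup {H : Subgroup (ofQuad q).Isom} {A B : Submodule (ZMod 2) V} (hA : InvS H A)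
    (hB : InvS H B) : InvS H (A ⊔ B) := fun g hg x hx => by
  obtain ⟨a, ha, b, hb, rfl⟩ := Submodule.mem_sup.1 hx
  rw [g_add]
  exact add_mem (Submodule.mem_sup_left (hA g hg a ha)) (Submodule.mem_sup_right (hB g hg b hb))

theorem inv_top {H : Subgroup (ofQuad q).Isom} : InvS H (⊤ : Submodule (ZMod 2) V) :=
  fun _ _ _ _ => trivial

theorem inv_bot {H : Subgroup (ofQuad q).Isom} : InvS H (⊥ : Submodule (ZMod 2) V) :=
  fun g _ b hb => by rw [(Submodule.mem_bot _).1 hb, g_zero]; exact zero_mem _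

theorem inv_span {H : Subgroup (ofQuad q).Isom} {T : Set V} (h : ∀ g ∈ H, ∀ x ∈ T, g.1 x ∈ T) :
    InvS H (Submodule.span (ZMod 2) T) := by
  intro g hg b hb
  induction hb using Submodule.span_induction with
  | mem x hx => exact Submodule.subset_span (h g hg x hx)
  | zero => rw [g_zero]; exact zero_mem _
  | add x y _ _ h1 h2 => rw [g_add]; exact add_mem h1 h2
  | smul a x _ h1 => rw [g_smul]; exact Submodule.smul_mem _ _ h1

/-- a set closed under addition, as a subspace -/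
def mkSub (T : Set V) (h0 : (0 : V) ∈ T) (ha : ∀ x ∈ T, ∀ y ∈ T, x + y ∈ T) :
    Submodule (ZMod 2) V where
  carrier := T
  zero_mem' := h0
  add_mem' := fun hx hy => ha _ hx _ hy
  smul_mem' := fun c x hx => by
    rcases z2 c with rfl | rfl
    · rw [zero_smul]; exact h0
    · rw [one_smul]; exact hx

theorem mem_mkSub {T : Set V} {h0 : (0 : V) ∈ T} {ha : ∀ x ∈ T, ∀ y ∈ T, x + y ∈ T} {x : V} :
    x ∈ mkSub T h0 ha ↔ x ∈ T := Iff.rfl

variable [Finite V]

instance finIsom : Finite (ofQuad q).Isom :=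
  Finite.of_injective (fun g : (ofQuad q).Isom => (g.1 : V → V))
    fun _ _ h => Form.Isom.ext fun x => congrFun h x

theorem card_sub (B : Submodule (ZMod 2) V) : Nat.card B = 2 ^ finrank (ZMod 2) B := by
  rw [Module.natCard_eq_pow_finrank (K := ZMod 2), Nat.card_zmod]

theorem card_V : Nat.card V = 2 ^ finrank (ZMod 2) V := by
  rw [Module.natCard_eq_pow_finrank (K := ZMod 2), Nat.card_zmod]

theorem fr_sp (v : V) : finrank (ZMod 2) (Submodule.span (ZMod 2) ({v} : Set V)) ≤ 1 := by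
  simpa using finrank_span_le_card (R := ZMod 2) ({v} : Set V)

theorem fr_sp2 (u v : V) : finrank (ZMod 2) (Submodule.span (ZMod 2) ({u, v} : Set V)) ≤ 2 := by
  rw [Submodule.span_insert]
  have h1 := Submodule.finrank_add_le_finrank_add_finrank (Submodule.span (ZMod 2) ({u} : Set V))
    (Submodule.span (ZMod 2) ({v} : Set V))
  have := fr_sp u
  have := fr_sp v
  omega

theorem fr_sup_sp (B : Submodule (ZMod 2) V) (v : V) :
    finrank (ZMod 2) ↥(B ⊔ Submodule.span (ZMod 2) ({v} : Set V)) ≤ finrank (ZMod 2) B + 1 := by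
  have h1 := Submodule.finrank_add_le_finrank_add_finrank B
    (Submodule.span (ZMod 2) ({v} : Set V))
  have := fr_sp v
  omega

theorem fr_sup_sp' {B : Submodule (ZMod 2) V} {v : V} (hv : v ∉ B) :
    finrank (ZMod 2) ↥(B ⊔ Submodule.span (ZMod 2) ({v} : Set V)) = finrank (ZMod 2) B + 1 := by
  have h1 := fr_sup_sp B v
  have h2 : B < B ⊔ Submodule.span (ZMod 2) ({v} : Set V) :=
    lt_of_le_of_ne le_sup_left fun h => hv (by
      rw [h]; exact Submodule.mem_sup_right (mem_sp.2 (Or.inr rfl)))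
  have := Submodule.finrank_lt_finrank_of_lt h2
  omega

/-- the vectors of `W` perpendicular to a list of vectors -/
theorem exists_sub_perp (W : Submodule (ZMod 2) V) (l : List V) :
    ∃ K : Submodule (ZMod 2) V, (∀ s, s ∈ K ↔ s ∈ W ∧ ∀ x ∈ l, pol q x s = 0) ∧
      finrank (ZMod 2) W ≤ finrank (ZMod 2) K + l.length := by
  induction l with
  | nil => exact ⟨W, by simp, by simp⟩
  | cons a l ih =>
    obtain ⟨K, h1, h2⟩ := ih
    refine ⟨K ⊓ (ofQuad q).perp (Submodule.span (ZMod 2) {a}), fun s => ?_, ?_⟩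
    · rw [Submodule.mem_inf, h1, Form.mem_perp_singleton]
      simp only [List.forall_mem_cons]
      tauto
    · have := (ofQuad q).finrank_inf_perp_singleton K a
      simp only [List.length_cons]
      omega

theorem exists_perp (W U : Submodule (ZMod 2) V) (l : List V)
    (h : finrank (ZMod 2) U + l.length < finrank (ZMod 2) W) :
    ∃ s ∈ W, s ∉ U ∧ ∀ x ∈ l, pol q x s = 0 := by
  obtain ⟨K, h1, h2⟩ := exists_sub_perp (q := q) W l
  by_contra hc
  push Not at hc
  have : K ≤ U := fun s hs => by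
    by_contra hn
    obtain ⟨x, hx, hx'⟩ := hc s ((h1 s).1 hs).1 hn
    exact hx' (((h1 s).1 hs).2 x hx)
  have := Submodule.finrank_mono this
  omega

theorem exists_perp0 (W : Submodule (ZMod 2) V) (l : List V)
    (h : l.length < finrank (ZMod 2) W) : ∃ s ∈ W, s ≠ 0 ∧ ∀ x ∈ l, pol q x s = 0 := by
  obtain ⟨s, h1, h2, h3⟩ := exists_perp (q := q) W ⊥ l (by simpa using h)
  exact ⟨s, h1, by simpa using h2, h3⟩

theorem exists_perp1 (W : Submodule (ZMod 2) V) (d : V) (l : List V)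
    (h : l.length + 1 < finrank (ZMod 2) W) :
    ∃ s ∈ W, s ≠ 0 ∧ s ≠ d ∧ ∀ x ∈ l, pol q x s = 0 := by
  have := fr_sp d
  obtain ⟨s, h1, h2, h3⟩ := exists_perp (q := q) W (Submodule.span (ZMod 2) {d}) l (by omega)
  rw [mem_sp, not_or] at h2
  exact ⟨s, h1, h2.1, h2.2, h3⟩

theorem exists_perp2 (W : Submodule (ZMod 2) V) (c d : V) (l : List V)
    (h : l.length + 2 < finrank (ZMod 2) W) :
    ∃ s ∈ W, s ≠ 0 ∧ s ≠ c ∧ s ≠ d ∧ s ≠ c + d ∧ ∀ x ∈ l, pol q x s = 0 := by
  have := fr_sp2 c d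
  obtain ⟨s, h1, h2, h3⟩ := exists_perp (q := q) W (Submodule.span (ZMod 2) {c, d}) l (by omega)
  rw [mem_sp2] at h2
  push Not at h2
  exact ⟨s, h1, h2.1, h2.2.1, h2.2.2.1, h2.2.2.2, h3⟩

theorem sep (hq : (ofQuad q).Nondeg) {B : Submodule (ZMod 2) V} {u : V} (hu : u ∉ B) :
    ∃ x, (∀ b ∈ B, pol q b x = 0) ∧ pol q u x = 1 := hq.exists_perp_eq_one' hu

theorem sep0 (hq : (ofQuad q).Nondeg) {u : V} (hu : u ≠ 0) : ∃ x, pol q u x = 1 :=
  hq.exists_B_eq_one hu

theorem sep1 (hq : (ofQuad q).Nondeg) {u v : V} (h0 : u ≠ 0) (h1 : u ≠ v) :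
    ∃ x, pol q v x = 0 ∧ pol q u x = 1 := by
  obtain ⟨x, h2, h3⟩ := sep hq (B := Submodule.span (ZMod 2) {v}) (u := u)
    (by rw [mem_sp]; tauto)
  exact ⟨x, h2 v (mem_sp.2 (Or.inr rfl)), h3⟩

theorem sep2 (hq : (ofQuad q).Nondeg) {u v v' : V} (h0 : u ≠ 0) (h1 : u ≠ v) (h2 : u ≠ v')
    (h3 : u ≠ v + v') : ∃ x, pol q v x = 0 ∧ pol q v' x = 0 ∧ pol q u x = 1 := by
  obtain ⟨x, h4, h5⟩ := sep hq (B := Submodule.span (ZMod 2) {v, v'}) (u := u)
    (by rw [mem_sp2]; tauto)
  exact ⟨x, h4 v (mem_sp2.2 (by simp)), h4 v' (mem_sp2.2 (by simp)), h5⟩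

theorem fr_perp (hq : (ofQuad q).Nondeg) (B : Submodule (ZMod 2) V) :
    finrank (ZMod 2) B + finrank (ZMod 2) ((ofQuad q).perp B) = finrank (ZMod 2) V :=
  hq.finrank_perp B

theorem fr_si (A B : Submodule (ZMod 2) V) :
    finrank (ZMod 2) ↥(A ⊔ B) + finrank (ZMod 2) ↥(A ⊓ B) =
      finrank (ZMod 2) A + finrank (ZMod 2) B := Submodule.finrank_sup_add_finrank_inf_eq A B

theorem fr_le (A : Submodule (ZMod 2) V) : finrank (ZMod 2) A ≤ finrank (ZMod 2) V :=
  Submodule.finrank_le A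

theorem eq_of_fr {A B : Submodule (ZMod 2) V} (h : A ≤ B)
    (h' : finrank (ZMod 2) B ≤ finrank (ZMod 2) A) : A = B :=
  Submodule.eq_of_le_of_finrank_le h h'

theorem bot_of_fr {A : Submodule (ZMod 2) V} (h : finrank (ZMod 2) A = 0) : A = ⊥ :=
  Submodule.finrank_eq_zero.1 h

/-- an isotropic subspace of half the dimension is its own perp -/
theorem perp_self (hq : (ofQuad q).Nondeg) {A : Submodule (ZMod 2) V}
    (h1 : ∀ a ∈ A, ∀ b ∈ A, pol q a b = 0) (h2 : finrank (ZMod 2) V = 2 * finrank (ZMod 2) A)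
    {x : V} (hx : ∀ a ∈ A, pol q a x = 0) : x ∈ A := by
  have h3 : A = (ofQuad q).perp A := eq_of_fr (fun b hb a ha => h1 a ha b hb) (by
    have := fr_perp hq A; omega)
  rw [h3]; exact hx

end XL
end H28
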