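import Mathlib

/-! A trivial-intersection lemma for a class of involutions (HELD project). -/

set_option autoImplicit false
set_option linter.unusedSectionVars false

namespace H28

namespace TI

variable {G : Type*} [Group G]

theorem mul_pow_pow {a b : G} (ha : a * a = 1) (hb : b * b = 1) (k : ℕ) :
    (a * b) ^ k * a * (a * b) ^ k = a := by
  induction k with
  | zero => simp
  | succ k ih =>
    calc (a * b) ^ (k + 1) * a * (a * b) ^ (k + 1)
        = (a * b) ^ k * (a * (b * (a * a) * b)) * (a * b) ^ k := by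
          nth_rw 1 [pow_succ (a * b) k]; rw [pow_succ' (a * b) k]; simp only [mul_assoc]
      _ = a := by rw [ha, mul_one, hb, mul_one, ih]

theorem sq_pow_mul {a b : G} (ha : a * a = 1) (hb : b * b = 1) (k : ℕ) :
    (a * b) ^ k * a * ((a * b) ^ k * a) = 1 := by
  rw [← mul_assoc, mul_pow_pow ha hb, ha]

theorem conj_even {a b : G} (ha : a * a = 1) (hb : b * b = 1) (r : ℕ) :
    IsConj a ((a * b) ^ (2 * r) * a) := by
  refine isConj_iff.2 ⟨(a * b) ^ r, ?_⟩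
  rw [two_mul, pow_add, mul_assoc, mul_assoc, mul_inv_eq_iff_eq_mul.2 (mul_pow_pow ha hb r).symm]

theorem mul_pow_pow' {a b : G} (ha : a * a = 1) (hb : b * b = 1) (k : ℕ) :
    (a * b) ^ k * b * (a * b) ^ k = b := by
  induction k with
  | zero => simp
  | succ k ih =>
    calc (a * b) ^ (k + 1) * b * (a * b) ^ (k + 1)
        = (a * b) ^ k * (a * (b * b) * a * b) * (a * b) ^ k := by
          nth_rw 1 [pow_succ (a * b) k]; rw [pow_succ' (a * b) k]; simp only [mul_assoc]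
      _ = b := by rw [hb, mul_one, ha, one_mul, ih]

theorem conj_even' {a b : G} (ha : a * a = 1) (hb : b * b = 1) (r : ℕ) :
    IsConj b ((a * b) ^ (2 * r) * b) := by
  refine isConj_iff.2 ⟨(a * b) ^ r, ?_⟩
  rw [two_mul, pow_add, mul_assoc, mul_assoc, mul_inv_eq_iff_eq_mul.2 (mul_pow_pow' ha hb r).symm]

theorem conj_odd {a b : G} (ha : a * a = 1) (hb : b * b = 1) (r : ℕ) :
    IsConj b ((a * b) ^ (2 * r + 1) * a) := by
  have := conj_even' ha hb (r + 1)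
  rwa [mul_add, mul_one, pow_succ, mul_assoc, mul_assoc, hb, mul_one] at this

theorem half {a b : G} (ha : a * a = 1) (hb : b * b = 1) {m : ℕ} (h : (a * b) ^ (m + m) = 1) :
    (a * b) ^ m * (a * b) ^ m = 1 ∧ Commute ((a * b) ^ m) a ∧ Commute ((a * b) ^ m) b := by
  rw [pow_add] at h
  refine ⟨h, ?_, ?_⟩
  · have := mul_pow_pow ha hb m
    calc (a * b) ^ m * a = (a * b) ^ m * a * ((a * b) ^ m * (a * b) ^ m) := by rw [h, mul_one]
      _ = a * (a * b) ^ m := by rw [← mul_assoc, this]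
  · have := mul_pow_pow' ha hb m
    calc (a * b) ^ m * b = (a * b) ^ m * b * ((a * b) ^ m * (a * b) ^ m) := by rw [h, mul_one]
      _ = b * (a * b) ^ m := by rw [← mul_assoc, this]

theorem commute_of_odd {g x : G} (hg : Odd (orderOf g)) (h : Commute x (g * g)) : Commute x g := by
  obtain ⟨m, hm⟩ := hg
  have : g = (g * g) ^ (m + 1) := by
    rw [← sq, ← pow_mul, mul_add, mul_one, ← one_add_one_eq_two (R := ℕ), ← add_assoc,
      one_add_one_eq_two, ← hm, pow_succ, pow_orderOf_eq_one, one_mul]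
  rw [this]
  exact h.pow_right _

/-- The standing hypotheses. -/
structure Hyp (z : G) (V : Subgroup G) : Prop where
  zz : z * z = 1
  z1 : z ≠ 1
  zV : z ∈ V
  comm : ∀ v ∈ V, ∀ w ∈ V, v * w = w * v
  h1 : ∀ v ∈ V, v ≠ 1 → IsConj z v
  h2 : ∀ d, IsConj z d → d * z = z * d → d ∈ V

namespace Hyp

variable {z : G} {V : Subgroup G} (h : Hyp z V)
include h

theorem sq {d : G} (hd : IsConj z d) : d * d = 1 := by
  obtain ⟨g, rfl⟩ := isConj_iff.1 hd
  rw [conj_mul, h.zz]; group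

theorem ne_one {d : G} (hd : IsConj z d) : d ≠ 1 := by
  rintro rfl
  exact h.z1 (isConj_one_left.1 hd)

theorem conj_mem {g a : G} (ha : IsConj z a) (hab : Commute a (g * z * g⁻¹)) : g⁻¹ * a * g ∈ V :=
  h.h2 _ (ha.trans (isConj_iff.2 ⟨g⁻¹, by simp⟩)) (by
    have := hab.conj g⁻¹
    simp only [inv_inv, mul_assoc, inv_mul_cancel, mul_one, inv_mul_cancel_left] at this
    simpa only [mul_assoc] using this.eq)

theorem trans {a b c : G} (ha : IsConj z a) (hb : IsConj z b) (hc : IsConj z c) (hab : Commute a b)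
    (hbc : Commute b c) : Commute a c := by
  obtain ⟨g, rfl⟩ := isConj_iff.1 hb
  have := (show Commute _ _ from h.comm _ (h.conj_mem ha hab) _ (h.conj_mem hc hbc.symm)).conj g
  simpa [mul_assoc] using this

theorem mul {a b : G} (ha : IsConj z a) (hb : IsConj z b) (hab : Commute a b) (h1 : a * b ≠ 1) :
    IsConj z (a * b) := by
  obtain ⟨g, rfl⟩ := isConj_iff.1 hb
  have := h.h1 _ (V.mul_mem (h.conj_mem ha hab) h.zV) fun e => h1 (by
    calc a * (g * z * g⁻¹) = g * (g⁻¹ * a * g * z) * g⁻¹ := by group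
      _ = 1 := by rw [e]; group)
  exact this.trans (isConj_iff.2 ⟨g, by group⟩)

theorem mem_of {d v : G} (hd : IsConj z d) (hv : v ∈ V) (hv1 : v ≠ 1) (hc : Commute d v) : d ∈ V :=
  h.h2 d hd (h.trans hd (h.h1 v hv hv1) (IsConj.refl z) hc (h.comm _ hv _ h.zV))

theorem norm {g w : G} (hw : w ∈ V) (hw1 : w ≠ 1) (hg : g * w * g⁻¹ ∈ V) {v : G} (hv : v ∈ V) :
    g * v * g⁻¹ ∈ V := by
  by_cases h1 : v = 1
  · simp [h1]
  exact h.mem_of ((h.h1 v hv h1).trans (isConj_iff.2 ⟨g, rfl⟩)) hg (by simpa using hw1)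
    ((show Commute v w from h.comm _ hv _ hw).conj g)

theorem mem_of_norm {d : G} (hd : IsConj z d) (hn : d * z * d⁻¹ ∈ V) : d ∈ V := by
  have hdd := h.sq hd
  rw [inv_eq_of_mul_eq_one_right hdd] at hn
  by_cases h1 : z * (d * z * d) = 1
  · refine h.h2 d hd ?_
    calc d * z = z * (z * (d * z * d)) * d := by
          rw [← mul_assoc z z, h.zz, one_mul, mul_assoc, hdd, mul_one]
      _ = z * d := by rw [h1, mul_one]
  refine h.mem_of hd (V.mul_mem h.zV hn) h1 ?_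
  calc d * (z * (d * z * d)) = (d * z * d) * z * d := by group
    _ = z * (d * z * d) * d := by rw [h.comm _ hn _ h.zV]

variable [Finite G]

theorem odd {a b : G} (ha : IsConj z a) (hb : IsConj z b) (hab : ¬ Commute a b) :
    Odd (orderOf (a * b)) := by
  refine Nat.not_even_iff_odd.1 fun ⟨m, hm⟩ => hab ?_
  have haa := h.sq ha
  have hbb := h.sq hb
  have h0 := orderOf_pos (a * b)
  obtain ⟨-, h2, h3⟩ := half haa hbb (m := m) (by rw [← hm, pow_orderOf_eq_one])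
  have h4 : IsConj z ((a * b) ^ m * a) := by
    rcases Nat.even_or_odd' m with ⟨r, rfl | rfl⟩
    exacts [ha.trans (conj_even haa hbb r), hb.trans (conj_odd haa hbb r)]
  have h5 := h.mul h4 ha (h2.mul_left (Commute.refl a))
  rw [mul_assoc, haa, mul_one] at h5
  exact h.trans ha (h5 (pow_ne_one_of_lt_orderOf (by omega) (by omega))) hb h2.symm h3

theorem exists_swap {w y t : G} (hw : IsConj z w) (hy : IsConj z y) (hwy : ¬ Commute w y)
    (h1 : Commute t w) (h2 : Commute t y) : ∃ d, IsConj z d ∧ Commute t d ∧ d * w * d = y := by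
  have hww := h.sq hw
  have hyy := h.sq hy
  obtain ⟨m, hm⟩ := h.odd hw hy hwy
  refine ⟨(w * y) ^ m * w, ?_, ((h1.mul_right h2).pow_right m).mul_right h1, ?_⟩
  · rcases Nat.even_or_odd' m with ⟨r, rfl | rfl⟩
    exacts [hw.trans (conj_even hww hyy r), hy.trans (conj_odd hww hyy r)]
  · have h3 := pow_orderOf_eq_one (w * y)
    rw [hm, pow_succ, two_mul, pow_add] at h3
    rw [mul_assoc ((w * y) ^ m) w w, hww, mul_one, ← mul_assoc]
    exact mul_right_cancel (b := y) (by rw [mul_assoc, h3, hyy])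

theorem claim {t : G} (htt : t * t = 1) (hv0 : ∃ v ∈ V, t * v ≠ v * t)
    (hW : ∀ v ∈ V, ∀ w ∈ V, t * v ≠ v * t → t * w ≠ w * t → t * (v * w) = v * w * t)
    (hw : ∃ w₁ ∈ V, ∃ w₂ ∈ V, w₁ ≠ 1 ∧ w₂ ≠ 1 ∧ w₁ ≠ w₂ ∧ t * w₁ = w₁ * t ∧ t * w₂ = w₂ * t)
    {y₀ : G} (hy₀ : IsConj z y₀) (hc : Commute y₀ (t * y₀ * t⁻¹)) : y₀ ∈ V := by
  by_contra hV
  obtain ⟨y, hy, hyV, hty⟩ : ∃ y, IsConj z y ∧ y ∉ V ∧ Commute t y := by
    rw [inv_eq_of_mul_eq_one_right htt] at hc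
    by_cases h1 : y₀ * (t * y₀ * t) = 1
    · refine ⟨y₀, hy₀, hV, ?_⟩
      calc t * y₀ = y₀ * (y₀ * (t * y₀ * t)) * t := by
            rw [← mul_assoc y₀ y₀, h.sq hy₀, one_mul, mul_assoc, htt, mul_one]
        _ = y₀ * t := by rw [h1, mul_one]
    refine ⟨_, h.mul hy₀ (hy₀.trans (isConj_iff.2 ⟨t, by rw [inv_eq_of_mul_eq_one_right htt]⟩))
      hc h1, fun hm => hV (h.mem_of hy₀ hm h1 ((Commute.refl _).mul_right hc)), ?_⟩
    calc t * (y₀ * (t * y₀ * t)) = (t * y₀ * t) * y₀ * t := by group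
      _ = y₀ * (t * y₀ * t) * t := by rw [hc.eq]
  obtain ⟨w₁, m1, w₂, m2, n1, n2, h12, c1, c2⟩ := hw
  obtain ⟨d₁, d1, t1, e1⟩ := h.exists_swap (h.h1 _ m1 n1) hy
    (fun e => hyV (h.mem_of hy m1 n1 e.symm)) c1 hty
  obtain ⟨d₂, d2, t2, e2⟩ := h.exists_swap (h.h1 _ m2 n2) hy
    (fun e => hyV (h.mem_of hy m2 n2 e.symm)) c2 hty
  have s1 := h.sq d1
  have s2 := h.sq d2
  have hd1 : d₁ ∉ V := fun e => hyV (e1 ▸ V.mul_mem (V.mul_mem e m1) e)
  have hκ : d₁ * d₂ * w₂ * (d₁ * d₂)⁻¹ = w₁ := by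
    rw [mul_inv_rev, inv_eq_of_mul_eq_one_right s1, inv_eq_of_mul_eq_one_right s2]
    calc d₁ * d₂ * w₂ * (d₂ * d₁) = d₁ * (d₂ * w₂ * d₂) * d₁ := by group
      _ = (d₁ * d₁) * w₁ * (d₁ * d₁) := by rw [e2, ← e1]; group
      _ = w₁ := by rw [s1]; group
  have hκ1 : d₁ * d₂ ≠ 1 := fun e => h12 (by rw [← hκ, e]; group)
  have hκV : ∀ v ∈ V, d₁ * d₂ * v * (d₁ * d₂)⁻¹ ∈ V := fun v hv => h.norm m2 n2 (hκ ▸ m1) hv
  have hodd : Odd (orderOf (d₁ * d₂)) := h.odd d1 d2 fun e => hd1 (h.mem_of d1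
    (h.mem_of_norm (h.mul d1 d2 e hκ1) (hκV z h.zV)) hκ1 ((Commute.refl _).mul_right e))
  have htκ : Commute t (d₁ * d₂) := t1.mul_right t2
  have hinv : d₁ * (d₁ * d₂)⁻¹ * d₁ = d₁ * d₂ := by
    rw [mul_inv_rev, inv_eq_of_mul_eq_one_right s1, inv_eq_of_mul_eq_one_right s2, mul_assoc,
      mul_assoc, s1, mul_one]
  generalize d₁ * d₂ = κ at *
  obtain ⟨v₀, hv₀, hn₀⟩ := hv0
  have key : ∀ k : ℕ, (v₀ * κ) ^ k * (κ ^ k)⁻¹ ∈ V ∧
      (Commute t ((v₀ * κ) ^ k * (κ ^ k)⁻¹) ↔ Even k) := fun k => by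
    induction k with
    | zero => simp
    | succ k ih =>
      have e : (v₀ * κ) ^ (k + 1) * (κ ^ (k + 1))⁻¹ =
          v₀ * (κ * ((v₀ * κ) ^ k * (κ ^ k)⁻¹) * κ⁻¹) := by rw [pow_succ', pow_succ']; group
      have e' : Commute t (κ * ((v₀ * κ) ^ k * (κ ^ k)⁻¹) * κ⁻¹) ↔ Even k := by
        rw [← ih.2]
        refine ⟨fun hc => ?_, fun hc => (htκ.mul_right hc).mul_right htκ.inv_right⟩
        simpa [mul_assoc] using (htκ.inv_right.mul_right hc).mul_right htκ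
      rw [e, Nat.even_add_one, ← e']
      refine ⟨V.mul_mem hv₀ (hκV _ ih.1), fun hc hc' => hn₀ ?_,
        fun hc => hW _ hv₀ _ (hκV _ ih.1) hn₀ hc⟩
      have := hc.mul_right hc'.inv_right
      rwa [mul_inv_cancel_right] at this
  obtain ⟨hv, hv'⟩ := key (orderOf κ)
  rw [pow_orderOf_eq_one, inv_one, mul_one] at hv hv'
  have hκv : Commute κ ((v₀ * κ) ^ orderOf κ) := by
    simpa using (show Commute v₀ _ from h.comm _ hv₀ _ hv).inv_left.mul_left
      ((Commute.refl (v₀ * κ)).pow_right (orderOf κ))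
  have hv1 : (v₀ * κ) ^ orderOf κ ≠ 1 := fun e =>
    Nat.not_even_iff_odd.2 hodd (hv'.1 (e ▸ Commute.one_right t))
  generalize (v₀ * κ) ^ orderOf κ = v at *
  have h3 : Commute κ (d₁ * v * d₁) := by
    have := hκv.inv_left.conj d₁
    rwa [inv_eq_of_mul_eq_one_right s1, hinv] at this
  have h4 := commute_of_odd (h.odd d1 (h.h1 v hv hv1) fun e => hd1 (h.mem_of d1 hv hv1 e))
    (x := κ) (by rw [← mul_assoc]; exact h3.mul_right hκv)
  have h5 : Commute κ d₁ := by simpa using h4.mul_right hκv.inv_right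
  have h6 : κ * κ = 1 := by
    nth_rw 2 [← hinv]
    rw [mul_assoc, h5.inv_left.eq, ← mul_assoc d₁, s1, one_mul, mul_inv_cancel]
  obtain ⟨m, hm⟩ := hodd
  have h7 := pow_orderOf_eq_one κ
  rw [hm, pow_succ, pow_mul, pow_two, h6, one_pow, one_mul] at h7
  exact hκ1 h7

end Hyp

end TI

open TI in
theorem ti_normal {G : Type*} [Group G] [Finite G] {z τ : G} {V : Subgroup G}
    (hz : orderOf z = 2) (hzV : z ∈ V) (hVc : ∀ v ∈ V, ∀ w ∈ V, v * w = w * v)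
    (h1 : ∀ v ∈ V, v ≠ 1 → IsConj z v) (h2 : ∀ d, IsConj z d → d * z = z * d → d ∈ V)
    (hτ : orderOf τ = 2) (hτz : ¬ IsConj z τ) (hτV : ∀ v ∈ V, τ * v * τ⁻¹ ∈ V)
    (hv0 : ∃ v ∈ V, τ * v ≠ v * τ)
    (hW : ∀ v ∈ V, ∀ w ∈ V, τ * v ≠ v * τ → τ * w ≠ w * τ → τ * (v * w) = v * w * τ)
    (hw : ∃ w₁ ∈ V, ∃ w₂ ∈ V, w₁ ≠ 1 ∧ w₂ ≠ 1 ∧ w₁ ≠ w₂ ∧ τ * w₁ = w₁ * τ ∧ τ * w₂ = w₂ * τ) :
    V.Normal := by
  have h : Hyp z V := ⟨by rw [← sq, ← hz, pow_orderOf_eq_one], by rintro rfl; simp at hz,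
    hzV, hVc, h1, h2⟩
  have hττ : τ * τ = 1 := by rw [← sq, ← hτ, pow_orderOf_eq_one]
  suffices key : ∀ y, IsConj z y → y ∈ V by
    refine ⟨fun v hv g => ?_⟩
    by_cases e : v = 1
    · simp [e]
    exact key _ ((h1 v hv e).trans (isConj_iff.2 ⟨g, rfl⟩))
  intro y hy
  have hyy := h.sq hy
  obtain ⟨m, hm⟩ : Even (orderOf (τ * y)) := by
    refine Nat.not_odd_iff_even.1 fun ⟨m, hm⟩ => hτz ?_
    have := conj_odd hττ hyy m
    rw [← hm, pow_orderOf_eq_one, one_mul] at this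
    exact hy.trans this
  have h0 := orderOf_pos (τ * y)
  obtain ⟨h3, h4, h5⟩ := half hττ hyy (m := m) (by rw [← hm, pow_orderOf_eq_one])
  have hj1 : (τ * y) ^ m ≠ 1 := pow_ne_one_of_lt_orderOf (by omega) (by omega)
  have hjz : (τ * y) ^ m * z * ((τ * y) ^ m)⁻¹ ∈ V := by
    refine h.claim hττ hv0 hW hw (isConj_iff.2 ⟨_, rfl⟩) ?_
    have := (show Commute z _ from hVc _ hzV _ (hτV z hzV)).conj ((τ * y) ^ m)
    convert this using 1
    calc τ * ((τ * y) ^ m * z * ((τ * y) ^ m)⁻¹) * τ⁻¹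
        = (τ * (τ * y) ^ m) * z * (τ * (τ * y) ^ m)⁻¹ := by group
      _ = _ := by rw [← h4.eq]; group
  rcases Nat.even_or_odd' m with ⟨r, rfl | rfl⟩
  · have h6 := h.mul (hy.trans (conj_even' hττ hyy r)) hy (h5.mul_left (Commute.refl y))
    rw [mul_assoc, hyy, mul_one] at h6
    exact h.mem_of hy (h.mem_of_norm (h6 hj1) hjz) hj1 h5.symm
  · have h6 : (τ * y) ^ (2 * r + 1) * τ ∈ V := h.mem_of_norm (hy.trans (conj_odd hττ hyy r)) (by
      simpa [mul_assoc] using h.norm hzV h.z1 hjz (hτV z hzV))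
    generalize (τ * y) ^ (2 * r + 1) = j at *
    have e : ∀ v ∈ V, j * v = v * j ↔ τ * v = v * τ := fun v hv => by
      have e1 : j = j * τ * τ := by rw [mul_assoc, hττ, mul_one]
      rw [e1, mul_assoc (j * τ), ← mul_assoc v, ← hVc _ h6 _ hv, mul_assoc (j * τ), mul_right_inj]
    obtain ⟨v₀, hv₀, hn₀⟩ := hv0
    obtain ⟨w₁, m1, w₂, m2, n1, n2, h12, c1, c2⟩ := hw
    refine h.claim h3 ⟨v₀, hv₀, mt (e _ hv₀).1 hn₀⟩ (fun v hv w hw a b =>
      (e _ (V.mul_mem hv hw)).2 (hW v hv w hw (mt (e _ hv).2 a) (mt (e _ hw).2 b)))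
      ⟨w₁, m1, w₂, m2, n1, n2, h12, (e _ m1).2 c1, (e _ m2).2 c2⟩ hy ?_
    rw [h5.eq, mul_inv_cancel_right]

end H28
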