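import Mathlib
import Cfsg.Agent.H28.HeldHe
import Cfsg.Agent.H28.HeldTI

/-! Groups with the involution centraliser of `L₅(2)`: Held's theorem. -/

set_option autoImplicit false
set_option linter.unusedSectionVars false
set_option synthInstance.maxSize 4096

namespace H28

namespace Held

open H29

variable {G : Type*} [Group G] [Finite G] {φ : Hc →* G}

theorem HS.order (H : HS φ) {a : Hc} (h : a * a = 1 ∧ a ≠ 1) : orderOf (φ a) = 2 := by
  rw [orderOf_injective φ H.inj]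
  exact orderOf_eq_prime (by rw [pow_two, h.1]) h.2

theorem HS.into_H (H : HS φ) {m : ℕ} (P : Pat φ (IsConj (φ zc)) m) {d : G} (h1 : IsConj (φ zc) d)
    (h2 : d * φ zc = φ zc * d) :
    ∃ k < 8, m.testBit k = true ∧ ∃ h, d = φ (h⁻¹ * rep k * h) := by
  obtain ⟨c, rfl⟩ := isConj_iff.1 h1
  obtain ⟨k, hk, _, ⟨h, rfl⟩, e⟩ := H.into_M (M := φ.range) (fun h => ⟨h, rfl⟩) (H.cen _ h2)
    (by rw [conj_mul, ← map_mul, Uc_sq true _ (zc_mem _)]; simp)
    (by rw [Ne, conj_eq_one_iff, map_eq_one_iff φ H.inj]; decide +kernel)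
  exact ⟨k, hk, (P.rep hk).1 (e ▸ P.inv _ _ h1), h, by rw [map_mul, map_mul, ← e, map_inv]; group⟩

theorem mem_eL (x : Bool → G) {L : List ℕ} (hL : ∀ c ∈ [0, 1, 2, 3, 5, 6], c ∈ L) :
    (∀ h, φ h ∈ gen (eL φ x) L) ∧ ∀ i, nw i ∈ L → x i ∈ gen (eL φ x) L := by
  have h : ∀ h, φ h ∈ gen (eL φ x) L := mem_of_lt fun c hc => eL_H (φ := φ) x c hc ▸ mem_gen (hL c hc)
  exact ⟨h, fun i hi => (Subgroup.mul_mem_cancel_left _ (h (tt i))).1 (eL_nw (φ := φ) x i ▸ mem_gen hi)⟩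

theorem HS.agl (H : HS φ) {i : Bool} (P : Pat φ (IsConj (φ zc)) (cond i 5 3)) :
    ((Vc i).map φ).Normal ∧ Nonempty (G ≃* MulAction.stabilizer L5 e0) := by
  have f : cond i 5 3 ∈ [3, 5, 23, 87, 151, 215] ∧ (cond i 5 3).testBit (cls (uu i)) = true ∧
      om (cond i 5 3) i = false ∧ (cond i 5 3).testBit (cls (uu (!i))) = false ∧
      uu (!i) * tt (!i) ≠ tt (!i) * uu (!i) ∧ uu (!i) * uu i = uu i * uu (!i) ∧
      (zc * zc = 1 ∧ zc ≠ 1) ∧ (uu (!i) * uu (!i) = 1 ∧ uu (!i) ≠ 1) ∧ uu (!i) ∈ Tc ∧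
      ∀ c ∈ [0, 1, 2, 3, 5, 6], ∀ a ∈ Vc i, lt c * a * lt c ∈ Vc i := by
    cases i <;> decide +kernel
  obtain ⟨hm, f1, f2, f3, f4, f5, f6, f7, f8, f9⟩ := f
  obtain ⟨-, -, v3, v4, -, -, v7, -⟩ := chk_V i
  obtain ⟨n, S⟩ := H.exists_side hm P f1
  obtain ⟨x, rfl, hx⟩ : ∃ x : Bool → G, x i = n ∧ x (!i) = φ (tt (!i)) :=
    ⟨fun j => if j = i then n else φ (tt j), by simp, by simp⟩
  obtain ⟨k1, k2⟩ := mem_eL (φ := φ) x (L := nw i :: [0, 1, 2, 3, 5, 6])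
    fun c hc => List.mem_cons_of_mem _ hc
  have hV : ∀ {v}, v ∈ Vc i → v ≠ 1 → _ := cj_V k1 (k2 i (by simp)) S.hz
  have hN : ((Vc i).map φ).Normal := by
    refine ti_normal (τ := φ (uu (!i))) (H.order f6) ⟨zc, v4 _ (by simp), rfl⟩ ?_ ?_ ?_ (H.order f7)
      (by rw [P.iff _ f8 f7.1, f3]; simp) ?_ ⟨_, ⟨_, v4 (tt (!i)) (by simp), rfl⟩, fun e => f4 (H.inj
        (by rwa [map_mul, map_mul]))⟩ ?_ ⟨_, ⟨_, v4 zc (by simp), rfl⟩, _, ⟨_, v4 (uu i) (by simp), rfl⟩,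
        (map_ne_one_iff φ H.inj).2 f6.2, (map_ne_one_iff φ H.inj).2 (side_facts i).2.2.2.2.2.2.1,
        H.inj.ne (side_facts i).2.2.2.2.2.2.2.1.symm, by rw [← map_mul, zc_comm, map_mul],
        by rw [← map_mul, f5, map_mul]⟩
    · rintro _ ⟨v, hv, rfl⟩ _ ⟨w, hw, rfl⟩
      rw [← map_mul, (v7 v hv w hw).1, map_mul]
    · rintro _ ⟨v, hv, rfl⟩ h
      obtain ⟨g, -, e⟩ := hV hv fun e => h (by rw [e, map_one])
      exact isConj_iff.2 ⟨g, e⟩
    · intro d h1 h2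
      obtain ⟨k, hk, e, h, rfl⟩ := H.into_H P h1 h2
      exact ⟨_, by simpa using norm_of_lt f9 h⁻¹ _ (v3 k hk e), rfl⟩
    · rintro _ ⟨v, hv, rfl⟩
      exact ⟨_, norm_of_lt f9 (uu (!i)) v hv, by simp⟩
    · rintro _ ⟨v, hv, rfl⟩ _ ⟨w, hw, rfl⟩ h1 h2
      simp only [← map_mul, H.inj.ne_iff] at h1 h2 ⊢
      rw [(v7 v hv w hw).2 h1 h2]
  refine ⟨hN, iso_ab i (eL_iv (φ := φ) (x := x) fun j => ?_) (fun r hr => ?_) (eq_top_iff.2 fun g _ => ?_) ?_⟩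
  · by_cases e : j = i
    · exact e ▸ S.tn
    · obtain rfl : j = !i := by cases i <;> simpa using e
      rw [hx, ← map_mul, (side_facts _).2.2.2.2.2.2.2.2.2.2.2.1, map_one, one_mul]
  · exact (rel_ab i r hr).elim (rel_H x) fun h => h.elim (S.rel_M H
      (List.forall_mem_cons.2 ⟨S.lt_nw hm, S.lt_H hm⟩)) (Side.rel_V (f2 ▸ S) H)
  · obtain ⟨v, hv, e⟩ := hN.conj_mem _ ⟨zc, v4 _ (by simp), rfl⟩ g
    obtain ⟨k, hk, e'⟩ := hV hv (H.ne_one (Eq.symm e) f6.2)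
    obtain ⟨h, hh⟩ := H.of_cj (e'.symm.comp (Eq.symm e))
    exact (Subgroup.mul_mem_cancel_left _ (Subgroup.inv_mem _ hk)).1 (hh ▸ k1 h)
  · exact (card_ge H.inj (K := ⊤) (fun _ => trivial) trivial S.hz).trans Subgroup.card_top.le

theorem HS.main (H : HS φ) (h : ¬ Cfsg.IsIsolatedInvolution (φ zc)) :
    (∃ i, ((Vc i).map φ).Normal ∧ Nonempty (G ≃* MulAction.stabilizer L5 e0)) ∨
      Nonempty (G ≃* L5) ∨ Nonempty (G ≃* Cfsg.M24) ∨ Cfsg.Spor.IsoHe G := by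
  obtain ⟨m, hm, P⟩ := H.exists_D
  have hz := H.order (a := zc) (by decide +kernel)
  have : Nontrivial G := ⟨_, _, (map_ne_one_iff φ H.inj).2 (show zc ≠ 1 by decide +kernel)⟩
  rcases List.mem_cons.1 hm with rfl | hm
  · refine absurd ⟨hz, fun g hg => ?_⟩ h
    obtain ⟨k, hk, e, h, e'⟩ := H.into_H P (isConj_iff.2 ⟨g, rfl⟩) hg.eq.symm
    obtain rfl : k = 0 := by clear e'; revert k; decide
    rw [e', rep_zero, zc_comm, inv_mul_cancel_right]
  rcases List.mem_cons.1 hm with rfl | hm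
  · exact Or.inl ⟨false, H.agl P⟩
  rcases List.mem_cons.1 hm with rfl | hm
  · exact Or.inl ⟨true, H.agl P⟩
  obtain ⟨x, B⟩ := H.exists_both hm P
  obtain ⟨k1, k2⟩ := mem_eL (φ := φ) x (L := [0, 1, 2, 3, 4, 5, 6, 7]) (by decide)
  have top := eq_top H hm P B k1 fun i => k2 i (by cases i <;> decide)
  have iv := eL_iv (φ := φ) fun i => (B.side i).tn
  have rel := fun r => B.rel H hm (r := r)
  simp only [List.mem_cons, List.not_mem_nil, or_false] at hm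
  rcases hm with rfl | rfl | rfl | rfl
  exacts [Or.inr (Or.inl (iso_pp iv (fun r hr => rel r (rel_pp r hr)) top)),
    Or.inr (Or.inr (Or.inl (iso_pq iv (fun r hr => rel r (rel_pq r hr)) top))),
    Or.inr (Or.inr (Or.inl (iso_qp iv (fun r hr => rel r (rel_qp r hr)) top))),
    Or.inr (Or.inr (Or.inr (iso_qq iv (fun r hr => rel r (rel_qq r hr)) top)))]

end Held

open Held

theorem held_four {G : Type*} [Group G] [Finite G]
    (s : Matrix.SpecialLinearGroup (Fin 5) (ZMod 2))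
    (hs : (s : Matrix (Fin 5) (Fin 5) (ZMod 2)) = Matrix.transvection 0 1 1) (z : G)
    (hz : orderOf z = 2) (e : Subgroup.centralizer ({z} : Set G) ≃*
      Subgroup.centralizer ({s} : Set (Matrix.SpecialLinearGroup (Fin 5) (ZMod 2))))
    (h : ¬ Cfsg.IsIsolatedInvolution z) :
    (∃ v : Fin 5 → ZMod 2, v ≠ 0 ∧ ¬ IsSimpleGroup G ∧ Nonempty
      (G ≃* MulAction.stabilizer (Matrix.SpecialLinearGroup (Fin 5) (ZMod 2)) v)) ∨
    Nonempty (G ≃* Matrix.SpecialLinearGroup (Fin 5) (ZMod 2)) ∨ Nonempty (G ≃* Cfsg.M24) ∨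
      Cfsg.Spor.IsoHe G := by
  obtain rfl : s = s5 := Subtype.ext hs
  obtain ⟨φ, H, rfl⟩ := exists_HS hz e
  refine (H.main h).imp_left fun ⟨i, h1, h2⟩ => ⟨e0, by decide, fun _ => ?_, h2⟩
  have f : zc ∈ Vc i ∧ zc ≠ 1 ∧ tt i ∉ Vc i := by cases i <;> decide +kernel
  rcases h1.eq_bot_or_eq_top with k | k
  · exact (map_ne_one_iff φ H.inj).2 f.2.1 (k.le ⟨zc, f.1, rfl⟩)
  · obtain ⟨v, hv, e⟩ := k.ge (Subgroup.mem_top (φ (tt i)))
    exact f.2.2 (H.inj e ▸ hv)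

theorem held_simple {G : Type*} [Group G] [Finite G] [IsSimpleGroup G]
    (s : Matrix.SpecialLinearGroup (Fin 5) (ZMod 2))
    (hs : (s : Matrix (Fin 5) (Fin 5) (ZMod 2)) = Matrix.transvection 0 1 1) (j : G) (hj : orderOf j = 2)
    (e : Subgroup.centralizer ({j} : Set G) ≃*
      Subgroup.centralizer ({s} : Set (Matrix.SpecialLinearGroup (Fin 5) (ZMod 2)))) :
    Nonempty (G ≃* Matrix.SpecialLinearGroup (Fin 5) (ZMod 2)) ∨ Nonempty (G ≃* Cfsg.M24) ∨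
      Cfsg.Spor.IsoHe G := by
  refine (held_four s hs j hj e fun h => ?_).resolve_left fun ⟨_, _, h, _⟩ => h inferInstance
  obtain rfl : s = s5 := Subtype.ext hs
  obtain ⟨φ, H, rfl⟩ := exists_HS hj e
  have hO : Cfsg.pPrimeCore 2 G = ⊥ :=
    (Subgroup.Normal.eq_bot_or_eq_top inferInstance).resolve_right fun k => by
      have := H17.odd_card_pPrimeCore (G := G)
      rw [k, Subgroup.card_top] at this
      exact this.not_two_dvd_nat (hj ▸ orderOf_dvd_natCard _)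
  have hN : (Subgroup.zpowers (φ zc)).Normal := ⟨fun n hn g => by
    obtain ⟨k, rfl⟩ := Subgroup.mem_zpowers_iff.1 hn
    rwa [← ((H17.zstar_central hO h g).zpow_left k).eq, mul_inv_cancel_right]⟩
  rcases hN.eq_bot_or_eq_top with k | k
  · rw [Subgroup.zpowers_eq_bot.1 k, orderOf_one] at hj
    exact absurd hj (by norm_num)
  · have := Nat.card_le_card_of_injective φ H.inj
    rw [Hc.card, ← Subgroup.card_top, ← k, Nat.card_zpowers, hj] at this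
    exact absurd this (by norm_num)

end H28
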