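import Mathlib
import Cfsg.Agent.H20.TB0

/-!
# Root group systems from parametrised families
-/

set_option autoImplicit false
set_option linter.all false

namespace H28.CM

open Subgroup H20.TB
open scoped commutatorElement

variable {F S G : Type*} [Field F] [Group S] [Group G]

/-- A family of one-parameter subgroups. -/
structure Fam (F S : Type*) [Field F] [Group S] where
  x : ℤ → F → S
  add : ∀ i s t, x i (s + t) = x i s * x i t

namespace Fam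

variable (X : Fam F S) (π : S →* G)

theorem zero (i : ℤ) : X.x i 0 = 1 := by simpa using X.add i 0 0

/-- The root groups. -/
def U (i : ℤ) : Subgroup G where
  carrier := {g | ∃ t, π (X.x i t) = g}
  mul_mem' := by rintro _ _ ⟨s, rfl⟩ ⟨t, rfl⟩; exact ⟨s + t, by rw [X.add, map_mul]⟩
  one_mem' := ⟨0, by rw [X.zero, map_one]⟩
  inv_mem' := by
    rintro _ ⟨t, rfl⟩
    exact ⟨-t, eq_inv_of_mul_eq_one_left (by rw [← map_mul, ← X.add, neg_add_cancel, X.zero, map_one])⟩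

theorem mem (i : ℤ) (t : F) : π (X.x i t) ∈ X.U π i := ⟨t, rfl⟩

variable {X π}

theorem cj_iff {m : S} {j k : ℤ} (h : ∃ c : F, c ≠ 0 ∧ ∀ t, m * X.x j t = X.x k (c * t) * m) (g : G) :
    g ∈ X.U π j ↔ π m * g * (π m)⁻¹ ∈ X.U π k := by
  obtain ⟨c, hc, h⟩ := h
  have e : ∀ t, π m * π (X.x j t) * (π m)⁻¹ = π (X.x k (c * t)) := fun t => by
    rw [← map_mul, h, map_mul, mul_inv_cancel_right]
  constructor
  · rintro ⟨t, rfl⟩; exact ⟨_, (e t).symm⟩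
  · rintro ⟨t, ht⟩
    refine ⟨c⁻¹ * t, ?_⟩
    have := e (c⁻¹ * t)
    rw [mul_inv_cancel_left₀ hc, ht] at this
    simpa using this

theorem inj {i : ℤ} (h : ∀ t, π (X.x i t) = 1 → t = 0) : Function.Injective fun t => π (X.x i t) :=
  fun s t e => sub_eq_zero.1 (h _ (by
    have := X.add i (s - t) t
    rw [sub_add_cancel] at this
    have e' : π (X.x i s) = π (X.x i t) := e
    rw [this, map_mul] at e'
    simpa using e'))

theorem card {i : ℤ} (h : ∀ t, π (X.x i t) = 1 → t = 0) : Nat.card (X.U π i) = Nat.card F :=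
  (Nat.card_congr (Equiv.ofBijective (fun t => (⟨_, X.mem π i t⟩ : X.U π i))
    ⟨fun s t e => inj h (congrArg Subtype.val e), by rintro ⟨_, t, rfl⟩; exact ⟨t, rfl⟩⟩)).symm

theorem fin [Finite F] (i : ℤ) : Finite (X.U π i) :=
  Finite.of_surjective (fun t => (⟨_, X.mem π i t⟩ : X.U π i)) (by rintro ⟨_, t, rfl⟩; exact ⟨t, rfl⟩)

theorem ne {i : ℤ} (h : ∀ t, π (X.x i t) = 1 → t = 0) : X.U π i ≠ ⊥ := fun e =>
  one_ne_zero (h 1 ((eq_bot_iff_forall _).1 e _ (X.mem π i 1)))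

theorem mu {n i : ℤ} {s : F} {m : S} (h1 : ∃ u v, m = X.x (i + n) u * X.x i s * X.x (i + n) v)
    (h2 : ∀ j, ∃ c : F, c ≠ 0 ∧ ∀ t, m * X.x j t = X.x (2 * i + n - j) (c * t) * m) :
    Mu n (X.U π) i (π (X.x i s)) (π m) := by
  obtain ⟨u, v, e⟩ := h1
  exact ⟨⟨_, X.mem π _ u, _, X.mem π _ v, by rw [e, map_mul, map_mul]⟩, fun j => cj_iff (h2 j)⟩

theorem ne0 {i : ℤ} {s : F} (h : π (X.x i s) ≠ 1) : s ≠ 0 := fun e => h (by rw [e, X.zero, map_one])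

/-- The triangle. -/
def hex [Finite F] (per : ∀ i, X.x (i + 6) = X.x i)
    (c1 : ∀ i s t, X.x i s * X.x (i + 1) t = X.x (i + 1) t * X.x i s)
    (c2 : ∀ i s t, ∃ u, X.x i s * X.x (i + 2) t = X.x (i + 1) u * (X.x (i + 2) t * X.x i s))
    (ind : ∀ i a b c, π (X.x i a * X.x (i + 1) b * X.x (i + 2) c) = 1 → a = 0 ∧ b = 0 ∧ c = 0)
    (mu : ∀ i s, s ≠ 0 → ∃ m, (∃ u v, m = X.x (i + 3) u * X.x i s * X.x (i + 3) v) ∧
      ∀ j, ∃ c : F, c ≠ 0 ∧ ∀ t, m * X.x j t = X.x (2 * i + 3 - j) (c * t) * m) : Hex G where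
  U := X.U π
  per i := SetLike.ext fun g => by
    change (∃ t, π (X.x (i + 6) t) = g) ↔ ∃ t, π (X.x i t) = g
    rw [per]
  fin := fin
  c1 := by rintro i _ ⟨s, rfl⟩ _ ⟨t, rfl⟩; rw [← map_mul, c1, map_mul]
  c2 := by
    rintro i _ ⟨s, rfl⟩ _ ⟨t, rfl⟩
    obtain ⟨u, e⟩ := c2 i s t
    exact ⟨u, by rw [commutatorElement_def, ← map_mul, e, map_mul, map_mul]; group⟩
  ind := by
    rintro i _ ⟨a, rfl⟩ _ ⟨b, rfl⟩ _ ⟨c, rfl⟩ e
    obtain ⟨rfl, rfl, rfl⟩ := ind i a b c (by rw [map_mul, map_mul, e])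
    simp [X.zero]
  mu := by
    rintro i _ ⟨s, rfl⟩ h
    obtain ⟨m, h1, h2⟩ := mu i s (ne0 h)
    exact ⟨_, Fam.mu h1 h2⟩
  ne i := ne fun t h => (ind i t 0 0 (by simpa [X.zero] using h)).1

/-- The quadrangle. -/
def oct [Finite F] (per : ∀ i, X.x (i + 8) = X.x i)
    (c1 : ∀ i s t, X.x i s * X.x (i + 1) t = X.x (i + 1) t * X.x i s)
    (c2 : ∀ i s t, X.x i s * X.x (i + 2) t = X.x (i + 2) t * X.x i s)
    (c3 : ∀ i s t, ∃ u v, X.x i s * X.x (i + 3) t = X.x (i + 1) u * X.x (i + 2) v * (X.x (i + 3) t * X.x i s))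
    (ind : ∀ i a b c d, π (X.x i a * X.x (i + 1) b * X.x (i + 2) c * X.x (i + 3) d) = 1 →
      a = 0 ∧ b = 0 ∧ c = 0 ∧ d = 0)
    (mu : ∀ i s, s ≠ 0 → ∃ m, (∃ u v, m = X.x (i + 4) u * X.x i s * X.x (i + 4) v) ∧
      ∀ j, ∃ c : F, c ≠ 0 ∧ ∀ t, m * X.x j t = X.x (2 * i + 4 - j) (c * t) * m) : Oct G where
  U := X.U π
  per i := SetLike.ext fun g => by
    change (∃ t, π (X.x (i + 8) t) = g) ↔ ∃ t, π (X.x i t) = g
    rw [per]
  fin := fin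
  c1 := by rintro i _ ⟨s, rfl⟩ _ ⟨t, rfl⟩; rw [← map_mul, c1, map_mul]
  c2 := by
    rintro i _ ⟨s, rfl⟩ _ ⟨t, rfl⟩
    rw [commutatorElement_def, ← map_mul, c2, map_mul, mul_inv_cancel_right, mul_inv_cancel]
    exact one_mem _
  c3 := by
    rintro i _ ⟨s, rfl⟩ _ ⟨t, rfl⟩
    obtain ⟨u, v, e⟩ := c3 i s t
    exact ⟨_, X.mem π _ u, _, X.mem π _ v, by
      rw [commutatorElement_def, ← map_mul π (X.x i s), e, map_mul, map_mul, map_mul]; group⟩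
  ind := by
    rintro i _ ⟨a, rfl⟩ _ ⟨b, rfl⟩ _ ⟨c, rfl⟩ _ ⟨d, rfl⟩ e
    obtain ⟨rfl, rfl, rfl, rfl⟩ := ind i a b c d (by rw [map_mul, map_mul, map_mul, e])
    simp [X.zero]
  mu := by
    rintro i _ ⟨s, rfl⟩ h
    obtain ⟨m, h1, h2⟩ := mu i s (ne0 h)
    exact ⟨_, Fam.mu h1 h2⟩
  ne i := ne fun t h => (ind i t 0 0 0 (by simpa [X.zero] using h)).1

end Fam

end H28.CM
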