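import Mathlib
import Cfsg.Agent.H28.CMa
import Cfsg.Agent.H7.SL

/-!
# The root groups of `SL₃`
-/

set_option autoImplicit false
set_option linter.all false

namespace H28.CM

open Subgroup H20.TB Matrix

variable {F : Type*} [Field F]

/-- A matrix from its entries. -/
def m3 (a b c d e f g h i : F) : Matrix (Fin 3) (Fin 3) F := !![a, b, c; d, e, f; g, h, i]

section
variable {a b c d e f g h i a' b' c' d' e' f' g' h' i' : F}

theorem m3_eq : m3 a b c d e f g h i = m3 a' b' c' d' e' f' g' h' i' ↔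
    a = a' ∧ b = b' ∧ c = c' ∧ d = d' ∧ e = e' ∧ f = f' ∧ g = g' ∧ h = h' ∧ i = i' := by
  simp only [m3, EmbeddingLike.apply_eq_iff_eq, vecCons_inj, and_true]
  tauto

theorem m3_mul : m3 a b c d e f g h i * m3 a' b' c' d' e' f' g' h' i' =
    m3 (a * a' + b * d' + c * g') (a * b' + b * e' + c * h') (a * c' + b * f' + c * i') (d * a' + e * d' + f * g') (d * b' + e * e' + f * h') (d * c' + e * f' + f * i') (g * a' + h * d' + i * g') (g * b' + h * e' + i * h') (g * c' + h * f' + i * i') := mul_fin_three ..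

theorem m3_sc : scalar (Fin 3) a = m3 a 0 0 0 a 0 0 0 a := by
  ext x y; fin_cases x <;> fin_cases y <;> simp [m3]

theorem m3_det : (m3 a b c d e f g h i).det = a * e * i - a * f * h - b * d * i + b * f * g + c * d * h - c * e * g := by
  simp [m3, det_fin_three]

end

/-- The root elements. -/
def YM : Fin 6 → F → Matrix (Fin 3) (Fin 3) F
  | 0 => fun t => m3 1 t 0 0 1 0 0 0 1
  | 1 => fun t => m3 1 0 t 0 1 0 0 0 1
  | 2 => fun t => m3 1 0 0 0 1 t 0 0 1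
  | 3 => fun t => m3 1 0 0 t 1 0 0 0 1
  | 4 => fun t => m3 1 0 0 0 1 0 t 0 1
  | 5 => fun t => m3 1 0 0 0 1 0 0 t 1

theorem ym_tv (i j : Fin 3) (h : i ≠ j) (c : F) : ∃ k, 1 + single i j c = YM k c := by
  fin_cases i <;> fin_cases j <;> first
    | exact absurd rfl h
    | (refine ⟨0, ?_⟩; ext x y; fin_cases x <;> fin_cases y <;> simp [YM, m3]; done)
    | (refine ⟨1, ?_⟩; ext x y; fin_cases x <;> fin_cases y <;> simp [YM, m3]; done)
    | (refine ⟨2, ?_⟩; ext x y; fin_cases x <;> fin_cases y <;> simp [YM, m3]; done)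
    | (refine ⟨3, ?_⟩; ext x y; fin_cases x <;> fin_cases y <;> simp [YM, m3]; done)
    | (refine ⟨4, ?_⟩; ext x y; fin_cases x <;> fin_cases y <;> simp [YM, m3]; done)
    | (refine ⟨5, ?_⟩; ext x y; fin_cases x <;> fin_cases y <;> simp [YM, m3]; done)

attribute [irreducible] m3

/-- The elements `μ`. -/
def NM (s : F) : Fin 6 → Matrix (Fin 3) (Fin 3) F
  | 0 => m3 0 s 0 (-s⁻¹) 0 0 0 0 1
  | 1 => m3 0 0 s 0 1 0 (-s⁻¹) 0 0
  | 2 => m3 1 0 0 0 0 s 0 (-s⁻¹) 0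
  | 3 => m3 0 (-s⁻¹) 0 s 0 0 0 0 1
  | 4 => m3 0 0 (-s⁻¹) 0 1 0 s 0 0
  | 5 => m3 1 0 0 0 0 (-s⁻¹) 0 s 0

/-- The scaling factors. -/
def sc (s : F) : Fin 6 → Fin 6 → F
  | 0 => ![-(s⁻¹ * s⁻¹), -s⁻¹, s, -(s * s), -s, s⁻¹]
  | 1 => ![-s⁻¹, -(s⁻¹ * s⁻¹), s⁻¹, -s, -(s * s), s]
  | 2 => ![-s, s⁻¹, -(s⁻¹ * s⁻¹), -s⁻¹, s, -(s * s)]
  | 3 => ![-(s * s), s, -s⁻¹, -(s⁻¹ * s⁻¹), s⁻¹, -s]
  | 4 => ![s, -(s * s), -s, s⁻¹, -(s⁻¹ * s⁻¹), -s⁻¹]
  | 5 => ![s⁻¹, -s, -(s * s), s, -s⁻¹, -(s⁻¹ * s⁻¹)]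

theorem sc_ne {s : F} (hs : s ≠ 0) (i j : Fin 6) : sc s i j ≠ 0 := by
  fin_cases i <;> fin_cases j <;> simp [sc, hs]

theorem ym_det (i : Fin 6) (t : F) : (YM i t).det = 1 := by
  fin_cases i <;> simp [YM, m3_det]

theorem ym_add (i : Fin 6) (s t : F) : YM i (s + t) = YM i s * YM i t := by
  fin_cases i <;> simp only [YM, m3_mul, m3_eq] <;> simp [add_comm]

theorem ym_c1 (i : Fin 6) (s t : F) : YM i s * YM (i + 1) t = YM (i + 1) t * YM i s := by
  fin_cases i <;> refine m3_mul.trans (Eq.trans (m3_eq.2 ?_) m3_mul.symm) <;> simp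

theorem ym_c2 (i : Fin 6) (s t : F) : ∃ u, YM i s * YM (i + 2) t = YM (i + 1) u * (YM (i + 2) t * YM i s) := by
  fin_cases i <;>
  first
  | (refine ⟨s * t, m3_mul.trans (Eq.trans (m3_eq.2 ?_)
      ((congrArg₂ _ rfl m3_mul).trans m3_mul).symm)⟩; and_intros <;> ring1)
  | (refine ⟨-(s * t), m3_mul.trans (Eq.trans (m3_eq.2 ?_)
      ((congrArg₂ _ rfl m3_mul).trans m3_mul).symm)⟩; and_intros <;> ring1)

theorem ym_ind (i : Fin 6) (a b c r : F) (h : scalar (Fin 3) r = YM i a * YM (i + 1) b * YM (i + 2) c) :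
    a = 0 ∧ b = 0 ∧ c = 0 := by
  fin_cases i <;>
  · have := m3_eq.1 (m3_sc.symm.trans (h.trans ((congrArg₂ _ m3_mul rfl).trans m3_mul)))
    clear h
    grind

theorem ym_mu (i : Fin 6) {s : F} (hs : s ≠ 0) : YM (i + 3) (-s⁻¹) * YM i s * YM (i + 3) (-s⁻¹) = NM s i := by
  fin_cases i <;> refine ((congrArg₂ _ m3_mul rfl).trans m3_mul).trans (m3_eq.2 ?_) <;> simp [hs]

theorem nm_x (i j : Fin 6) {s : F} (hs : s ≠ 0) (t : F) :
    NM s i * YM j t = YM (2 * i + 3 - j) (sc s i j * t) * NM s i := by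
  fin_cases i <;> fin_cases j <;> refine m3_mul.trans (Eq.trans (m3_eq.2 ?_) m3_mul.symm) <;>
    simp [sc] <;> grind

/-- The index modulo six. -/
def iy (i : ℤ) : Fin 6 := (i : ZMod 6)

theorem iy_add (i : ℤ) : iy (i + 1) = iy i + 1 ∧ iy (i + 2) = iy i + 2 ∧ iy (i + 3) = iy i + 3 ∧
    iy (i + 6) = iy i ∧ ∀ j, iy (2 * i + 3 - j) = 2 * iy i + 3 - iy j := by
  have k : ∀ j : ℤ, ((i + j : ℤ) : ZMod 6) = (i : ZMod 6) + (j : ZMod 6) := Int.cast_add i
  refine ⟨k 1, k 2, k 3, (k 6).trans (add_zero _), fun j => ?_⟩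
  change ((2 * i + 3 - j : ℤ) : ZMod 6) = (2 : ZMod 6) * (i : ZMod 6) + 3 - (j : ZMod 6)
  push_cast; rfl

variable (F) in
/-- The family of root elements. -/
def X3 : Fam F (SpecialLinearGroup (Fin 3) F) where
  x i t := ⟨YM (iy i) t, ym_det _ _⟩
  add i s t := Subtype.ext (ym_add _ s t)

theorem coe_y (i : ℤ) (t : F) : ((X3 F).x i t : Matrix (Fin 3) (Fin 3) F) = YM (iy i) t := rfl

theorem model3 (F : Type) [Field F] [Fintype F] :
    ∃ H : Hex (ProjectiveSpecialLinearGroup (Fin 3) F), (⨆ i, H.U i) = ⊤ ∧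
      Nat.card (H.U 0) = Fintype.card F ∧ center (ProjectiveSpecialLinearGroup (Fin 3) F) = ⊥ := by
  let π : SpecialLinearGroup (Fin 3) F →* ProjectiveSpecialLinearGroup (Fin 3) F := QuotientGroup.mk' _
  have hs : Function.Surjective π := QuotientGroup.mk'_surjective _
  have ind : ∀ i a b c, π ((X3 F).x i a * (X3 F).x (i + 1) b * (X3 F).x (i + 2) c) = 1 →
      a = 0 ∧ b = 0 ∧ c = 0 := fun i a b c e => by
    obtain ⟨r, -, h⟩ := Matrix.SpecialLinearGroup.mem_center_iff.1 ((QuotientGroup.eq_one_iff _).1 e)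
    exact ym_ind (iy i) a b c r (by
      simpa only [Matrix.SpecialLinearGroup.coe_mul, coe_y, (iy_add i).1, (iy_add i).2.1] using h)
  have in1 : ∀ i t, π ((X3 F).x i t) = 1 → t = 0 := fun i t h =>
    (ind i t 0 0 (by simpa [Fam.zero] using h)).1
  refine ⟨Fam.hex (X := X3 F) (π := π) (fun i => funext fun t => Subtype.ext (by
      rw [coe_y, coe_y, (iy_add i).2.2.2.1]))
    (fun i s t => Subtype.ext (by simpa only [Matrix.SpecialLinearGroup.coe_mul, coe_y, (iy_add i).1] using ym_c1 _ s t))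
    (fun i s t => let ⟨u, e⟩ := ym_c2 (iy i) s t; ⟨u, Subtype.ext (by
      simpa only [Matrix.SpecialLinearGroup.coe_mul, coe_y, (iy_add i).1, (iy_add i).2.1] using e)⟩) ind
    (fun i s h => ⟨_, ⟨-s⁻¹, -s⁻¹, rfl⟩, fun j => ⟨_, sc_ne h (iy i) (iy j), fun t => Subtype.ext (by
      simpa only [Matrix.SpecialLinearGroup.coe_mul, coe_y, (iy_add i).2.2.1, (iy_add i).2.2.2.2, ym_mu _ h]
        using nm_x _ _ h t)⟩⟩), ?_, (Fam.card (in1 0)).trans Nat.card_eq_fintype_card, ?_⟩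
  · rw [eq_top_iff, ← map_top_of_surjective π hs, map_le_iff_le_comap, top_le_iff]
    refine H7.sl_eq_top_of_transvection_mem _ fun i j h c => ?_
    obtain ⟨k, e⟩ := ym_tv i j h c
    have : Matrix.SpecialLinearGroup.transvection h c = (X3 F).x (k : ℕ) c := Subtype.ext (by
      rw [Matrix.SpecialLinearGroup.transvection_coe, e, coe_y]; congr 1; clear e; revert k; decide)
    exact this ▸ mem_iSup_of_mem _ ((X3 F).mem π _ c)
  · haveI := H7.psl_simple (ι := Fin 3) (F := F) (by simp)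
    refine (IsSimpleGroup.eq_bot_or_eq_top_of_normal _ inferInstance).resolve_right fun h => ?_
    have h1 := mem_center_iff.1 (h ▸ mem_top (π ((X3 F).x 2 1))) (π ((X3 F).x 0 1))
    have h2 : (X3 F).x 0 1 * (X3 F).x 2 1 = (X3 F).x 1 1 * ((X3 F).x 2 1 * (X3 F).x 0 1) := Subtype.ext
      (m3_mul.trans (Eq.trans (m3_eq.2 (by simp)) ((congrArg₂ _ rfl m3_mul).trans m3_mul).symm))
    rw [← map_mul, h2, map_mul, map_mul, mul_eq_right] at h1
    exact one_ne_zero (in1 1 1 h1)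

end H28.CM
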