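import Mathlib
import Cfsg.Agent.H28.CMa
import Cfsg.Agent.S0765
import Cfsg.Agent.H7.SpSuSimple

/-!
# The root groups of `Sp₄` in characteristic two
-/

set_option autoImplicit false
set_option linter.all false

namespace H28.CM

open Subgroup H20.TB Matrix

variable {F : Type*} [Field F]

abbrev M4 (F : Type*) := Matrix (Fin 2 ⊕ Fin 2) (Fin 2 ⊕ Fin 2) F

/-- A matrix from its entries. -/
def mk (a b c d e f g h i j k l m n o p : F) : M4 F :=
  fromBlocks !![a, b; e, f] !![c, d; g, h] !![i, j; m, n] !![k, l; o, p]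

section
variable {a b c d e f g h i j k l m n o p a' b' c' d' e' f' g' h' i' j' k' l' m' n' o' p' : F}

theorem mk_eq : mk a b c d e f g h i j k l m n o p = mk a' b' c' d' e' f' g' h' i' j' k' l' m' n' o' p' ↔
    a = a' ∧ b = b' ∧ c = c' ∧ d = d' ∧ e = e' ∧ f = f' ∧ g = g' ∧ h = h' ∧ i = i' ∧ j = j' ∧ k = k' ∧ l = l' ∧ m = m' ∧ n = n' ∧ o = o' ∧ p = p' := by
  simp only [mk, fromBlocks_inj, EmbeddingLike.apply_eq_iff_eq, vecCons_inj, and_true]
  tauto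

theorem mk_mul : mk a b c d e f g h i j k l m n o p * mk a' b' c' d' e' f' g' h' i' j' k' l' m' n' o' p' =
    mk (a * a' + b * e' + c * i' + d * m') (a * b' + b * f' + c * j' + d * n') (a * c' + b * g' + c * k' + d * o') (a * d' + b * h' + c * l' + d * p') (e * a' + f * e' + g * i' + h * m') (e * b' + f * f' + g * j' + h * n') (e * c' + f * g' + g * k' + h * o') (e * d' + f * h' + g * l' + h * p') (i * a' + j * e' + k * i' + l * m') (i * b' + j * f' + k * j' + l * n') (i * c' + j * g' + k * k' + l * o') (i * d' + j * h' + k * l' + l * p') (m * a' + n * e' + o * i' + p * m') (m * b' + n * f' + o * j' + p * n') (m * c' + n * g' + o * k' + p * o') (m * d' + n * h' + o * l' + p * p') := by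
  simp only [mk, fromBlocks_multiply, mul_fin_two, of_add_of, cons_add_cons, empty_add_empty, add_assoc]

theorem mk_tr : (mk a b c d e f g h i j k l m n o p)ᵀ = mk a e i m b f j n c g k o d h l p := by
  simp only [mk, fromBlocks_transpose, fromBlocks_inj]
  refine ⟨?_, ?_, ?_, ?_⟩ <;> ext x y <;> fin_cases x <;> fin_cases y <;> rfl

theorem mk_one : (1 : M4 F) = mk 1 0 0 0 0 1 0 0 0 0 1 0 0 0 0 1 := by
  rw [← fromBlocks_one, mk, fromBlocks_inj]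
  refine ⟨?_, ?_, ?_, ?_⟩ <;> ext x y <;> fin_cases x <;> fin_cases y <;> simp

theorem mk_J : J (Fin 2) F = mk 0 0 (-1) 0 0 0 0 (-1) 1 0 0 0 0 1 0 0 := by
  rw [J, mk, fromBlocks_inj]
  refine ⟨?_, ?_, ?_, ?_⟩ <;> ext x y <;> fin_cases x <;> fin_cases y <;> simp

end

/-- A transvection. -/
def TT (a b c d k : F) : M4 F := mk (1 + k * (a * -c)) (k * (a * -d)) (k * (a * a)) (k * (a * b)) (k * (b * -c)) (1 + k * (b * -d)) (k * (b * a)) (k * (b * b)) (k * (c * -c)) (k * (c * -d)) (1 + k * (c * a)) (k * (c * b)) (k * (d * -c)) (k * (d * -d)) (k * (d * a)) (1 + k * (d * b))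

theorem tt_eq (w : Fin 2 ⊕ Fin 2 → F) (k : F) :
    Cfsg.sympTransvection 2 w k = TT (w (.inl 0)) (w (.inl 1)) (w (.inr 0)) (w (.inr 1)) k := by
  ext x y
  rcases x with x | x <;> rcases y with y | y <;> fin_cases x <;> fin_cases y <;>
    simp [Cfsg.sympTransvection, TT, mk, J, vecMulVec_apply, fromBlocks_mulVec, neg_mulVec, mul_assoc,
      sub_eq_add_neg]

attribute [irreducible] mk

/-- The root elements. -/
def XM : Fin 8 → F → M4 F
  | 0 => fun t => mk 1 t 0 0 0 1 0 0 0 0 1 0 0 0 t 1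
  | 1 => fun t => mk 1 0 t 0 0 1 0 0 0 0 1 0 0 0 0 1
  | 2 => fun t => mk 1 0 0 t 0 1 t 0 0 0 1 0 0 0 0 1
  | 3 => fun t => mk 1 0 0 0 0 1 0 t 0 0 1 0 0 0 0 1
  | 4 => fun t => mk 1 0 0 0 t 1 0 0 0 0 1 t 0 0 0 1
  | 5 => fun t => mk 1 0 0 0 0 1 0 0 t 0 1 0 0 0 0 1
  | 6 => fun t => mk 1 0 0 0 0 1 0 0 0 t 1 0 t 0 0 1
  | 7 => fun t => mk 1 0 0 0 0 1 0 0 0 0 1 0 0 t 0 1

/-- The reflections. -/
def RM : Fin 8 → M4 F
  | 0 => mk 0 1 0 0 1 0 0 0 0 0 0 1 0 0 1 0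
  | 1 => mk 0 0 1 0 0 1 0 0 1 0 0 0 0 0 0 1
  | 2 => mk 0 0 0 1 0 0 1 0 0 1 0 0 1 0 0 0
  | 3 => mk 1 0 0 0 0 0 0 1 0 0 1 0 0 1 0 0
  | 4 => mk 0 1 0 0 1 0 0 0 0 0 0 1 0 0 1 0
  | 5 => mk 0 0 1 0 0 1 0 0 1 0 0 0 0 0 0 1
  | 6 => mk 0 0 0 1 0 0 1 0 0 1 0 0 1 0 0 0
  | 7 => mk 1 0 0 0 0 0 0 1 0 0 1 0 0 1 0 0

/-- The torus. -/
def HM (a b : F) : M4 F := mk a 0 0 0 0 b 0 0 0 0 a⁻¹ 0 0 0 0 b⁻¹

variable [CharP F 2]

theorem xm_mem (i : Fin 8) (t : F) : XM i t ∈ symplecticGroup (Fin 2) F := by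
  rw [SymplecticGroup.mem_iff, mk_J]
  fin_cases i <;> simp only [XM, mk_tr, mk_mul, mk_eq] <;> simp [CharTwo.neg_eq, CharTwo.add_self_eq_zero]

theorem xm_add (i : Fin 8) (s t : F) : XM i (s + t) = XM i s * XM i t := by
  fin_cases i <;> simp only [XM, mk_mul, mk_eq] <;> simp [add_comm]

theorem xm_c1 (i : Fin 8) (s t : F) : XM i s * XM (i + 1) t = XM (i + 1) t * XM i s := by
  fin_cases i <;> refine mk_mul.trans (Eq.trans (mk_eq.2 ?_) mk_mul.symm) <;> simp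

theorem xm_c2 (i : Fin 8) (s t : F) : XM i s * XM (i + 2) t = XM (i + 2) t * XM i s := by
  fin_cases i <;> refine mk_mul.trans (Eq.trans (mk_eq.2 ?_) mk_mul.symm) <;>
    simp [mul_comm]

theorem xm_c3 (i : Fin 8) (s t : F) :
    ∃ u v, XM i s * XM (i + 3) t = XM (i + 1) u * XM (i + 2) v * (XM (i + 3) t * XM i s) := by
  have h2 : (2 : F) = 0 := CharTwo.two_eq_zero
  fin_cases i <;>
  first
  | (refine ⟨s * s * t, s * t, mk_mul.trans (Eq.trans (mk_eq.2 ?_)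
      ((congrArg₂ _ mk_mul mk_mul).trans mk_mul).symm)⟩; and_intros <;> grind)
  | (refine ⟨s * t, s * t * t, mk_mul.trans (Eq.trans (mk_eq.2 ?_)
      ((congrArg₂ _ mk_mul mk_mul).trans mk_mul).symm)⟩; and_intros <;> grind)

theorem xm_ind (i : Fin 8) (a b c d : F) (h : XM i a * XM (i + 1) b * XM (i + 2) c * XM (i + 3) d = 1) :
    a = 0 ∧ b = 0 ∧ c = 0 ∧ d = 0 := by
  fin_cases i <;>
  · have := mk_eq.1 (((congrArg₂ _ ((congrArg₂ _ mk_mul rfl).trans mk_mul) rfl).trans mk_mul).symm.trans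
      (h.trans mk_one))
    clear h
    grind

theorem rm_x (i j : Fin 8) (t : F) : RM i * XM j t = XM (2 * i + 4 - j) t * RM i := by
  fin_cases i <;> fin_cases j <;> refine mk_mul.trans (Eq.trans (mk_eq.2 ?_) mk_mul.symm) <;> simp

/-- The roots. -/
def ch (a b : F) : Fin 8 → F
  | 0 => a * b⁻¹ | 1 => a * a | 2 => a * b | 3 => b * b
  | 4 => a⁻¹ * b | 5 => a⁻¹ * a⁻¹ | 6 => a⁻¹ * b⁻¹ | 7 => b⁻¹ * b⁻¹

theorem ch_ne {a b : F} (ha : a ≠ 0) (hb : b ≠ 0) (j : Fin 8) : ch a b j ≠ 0 := by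
  fin_cases j <;> simp [ch, ha, hb]

theorem hm_x {a b : F} (ha : a ≠ 0) (hb : b ≠ 0) (j : Fin 8) (t : F) :
    HM a b * XM j t = XM j (ch a b j * t) * HM a b := by
  fin_cases j <;> refine mk_mul.trans (Eq.trans (mk_eq.2 ?_) mk_mul.symm) <;> simp only [ch] <;> and_intros <;> grind

/-- The parameters of the torus part. -/
def pa (s : F) : Fin 8 → F × F
  | 0 => (s⁻¹, s) | 1 => (s⁻¹, 1) | 2 => (s⁻¹, s⁻¹) | 3 => (1, s⁻¹)
  | 4 => (s, s⁻¹) | 5 => (s, 1) | 6 => (s, s) | 7 => (1, s)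

theorem pa_ne {s : F} (hs : s ≠ 0) (j : Fin 8) : (pa s j).1 ≠ 0 ∧ (pa s j).2 ≠ 0 := by
  fin_cases j <;> simp [pa, hs]

theorem xm_mu (i : Fin 8) {s : F} (hs : s ≠ 0) :
    XM (i + 4) s⁻¹ * XM i s * XM (i + 4) s⁻¹ = RM i * HM (pa s i).1 (pa s i).2 := by
  fin_cases i <;> refine ((congrArg₂ _ mk_mul rfl).trans mk_mul).trans (Eq.trans (mk_eq.2 ?_) mk_mul.symm) <;>
    simp [pa, hs, CharTwo.add_self_eq_zero]

theorem hm_mem {a b : F} (ha : a ≠ 0) (hb : b ≠ 0) : HM a b ∈ symplecticGroup (Fin 2) F := by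
  rw [SymplecticGroup.mem_iff, mk_J]
  simp only [HM, mk_tr, mk_mul, mk_eq]
  simp [ha, hb]

theorem hua_m {s : F} (hs : s ≠ 0) : RM 0 * HM s⁻¹ s = HM s s⁻¹ * (RM 0 * HM 1⁻¹ 1) := by
  refine mk_mul.trans (Eq.trans (mk_eq.2 ?_) ((congrArg₂ _ rfl mk_mul).trans mk_mul).symm)
  simp

theorem x_tt (a b c d k t : F) :
    XM 0 t * TT a b c d k = TT (a + t * b) b c (d + t * c) k * XM 0 t ∧
    XM 1 t * TT a b c d k = TT (a + t * c) b c d k * XM 1 t ∧
    XM 2 t * TT a b c d k = TT (a + t * d) (b + t * c) c d k * XM 2 t ∧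
    XM 4 t * TT a b c d k = TT a (b + t * a) (c + t * d) d k * XM 4 t ∧
    XM 5 t * TT a b c d k = TT a b (c + t * a) d k * XM 5 t ∧
    XM 6 t * TT a b c d k = TT a b (c + t * b) (d + t * a) k * XM 6 t ∧
    TT a 0 0 0 k = XM 1 (k * (a * a)) := by
  have h2 : (2 : F) = 0 := CharTwo.two_eq_zero
  refine ⟨?_, ?_, ?_, ?_, ?_, ?_, mk_eq.2 (by simp)⟩ <;>
    refine mk_mul.trans (Eq.trans (mk_eq.2 ?_) mk_mul.symm) <;> and_intros <;> grind

/-- The index modulo eight. -/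
def ix (i : ℤ) : Fin 8 := (i : ZMod 8)

theorem ix_add (i : ℤ) : ix (i + 1) = ix i + 1 ∧ ix (i + 2) = ix i + 2 ∧ ix (i + 3) = ix i + 3 ∧
    ix (i + 4) = ix i + 4 ∧ ix (i + 8) = ix i ∧ ∀ j, ix (2 * i + 4 - j) = 2 * ix i + 4 - ix j := by
  have k : ∀ j : ℤ, ((i + j : ℤ) : ZMod 8) = (i : ZMod 8) + (j : ZMod 8) := Int.cast_add i
  refine ⟨k 1, k 2, k 3, k 4, (k 8).trans (add_zero _), fun j => ?_⟩
  change ((2 * i + 4 - j : ℤ) : ZMod 8) = (2 : ZMod 8) * (i : ZMod 8) + 4 - (j : ZMod 8)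
  push_cast; rfl

abbrev Sp (F : Type*) [Field F] := symplecticGroup (Fin 2) F

variable (F) in
/-- The family of root elements. -/
def X4 : Fam F (Sp F) where
  x i t := ⟨XM (ix i) t, xm_mem _ _⟩
  add i s t := Subtype.ext (xm_add _ s t)

theorem coe_x (i : ℤ) (t : F) : ((X4 F).x i t : M4 F) = XM (ix i) t := rfl

/-- The element `μ`. -/
def mm (i : ℤ) (s : F) : Sp F := (X4 F).x (i + 4) s⁻¹ * (X4 F).x i s * (X4 F).x (i + 4) s⁻¹

theorem coe_mm (i : ℤ) {s : F} (hs : s ≠ 0) :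
    (mm i s : M4 F) = RM (ix i) * HM (pa s (ix i)).1 (pa s (ix i)).2 := by
  rw [← xm_mu _ hs, ← (ix_add i).2.2.2.1]; rfl

theorem mm_x (i : ℤ) {s : F} (hs : s ≠ 0) (j : ℤ) :
    ∃ c : F, c ≠ 0 ∧ ∀ t, mm i s * (X4 F).x j t = (X4 F).x (2 * i + 4 - j) (c * t) * mm i s := by
  obtain ⟨h1, h2⟩ := pa_ne hs (ix i)
  refine ⟨_, ch_ne h1 h2 (ix j), fun t => Subtype.ext ?_⟩
  rw [Submonoid.coe_mul, Submonoid.coe_mul, coe_mm i hs, coe_x, coe_x, mul_assoc, hm_x h1 h2, ← mul_assoc, rm_x,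
    (ix_add i).2.2.2.2.2, mul_assoc]

/-- An element of the torus. -/
def hh {a b : F} (ha : a ≠ 0) (hb : b ≠ 0) : Sp F := ⟨HM a b, hm_mem ha hb⟩

theorem hh_x {a b : F} (ha : a ≠ 0) (hb : b ≠ 0) (j : ℤ) (t : F) :
    hh ha hb * (X4 F).x j t = (X4 F).x j (ch a b (ix j) * t) * hh ha hb := Subtype.ext (hm_x ha hb _ t)

theorem gen4 {M : Subgroup (Sp F)} (h : ∀ i t, (X4 F).x i t ∈ M) : M = ⊤ := by
  let P : F → F → F → F → Prop := fun a b c d => ∀ k (A : Sp F), (A : M4 F) = TT a b c d k → A ∈ M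
  have st : ∀ (i : ℤ) (t : F) {a b c d a' b' c' d' : F},
      (∀ k, XM (ix i) t * TT a b c d k = TT a' b' c' d' k * XM (ix i) t) → (P a b c d ↔ P a' b' c' d') := by
    intro i t a b c d a' b' c' d' e
    have h1 : XM (ix i) t * XM (ix i) t = 1 := by
      rw [← xm_add, CharTwo.add_self_eq_zero]; exact congrArg Subtype.val ((X4 F).zero i)
    have k : ∀ A : Sp F, (X4 F).x i t * A * (X4 F).x i t ∈ M → A ∈ M := fun A hA =>
      (mul_mem_cancel_left (h i t)).1 ((mul_mem_cancel_right (h i t)).1 hA)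
    refine ⟨fun p u A hA => k A (p u _ ?_), fun p u A hA => k A (p u _ ?_)⟩
    · rw [Submonoid.coe_mul, Submonoid.coe_mul, hA, coe_x, mul_assoc, ← e, ← mul_assoc, h1, one_mul]
    · rw [Submonoid.coe_mul, Submonoid.coe_mul, hA, coe_x, e, mul_assoc, h1, mul_one]
  have p0 : ∀ a, P a 0 0 0 := fun a k A hA => by
    rw [show A = (X4 F).x 1 (k * (a * a)) from Subtype.ext (hA.trans (x_tt a 0 0 0 k 0).2.2.2.2.2.2)]
    exact h _ _
  have p1 : ∀ a b c d, a ≠ 0 → P a b c d := fun a b c d ha => by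
    have q1 := (st 6 (d * a⁻¹) fun k => (x_tt a 0 0 0 k _).2.2.2.2.2.1).1 (p0 a)
    have q2 := (st 4 (b * a⁻¹) fun k => (x_tt _ _ _ _ k _).2.2.2.1).1 q1
    have q3 := (st 5 ((c - b * a⁻¹ * d) * a⁻¹) fun k => (x_tt _ _ _ _ k _).2.2.2.2.1).1 q2
    simpa [ha] using q3
  have p2 : ∀ a b c d, P a b c d := fun a b c d => by
    by_cases ha : a = 0
    · subst ha
      by_cases hb : b = 0
      · by_cases hc : c = 0
        · by_cases hd : d = 0
          · rw [hb, hc, hd]; exact p0 0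
          · exact (st 2 1 fun k => (x_tt _ _ _ _ k _).2.2.1).2 (p1 _ _ _ _ (by simpa using hd))
        · exact (st 1 1 fun k => (x_tt _ _ _ _ k _).2.1).2 (p1 _ _ _ _ (by simpa using hc))
      · exact (st 0 1 fun k => (x_tt _ _ _ _ k _).1).2 (p1 _ _ _ _ (by simpa using hb))
    · exact p1 a b c d ha
  rw [eq_top_iff, ← Cfsg.Agent.S0765.result (F := F) 2, closure_le]
  rintro A ⟨w, k, hA⟩
  exact p2 _ _ _ _ k A (hA.trans (tt_eq w k))

theorem center4 [Fintype F] : center (Sp F) = ⊥ := by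
  refine eq_bot_of_card_eq _ ((H7.card_center_sp 2 (by decide)).trans ?_)
  have h1 := FiniteField.even_card_of_char_two (F := F) (ringChar.eq F 2)
  have h2 : 0 < Fintype.card F := Fintype.card_pos
  exact (Nat.coprime_two_left.2 (Nat.odd_iff.2 (by omega)))

theorem model4 (F : Type) [Field F] [Fintype F] [CharP F 2] :
    ∃ O : Oct (Cfsg.PSp 2 F), (⨆ i, O.U i) = ⊤ ∧ (∀ i, O.ab i) ∧ Nonempty (O.C3 F) ∧
      Nat.card (O.U 3) = Fintype.card F ∧ center (Cfsg.PSp 2 F) = ⊥ := by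
  let π : Sp F →* Cfsg.PSp 2 F := QuotientGroup.mk' _
  have hs : Function.Surjective π := QuotientGroup.mk'_surjective _
  have hi : Function.Injective π := by rw [← MonoidHom.ker_eq_bot_iff, QuotientGroup.ker_mk', center4]
  have c2 : ∀ i s t, (X4 F).x i s * (X4 F).x (i + 2) t = (X4 F).x (i + 2) t * (X4 F).x i s := fun i s t =>
    Subtype.ext (by simpa only [Submonoid.coe_mul, coe_x, (ix_add i).2.1] using xm_c2 _ s t)
  have ind : ∀ i a b c d, π ((X4 F).x i a * (X4 F).x (i + 1) b * (X4 F).x (i + 2) c * (X4 F).x (i + 3) d) = 1 →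
      a = 0 ∧ b = 0 ∧ c = 0 ∧ d = 0 := fun i a b c d e => xm_ind (ix i) a b c d (by
    simpa only [Submonoid.coe_mul, coe_x, (ix_add i).1, (ix_add i).2.1, (ix_add i).2.2.1, Submonoid.coe_one]
      using congrArg Subtype.val ((injective_iff_map_eq_one π).1 hi _ e))
  have in1 : ∀ i t, π ((X4 F).x i t) = 1 → t = 0 := fun i t h =>
    (ind i t 0 0 0 (by simpa [Fam.zero] using h)).1
  refine ⟨Fam.oct (X := X4 F) (π := π) (fun i => funext fun t => Subtype.ext (by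
      rw [coe_x, coe_x, (ix_add i).2.2.2.2.1]))
    (fun i s t => Subtype.ext (by simpa only [Submonoid.coe_mul, coe_x, (ix_add i).1] using xm_c1 _ s t)) c2
    (fun i s t => let ⟨u, v, e⟩ := xm_c3 (ix i) s t; ⟨u, v, Subtype.ext (by
      simpa only [Submonoid.coe_mul, coe_x, (ix_add i).1, (ix_add i).2.1, (ix_add i).2.2.1] using e)⟩) ind
    (fun i s h => ⟨mm i s, ⟨_, _, rfl⟩, mm_x i h⟩), ?_, ?_, ⟨?_⟩,
    (Fam.card (in1 3)).trans Nat.card_eq_fintype_card, ?_⟩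
  · rw [eq_top_iff, ← map_top_of_surjective π hs, map_le_iff_le_comap, top_le_iff]
    exact gen4 fun i t => mem_iSup_of_mem i ((X4 F).mem π i t)
  · rintro i _ ⟨s, rfl⟩ _ ⟨t, rfl⟩
    rw [← map_mul, c2, map_mul]
  · have e : ∀ {a b : F} (ha : a ≠ 0) (hb : b ≠ 0) j t, π (hh ha hb) * π ((X4 F).x j t) =
        π ((X4 F).x j (ch a b (ix j) * t)) * π (hh ha hb) := fun ha hb j t => by rw [← map_mul, hh_x, map_mul]
    refine ⟨fun t => π ((X4 F).x 0 t), fun s t => by rw [(X4 F).add, map_mul], Fam.inj (in1 0), fun g => Iff.rfl,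
      fun s h => ⟨π (hh h one_ne_zero), fun j => Fam.cj_iff ⟨_, ch_ne h one_ne_zero _, hh_x _ _ j⟩, ?_, ?_,
        fun t => ?_⟩, fun s h => ⟨π (mm 0 s), π (mm 0 1), Fam.mu ⟨_, _, rfl⟩ (mm_x 0 h),
        Fam.mu ⟨_, _, rfl⟩ (mm_x 0 one_ne_zero), fun t => ?_⟩⟩
    · rintro _ ⟨t, rfl⟩
      rw [e, show ch s 1 (ix 3) = 1 * 1 from rfl, one_mul, one_mul]
    · rintro _ ⟨t, rfl⟩
      rw [e, show ch s 1 (ix 7) = 1⁻¹ * 1⁻¹ from rfl, inv_one, one_mul, one_mul]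
    · rw [e, show ch s 1 (ix 0) = s * 1⁻¹ from rfl, inv_one, mul_one, mul_inv_cancel_right]
    · have : mm 0 s = hh h (inv_ne_zero h) * mm 0 1 := Subtype.ext (by
        rw [Submonoid.coe_mul, coe_mm 0 h, coe_mm 0 one_ne_zero]; exact hua_m h)
      rw [this, map_mul, mul_inv_cancel_right, e, show ch s s⁻¹ (ix 0) = s * s⁻¹⁻¹ from rfl, inv_inv,
        mul_inv_cancel_right, pow_two]
  · refine (eq_bot_iff_forall _).2 fun g hg => ?_
    obtain ⟨a, rfl⟩ := hs g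
    have : a ∈ center (Sp F) := mem_center_iff.2 fun b => hi (by
      rw [map_mul, map_mul, mem_center_iff.1 hg])
    rw [center4, mem_bot] at this
    rw [this, map_one]

end H28.CM
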