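import Mathlib
import Cfsg.Agent.H29.Ext

set_option autoImplicit false
set_option maxRecDepth 100000
set_option Elab.async false
set_option linter.all false

namespace H28.TS0

open H29

noncomputable def n0 : Net := ben 8 [(nat_lit 0x566555555aa55555557d35c0145555551455555500005555),
 (nat_lit 0xf96060090090355300f0e3613333333333333333a0003330),
 (nat_lit 0x3ee220311036600330466050f0f00000f0f00000f0f0f00),
 (nat_lit 0x243ac1c10021006980b00016000000000000000000330000),
 (nat_lit 0x13cc12ec0000000000008008000000000000000000000000),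
 (nat_lit 0x1fec000000000000000000000000000000000000),
 (nat_lit 0x0),
 (nat_lit 0x0)]
noncomputable def t0 : List ℕ := [(nat_lit 0xb84c6fdc1308f2d0cda806714181060059db6096a99a0000),
 (nat_lit 0xb84f2f1cd2089def0000006041a5069041db669690035a60),
 (nat_lit 0xb84f6cdcd308fed9fc2ba682185a69661824096000000000),
 (nat_lit 0x20000200000000000000000000000000000000000000000)]
noncomputable def d0 : ℕ := (nat_lit 0x452090032020000002144800a0008008a00080084240a08a)
noncomputable def n1 : Net := ben 8 [(nat_lit 0xf10f4cc03330f00056a555a9404055554040555500005550),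
 (nat_lit 0xffaa82a027222223c3aa5a3000033330000333313133303),
 (nat_lit 0xcf9a230b4f0b0101448a570900000f0f00000f0f00000000),
 (nat_lit 0x706d91bd00ae00e47634007800ff00ff00ff00ff00f00000),
 (nat_lit 0xa96898ea00000000000036c9000000000000000000000000),
 (nat_lit 0xf96a000000000000000000000000000000000000),
 (nat_lit 0x0),
 (nat_lit 0x0)]
noncomputable def t1 : List ℕ := [(nat_lit 0xfffec6993638612af036b0850d0d90098b4b44228a8f600a),
 (nat_lit 0xbcce041a92082f15024a4601a5659009a363d5abeab0f6c0),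
 (nat_lit 0xbfced55bf3cf4e2e677ccea40a0a45a20c0c000000000000),
 (nat_lit 0x403008240c00804000000000000000000000000000000000)]
noncomputable def d1 : ℕ := (nat_lit 0x10000000010000801010850002a0050002a0014000824)
noncomputable def n2 : Net := ben 8 [(nat_lit 0x655559556595700159a65a9550005555500055555555550c),
 (nat_lit 0x5c3895a5a04333336061f2f03333333333333333a3330022),
 (nat_lit 0x4d3bccbb330e5f0ab4cf780300000f0f00000f0f0f0f000f),
 (nat_lit 0xe02615760081008781780006000000000000000000c30000),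
 (nat_lit 0x110a429000000000000ff1e000000000000000000000000),
 (nat_lit 0x43bc000000000000000000000000000000000000),
 (nat_lit 0x0),
 (nat_lit 0x0)]
noncomputable def t2 : List ℕ := [(nat_lit 0xd6881e4d2c243d54ce1c5279050abd5a9f0a180059a630a6),
 (nat_lit 0x3da9efdf530d5ffa000000410500bd5a050abd5a5a42fc00),
 (nat_lit 0xbdaffd9f7fff7ffefdbfbf8afaff0000faf5000084000000),
 (nat_lit 0x420000000000000000000000000000000000000000000000)]
noncomputable def d2 : ℕ := (nat_lit 0x5000000000800000400000000040a0000040a020100250)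
noncomputable def n3 : Net := ben 8 [(nat_lit 0x875511c330445555556555655555555555555555555500fc),
 (nat_lit 0x25a33e23ba500660aaa5a3a300000000000000003000f050),
 (nat_lit 0xaa11f2444c00880c11ee9009000000000000000000000606),
 (nat_lit 0xbdbd000a0043008491f100180000000000000000000000ff),
 (nat_lit 0x3400f71c0000000000001689000000000000000000000000),
 (nat_lit 0x3420000000000000000000000000000000000000),
 (nat_lit 0x0),
 (nat_lit 0x0)]
noncomputable def t3 : List ℕ := [(nat_lit 0x4fef95814020c18348023ce6300c3c3cf0cfc00c630caa56),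
 (nat_lit 0x9cc924104000f67b03dce12033303cfcc3cff3ccfff02040),
 (nat_lit 0x9ecfa49141c1f7fb6bfeddcfcccfc3003c300c3000000000),
 (nat_lit 0x6010036e0000000000000000000000000000000000000000)]
noncomputable def d3 : ℕ := (nat_lit 0x48001c08080094000000000000020000000200025500)
noncomputable def n4 : Net := ben 8 [(nat_lit 0xfe2f06b33b10f073f0387030fd3d14a5c0c00fc0730c10fc),
 (nat_lit 0x2c1ec68e96b23f9627ad49327e8873f41930d9b20fa0ff50),
 (nat_lit 0x9f012031280eca6fe60125083afd57dcbe066e0206044006),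
 (nat_lit 0x1bc6969f007c18ad822f00a0003392bb00d8008e00720036),
 (nat_lit 0xc5778a291736e8c04e39686000098ed000098ed0000ffff),
 (nat_lit 0x2c80f66191636996000098edffff00000000000000000000),
 (nat_lit 0x98ed0000671298ed671200006712),
 (nat_lit 0xffff98ed00006712)]
noncomputable def t4 : List ℕ := [(nat_lit 0x21a178a29202466016554982403bc14c98283d2024524c88),
 (nat_lit 0x34480c22120a14fc140100824020c0001420340016104422),
 (nat_lit 0xb5e9fca1be2856dcca744c08889f516edcec012640002000),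
 (nat_lit 0x401000000000000000000000000006000000000000000000)]
noncomputable def d4 : ℕ := (nat_lit 0xa06035c41d50000218ab275000000000000000089ad0000)
noncomputable def n8 : Net := ben 8 [(nat_lit 0xe32fe8fe315d5c38cc2afa0918d8444409c966cc505000fc),
 (nat_lit 0xf6b28cf03342eb8b38479890dd225922ff001122b1122d72),
 (nat_lit 0xe564c74a2004264bf0562e0df3030906f505f906030c9c00),
 (nat_lit 0xa5091c9c00a4889a6ce90020003f000f0069000f0066005a),
 (nat_lit 0x10803944630e630e0000c401ffff00000000ffff00000000),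
 (nat_lit 0x630e9cf17f8e9cf10000000000000000000000000000ffff),
 (nat_lit 0x630e9cf100000000630e9cf1ffff0000),
 (nat_lit 0x630e9cf100000000)]
noncomputable def t8 : List ℕ := [(nat_lit 0x4678cc135b46b228391162605550c080c114aa8ae968a220),
 (nat_lit 0x1f6618909290b8828258006814016a088405480068490299),
 (nat_lit 0x1f6718d3dbd69882bbdfc260a04400223040002000020900),
 (nat_lit 0x4010c2040000000000000800000000000000000000000000)]
noncomputable def d8 : ℕ := (nat_lit 0xa080202000004555002004020aaa15550aaa155500000000)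
noncomputable def n9 : Net := n8.rev
noncomputable def t9 : List ℕ := mapPull n9 t8
noncomputable def d9 : ℕ := (nat_lit 0x10080480820222aa40000080055500000555000000000000)
def ivl : List ℕ := [0, 1, 2, 3, 4, 5, 6, 7, 9, 8, 10]
def cols : List ℕ := [0, 1, 2, 3, 4, 8, 9]
def hcols : List ℕ := []
def G0 : List (List ℕ) := [[0, 1, 0, 1],
 [0, 2, 0, 2],
 [0, 3, 0, 3],
 [1, 2, 1, 2],
 [1, 3, 1, 3],
 [2, 3, 2, 3],
 [4, 0, 4, 0],
 [4, 1, 4, 1],
 [4, 2, 4, 0, 2],
 [4, 3, 4, 1, 3],
 [8, 0, 9, 0, 1],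
 [8, 1, 9, 0],
 [8, 2, 9, 3],
 [8, 3, 9, 2, 3],
 [8, 8, 8],
 [8, 4, 8, 4, 8, 4]]
def R0 : List (List ℕ) := G0
theorem hii : ∀ c, ivOf ivl (ivOf ivl c) = c := ivOf_ivOf (by decide +kernel)
theorem der : Derives (ivOf ivl) R0 R0 := Derives.refl _ _
noncomputable def nl : List Net := [n0, n1, n2, n3, n4, Net.nil, Net.nil, Net.nil, n8, n9]
noncomputable def T : TCData := ⟨192, 192, 8, 4, nth Net.nil nl, ivOf ivl, cols, hcols, R0,
  nth [] [t0, t1, t2, t3, t4, [], [], [], t8, t9], nth 0 [d0, d1, d2, d3, d4, 0, 0, 0, d8, d9]⟩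
theorem hn : NetsOK 192 (nth Net.nil nl) := netsOK_of_all (by decide +kernel)
theorem hiv : IvOK (sg (nth Net.nil nl)) (ivOf ivl) :=
  ivOK_of_chk (k := 8) hn (by decide) (n := 11) (by decide) (by decide) (allN_true.1 (by decide +kernel))
theorem hb : T.Basic := TCData.basic_of_chk hn hiv (by decide +kernel)
theorem hG0 : ∀ r ∈ G0, ev (sg (nth Net.nil nl)) r = 1 :=
  rels_of_chk (k := 8) hn (by decide) hiv (allN_true.1 (by decide +kernel))
noncomputable def s0 : List TCData.Step := [.all 0 0 0,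
 .all 1 0 0,
 .all 2 0 0,
 .all 6 1 0,
 .all 8 3 0,
 .all 10 1 0,
 .all 10 3 0,
 .all 11 3 0]
noncomputable def s1 : List TCData.Step := [.all 0 1 0,
 .all 3 0 0,
 .all 4 0 0,
 .all 7 1 0,
 .all 9 3 0,
 .all 10 4 0,
 .all 11 1 0]
noncomputable def s2 : List TCData.Step := [.all 1 1 0,
 .all 3 1 0,
 .all 5 0 0,
 .all 8 1 0,
 .all 8 4 0,
 .all 12 1 0,
 .all 13 3 0]
noncomputable def s3 : List TCData.Step := [.all 2 1 0,
 .all 4 1 0,
 .all 5 1 0,
 .all 9 1 0,
 .all 9 4 0,
 .all 12 3 0,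
 .all 13 1 0,
 .pts 13 4 0 3 [69],
 .pts 13 4 0 7 [143],
 .pts 13 4 0 8 [166, 180]]
noncomputable def s4 : List TCData.Step := [.all 6 0 0,
 .all 7 0 0,
 .all 8 0 0,
 .all 8 2 0,
 .pts 9 0 0 3 [14, 45, 85],
 .pts 9 0 0 4 [65, 69],
 .pts 9 0 0 5 [63, 66],
 .all 9 2 0,
 .all 15 1 0]
noncomputable def s8 : List TCData.Step := [.all 10 2 0,
 .all 13 2 0]
noncomputable def s9 : List TCData.Step := [.all 10 0 0,
 .all 11 0 0,
 .all 12 0 0,
 .all 13 0 0,
 .all 14 0 0,
 .all 15 0 0]
theorem hR0 : ∀ r ∈ R0, ev (sg (nth Net.nil nl)) r = 1 := hG0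
theorem col0 : T.ColOK 0 := TCData.colOK_of_chk (U := (T.stepsMask 0 s0 (T.mask0 0))) (V := (T.stepsMask 0 s0 (T.mask0 0))) hb (TCData.cov_stepsMask hb (by decide) s0 _ (T.cov_mask0 0)) (TCData.cov_stepsMask hb (by decide) s0 _ (T.cov_mask0 0)) (by decide +kernel)
theorem col1 : T.ColOK 1 := TCData.colOK_of_chk (U := (T.stepsMask 1 s1 (T.mask0 1))) (V := (T.stepsMask 1 s1 (T.mask0 1))) hb (TCData.cov_stepsMask hb (by decide) s1 _ (T.cov_mask0 1)) (TCData.cov_stepsMask hb (by decide) s1 _ (T.cov_mask0 1)) (by decide +kernel)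
theorem col2 : T.ColOK 2 := TCData.colOK_of_chk (U := (T.stepsMask 2 s2 (T.mask0 2))) (V := (T.stepsMask 2 s2 (T.mask0 2))) hb (TCData.cov_stepsMask hb (by decide) s2 _ (T.cov_mask0 2)) (TCData.cov_stepsMask hb (by decide) s2 _ (T.cov_mask0 2)) (by decide +kernel)
theorem col3 : T.ColOK 3 := TCData.colOK_of_chk (U := (T.stepsMask 3 s3 (T.mask0 3))) (V := (T.stepsMask 3 s3 (T.mask0 3))) hb (TCData.cov_stepsMask hb (by decide) s3 _ (T.cov_mask0 3)) (TCData.cov_stepsMask hb (by decide) s3 _ (T.cov_mask0 3)) (by decide +kernel)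
theorem col4 : T.ColOK 4 := TCData.colOK_of_chk (U := (T.stepsMask 4 s4 (T.mask0 4))) (V := (T.stepsMask 4 s4 (T.mask0 4))) hb (TCData.cov_stepsMask hb (by decide) s4 _ (T.cov_mask0 4)) (TCData.cov_stepsMask hb (by decide) s4 _ (T.cov_mask0 4)) (by decide +kernel)
theorem col8 : T.ColOK 8 := TCData.colOK_of_chk (U := (T.stepsMask 8 s8 (T.mask0 8))) (V := (T.stepsMask 9 s9 (T.mask0 9))) hb (TCData.cov_stepsMask hb (by decide) s8 _ (T.cov_mask0 8)) (TCData.cov_stepsMask hb (by decide) s9 _ (T.cov_mask0 9)) (by decide +kernel)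
theorem col9 : T.ColOK 9 := TCData.colOK_of_chk (U := (T.stepsMask 9 s9 (T.mask0 9))) (V := (T.stepsMask 8 s8 (T.mask0 8))) hb (TCData.cov_stepsMask hb (by decide) s9 _ (T.cov_mask0 9)) (TCData.cov_stepsMask hb (by decide) s8 _ (T.cov_mask0 8)) (by decide +kernel)
theorem ok : T.OK := ⟨hb, TCData.treeOK_of_chk hn (by decide +kernel), (List.forall_mem_cons.2 ⟨col0, (List.forall_mem_cons.2 ⟨col1, (List.forall_mem_cons.2 ⟨col2, (List.forall_mem_cons.2 ⟨col3, (List.forall_mem_cons.2 ⟨col4, (List.forall_mem_cons.2 ⟨col8, (List.forall_mem_cons.2 ⟨col9, (fun _ h => absurd h List.not_mem_nil)⟩)⟩)⟩)⟩)⟩)⟩)⟩), der _ _ hiv hR0⟩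
theorem bd {G : Type} [Group G] {e : ℕ → G} (h1 : IvOK e (ivOf ivl)) (h2 : ∀ r ∈ R0, ev e r = 1)
    {m : ℕ} (h : Bd (gen e hcols) m) : Bd (gen e cols) (192 * m) := ok.bd h1 (der G e h1 h2) h
theorem cm {G : Type} [Group G] {e : ℕ → G} (h1 : IvOK e (ivOf ivl)) (h2 : ∀ r ∈ R0, ev e r = 1)
    (h3 : gen e cols = ⊤) {ρ : G →* Equiv.Perm ℕ} (h4 : ∀ c, ρ (e c) = sg (nth Net.nil nl) c) :
    CosetModel ρ (gen e hcols) 192 := ok.cosetModel h1 (der G e h1 h2) h3 fun c _ => h4 c

end H28.TS0
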