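import Mathlib
import Cfsg.Agent.H29.Ext

set_option autoImplicit false
set_option maxRecDepth 100000
set_option Elab.async false
set_option linter.all false

namespace H28.TS1

open H29

noncomputable def n0 : Net := ben 5 [(nat_lit 0x0),
 (nat_lit 0x0),
 (nat_lit 0x0),
 (nat_lit 0x0),
 (nat_lit 0x0)]
noncomputable def t0 : List ℕ := [(nat_lit 0x3cc2e3a6),
 (nat_lit 0x3f0c83f8),
 (nat_lit 0x3fff7c00),
 (nat_lit 0x0)]
noncomputable def d0 : ℕ := (nat_lit 0x0)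
noncomputable def n1 : Net := ben 5 [(nat_lit 0x0),
 (nat_lit 0x0),
 (nat_lit 0x0),
 (nat_lit 0x0),
 (nat_lit 0x0)]
noncomputable def t1 : List ℕ := [(nat_lit 0x1ce2e1a6),
 (nat_lit 0x1f0c81f8),
 (nat_lit 0x1fff7e00),
 (nat_lit 0x20000000)]
noncomputable def d1 : ℕ := (nat_lit 0x0)
noncomputable def n2 : Net := ben 5 [(nat_lit 0x0),
 (nat_lit 0x0),
 (nat_lit 0x0),
 (nat_lit 0x0),
 (nat_lit 0x0)]
noncomputable def t2 : List ℕ := [(nat_lit 0x1ce2e1a6),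
 (nat_lit 0x1f0c81f8),
 (nat_lit 0x1fff7e00),
 (nat_lit 0x20000000)]
noncomputable def d2 : ℕ := (nat_lit 0x0)
noncomputable def n3 : Net := ben 5 [(nat_lit 0x0),
 (nat_lit 0x0),
 (nat_lit 0x0),
 (nat_lit 0x0),
 (nat_lit 0x0)]
noncomputable def t3 : List ℕ := [(nat_lit 0x3cc2e3a6),
 (nat_lit 0x3f0c83f8),
 (nat_lit 0x3fff7c00),
 (nat_lit 0x0)]
noncomputable def d3 : ℕ := (nat_lit 0x0)
noncomputable def n4 : Net := ben 5 [(nat_lit 0x15555550),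
 (nat_lit 0x3060002),
 (nat_lit 0xff0000),
 (nat_lit 0x30304080),
 (nat_lit 0x30c0)]
noncomputable def t4 : List ℕ := [(nat_lit 0x36010c84),
 (nat_lit 0xc00),
 (nat_lit 0x36c84000),
 (nat_lit 0x0)]
noncomputable def d4 : ℕ := (nat_lit 0x8268228)
noncomputable def n5 : Net := ben 5 [(nat_lit 0x15550d31),
 (nat_lit 0xf00a020),
 (nat_lit 0xcc0c04),
 (nat_lit 0xc0010),
 (nat_lit 0x0)]
noncomputable def t5 : List ℕ := [(nat_lit 0x1802798),
 (nat_lit 0x3d838300),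
 (nat_lit 0x300000),
 (nat_lit 0x0)]
noncomputable def d5 : ℕ := (nat_lit 0x2085042)
noncomputable def n6 : Net := ben 5 [(nat_lit 0x1554c559),
 (nat_lit 0x352353),
 (nat_lit 0x440006),
 (nat_lit 0x4040),
 (nat_lit 0x40)]
noncomputable def t6 : List ℕ := [(nat_lit 0xe0628),
 (nat_lit 0x3c021600),
 (nat_lit 0x3f6c6000),
 (nat_lit 0x0)]
noncomputable def d6 : ℕ := (nat_lit 0x810894)
noncomputable def n8 : Net := ben 5 [(nat_lit 0xe50da00),
 (nat_lit 0x70d7a00),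
 (nat_lit 0x12042200),
 (nat_lit 0x101b0028),
 (nat_lit 0x1000)]
noncomputable def t8 : List ℕ := [(nat_lit 0xfca86),
 (nat_lit 0x882caf8),
 (nat_lit 0x2202000),
 (nat_lit 0x0)]
noncomputable def d8 : ℕ := (nat_lit 0x35500500)
noncomputable def n9 : Net := n8.rev
noncomputable def t9 : List ℕ := mapPull n9 t8
noncomputable def d9 : ℕ := (nat_lit 0x2000)
def ivl : List ℕ := [0, 1, 2, 3, 4, 5, 6, 7, 9, 8, 10]
def cols : List ℕ := [0, 1, 2, 3, 4, 5, 6, 8, 9]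
def hcols : List ℕ := [0, 1, 2, 3, 4, 8, 9]
def G0 : List (List ℕ) := [[0, 1, 0, 1],
 [0, 2, 0, 2],
 [0, 3, 0, 3],
 [1, 2, 1, 2],
 [1, 3, 1, 3],
 [2, 3, 2, 3],
 [4, 0, 4, 0],
 [4, 1, 4, 1],
 [4, 2, 4, 0, 2],
 [4, 3, 4, 1, 3],
 [8, 0, 9, 0, 1],
 [8, 1, 9, 0],
 [8, 2, 9, 3],
 [8, 3, 9, 2, 3],
 [8, 8, 8],
 [8, 4, 8, 4, 8, 4],
 [6, 0, 6, 0],
 [6, 1, 6, 0, 1],
 [6, 2, 6, 2],
 [6, 3, 6, 2, 3],
 [8, 6, 8, 6],
 [4, 6, 4, 6],
 [5, 0, 5, 1, 2],
 [5, 1, 5, 0, 3],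
 [5, 2, 5, 3],
 [5, 3, 5, 2],
 [8, 5, 8, 5],
 [4, 5, 4, 5, 4, 5],
 [5, 6, 5, 6, 5, 6]]
def R0 : List (List ℕ) := G0
theorem hii : ∀ c, ivOf ivl (ivOf ivl c) = c := ivOf_ivOf (by decide +kernel)
theorem der : Derives (ivOf ivl) R0 R0 := Derives.refl _ _
noncomputable def nl : List Net := [n0, n1, n2, n3, n4, n5, n6, Net.nil, n8, n9]
noncomputable def T : TCData := ⟨30, 30, 5, 4, nth Net.nil nl, ivOf ivl, cols, hcols, R0,
  nth [] [t0, t1, t2, t3, t4, t5, t6, [], t8, t9], nth 0 [d0, d1, d2, d3, d4, d5, d6, 0, d8, d9]⟩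
theorem hn : NetsOK 30 (nth Net.nil nl) := netsOK_of_all (by decide +kernel)
theorem hiv : IvOK (sg (nth Net.nil nl)) (ivOf ivl) :=
  ivOK_of_chk (k := 5) hn (by decide) (n := 11) (by decide) (by decide) (allN_true.1 (by decide +kernel))
theorem hb : T.Basic := TCData.basic_of_chk hn hiv (by decide +kernel)
theorem hG0 : ∀ r ∈ G0, ev (sg (nth Net.nil nl)) r = 1 :=
  rels_of_chk (k := 5) hn (by decide) hiv (allN_true.1 (by decide +kernel))
noncomputable def s0 : List TCData.Step := [.all 6 1 0,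
 .all 10 1 0,
 .all 11 3 0,
 .all 16 1 0,
 .all 22 1 0]
noncomputable def s1 : List TCData.Step := [.all 7 1 0,
 .pts 9 3 0 5 [21],
 .all 11 1 0,
 .all 17 1 0,
 .all 23 1 0]
noncomputable def s2 : List TCData.Step := [.all 8 1 0,
 .all 12 1 0,
 .all 18 1 0,
 .all 24 1 0]
noncomputable def s3 : List TCData.Step := [.all 9 1 0,
 .all 12 3 0,
 .all 13 1 0,
 .all 19 1 0,
 .all 24 3 0]
noncomputable def s4 : List TCData.Step := [.pts 15 1 0 3 [10],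
 .pts 15 1 0 4 [22],
 .pts 15 1 0 5 [28],
 .pts 21 0 0 1 [2, 7],
 .pts 27 0 0 4 [14],
 .pts 27 0 0 5 [25]]
noncomputable def s5 : List TCData.Step := [.all 26 1 0,
 .pts 27 1 0 1 [3],
 .pts 27 1 0 2 [15, 16],
 .pts 28 0 0 1 [4]]
noncomputable def s6 : List TCData.Step := [.all 20 1 0,
 .all 21 1 0,
 .pts 28 1 0 2 [12],
 .pts 28 1 0 3 [17]]
noncomputable def s8 : List TCData.Step := []
noncomputable def s9 : List TCData.Step := [.all 14 0 0,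
 .pts 15 0 0 1 [27],
 .pts 15 0 0 2 [9],
 .pts 15 0 0 3 [21],
 .all 20 0 0,
 .all 26 0 0]
theorem hR0 : ∀ r ∈ R0, ev (sg (nth Net.nil nl)) r = 1 := hG0
theorem col0 : T.ColOK 0 := TCData.colOK_of_chk (U := (T.stepsMask 0 s0 (T.mask0 0))) (V := (T.stepsMask 0 s0 (T.mask0 0))) hb (TCData.cov_stepsMask hb (by decide) s0 _ (T.cov_mask0 0)) (TCData.cov_stepsMask hb (by decide) s0 _ (T.cov_mask0 0)) (by decide +kernel)
theorem col1 : T.ColOK 1 := TCData.colOK_of_chk (U := (T.stepsMask 1 s1 (T.mask0 1))) (V := (T.stepsMask 1 s1 (T.mask0 1))) hb (TCData.cov_stepsMask hb (by decide) s1 _ (T.cov_mask0 1)) (TCData.cov_stepsMask hb (by decide) s1 _ (T.cov_mask0 1)) (by decide +kernel)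
theorem col2 : T.ColOK 2 := TCData.colOK_of_chk (U := (T.stepsMask 2 s2 (T.mask0 2))) (V := (T.stepsMask 2 s2 (T.mask0 2))) hb (TCData.cov_stepsMask hb (by decide) s2 _ (T.cov_mask0 2)) (TCData.cov_stepsMask hb (by decide) s2 _ (T.cov_mask0 2)) (by decide +kernel)
theorem col3 : T.ColOK 3 := TCData.colOK_of_chk (U := (T.stepsMask 3 s3 (T.mask0 3))) (V := (T.stepsMask 3 s3 (T.mask0 3))) hb (TCData.cov_stepsMask hb (by decide) s3 _ (T.cov_mask0 3)) (TCData.cov_stepsMask hb (by decide) s3 _ (T.cov_mask0 3)) (by decide +kernel)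
theorem col4 : T.ColOK 4 := TCData.colOK_of_chk (U := (T.stepsMask 4 s4 (T.mask0 4))) (V := (T.stepsMask 4 s4 (T.mask0 4))) hb (TCData.cov_stepsMask hb (by decide) s4 _ (T.cov_mask0 4)) (TCData.cov_stepsMask hb (by decide) s4 _ (T.cov_mask0 4)) (by decide +kernel)
theorem col5 : T.ColOK 5 := TCData.colOK_of_chk (U := (T.stepsMask 5 s5 (T.mask0 5))) (V := (T.stepsMask 5 s5 (T.mask0 5))) hb (TCData.cov_stepsMask hb (by decide) s5 _ (T.cov_mask0 5)) (TCData.cov_stepsMask hb (by decide) s5 _ (T.cov_mask0 5)) (by decide +kernel)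
theorem col6 : T.ColOK 6 := TCData.colOK_of_chk (U := (T.stepsMask 6 s6 (T.mask0 6))) (V := (T.stepsMask 6 s6 (T.mask0 6))) hb (TCData.cov_stepsMask hb (by decide) s6 _ (T.cov_mask0 6)) (TCData.cov_stepsMask hb (by decide) s6 _ (T.cov_mask0 6)) (by decide +kernel)
theorem col8 : T.ColOK 8 := TCData.colOK_of_chk (U := (T.stepsMask 8 s8 (T.mask0 8))) (V := (T.stepsMask 9 s9 (T.mask0 9))) hb (TCData.cov_stepsMask hb (by decide) s8 _ (T.cov_mask0 8)) (TCData.cov_stepsMask hb (by decide) s9 _ (T.cov_mask0 9)) (by decide +kernel)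
theorem col9 : T.ColOK 9 := TCData.colOK_of_chk (U := (T.stepsMask 9 s9 (T.mask0 9))) (V := (T.stepsMask 8 s8 (T.mask0 8))) hb (TCData.cov_stepsMask hb (by decide) s9 _ (T.cov_mask0 9)) (TCData.cov_stepsMask hb (by decide) s8 _ (T.cov_mask0 8)) (by decide +kernel)
theorem ok : T.OK := ⟨hb, TCData.treeOK_of_chk hn (by decide +kernel), (List.forall_mem_cons.2 ⟨col0, (List.forall_mem_cons.2 ⟨col1, (List.forall_mem_cons.2 ⟨col2, (List.forall_mem_cons.2 ⟨col3, (List.forall_mem_cons.2 ⟨col4, (List.forall_mem_cons.2 ⟨col5, (List.forall_mem_cons.2 ⟨col6, (List.forall_mem_cons.2 ⟨col8, (List.forall_mem_cons.2 ⟨col9, (fun _ h => absurd h List.not_mem_nil)⟩)⟩)⟩)⟩)⟩)⟩)⟩)⟩)⟩), der _ _ hiv hR0⟩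
theorem bd {G : Type} [Group G] {e : ℕ → G} (h1 : IvOK e (ivOf ivl)) (h2 : ∀ r ∈ R0, ev e r = 1)
    {m : ℕ} (h : Bd (gen e hcols) m) : Bd (gen e cols) (30 * m) := ok.bd h1 (der G e h1 h2) h
theorem cm {G : Type} [Group G] {e : ℕ → G} (h1 : IvOK e (ivOf ivl)) (h2 : ∀ r ∈ R0, ev e r = 1)
    (h3 : gen e cols = ⊤) {ρ : G →* Equiv.Perm ℕ} (h4 : ∀ c, ρ (e c) = sg (nth Net.nil nl) c) :
    CosetModel ρ (gen e hcols) 30 := ok.cosetModel h1 (der G e h1 h2) h3 fun c _ => h4 c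

end H28.TS1
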