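import Mathlib
import Cfsg.Agent.H29.Ext

set_option autoImplicit false
set_option maxRecDepth 100000
set_option Elab.async false
set_option linter.all false

namespace H28.TS2

open H29

noncomputable def n0 : Net := ben 7 [(nat_lit 0xcc05574033554074c0),
 (nat_lit 0x270203a50a105520520),
 (nat_lit 0x15ee00062a88154600),
 (nat_lit 0x8090808000010910040),
 (nat_lit 0x16281e2800001000),
 (nat_lit 0x160800201608),
 (nat_lit 0x1608)]
noncomputable def t0 : List ℕ := [(nat_lit 0x1464530214a63000d26a),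
 (nat_lit 0xe07ec60c0b8cb54006c),
 (nat_lit 0x1e07fc631ca00b55e190),
 (nat_lit 0x1e78fc61dd4600000000),
 (nat_lit 0x1e00fc611c0000000000),
 (nat_lit 0x0)]
noncomputable def d0 : ℕ := (nat_lit 0x1000088200104080800)
noncomputable def n1 : Net := ben 7 [(nat_lit 0x74354cc3cc13cf33f40),
 (nat_lit 0xaa13025a07f72a1b100),
 (nat_lit 0x199668808770b082a00),
 (nat_lit 0x80000040502420020),
 (nat_lit 0x6b306b700000200),
 (nat_lit 0x68304300683),
 (nat_lit 0x683)]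
noncomputable def t1 : List ℕ := [(nat_lit 0x8004ff0c00cc361ff2c),
 (nat_lit 0x1fe6f3902208c35e012e),
 (nat_lit 0xc00f390e208c35ffed0),
 (nat_lit 0x1ff0f3f8f61708200000),
 (nat_lit 0xc06f390e20000000000),
 (nat_lit 0x0)]
noncomputable def d1 : ℕ := (nat_lit 0x90001014030000000)
noncomputable def n2 : Net := ben 7 [(nat_lit 0x3537c04300c0c33f34c),
 (nat_lit 0xbc10225325200a1b152),
 (nat_lit 0x111177880a1544082a04),
 (nat_lit 0x8047c000002420020),
 (nat_lit 0x393079300000200),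
 (nat_lit 0x38300100383),
 (nat_lit 0x383)]
noncomputable def t2 : List ℕ := [(nat_lit 0xf49d39a60b8a401ff20),
 (nat_lit 0x1001ebd282a00406a120),
 (nat_lit 0x1800f390e2bffbe61ec0),
 (nat_lit 0x1f48fbd9e75fffe00000),
 (nat_lit 0x1801f392e21fffe00000),
 (nat_lit 0x0)]
noncomputable def d2 : ℕ := (nat_lit 0xa40400100000100014)
noncomputable def n3 : Net := ben 7 [(nat_lit 0xcc0f55030701440ccc0),
 (nat_lit 0x389da37b0a072007272),
 (nat_lit 0xa80909130887001504),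
 (nat_lit 0x218e079001001c10010),
 (nat_lit 0xea00ea00000100),
 (nat_lit 0xea000000ea),
 (nat_lit 0xea)]
noncomputable def t3 : List ℕ := [(nat_lit 0x89005141b6d400014),
 (nat_lit 0x14f56c606003411e001e),
 (nat_lit 0xa8fc651c1cbeff8000),
 (nat_lit 0x14f8fc657dffffe00000),
 (nat_lit 0xadfc651c1fffe00000),
 (nat_lit 0x0)]
noncomputable def d3 : ℕ := (nat_lit 0xa020300800000005540)
noncomputable def n4 : Net := ben 7 [(nat_lit 0x73c50030f3ff471cc00),
 (nat_lit 0xa12300afa0110af5100),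
 (nat_lit 0x188333300dd0099aa00),
 (nat_lit 0x8232be0e81a1b00e0),
 (nat_lit 0xe012f7f200001a00),
 (nat_lit 0xe0120000),
 (nat_lit 0x0)]
noncomputable def t4 : List ℕ := [(nat_lit 0xc0ffc8928482c08290a),
 (nat_lit 0xd906300c0054ed4c00c),
 (nat_lit 0x9f01c8610eccbdd0),
 (nat_lit 0xd99ff2fcd8440000000),
 (nat_lit 0x69f01c80000000000),
 (nat_lit 0x0)]
noncomputable def d4 : ℕ := (nat_lit 0x10400050001201020200)
noncomputable def n5 : Net := ben 7 [(nat_lit 0xc13a507a46499440cc),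
 (nat_lit 0x350f9052f0ed9600510),
 (nat_lit 0x85d08697ade00000a),
 (nat_lit 0x1004cd00b500780004),
 (nat_lit 0xebdeebde00000000),
 (nat_lit 0xefde0000),
 (nat_lit 0x0)]
noncomputable def t5 : List ℕ := [(nat_lit 0x54fe607f55b7a8d154c),
 (nat_lit 0x568f14c0543428d2a00),
 (nat_lit 0x56ff00fb554b9ac1c00),
 (nat_lit 0x1a90f14df01ffb200000),
 (nat_lit 0x1ffff00fb017fb200000),
 (nat_lit 0x0)]
noncomputable def d5 : ℕ := (nat_lit 0x8200aa0000080a0)
noncomputable def n6 : Net := ben 7 [(nat_lit 0xccc50531c3f0330fc30),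
 (nat_lit 0x707030a020b31bfa5a0),
 (nat_lit 0x14500880402224c0c08),
 (nat_lit 0x4808000008bab0030),
 (nat_lit 0x8800800008b40),
 (nat_lit 0x80000),
 (nat_lit 0x0)]
noncomputable def t6 : List ℕ := [(nat_lit 0x18403f07b6000612141a),
 (nat_lit 0x1980cff600b50f88021c),
 (nat_lit 0xfff7fea10f9ad780),
 (nat_lit 0x19e7fff9ff5400000000),
 (nat_lit 0xfff1fe0000000000),
 (nat_lit 0x0)]
noncomputable def d6 : ℕ := (nat_lit 0x41000000008c0452000)
noncomputable def n7 : Net := ben 7 [(nat_lit 0x4f4014fcc3f0f0c0f31),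
 (nat_lit 0x25007aaa7aaa05155a0),
 (nat_lit 0x11020099992244004408),
 (nat_lit 0x51525a5282890d80040),
 (nat_lit 0x2a857fbf08009b20),
 (nat_lit 0xa0528800a05),
 (nat_lit 0xa05)]
noncomputable def t7 : List ℕ := [(nat_lit 0xb92293871136544675c),
 (nat_lit 0x1bd28d31360244040258),
 (nat_lit 0x1b930d30365db54f7520),
 (nat_lit 0x1bf28d39375ef00b3260),
 (nat_lit 0x1a0d0d30361ef00b3260),
 (nat_lit 0x40002c0000000000000)]
noncomputable def d7 : ℕ := (nat_lit 0x500600000aa00002)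
noncomputable def n8 : Net := ben 7 [(nat_lit 0xbfa5532a398aac7374),
 (nat_lit 0x70fa600e2bb665d01a0),
 (nat_lit 0x10eeee23504c56072608),
 (nat_lit 0x7606cab9f4e600020),
 (nat_lit 0x8be0abe000004f00),
 (nat_lit 0xe08b4000e0),
 (nat_lit 0xe0)]
noncomputable def t8 : List ℕ := [(nat_lit 0xcac0c8bb3b41ab5380a),
 (nat_lit 0xdcc8c6601071df43728),
 (nat_lit 0xdec9c6ee2e0294bc0d0),
 (nat_lit 0xdec9c6ff3ff76be1e00),
 (nat_lit 0x12149c6ee3e734be1e00),
 (nat_lit 0x30390000000000000)]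
noncomputable def d8 : ℕ := (nat_lit 0x2000040000000000)
noncomputable def n9 : Net := n8.rev
noncomputable def t9 : List ℕ := mapPull n9 t8
noncomputable def d9 : ℕ := (nat_lit 0x8000400400000008)
def ivl : List ℕ := [0, 1, 2, 3, 4, 5, 6, 7, 9, 8, 10]
def cols : List ℕ := [0, 1, 2, 3, 4, 5, 6, 7, 8, 9]
def hcols : List ℕ := [0, 1, 2, 3, 4, 5, 6, 8, 9]
def G0 : List (List ℕ) := [[0, 1, 0, 1],
 [0, 2, 0, 2],
 [0, 3, 0, 3],
 [1, 2, 1, 2],
 [1, 3, 1, 3],
 [2, 3, 2, 3],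
 [4, 0, 4, 0],
 [4, 1, 4, 1],
 [4, 2, 4, 0, 2],
 [4, 3, 4, 1, 3],
 [8, 0, 9, 0, 1],
 [8, 1, 9, 0],
 [8, 2, 9, 3],
 [8, 3, 9, 2, 3],
 [8, 8, 8],
 [8, 4, 8, 4, 8, 4],
 [6, 0, 6, 0],
 [6, 1, 6, 0, 1],
 [6, 2, 6, 2],
 [6, 3, 6, 2, 3],
 [8, 6, 8, 6],
 [4, 6, 4, 6],
 [5, 0, 5, 1, 2],
 [5, 1, 5, 0, 3],
 [5, 2, 5, 3],
 [5, 3, 5, 2],
 [8, 5, 8, 5],
 [4, 5, 4, 5, 4, 5],
 [5, 6, 5, 6, 5, 6],
 [7, 0, 7, 4],
 [7, 8, 7, 8],
 [7, 6, 7, 6],
 [7, 2, 7, 2, 7, 2],
 [7, 5, 4, 6, 5, 7, 5, 4, 6, 5, 7, 5, 4, 6, 5]]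
def R0 : List (List ℕ) := G0
def w0 : List ℕ := [9, 2, 7, 3, 7, 2, 3, 7, 2]
def R1 : List (List ℕ) := R0 ++ [w0]
def w1 : List ℕ := [5, 4, 7, 1, 7, 5, 4, 9, 4, 5, 7, 1, 7]
def R2 : List (List ℕ) := R1 ++ [w1]
def w2 : List ℕ := [5, 4, 8, 2, 1, 7, 5, 6, 4, 5, 7, 5, 6, 4, 5, 7, 1, 2, 9, 2, 1, 7, 5, 6, 4, 5, 7, 5, 6, 4, 5, 7, 1, 2, 8, 4]
def R3 : List (List ℕ) := R2 ++ [w2]
def w3 : List ℕ := [9, 7, 5, 6, 4, 9, 4, 5, 6, 3, 7, 3, 2, 7, 0, 3, 1, 6, 5, 3, 0, 6, 4, 0, 3, 5, 6, 1, 3, 0, 7, 2, 3, 7, 3, 6, 5, 6, 4, 9, 4, 5]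
def R4 : List (List ℕ) := R3 ++ [w3]
theorem hii : ∀ c, ivOf ivl (ivOf ivl c) = c := ivOf_ivOf (by decide +kernel)
noncomputable def pr0 : List (ℕ × ℕ) := [(69, (nat_lit 0x700000400000100000700000200008a00008100008900001000000700008200004900008100000200001000000700000200000700006900000200005a00000700006a00000100006900000a00001200001900002100004100000700010500000700003800003a00000700001800004900000700003800002a00000700000200001200000900001100001800000700000a00003100000900001000000700006d0000070000480000070000010000380000070000f5000007000002000007000075000007000065000007000048))]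
theorem p0 : chkProg 4 (ivOf ivl) R0 pr0 [(0, w0)] = true := by decide +kernel
noncomputable def pr1 : List (ℕ × ℕ) := [(77, (nat_lit 0x70000040000010000070000020000070000020000a20000990000a100000700000a00000100000900001200002a00003100004100004a0000070000dd00000700004800000700000200003200002200002000000700000200000700007500000700006200002800000700002000004000000200002000000700007d00000700002800004900000700000a0000010000090000120000190000320000070000ed00000700004000000700002100003800000700000a00000100000900000800000700005d0000070000480000070000380000020000070000f50000070000d5000007000028))]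
theorem p1 : chkProg 4 (ivOf ivl) R1 pr1 [(0, w1)] = true := by decide +kernel
noncomputable def pr2 : List (ℕ × ℕ) := [(114, (nat_lit 0x70000040000010000070000020000070000200000010000070000010000ca0000070000010000a20000090000a100001100002a0000b20000070000400000b200000700007d00000700001900000200009200000a00009100000700004000009a0000070000a500000700000200007200006900007100000700000200004100005a00005100005900000700000200002900006a00003100006900000700000100001200005100001100000700003800002800002000003000002800003800002800002000003000002800000100003800000700010d0000070000200000010000070000280000070000080000100000110000070000350000070000080000100000010000070000b50000070000850000070000280000070000ad0000070000200000010000070000280000070000010000480000070000d500000700002000000a0000010000090000070000dd000007000028))]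
theorem p2 : chkProg 4 (ivOf ivl) R2 pr2 [(0, w2)] = true := by decide +kernel
noncomputable def pr3 : List (ℕ × ℕ) := [(145, (nat_lit 0x70000040000010000070000020000070000020000070000020000110000070000480000010000070000750000070000020000070000f10000010000070000020000090000c100002100002000003000001a0000110000190000220000c20000ca0000da0000ea0000fa0000070000200000400000ca0000200000070000d200003000000700010d00000700002800000700000100001200000900001100001900006a0000070000b20000300000070000fd00000700004800000700000200001200002200002900004200003900004100001000003800000700000a00001200000100001100001800000700006d0000070000020000190000010000100000070000480000070000380000920000070000180000010000070000650000070001150000070000400000070000020000300000120000080000190000070000280000110000010000070000bd00000700008d00000700001800000100000000000700001500000700002800002900000700002000004000000200002000000700007d0000070000300000010000070000a50000070000020000280000070000d50000070000480000010000380000070000f5))]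
theorem p3 : chkProg 4 (ivOf ivl) R3 pr3 [(0, w3)] = true := by decide +kernel
theorem der : Derives (ivOf ivl) R0 R4 := ((((Derives.refl _ _).prog hii p0).prog hii p1).prog hii p2).prog hii p3
noncomputable def nl : List Net := [n0, n1, n2, n3, n4, n5, n6, n7, n8, n9]
noncomputable def T : TCData := ⟨77, 77, 7, 6, nth Net.nil nl, ivOf ivl, cols, hcols, R4,
  nth [] [t0, t1, t2, t3, t4, t5, t6, t7, t8, t9], nth 0 [d0, d1, d2, d3, d4, d5, d6, d7, d8, d9]⟩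
theorem hn : NetsOK 77 (nth Net.nil nl) := netsOK_of_all (by decide +kernel)
theorem hiv : IvOK (sg (nth Net.nil nl)) (ivOf ivl) :=
  ivOK_of_chk (k := 7) hn (by decide) (n := 11) (by decide) (by decide) (allN_true.1 (by decide +kernel))
theorem hb : T.Basic := TCData.basic_of_chk hn hiv (by decide +kernel)
theorem hG0 : ∀ r ∈ G0, ev (sg (nth Net.nil nl)) r = 1 :=
  rels_of_chk (k := 7) hn (by decide) hiv (allN_true.1 (by decide +kernel))
noncomputable def s0 : List TCData.Step := [.pts 0 0 0 1 [28],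
 .pts 0 0 0 6 [64],
 .pts 0 0 0 8 [40],
 .pts 1 0 0 2 [2],
 .pts 1 0 0 7 [66],
 .all 2 0 0,
 .pts 6 1 0 2 [35],
 .pts 6 1 0 30 [53],
 .pts 8 3 0 9 [70],
 .pts 8 3 0 30 [59],
 .pts 10 1 0 29 [76],
 .pts 10 3 0 9 [34],
 .pts 10 3 0 28 [43],
 .pts 10 3 0 29 [42],
 .pts 11 3 0 10 [46],
 .pts 11 3 0 30 [61],
 .pts 16 1 0 2 [30],
 .pts 16 1 0 4 [13],
 .pts 16 1 0 6 [18],
 .pts 17 3 0 8 [68],
 .pts 22 1 0 3 [6],
 .pts 22 1 0 7 [37, 39],
 .pts 22 1 0 8 [38],
 .pts 23 3 0 4 [8],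
 .pts 29 1 0 1 [1],
 .pts 29 1 0 4 [4],
 .pts 29 1 0 5 [49],
 .pts 29 1 0 6 [22, 24]]
noncomputable def s1 : List TCData.Step := [.pts 0 1 0 8 [27],
 .pts 3 0 0 3 [2],
 .pts 3 0 0 10 [69, 70],
 .pts 4 0 0 3 [3],
 .pts 4 0 0 4 [4],
 .pts 4 0 0 31 [62],
 .pts 7 1 0 7 [22],
 .pts 7 1 0 9 [53],
 .all 9 3 0,
 .pts 10 4 0 2 [1],
 .pts 10 4 0 9 [21],
 .pts 10 4 0 29 [47],
 .pts 11 1 0 5 [13],
 .pts 11 1 0 29 [46],
 .pts 17 1 0 6 [18],
 .pts 17 1 0 30 [41, 74],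
 .pts 17 1 0 31 [52],
 .all 17 4 0,
 .pts 22 3 0 1 [59],
 .pts 22 3 0 8 [42],
 .pts 23 1 0 3 [8],
 .pts 23 1 0 4 [7],
 .pts 23 1 0 5 [15]]
noncomputable def s2 : List TCData.Step := [.pts 1 1 0 9 [67],
 .pts 3 1 0 8 [38, 40],
 .pts 5 0 0 4 [6],
 .pts 5 0 0 29 [31],
 .pts 8 1 0 28 [27],
 .pts 8 4 0 5 [9, 11],
 .pts 8 4 0 9 [51],
 .pts 8 4 0 29 [35],
 .pts 8 4 0 31 [55],
 .pts 12 1 0 27 [26],
 .pts 12 1 0 28 [21, 23, 28, 33],
 .pts 12 1 0 29 [29, 60],
 .pts 13 3 0 28 [24],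
 .pts 13 3 0 29 [46],
 .pts 13 3 0 30 [61],
 .pts 18 1 0 6 [17],
 .pts 18 1 0 28 [25],
 .all 19 3 0,
 .pts 22 4 0 8 [48],
 .pts 22 4 0 10 [54],
 .pts 24 1 0 3 [5, 13],
 .pts 24 1 0 7 [37, 39],
 .pts 24 1 0 28 [30],
 .pts 34 8 0 31 [62]]
noncomputable def s3 : List TCData.Step := [.pts 4 1 0 29 [48],
 .pts 5 1 0 3 [2],
 .pts 5 1 0 29 [44],
 .pts 9 1 0 6 [19, 20],
 .pts 9 4 0 10 [68],
 .pts 9 4 0 18 [64],
 .pts 9 4 0 30 [54, 58],
 .all 12 3 0,
 .pts 13 1 0 27 [32, 33],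
 .pts 13 1 0 28 [21, 28, 34],
 .pts 13 1 0 29 [67],
 .pts 13 1 0 30 [62],
 .pts 19 1 0 6 [17, 18],
 .pts 19 1 0 10 [74],
 .pts 19 1 0 29 [29],
 .pts 19 4 0 4 [15],
 .pts 23 4 0 8 [37],
 .pts 23 4 0 28 [31],
 .pts 24 3 0 8 [38],
 .pts 34 3 0 29 [63],
 .pts 34 6 0 30 [71]]
noncomputable def s4 : List TCData.Step := [.all 6 0 0,
 .pts 7 0 0 5 [38],
 .pts 7 0 0 9 [64, 67],
 .pts 7 0 0 10 [30],
 .pts 8 0 0 2 [2, 20],
 .pts 8 0 0 10 [71],
 .pts 8 2 0 29 [58, 59],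
 .pts 9 0 0 3 [3],
 .pts 9 0 0 4 [7],
 .pts 9 0 0 11 [74],
 .pts 9 2 0 5 [11],
 .pts 9 2 0 30 [57],
 .pts 21 0 0 1 [29],
 .pts 21 0 0 6 [15],
 .pts 27 0 0 4 [37],
 .pts 27 0 0 8 [39, 42],
 .pts 27 0 0 30 [46],
 .all 29 3 0]
noncomputable def s5 : List TCData.Step := [.pts 22 0 0 23 [67],
 .pts 22 0 0 29 [27],
 .pts 22 2 0 10 [56],
 .pts 22 2 0 24 [68],
 .pts 22 2 0 29 [45],
 .pts 22 2 0 31 [63],
 .pts 23 0 0 6 [11],
 .pts 23 0 0 23 [74],
 .pts 23 2 0 7 [38, 40],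
 .pts 23 2 0 29 [44],
 .pts 23 2 0 30 [51],
 .pts 24 0 0 1 [6, 8, 57],
 .pts 24 0 0 24 [75],
 .pts 24 0 0 29 [28],
 .pts 24 0 0 31 [61, 62],
 .all 26 1 0,
 .pts 27 1 0 2 [9],
 .pts 27 1 0 5 [10, 12],
 .pts 28 0 0 2 [13],
 .pts 28 0 0 3 [16],
 .pts 35 0 0 21 [49, 65, 66],
 .pts 36 0 0 22 [69]]
noncomputable def s6 : List TCData.Step := [.pts 16 0 0 7 [25],
 .pts 16 0 0 8 [51],
 .pts 16 0 0 29 [47],
 .pts 17 0 0 8 [40, 64],
 .pts 17 0 0 10 [36],
 .all 18 0 0,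
 .pts 19 0 0 4 [7],
 .pts 19 0 0 11 [75],
 .pts 19 2 0 3 [3],
 .pts 19 2 0 8 [65],
 .pts 19 2 0 29 [45],
 .pts 19 2 0 31 [57],
 .pts 21 1 0 5 [10, 12],
 .pts 21 1 0 9 [70],
 .pts 21 1 0 30 [52, 54, 62],
 .pts 21 1 0 31 [56],
 .pts 28 1 0 6 [37, 39],
 .pts 28 1 0 8 [38],
 .pts 28 1 0 28 [43],
 .pts 28 1 0 29 [41],
 .pts 31 1 0 1 [1],
 .pts 31 1 0 6 [23, 27],
 .pts 31 1 0 7 [49, 50],
 .pts 31 1 0 29 [60]]
noncomputable def s7 : List TCData.Step := [.all 29 0 0,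
 .all 30 0 0,
 .pts 31 0 0 5 [14],
 .pts 31 0 0 16 [66],
 .all 32 0 0,
 .pts 33 0 0 12 [38],
 .pts 34 2 0 3 [4],
 .pts 34 2 0 15 [68],
 .pts 34 7 0 29 [13],
 .pts 34 7 0 32 [55, 57]]
noncomputable def s8 : List TCData.Step := [.pts 10 2 0 14 [70],
 .pts 10 2 0 26 [10],
 .pts 13 2 0 3 [3],
 .pts 13 2 0 4 [7, 14],
 .pts 13 2 0 29 [37],
 .pts 34 0 0 13 [69],
 .pts 34 0 0 31 [49],
 .pts 34 0 0 32 [52, 56, 64],
 .pts 34 0 0 33 [55],
 .pts 37 0 0 25 [11]]
noncomputable def s9 : List TCData.Step := [.pts 10 0 0 7 [28],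
 .pts 10 0 0 27 [9, 12, 19],
 .pts 10 0 0 28 [17],
 .pts 10 0 0 29 [39],
 .all 11 0 0,
 .all 12 0 0,
 .pts 13 0 0 4 [7],
 .pts 13 0 0 15 [73, 76],
 .pts 13 0 0 29 [37],
 .pts 14 0 0 26 [11],
 .pts 14 0 0 27 [35],
 .all 15 0 0,
 .all 20 0 0,
 .all 26 0 0,
 .all 30 1 0]
theorem hR0 : ∀ r ∈ R0, ev (sg (nth Net.nil nl)) r = 1 := hG0
theorem col0 : T.ColOK 0 := TCData.colOK_of_chk (U := (T.stepsMask 0 s0 (T.mask0 0))) (V := (T.stepsMask 0 s0 (T.mask0 0))) hb (TCData.cov_stepsMask hb (by decide) s0 _ (T.cov_mask0 0)) (TCData.cov_stepsMask hb (by decide) s0 _ (T.cov_mask0 0)) (by decide +kernel)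
theorem col1 : T.ColOK 1 := TCData.colOK_of_chk (U := (T.stepsMask 1 s1 (T.mask0 1))) (V := (T.stepsMask 1 s1 (T.mask0 1))) hb (TCData.cov_stepsMask hb (by decide) s1 _ (T.cov_mask0 1)) (TCData.cov_stepsMask hb (by decide) s1 _ (T.cov_mask0 1)) (by decide +kernel)
theorem col2 : T.ColOK 2 := TCData.colOK_of_chk (U := (T.stepsMask 2 s2 (T.mask0 2))) (V := (T.stepsMask 2 s2 (T.mask0 2))) hb (TCData.cov_stepsMask hb (by decide) s2 _ (T.cov_mask0 2)) (TCData.cov_stepsMask hb (by decide) s2 _ (T.cov_mask0 2)) (by decide +kernel)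
theorem col3 : T.ColOK 3 := TCData.colOK_of_chk (U := (T.stepsMask 3 s3 (T.mask0 3))) (V := (T.stepsMask 3 s3 (T.mask0 3))) hb (TCData.cov_stepsMask hb (by decide) s3 _ (T.cov_mask0 3)) (TCData.cov_stepsMask hb (by decide) s3 _ (T.cov_mask0 3)) (by decide +kernel)
theorem col4 : T.ColOK 4 := TCData.colOK_of_chk (U := (T.stepsMask 4 s4 (T.mask0 4))) (V := (T.stepsMask 4 s4 (T.mask0 4))) hb (TCData.cov_stepsMask hb (by decide) s4 _ (T.cov_mask0 4)) (TCData.cov_stepsMask hb (by decide) s4 _ (T.cov_mask0 4)) (by decide +kernel)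
theorem col5 : T.ColOK 5 := TCData.colOK_of_chk (U := (T.stepsMask 5 s5 (T.mask0 5))) (V := (T.stepsMask 5 s5 (T.mask0 5))) hb (TCData.cov_stepsMask hb (by decide) s5 _ (T.cov_mask0 5)) (TCData.cov_stepsMask hb (by decide) s5 _ (T.cov_mask0 5)) (by decide +kernel)
theorem col6 : T.ColOK 6 := TCData.colOK_of_chk (U := (T.stepsMask 6 s6 (T.mask0 6))) (V := (T.stepsMask 6 s6 (T.mask0 6))) hb (TCData.cov_stepsMask hb (by decide) s6 _ (T.cov_mask0 6)) (TCData.cov_stepsMask hb (by decide) s6 _ (T.cov_mask0 6)) (by decide +kernel)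
theorem col7 : T.ColOK 7 := TCData.colOK_of_chk (U := (T.stepsMask 7 s7 (T.mask0 7))) (V := (T.stepsMask 7 s7 (T.mask0 7))) hb (TCData.cov_stepsMask hb (by decide) s7 _ (T.cov_mask0 7)) (TCData.cov_stepsMask hb (by decide) s7 _ (T.cov_mask0 7)) (by decide +kernel)
theorem col8 : T.ColOK 8 := TCData.colOK_of_chk (U := (T.stepsMask 8 s8 (T.mask0 8))) (V := (T.stepsMask 9 s9 (T.mask0 9))) hb (TCData.cov_stepsMask hb (by decide) s8 _ (T.cov_mask0 8)) (TCData.cov_stepsMask hb (by decide) s9 _ (T.cov_mask0 9)) (by decide +kernel)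
theorem col9 : T.ColOK 9 := TCData.colOK_of_chk (U := (T.stepsMask 9 s9 (T.mask0 9))) (V := (T.stepsMask 8 s8 (T.mask0 8))) hb (TCData.cov_stepsMask hb (by decide) s9 _ (T.cov_mask0 9)) (TCData.cov_stepsMask hb (by decide) s8 _ (T.cov_mask0 8)) (by decide +kernel)
theorem ok : T.OK := ⟨hb, TCData.treeOK_of_chk hn (by decide +kernel), (List.forall_mem_cons.2 ⟨col0, (List.forall_mem_cons.2 ⟨col1, (List.forall_mem_cons.2 ⟨col2, (List.forall_mem_cons.2 ⟨col3, (List.forall_mem_cons.2 ⟨col4, (List.forall_mem_cons.2 ⟨col5, (List.forall_mem_cons.2 ⟨col6, (List.forall_mem_cons.2 ⟨col7, (List.forall_mem_cons.2 ⟨col8, (List.forall_mem_cons.2 ⟨col9, (fun _ h => absurd h List.not_mem_nil)⟩)⟩)⟩)⟩)⟩)⟩)⟩)⟩)⟩)⟩), der _ _ hiv hR0⟩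
theorem bd {G : Type} [Group G] {e : ℕ → G} (h1 : IvOK e (ivOf ivl)) (h2 : ∀ r ∈ R0, ev e r = 1)
    {m : ℕ} (h : Bd (gen e hcols) m) : Bd (gen e cols) (77 * m) := ok.bd h1 (der G e h1 h2) h
theorem cm {G : Type} [Group G] {e : ℕ → G} (h1 : IvOK e (ivOf ivl)) (h2 : ∀ r ∈ R0, ev e r = 1)
    (h3 : gen e cols = ⊤) {ρ : G →* Equiv.Perm ℕ} (h4 : ∀ c, ρ (e c) = sg (nth Net.nil nl) c) :
    CosetModel ρ (gen e hcols) 77 := ok.cosetModel h1 (der G e h1 h2) h3 fun c _ => h4 c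

end H28.TS2
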