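import Mathlib
import Cfsg.Agent.H29.Ext

set_option autoImplicit false
set_option maxRecDepth 100000
set_option Elab.async false
set_option linter.all false

namespace H28.TSk

open H29

noncomputable def n0 : Net := ben 1 [(nat_lit 0x0)]
noncomputable def t0 : List ℕ := [(nat_lit 0x0)]
noncomputable def d0 : ℕ := (nat_lit 0x0)
noncomputable def n1 : Net := ben 1 [(nat_lit 0x0)]
noncomputable def t1 : List ℕ := [(nat_lit 0x0)]
noncomputable def d1 : ℕ := (nat_lit 0x0)
noncomputable def n2 : Net := ben 1 [(nat_lit 0x0)]
noncomputable def t2 : List ℕ := [(nat_lit 0x0)]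
noncomputable def d2 : ℕ := (nat_lit 0x0)
noncomputable def n3 : Net := ben 1 [(nat_lit 0x0)]
noncomputable def t3 : List ℕ := [(nat_lit 0x0)]
noncomputable def d3 : ℕ := (nat_lit 0x0)
noncomputable def n4 : Net := ben 1 [(nat_lit 0x0)]
noncomputable def t4 : List ℕ := [(nat_lit 0x0)]
noncomputable def d4 : ℕ := (nat_lit 0x0)
noncomputable def n5 : Net := ben 1 [(nat_lit 0x0)]
noncomputable def t5 : List ℕ := [(nat_lit 0x0)]
noncomputable def d5 : ℕ := (nat_lit 0x0)
noncomputable def n6 : Net := ben 1 [(nat_lit 0x0)]
noncomputable def t6 : List ℕ := [(nat_lit 0x0)]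
noncomputable def d6 : ℕ := (nat_lit 0x0)
noncomputable def n7 : Net := ben 1 [(nat_lit 0x0)]
noncomputable def t7 : List ℕ := [(nat_lit 0x1)]
noncomputable def d7 : ℕ := (nat_lit 0x0)
noncomputable def n8 : Net := ben 1 [(nat_lit 0x0)]
noncomputable def t8 : List ℕ := [(nat_lit 0x0)]
noncomputable def d8 : ℕ := (nat_lit 0x0)
noncomputable def n9 : Net := n8.rev
noncomputable def t9 : List ℕ := mapPull n9 t8
noncomputable def d9 : ℕ := (nat_lit 0x0)
def ivl : List ℕ := [0, 1, 2, 3, 4, 5, 6, 7, 9, 8, 10]
def cols : List ℕ := [0, 1, 2, 3, 4, 5, 6, 7, 8, 9]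
def hcols : List ℕ := [0, 1, 2, 3, 4, 5, 6, 8, 9]
def G0 : List (List ℕ) := [[0, 1, 0, 1],
 [0, 2, 0, 2],
 [0, 3, 0, 3],
 [1, 2, 1, 2],
 [1, 3, 1, 3],
 [2, 3, 2, 3],
 [4, 0, 4, 0],
 [4, 1, 4, 1],
 [4, 2, 4, 0, 2],
 [4, 3, 4, 1, 3],
 [8, 0, 9, 0, 1],
 [8, 1, 9, 0],
 [8, 2, 9, 3],
 [8, 3, 9, 2, 3],
 [8, 8, 8],
 [8, 4, 8, 4, 8, 4],
 [6, 0, 6, 0],
 [6, 1, 6, 0, 1],
 [6, 2, 6, 2],
 [6, 3, 6, 2, 3],
 [8, 6, 8, 6],
 [4, 6, 4, 6],
 [5, 0, 5, 1, 2],
 [5, 1, 5, 0, 3],
 [5, 2, 5, 3],
 [5, 3, 5, 2],
 [8, 5, 8, 5],
 [4, 5, 4, 5, 4, 5],
 [5, 6, 5, 6, 5, 6],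
 [7, 0, 7, 4],
 [7, 8, 7, 8],
 [7, 6, 7, 6],
 [7, 2, 7, 2, 7, 2],
 [7, 5, 4, 6, 5, 7, 5, 4, 6, 5, 7, 5, 4, 6, 5, 0, 4, 6]]
def R0 : List (List ℕ) := G0
def w0 : List ℕ := [7, 8, 4, 9, 4, 0, 6, 8, 4, 8, 0, 8, 6, 4, 0, 5, 6, 4, 5, 8, 0, 4, 0, 8, 4, 9, 9, 5, 4, 6, 5, 0, 4, 6, 9, 0, 9, 4, 9, 2, 8, 4, 8, 0, 8, 6, 4, 0, 5, 6, 4, 5, 8, 8, 4, 9, 0, 4, 0, 9, 5, 4, 6, 5, 0, 4, 6, 9, 0, 9, 4, 9, 6, 0, 4, 8, 4, 9]
def R1 : List (List ℕ) := R0 ++ [w0]
theorem hii : ∀ c, ivOf ivl (ivOf ivl c) = c := ivOf_ivOf (by decide +kernel)
noncomputable def pr0 : List (ℕ × ℕ) := [(200, (nat_lit 0xdd00000700002800000100000700000800017900000700011a00015900011900000700008500000700002200000200012900000100000700003800006100000700012a00011900012900000100000700014a00000100014900000a00000700002d0000070000020000a20000590000a100006200000700000200001a00008a0000190000210000070000010000a20000090000a10000070000a20000e90000a100000700010500000700001000002100000700000100001200006900001100000700000200001a0000590000190000070001420000490001410000420000070000180000010000070000380000010000070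0002800012900000700006d00000700000100003a00003100003900000700000100004200002100004100000700000100004200001200004100000700000100003a0000190000390000070000480000090000070000d50000070000f50000070000650000070000180000010000070000380000010000070000280000010000070000180000c100000700009d00000700004d00000700002000000100000700002800000100000700001000005100000700004200001100004100000700000100001a00001100001900000700001a0000010000190000070000c50000070000950000070000280000010000070000180000190000070000b500000700003000000100000700002800000100000700003800003100000700001100000a0000010000090000070000e500000700003800001100000700000a0000010000090000070000fd000007000030000001000007000028000001000007000010000001000007000038)),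
 (200, (nat_lit 0xa90000070002320000010002310000070000ad0000070000020002590000010000070000280000010000070000300000b10000070000aa0000020000a90000070000a50000070001e10001fa0000020001f900000700007d00000700008a0002220000890000020000070000020001e20001390001e100000700030a00012100030900000000000700000100001200021100001100001a00002a00000700006a0000020000690000070000750000070000480000590000070000020001f20000010000120000070000080001a100000700003200000200002200000a0000210000320000070000320001920000e900019100017a00000700005500000700010d00000700000800000100000700003800001900000700000200016a0000590001690000190000070001620000610001610000010000070000020000a900000100000700002000015900000700001a00026100001900000700000a00006900000900000100000700000200008900000100001100000700003800000100000700003000013100000700005900024a0000a100024900000700000200001200008a00009900008900000700000a00020200000100020100022100000700008d0000070001f20000010001f100000900000700000500000700000200004100000100000700002000021100000700000100004a0000410000490000070000da0000010000d900000900000700003d0000070000ca0000190000c90000010000070000020001f20001990001f10000070000f10000020001f20000110001f10000f20000070000200000010000070000ed00000700005d000007)),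
 (200, (nat_lit 0x70000250000070000010003e20002a10003e10000070003390003da0004490003d90000020000070004a20000010004a10002b20000070000150000070000100002010000070000400001f900000700000200034a00042100034900000700034200000100034100000700001d0000070000020004620004310004610000070004620003e90004610000020000070000300004390000070004420000f100044100000700000200043a00027100043900000700000200044200001100044100013200000700043a00000100043900024a00000700000d00000700004500000700022100041200006100041100000700000200000700001a0000b10000190000020000070000020000070000020000190000220003720003aa0003a10003a90003c10000070000020000390000010000070000000000010000070000280002b10000070001d900039200020900039100000700000200032a00032100032900034200000700000100022100023200036200031100036100000700000200001200020900032200021100032100000700020100031a00000100031900000700003500000700000200000700000200000700000200036900000100000a0001810000070000300001d10000070000a900007200005100000200001100001a00003a0000520000610000720000890000da0000d20000d90000e900011100013900000700002200000100012200006200012100002100000700025200004900025100023a000007000032000282000031000007000002000022000282000021000007000002000028000020000030000028000000000020000030)),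
 (99, (nat_lit 0x700000400000100000700000200000700000900000100000a0000070000100003e10000070000010000070000010000070002a900000100050a00000700000100000700000100010200000700000200000700008a0000020000890001020000a10000b90000c10000ea0002aa0002510002a900000700022100000200021a0003a10002190002220000070001e20000010000720004810000710001e100000700000100026a0003d100026900000700005a0004710000590000010001d90000070000020000120000320000520004890000510000070000020002ba0000a90002b90000ba0000070002da00036900040a0000a90004090000070000020004020002f90004010000070000020004ca0004110004c90001ba0000070004c20000010004c10002ca))]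
theorem p0 : chkProg 4 (ivOf ivl) R0 pr0 [(0, w0)] = true := by decide +kernel
theorem der : Derives (ivOf ivl) R0 R1 := (Derives.refl _ _).prog hii p0
noncomputable def nl : List Net := [n0, n1, n2, n3, n4, n5, n6, n7, n8, n9]
noncomputable def T : TCData := ⟨1, 1, 1, 1, nth Net.nil nl, ivOf ivl, cols, hcols, R1,
  nth [] [t0, t1, t2, t3, t4, t5, t6, t7, t8, t9], nth 0 [d0, d1, d2, d3, d4, d5, d6, d7, d8, d9]⟩
theorem hn : NetsOK 1 (nth Net.nil nl) := netsOK_of_all (by decide +kernel)
theorem hiv : IvOK (sg (nth Net.nil nl)) (ivOf ivl) :=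
  ivOK_of_chk (k := 1) hn (by decide) (n := 11) (by decide) (by decide) (allN_true.1 (by decide +kernel))
theorem hb : T.Basic := TCData.basic_of_chk hn hiv (by decide +kernel)
theorem hG0 : ∀ r ∈ G0, ev (sg (nth Net.nil nl)) r = 1 :=
  rels_of_chk (k := 1) hn (by decide) hiv (allN_true.1 (by decide +kernel))
noncomputable def s0 : List TCData.Step := []
noncomputable def s1 : List TCData.Step := []
noncomputable def s2 : List TCData.Step := []
noncomputable def s3 : List TCData.Step := []
noncomputable def s4 : List TCData.Step := []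
noncomputable def s5 : List TCData.Step := []
noncomputable def s6 : List TCData.Step := []
noncomputable def s7 : List TCData.Step := [.all 34 0 0]
noncomputable def s8 : List TCData.Step := []
noncomputable def s9 : List TCData.Step := []
theorem hR0 : ∀ r ∈ R0, ev (sg (nth Net.nil nl)) r = 1 := hG0
theorem col0 : T.ColOK 0 := TCData.colOK_of_chk (U := (T.stepsMask 0 s0 (T.mask0 0))) (V := (T.stepsMask 0 s0 (T.mask0 0))) hb (TCData.cov_stepsMask hb (by decide) s0 _ (T.cov_mask0 0)) (TCData.cov_stepsMask hb (by decide) s0 _ (T.cov_mask0 0)) (by decide +kernel)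
theorem col1 : T.ColOK 1 := TCData.colOK_of_chk (U := (T.stepsMask 1 s1 (T.mask0 1))) (V := (T.stepsMask 1 s1 (T.mask0 1))) hb (TCData.cov_stepsMask hb (by decide) s1 _ (T.cov_mask0 1)) (TCData.cov_stepsMask hb (by decide) s1 _ (T.cov_mask0 1)) (by decide +kernel)
theorem col2 : T.ColOK 2 := TCData.colOK_of_chk (U := (T.stepsMask 2 s2 (T.mask0 2))) (V := (T.stepsMask 2 s2 (T.mask0 2))) hb (TCData.cov_stepsMask hb (by decide) s2 _ (T.cov_mask0 2)) (TCData.cov_stepsMask hb (by decide) s2 _ (T.cov_mask0 2)) (by decide +kernel)
theorem col3 : T.ColOK 3 := TCData.colOK_of_chk (U := (T.stepsMask 3 s3 (T.mask0 3))) (V := (T.stepsMask 3 s3 (T.mask0 3))) hb (TCData.cov_stepsMask hb (by decide) s3 _ (T.cov_mask0 3)) (TCData.cov_stepsMask hb (by decide) s3 _ (T.cov_mask0 3)) (by decide +kernel)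
theorem col4 : T.ColOK 4 := TCData.colOK_of_chk (U := (T.stepsMask 4 s4 (T.mask0 4))) (V := (T.stepsMask 4 s4 (T.mask0 4))) hb (TCData.cov_stepsMask hb (by decide) s4 _ (T.cov_mask0 4)) (TCData.cov_stepsMask hb (by decide) s4 _ (T.cov_mask0 4)) (by decide +kernel)
theorem col5 : T.ColOK 5 := TCData.colOK_of_chk (U := (T.stepsMask 5 s5 (T.mask0 5))) (V := (T.stepsMask 5 s5 (T.mask0 5))) hb (TCData.cov_stepsMask hb (by decide) s5 _ (T.cov_mask0 5)) (TCData.cov_stepsMask hb (by decide) s5 _ (T.cov_mask0 5)) (by decide +kernel)
theorem col6 : T.ColOK 6 := TCData.colOK_of_chk (U := (T.stepsMask 6 s6 (T.mask0 6))) (V := (T.stepsMask 6 s6 (T.mask0 6))) hb (TCData.cov_stepsMask hb (by decide) s6 _ (T.cov_mask0 6)) (TCData.cov_stepsMask hb (by decide) s6 _ (T.cov_mask0 6)) (by decide +kernel)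
theorem col7 : T.ColOK 7 := TCData.colOK_of_chk (U := (T.stepsMask 7 s7 (T.mask0 7))) (V := (T.stepsMask 7 s7 (T.mask0 7))) hb (TCData.cov_stepsMask hb (by decide) s7 _ (T.cov_mask0 7)) (TCData.cov_stepsMask hb (by decide) s7 _ (T.cov_mask0 7)) (by decide +kernel)
theorem col8 : T.ColOK 8 := TCData.colOK_of_chk (U := (T.stepsMask 8 s8 (T.mask0 8))) (V := (T.stepsMask 9 s9 (T.mask0 9))) hb (TCData.cov_stepsMask hb (by decide) s8 _ (T.cov_mask0 8)) (TCData.cov_stepsMask hb (by decide) s9 _ (T.cov_mask0 9)) (by decide +kernel)
theorem col9 : T.ColOK 9 := TCData.colOK_of_chk (U := (T.stepsMask 9 s9 (T.mask0 9))) (V := (T.stepsMask 8 s8 (T.mask0 8))) hb (TCData.cov_stepsMask hb (by decide) s9 _ (T.cov_mask0 9)) (TCData.cov_stepsMask hb (by decide) s8 _ (T.cov_mask0 8)) (by decide +kernel)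
theorem ok : T.OK := ⟨hb, TCData.treeOK_of_chk hn (by decide +kernel), (List.forall_mem_cons.2 ⟨col0, (List.forall_mem_cons.2 ⟨col1, (List.forall_mem_cons.2 ⟨col2, (List.forall_mem_cons.2 ⟨col3, (List.forall_mem_cons.2 ⟨col4, (List.forall_mem_cons.2 ⟨col5, (List.forall_mem_cons.2 ⟨col6, (List.forall_mem_cons.2 ⟨col7, (List.forall_mem_cons.2 ⟨col8, (List.forall_mem_cons.2 ⟨col9, (fun _ h => absurd h List.not_mem_nil)⟩)⟩)⟩)⟩)⟩)⟩)⟩)⟩)⟩)⟩), der _ _ hiv hR0⟩
theorem bd {G : Type} [Group G] {e : ℕ → G} (h1 : IvOK e (ivOf ivl)) (h2 : ∀ r ∈ R0, ev e r = 1)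
    {m : ℕ} (h : Bd (gen e hcols) m) : Bd (gen e cols) (1 * m) := ok.bd h1 (der G e h1 h2) h
theorem cm {G : Type} [Group G] {e : ℕ → G} (h1 : IvOK e (ivOf ivl)) (h2 : ∀ r ∈ R0, ev e r = 1)
    (h3 : gen e cols = ⊤) {ρ : G →* Equiv.Perm ℕ} (h4 : ∀ c, ρ (e c) = sg (nth Net.nil nl) c) :
    CosetModel ρ (gen e hcols) 1 := ok.cosetModel h1 (der G e h1 h2) h3 fun c _ => h4 c

end H28.TSk
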