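import Mathlib
import Cfsg.Agent.H28.TS0
import Cfsg.Agent.H28.TS1
import Cfsg.Agent.H28.TS2
import Cfsg.Agent.H28.TSk
import Cfsg.Agent.H28.TS3a
import Cfsg.Agent.H28.TS3b
import Cfsg.Agent.H28.TS4a
import Cfsg.Agent.H28.TS4b
import Cfsg.Agent.H9.CG
import Cfsg.Agent.H9.M24

/-! Presentations of `M₂₂` and `M₂₃` over `2⁴:A₆` and `2⁴:A₇`. -/

set_option autoImplicit false
set_option maxRecDepth 100000
set_option Elab.async false

namespace H28.TS

open H29 H9.MX

def ivl : List ℕ := [0, 1, 2, 3, 4, 5, 6, 7, 9, 8, 10]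
def c1 : List ℕ := [0, 1, 2, 3, 4, 5, 6, 8, 9]
def c2 : List ℕ := [0, 1, 2, 3, 4, 5, 6, 7, 8, 9]
def c4 : List ℕ := [0, 1, 2, 3, 4, 5, 6, 7, 8, 9, 10]

theorem exists_emb (G : Type*) [Group G] [Finite G] :
    ∃ (n : ℕ) (f : G →* Equiv.Perm (Fin n)), Function.Injective f :=
  ⟨_, (Finite.equivFin G).permCongrHom.toMonoidHom.comp (MulAction.toPermHom G G),
    (Finite.equivFin G).permCongrHom.injective.comp MulAction.toPerm_injective⟩

theorem iso_of_bd {G : Type*} [Group G] [Finite G] [Nontrivial G] {X : Type} [Group X]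
    {R : List (List ℕ)} {iv : ℕ → ℕ} {L : List ℕ} {n : ℕ} (hU : UBd iv R L n)
    (hL : ∀ c ∈ L, iv c ∈ L) {σ : ℕ → X} {e : ℕ → G}
    (i1 : IvOK σ iv) (i2 : IvOK e iv) (r1 : ∀ r ∈ R, ev σ r = 1)
    (r2 : ∀ r ∈ R, ev e r = 1) (top : gen e L = ⊤) {K : Subgroup X} (hK : K ≤ gen σ L)
    (hn : n ≤ Nat.card K) (h3 : IsSimpleGroup K) : Nonempty (G ≃* K) := by
  obtain ⟨h1, h2⟩ := hU X σ i1 r1
  obtain rfl : K = gen σ L := Subgroup.eq_of_le_of_card_ge hK (h2.trans hn)
  obtain ⟨k, ρ, hρ⟩ := exists_emb G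
  obtain ⟨f, f1, -⟩ := ((tr_of_bd hU hL i1 (ivOK_map ρ i2) r1
    (fun r hr => by rw [← map_ev, r2 r hr, map_one]) hn).trans
    (Tr.of_injective ρ hρ fun _ _ => rfl)).exists_surj i1 i2 hL
  have t := (MulEquiv.subgroupCongr top).trans Subgroup.topEquiv
  refine ⟨((MulEquiv.ofBijective f ⟨(MonoidHom.ker_eq_bot_iff f).1
    ((IsSimpleGroup.eq_bot_or_eq_top_of_normal f.ker inferInstance).resolve_right fun h5 => ?_),
    f1⟩).trans t).symm⟩
  obtain ⟨a, ha⟩ := exists_ne (1 : G)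
  obtain ⟨b, hb⟩ := f1 (t.symm a)
  rw [show f b = 1 from h5.ge trivial, eq_comm, map_eq_one_iff _ t.symm.injective] at hb
  exact ha hb

theorem ev_pm {l : List ℕ} (h : ∀ c ∈ l, H9.validP c = true) (w : List ℕ) :
    ev (fun c => H9.pm (l.getD c H9.idP)) w = H9.pm (H9.evalW l w) := by
  have hg : H9.GensIn l ⊤ := fun c hc => ⟨h c hc, trivial⟩
  induction w with
  | nil => exact H9.pm_idP.symm
  | cons c w ih =>
    rw [ev_cons, ih, show H9.evalW l (c :: w) = H9.mulP (l.getD c H9.idP) (H9.evalW l w) from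
      H9.force_eq _ _, H9.pm_mulP _ (hg.evalW w).1]
    rw [List.getD_eq_getElem?_getD]
    cases hi : l[c]? with
    | none => exact H9.validP_idP
    | some c => exact h c (List.mem_of_getElem? hi)

theorem iv_big {c : ℕ} (hc : ¬ c < 11) : ivOf ivl c = c := by
  rw [ivOf, nth_eq, List.getD_eq_default _ _ (by simp [ivl]; omega)]

theorem isoP {G : Type*} [Group G] [Finite G] [Nontrivial G] {R : List (List ℕ)} {L : List ℕ}
    {n : ℕ} (hU : UBd (ivOf ivl) R L n) {e : ℕ → G} (i2 : IvOK e (ivOf ivl))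
    (r2 : ∀ r ∈ R, ev e r = 1) (top : gen e L = ⊤) {K : Subgroup _} {gs : List ℕ}
    (hK : H9.cl gs = K) (hn : n ≤ Nat.card K) (hs : IsSimpleGroup K) (l : List ℕ)
    (W : List (List ℕ)) (h : (∀ c ∈ L, ivOf ivl c ∈ L) ∧ (∀ c ∈ l, H9.validP c = true) ∧
      l.length = 11 ∧ (∀ c < 11, H9.evalW l [ivOf ivl c, c] = H9.idP) ∧
      (∀ r ∈ R, H9.evalW l r = H9.idP) ∧
      ∀ g ∈ gs, ∃ w ∈ W, (∀ c ∈ w, c ∈ L) ∧ H9.evalW l w = g) : Nonempty (G ≃* K) := by
  obtain ⟨h0, h1, h2, h3, h4, h5⟩ := h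
  refine iso_of_bd hU h0 (σ := fun c => H9.pm (l.getD c H9.idP)) (fun c => ?_) i2
    (fun r hr => by rw [ev_pm h1, h4 r hr, H9.pm_idP]) r2 top ?_ hn hs
  · refine eq_inv_of_mul_eq_one_left ?_
    by_cases hc : c < 11
    · have := ev_pm h1 [ivOf ivl c, c]
      rwa [h3 c hc, H9.pm_idP, ev_cons, ev_cons, ev_nil, mul_one] at this
    · simp [iv_big hc, List.getElem?_eq_none (show l.length ≤ c by omega), H9.pm_idP]
  · rw [← hK, H9.cl, Subgroup.closure_le]
    rintro _ ⟨g, hg, rfl⟩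
    obtain ⟨w, -, w1, rfl⟩ := h5 g hg
    exact ev_pm h1 w ▸ ev_mem_gen w1

theorem ub1 : UBd (ivOf ivl) TS1.R0 c1 5760 := fun _ _ e h1 h2 =>
  TS1.bd h1 h2 (TS0.bd h1 (rels_sub h2 (by decide +kernel)) (bd_nil e))

theorem ub2 : UBd (ivOf ivl) TS2.R0 c2 443520 := fun G _ e h1 h2 =>
  TS2.bd h1 h2 (ub1 G e h1 (rels_sub h2 (by decide +kernel)))

theorem uba : UBd (ivOf ivl) TS4a.R0 c4 10200960 := fun G _ e h1 h2 =>
  TS4a.bd h1 h2 (TS3a.bd h1 (rels_sub h2 (by decide +kernel))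
    (ub1 G e h1 (rels_sub h2 (by decide +kernel))))

theorem ubb : UBd (ivOf ivl) TS4b.R0 c4 10200960 := fun G _ e h1 h2 =>
  TS4b.bd h1 h2 (TS3b.bd h1 (rels_sub h2 (by decide +kernel))
    (ub1 G e h1 (rels_sub h2 (by decide +kernel))))

variable {G : Type*} [Group G] [Finite G] {e : ℕ → G}

theorem kill (i2 : IvOK e (ivOf ivl)) (r2 : ∀ r ∈ TSk.R0, ev e r = 1) : e 7 ∈ gen e c1 := by
  obtain ⟨k, ρ, hρ⟩ := exists_emb G
  have b := (TSk.bd (ivOK_map ρ i2) (fun r hr => by rw [← map_ev, r2 r hr, map_one])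
    ⟨inferInstance, le_rfl⟩).2
  have q : gen (fun c => ρ (e c)) c1 = gen (fun c => ρ (e c)) c2 :=
    Subgroup.eq_of_le_of_card_ge (gen_le.2 fun c hc => mem_gen (by revert c; decide))
      (b.trans (one_mul _).le)
  have : ρ (e 7) ∈ (gen e c1).map ρ := by
    rw [map_gen, q]; exact mem_gen (by decide)
  obtain ⟨x, hx, h⟩ := this
  exact hρ h ▸ hx

theorem iso22 [Nontrivial G] (i2 : IvOK e (ivOf ivl)) (r2 : ∀ r ∈ TS2.R0, ev e r = 1)
    (top : gen e c2 = ⊤) : Cfsg.Spor.IsoM22 G :=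
  isoP ub2 i2 r2 top (H9.cl_g22.trans H9.M22_eq.symm) H9.card_M22.ge H9.simple_M22
    [981940260449521198767676458684353088, 957028651706772161000819827381930688, 971700361611140356443901154824849856, 959823939071994704882402347086186784, 979074128476612300114798262329257600, 983560637420171784855196239005297888, 971010593105500437210112981836344992, 983545517871202836484181978434876800, 967977210056937253505590542721298016, 983017462523640846459406550923022720, 978895508429666892484606709753097253]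
    [[0, 4, 5, 6, 7, 5, 4, 3, 6, 5], [2, 5, 6, 5, 7, 5, 8, 4, 3, 6]] (by decide +kernel)

theorem iso23a [Nontrivial G] (i2 : IvOK e (ivOf ivl)) (r2 : ∀ r ∈ TS4a.R0, ev e r = 1)
    (top : gen e c4 = ⊤) : Cfsg.Spor.IsoM23 G :=
  isoP uba i2 r2 top (H9.cl_g23.trans H9.M23_eq.symm) H9.card_M23.ge H9.simple_M23
    [981940260449521198767676458684353088, 957028651706772161000819827381930688, 971700361611140356443901154824849856, 959823939071994704882402347086186784, 979074128476612300114798262329257600, 983560637420171784855196239005297888, 971010593105500437210112981836344992, 983545517871202836484181978434876800, 967977210056937253505590542721298016, 983017462523640846459406550923022720, 978895508429666892484606709753097253]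
    [[8, 4, 5, 6, 10, 9, 2, 4, 5, 7, 1, 6, 5, 7, 3, 4, 5], [3, 2, 7, 4, 5, 6, 10, 2, 4, 7, 3, 6, 5, 7, 2, 5, 4, 6]] (by decide +kernel)

theorem iso23b [Nontrivial G] (i2 : IvOK e (ivOf ivl)) (r2 : ∀ r ∈ TS4b.R0, ev e r = 1)
    (top : gen e c4 = ⊤) : Cfsg.Spor.IsoM23 G :=
  isoP ubb i2 r2 top (H9.cl_g23.trans H9.M23_eq.symm) H9.card_M23.ge H9.simple_M23
    [965823287528192349793434105431984800, 976539006901119804582877792120867232, 978241746458226444833005867658250464, 974394222122509349096603230276913536, 966158389308529030942218518639679904, 971634673966735795557231856693217824, 966564143901873346905572374908864736, 984719425469015381782316292875858496, 957477442312227571775889581843845696, 979423181690505674622884456557914816, 979138739032591736845003449170331685]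
    [[4, 5, 6, 10, 4, 9, 4, 5, 6, 7, 5, 4, 3, 7, 5], [5, 7, 4, 5, 6, 10, 3, 6, 7, 5, 6, 3, 4, 7, 5, 9]] (by decide +kernel)

end H28.TS
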