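import Cfsg.Agent.H28.TSC
import Cfsg.Agent.H28.TSM

/-! TI, sporadic case: relations and generation. -/

set_option autoImplicit false
set_option linter.unusedSectionVars false
set_option linter.unusedVariables false
set_option synthInstance.maxSize 4096
set_option maxRecDepth 100000

namespace H28.TS

open Cfsg H24 Subgroup H12.TI H8.TI H29
open scoped commutatorElement

universe u

variable {G : Type u} [Group G] [Finite G] {Ω : Set (Subgroup G)}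
  {A B C E I K P Q : Subgroup G} {a b c d d' g g' i i' j j' k l m p r s t w x y : G} {φ : ℕ → G}
  {n n' m' : ℕ} {M M' N : M4}

theorem c2' (h : x * x = 1) (y : G) : x * (x * y) = y := by rw [← mul_assoc, h, one_mul]

theorem braid (j2 : j * j = 1) (k2 : k * k = 1) (l2 : l * l = 1)
    (jk : j * k * (j * k) * (j * k) = 1) (kl : k * l * (k * l) * (k * l) = 1) (jl : l * j = j * l) :
    k * (j * l) * k * (k * (j * l) * k) = 1 ∧ k * (j * l) * k * j * (k * (j * l) * k) = l := by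
  have c := @c2' G _ _
  have b : ∀ {x y : G}, x * x = 1 → y * y = 1 → x * y * (x * y) * (x * y) = 1 →
      ∀ u, y * (x * (y * u)) = x * (y * (x * u)) := fun {x y} h1 h2 h3 u => by
    calc _ = y * (x * (y * ((x * y * (x * y) * (x * y))⁻¹ * u))) := by rw [h3, inv_one, one_mul]
      _ = _ := by simp only [mul_inv_rev, TH.inv_of_sq h1, TH.inv_of_sq h2, mul_assoc, c h1, c h2]
  have q : ∀ u, l * (j * u) = j * (l * u) := fun u => by rw [← mul_assoc, jl, mul_assoc]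
  constructor
  · simp only [mul_assoc, c k2, q, c j2, c l2, k2]
  · simp only [mul_assoc]
    rw [b j2 k2 jk, q, c j2, c j2, ← b k2 l2 kl, c l2, k2, mul_one]

def EL (φ : ℕ → G) (j k l s g m : G) (c : ℕ) : G :=
  [φ 1, φ 2, φ 4, φ 8, j, k, l, s, g, g⁻¹, m].getD c 1
def Ms (M : M4) (c : ℕ) : M4 := [I4, I4, I4, I4, mJ, mK, mL, I4, mH, (2, 3, 12, 4), M].getD c I4
def c3 : List ℕ := [0, 1, 2, 3, 4, 5, 6, 8, 9, 10]
def xs (L : List ℕ) : ℕ := L.foldr (fun c r => 2 ^ c ^^^ r) 0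
def okA (M : M4) : List ℕ → Bool
  | c :: b :: c' :: L => decide (c ∈ c3 ∧ c' = ivl.getD c c ∧ b < 4 ∧ (∀ x ∈ L, x < 4) ∧
      xs L = ap (Ms M c) (2 ^ b))
  | _ => false
def okC (M : M4) (r : List ℕ) : Bool :=
  decide (r = r.take 2 ++ r.take 2 ++ r.take 2 ∧ (∀ c ∈ r.take 2, c ∈ c3) ∧ Fpf (evM (Ms M) (r.take 2)) ∧
    cp (cp (evM (Ms M) (r.take 2)) (evM (Ms M) (r.take 2))) (evM (Ms M) (r.take 2)) = I4)
def EX : List (List ℕ) := [[8, 8, 8], [8, 6, 8, 6], [4, 6, 4, 6], [8, 5, 8, 5], [7, 0, 7, 4],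
  [7, 8, 7, 8], [7, 6, 7, 6], [7, 2, 7, 2, 7, 2]]
def EM : List (List ℕ) := [[8, 10, 8, 10], [4, 10, 4, 10], [5, 10, 5, 10]]
def W1 : List (List ℕ × M4) := [([], (1, 2, 4, 8)), ([5], (6, 9, 8, 4)), ([5, 4], (6, 9, 14, 13)), ([5, 6], (6, 15, 8, 12)), ([5, 4, 6], (6, 15, 14, 3)), ([5, 4, 8], (15, 6, 13, 3)), ([5, 4, 9], (9, 15, 3, 14)), ([5, 4, 6, 5], (1, 5, 3, 14)), ([5, 4, 6, 8], (9, 6, 3, 13)), ([5, 4, 6, 9], (15, 9, 13, 14)), ([5, 4, 6, 5, 8], (4, 1, 14, 13)), ([5, 4, 6, 5, 9], (5, 4, 13, 3)), ([5, 4, 6, 5, 8, 4], (4, 1, 10, 12)), ([5, 4, 6, 5, 9, 4], (5, 4, 8, 7)), ([5, 4, 6, 5, 8, 4, 9], (1, 5, 6, 10))]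
def W0 : List (List ℕ × M4) := [([], (1, 2, 4, 8)), ([6], (1, 3, 4, 12)), ([8], (3, 1, 8, 12)), ([9], (2, 3, 12, 4)), ([6, 5], (7, 13, 12, 4)), ([6, 8], (2, 1, 12, 8)), ([6, 9], (3, 2, 8, 4)), ([8, 4], (3, 1, 11, 13)), ([9, 4], (2, 3, 14, 7)), ([6, 5, 4], (7, 13, 11, 9)), ([6, 5, 8], (10, 7, 4, 8)), ([6, 5, 9], (13, 10, 8, 12)), ([6, 8, 4], (2, 1, 14, 9)), ([6, 9, 4], (3, 2, 11, 6)), ([8, 4, 5], (10, 14, 13, 11)), ([8, 4, 9], (1, 2, 6, 11)), ([9, 4, 5], (13, 5, 7, 14)), ([6, 8, 4, 9], (1, 3, 7, 14)), ([8, 4, 5, 8], (4, 10, 11, 6)), ([8, 4, 5, 8, 4], (4, 10, 15, 12))]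

theorem sq4 (e : x * y = y * x) (h1 : x * x = 1) (h2 : y * y = 1) : x * (y * (x * y)) = 1 := by
  rw [e, ← mul_assoc y, h2, one_mul, h1]

theorem iv4 (e : x * g * x⁻¹ = g⁻¹) (h1 : x * x = 1) : g * (x * (g * x)) = 1 ∧ x * (g * (x * g)) = 1 := by
  rw [TH.inv_of_sq h1] at e
  exact ⟨by rw [← mul_assoc x, e, mul_inv_cancel], by rw [← mul_assoc, ← mul_assoc, e, inv_mul_cancel]⟩

theorem gen_top [IsSimpleGroup G] (h : St Ω) (hA : A ∈ Ω) {X : Subgroup G} (hX : A ≤ X)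
    (nb : ∀ P, Adj Ω A P → ∃ x ∈ X, P = cj x A) : X = ⊤ := by
  have all : ∀ P ∈ Ω, ∃ x ∈ X, P = cj x A := fun P hP => by
    have := h.conn A hA P hP
    clear hP
    induction this with
    | refl => exact ⟨1, one_mem X, (cj_one A).symm⟩
    | tail _ e ih =>
      obtain ⟨x, hx, rfl⟩ := ih
      obtain ⟨y, hy, e'⟩ := nb _ (by simpa using h.toSit.adj_cj e x⁻¹)
      exact ⟨x * y, mul_mem hx hy, by rw [cj_mul, ← e', cj_cj_inv]⟩
  obtain ⟨a, ha, a1⟩ := exists_ne_one (h.ne A hA)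
  refine top_le_iff.1 (((IsSimpleGroup.eq_bot_or_eq_top_of_normal X.normalCore
    inferInstance).resolve_left (ne_bot_of_mem (x := a) (fun b => ?_) a1)).ge.trans X.normalCore_le)
  obtain ⟨x, hx, e⟩ := all _ (h.cjm A hA b)
  exact cj_le_of_mem hX hx (e ▸ conj_mem_cj b ha)

variable (h : St Ω) (hc : CS Ω)
include h hc

namespace Z

variable (z : Z Ω A B φ j k l g)
include z

theorem AZ (hx : x ∈ A) (e1 : x * j = j * x) (e2 : x * l = l * x) : x = 1 ∨ x = φ 1 := by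
  obtain ⟨n, hn, rfl⟩ := z.co.sur x hx
  have d : ∀ n < 16, ap mJ n = n → ap mL n = n → n = 0 ∨ n = 1 := by decide
  rcases d n hn ((z.co.fix z.aj hn).1 e1) ((z.co.fix z.al hn).1 e2) with rfl | rfl
  exacts [Or.inl z.co.zero, Or.inr rfl]

theorem three (s2 : s * s = 1) (sz : s * φ 1 * s⁻¹ = j) (sl : l * s = s * l) (ds : DP Ω s) :
    s * (k * (j * l) * k) * (s * (k * (j * l) * k)) * (s * (k * (j * l) * k)) = 1 ∨
    s * (k * (j * l) * k) * (s * (k * (j * l) * k)) * (s * (k * (j * l) * k)) * (φ 1 * (j * l)) = 1 := by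
  have co := z.co
  have hA := z.adj.l
  have j2 := z.j2 h hc
  have l2 := z.l2 h hc
  have jl := z.commJ h hc z.al z.li
  obtain ⟨t2, tj⟩ := braid j2 (z.k2 h hc) l2 (cube h co hA (co.mulA z.aj z.ak))
    (cube h co hA (co.mulA z.ak z.al)) jl
  have at' : Ac φ (k * (j * l) * k) (1, 5, 3, 14) :=
    (co.mulA (co.mulA z.ak (co.mulA z.aj z.al)) z.ak).of
  have djl : DP Ω (j * l) := DP.mul h hc ⟨B, z.adj.r, z.hj.1⟩ z.dl jl.symm
  have dt : DP Ω (k * (j * l) * k) := by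
    nth_rw 2 [← TH.inv_of_sq (z.k2 h hc)]; exact DP.cj h djl k
  generalize k * (j * l) * k = t at *
  have ti := TH.inv_of_sq t2
  have si := TH.inv_of_sq s2
  have jA := co.nA z.aj
  have cc : ∀ x y v : G, x * y * v * (x * y)⁻¹ = x * (y * v * y⁻¹) * x⁻¹ := fun _ _ _ => by group
  have x1 : s * t * φ 1 * (s * t)⁻¹ = j := by rw [cc, co.cj at']; exact sz
  have x2 : s * t * j * (s * t)⁻¹ = l := by rw [cc, ti, tj, ← sl, mul_inv_cancel_right]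
  have x3 : s * t * l * (s * t)⁻¹ = φ 1 := by
    rw [cc, ← tj, ← sz]; simp only [mul_assoc, si, ti, c2' s2, c2' t2, s2, t2, mul_one]
  set c := s * t * (s * t) * (s * t) with hcd
  have c1 : c * φ 1 = φ 1 * c := by rw [← mul_inv_eq_iff_eq_mul, hcd, cc, cc (s * t), x1, x2, x3]
  have c2 : c * j = j * c := by rw [← mul_inv_eq_iff_eq_mul, hcd, cc, cc (s * t), x2, x3, x1]
  have c3 : c * l = l * c := by rw [← mul_inv_eq_iff_eq_mul, hcd, cc, cc (s * t), x3, x1, x2]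
  have sc : s * c * s⁻¹ = c⁻¹ := by
    simp only [hcd, mul_inv_rev, mul_assoc, si, ti, c2' s2]
  have tc : t * c * t * c = 1 := by
    simp only [hcd, mul_assoc, c2' s2, c2' t2, t2, mul_one]
  obtain ⟨a, a1, b, b1, e, e1, d, d1, ac⟩ :=
    co.exA (h.toSit.C1_le hA (co.mem 1) co.ne (mem_C1.2 c1))
  obtain rfl : a = 1 := co.eq a1 (by decide) (by rw [← ac.e1.2, c1, mul_inv_cancel_right])
  have dd : ∀ b < 16, ∀ e < 16, ∀ d < 16, cp (1, b, e, d) mJ = cp mJ (1, b, e, d) →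
      cp (1, b, e, d) mL = cp mL (1, b, e, d) → cp (cp (cp (1, 5, 3, 14) (1, b, e, d)) (1, 5, 3, 14))
        (1, b, e, d) = I4 → (1, b, e, d) ∈ [I4, (1, 2, 4, 9), (1, 3, 5, 14), (1, 3, 5, 15)] ∧
        cp (1, b, e, d) (1, b, e, d) = I4 := by decide +kernel
  obtain ⟨f1, f2⟩ := dd b b1 e e1 d d1 (co.uq (co.mulA ac z.aj) (c2 ▸ co.mulA z.aj ac))
    (co.uq (co.mulA ac z.al) (c3 ▸ co.mulA z.al ac))
    (co.uq (co.mulA (co.mulA (co.mulA at' ac) at') ac) (tc ▸ co.ofA (one_mem A)))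
  have c4 : c * c = 1 := (z.AZ h hc (memA h co hA ((co.mulA ac ac).of f2))
    (by rw [mul_assoc, c2, ← mul_assoc, c2, mul_assoc])
    (by rw [mul_assoc, c3, ← mul_assoc, c3, mul_assoc])).resolve_right fun e => jA (by
      rw [← sz, ← e, show s * (c * c) * s⁻¹ = s * c * s⁻¹ * (s * c * s⁻¹) by group, sc,
        ← mul_inv_rev, e]
      exact inv_mem (co.mem 1))
  rw [TH.inv_of_sq c4] at sc
  have dc : DP Ω c := by
    have e : t * s * t * (t * s)⁻¹ = s * c := by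
      simp only [hcd, mul_inv_rev, mul_assoc, si, ti, c2' s2]
    have := DP.mul h hc ds (e ▸ DP.cj h dt (t * s)) (by
      rw [mul_assoc, ← mul_inv_eq_iff_eq_mul.1 sc])
    rwa [c2' s2] at this
  have cjl : c * (j * l) = j * l * c := by rw [← mul_assoc, c2, mul_assoc, c3, mul_assoc]
  have ajl := co.mulA ac (co.mulA z.aj z.al)
  simp only [List.mem_cons, List.not_mem_nil, or_false] at f1
  rcases f1 with f | f | f | f <;> rw [f] at ac ajl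
  · exact Or.inl ((z.AZ h hc (memA h co hA ac) c2 c3).resolve_right fun e => jA (by
      rw [← sz, ← e, sc, e]; exact co.mem 1))
  · exact (noT h hc co hA dc ac).elim
  · exact (noT h hc co hA (DP.mul h hc dc djl cjl) ajl.of).elim
  · rcases z.AZ h hc (memA h co hA ajl.of)
      (by rw [mul_assoc c, mul_assoc j l, jl, ← mul_assoc c, c2, mul_assoc j c])
      (by rw [mul_assoc c, ← mul_assoc l, ← c3, mul_assoc c, ← mul_assoc l, jl]) with e | e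
    · refine (jA ?_).elim
      have e' : s * (j * l) * s⁻¹ = j * l := by
        rw [← inv_inv (j * l), ← mul_eq_one_iff_eq_inv.1 e, TH.inv_of_sq c4, sc]
      rw [show s * (j * l) * s⁻¹ = s * j * s⁻¹ * (s * l * s⁻¹) by group, ← sl, mul_inv_cancel_right,
        mul_left_inj, ← sz, si, ← mul_assoc, ← mul_assoc, s2, one_mul, mul_assoc, s2, mul_one] at e'
      rw [← sz, si, ← e']; exact co.mem 1
    · exact Or.inr (by rw [← mul_assoc, c1, mul_assoc, e, co.sq])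

theorem acts (am : Ac φ m M) : ∀ c ∈ c3, Ac φ (EL φ j k l s g m c) (Ms M c) := by
  simp only [c3, List.forall_mem_cons, List.not_mem_nil, false_imp_iff, implies_true, and_true]
  exact ⟨z.co.ofA (z.co.mem 1), z.co.ofA (z.co.mem 2), z.co.ofA (z.co.mem 4), z.co.ofA (z.co.mem 8),
    z.aj, z.ak, z.al, z.ag, z.agi h hc, am⟩

theorem ivok (s2 : s * s = 1) (m2 : m * m = 1) : IvOK (EL φ j k l s g m) (ivOf ivl) := fun c => by
  by_cases e : c < 11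
  · rw [ivOf, nth_eq]
    interval_cases c
    exacts [(TH.inv_of_sq (z.co.sq 1)).symm, (TH.inv_of_sq (z.co.sq 2)).symm,
      (TH.inv_of_sq (z.co.sq 4)).symm, (TH.inv_of_sq (z.co.sq 8)).symm,
      (TH.inv_of_sq (z.j2 h hc)).symm, (TH.inv_of_sq (z.k2 h hc)).symm,
      (TH.inv_of_sq (z.l2 h hc)).symm, (TH.inv_of_sq s2).symm, rfl, (inv_inv g).symm,
      (TH.inv_of_sq m2).symm]
  · rw [iv_big e, EL, List.getD_eq_default _ _ (by simp; omega), inv_one]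

theorem evx (L : List ℕ) (hL : ∀ x ∈ L, x < 4) : ev (EL φ j k l s g m) L = φ (xs L) := by
  have e4 : ∀ c < 4, EL φ j k l s g m c = φ (2 ^ c) := fun c hc => by interval_cases c <;> rfl
  induction L with
  | nil => exact z.co.zero.symm
  | cons c L ih =>
    rw [ev_cons, ih fun x hx => hL x (by simp [hx]), e4 c (hL c (by simp)), ← z.co.mul]; rfl

theorem rels (s2 : s * s = 1) (m2 : m * m = 1) (am : Ac φ m M) {R X : List (List ℕ)}
    (hX : ∀ r ∈ X, ev (EL φ j k l s g m) r = 1)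
    (d : ∀ r ∈ R, okA M r = true ∨ okC M r = true ∨ r ∈ X) :
    ∀ r ∈ R, ev (EL φ j k l s g m) r = 1 := fun r hr => by
  have e4 : ∀ c < 4, EL φ j k l s g m c = φ (2 ^ c) := fun c hc => by interval_cases c <;> rfl
  have ex := z.evx h hc (s := s) (m := m)
  rcases d r hr with e | e | e
  · match r, e with
    | c :: b :: c' :: L, e =>
      obtain ⟨e1, rfl, e2, e3, e5⟩ := of_decide_eq_true e
      rw [ev_cons, ev_cons, ev_cons, ← nth_eq, ← ivOf, z.ivok h hc s2 m2, ex L e3, e4 b e2, e5,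
        ← mul_assoc, ← mul_assoc, z.co.cj (z.acts h hc am c e1)
          (Nat.pow_lt_pow_right (by decide) e2), z.co.sq]
  · obtain ⟨e1, e2, e3⟩ := of_decide_eq_true e
    rw [e1, ev_append, ev_append]
    exact cube h z.co z.adj.l (z.co.evA (z.acts h hc am) _ e2) e3
  · exact hX r e

theorem dich (hP : Adj Ω A P) : ∃ y ∈ gen (EL φ j k l s g m) c1, Adj Ω A (cj y P) ∧
    (φ 1 ∈ N[cj y P] ∧ φ 2 ∈ N[cj y P] ∨ φ 2 ∈ N[cj y P] ∧ φ 9 ∈ N[cj y P]) := by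
  obtain ⟨n, hn, n', hm, n0, m0, ne, h1, h2⟩ := exline h hc z.co hP
  have d1 : ∀ n < 16, ∀ m < 16, n ≠ 0 → m ≠ 0 → n ≠ m → ∃ w ∈ W1 ++ W0,
      (∃ u ∈ [n, m, n ^^^ m], ap w.2 u = 2) ∧ ∃ u ∈ [n, m, n ^^^ m], ap w.2 u ∈ [1, 9] := by
    decide +kernel
  have d2 : ∀ w ∈ W1 ++ W0, (∀ c ∈ w.1, c ∈ [4, 5, 6, 8, 9]) ∧ evM (Ms I4) w.1 = w.2 := by
    decide +kernel
  obtain ⟨w, hw, ⟨u, u1, u2⟩, v, v1, v2⟩ := d1 n hn n' hm n0 m0 ne
  have a := (z.co.evA (e := EL φ j k l s g m) (Ms := Ms I4) (by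
    simp only [List.forall_mem_cons, List.not_mem_nil, false_imp_iff, implies_true, and_true]
    exact ⟨z.aj, z.ak, z.al, z.ag, z.agi h hc⟩) _ (d2 w hw).1).of (d2 w hw).2
  obtain ⟨b1, b2⟩ := mv h hc z.co hP a
  have f : ∀ u ∈ [n, n', n ^^^ n'], φ (ap w.2 u) ∈ N[cj (ev (EL φ j k l s g m) w.1) P] := by
    simp only [List.forall_mem_cons, List.not_mem_nil, false_imp_iff, implies_true, and_true]
    exact ⟨b2 _ hn h1, b2 _ hm h2, b2 _ (xlt hn hm) (z.co.mul n n' ▸ mul_mem h1 h2)⟩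
  have d3 : ∀ c ∈ [4, 5, 6, 8, 9], c ∈ c1 := by decide
  refine ⟨_, ev_mem_gen fun c hc => d3 c ((d2 w hw).1 c hc), b1, ?_⟩
  have g1 := u2 ▸ f u u1
  have g2 := f v v1
  simp only [List.mem_cons, List.not_mem_nil, or_false] at v2
  rcases v2 with e | e <;> rw [e] at g2
  exacts [Or.inl ⟨g2, g1⟩, Or.inr ⟨g1, g2⟩]

theorem top [IsSimpleGroup G] (sA : cj s A = B) {L : List ℕ} (hL : ∀ c ∈ c2, c ∈ L)
    (f : ∀ P, Adj Ω A P → φ 2 ∈ N[P] → φ 9 ∈ N[P] → ∃ y ∈ gen (EL φ j k l s g m) L,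
      Adj Ω A (cj y P) ∧ φ 1 ∈ N[cj y P] ∧ φ 2 ∈ N[cj y P]) : gen (EL φ j k l s g m) L = ⊤ := by
  have l1 : gen (EL φ j k l s g m) c1 ≤ gen (EL φ j k l s g m) L :=
    gen_le.2 fun c hc => mem_gen (hL c (by revert c; decide))
  have l2 : A ≤ gen (EL φ j k l s g m) L := fun x hx => by
    have d : ∀ n < 16, ∃ w ∈ [0, 1, 2, 3].sublists, (∀ x ∈ w, x < 4) ∧ (∀ x ∈ w, x ∈ c1) ∧
      xs w = n := by decide +kernel
    obtain ⟨n, hn, rfl⟩ := z.co.sur x hx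
    obtain ⟨w, -, w1, w2, rfl⟩ := d n hn
    exact z.evx h hc w w1 ▸ l1 (ev_mem_gen w2)
  have fin : ∀ P, ∀ y ∈ gen (EL φ j k l s g m) L, Adj Ω A (cj y P) → φ 1 ∈ N[cj y P] →
      φ 2 ∈ N[cj y P] → ∃ x ∈ gen (EL φ j k l s g m) L, P = cj x A := fun P y hy a e1 e2 => by
    obtain ⟨a, ha, e⟩ := same h hc z.co z.adj a (by decide) (by decide) (by decide) (by decide)
      (by decide) ((z.ax' h hc).2 rfl) ((z.ax' h hc).2 rfl) e1 e2
    exact ⟨y⁻¹ * (a * s), mul_mem (inv_mem hy) (mul_mem (l2 ha) (mem_gen (hL 7 (by decide)))),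
      by rw [cj_mul, cj_mul, sA, ← e, cj_inv_cj]⟩
  refine gen_top h z.adj.l l2 fun P hP => ?_
  obtain ⟨y, hy, a, e | e⟩ := z.dich h hc (s := s) (m := m) hP
  · exact fin P y (l1 hy) a e.1 e.2
  · obtain ⟨y', hy', e'⟩ := f _ a e.1 e.2
    rw [← cj_mul] at e'
    exact fin P _ (mul_mem hy' (l1 hy)) e'.1 e'.2.1 e'.2.2

theorem big [IsSimpleGroup G] (s2 : s * s = 1) (sA : cj s A = B)
    (cm : ∀ y ∈ N[A], y ∈ N[B] → y * g * y⁻¹ = g⁻¹ → y * φ 4 * y⁻¹ * φ 4 ∈ N[B] → y * s = s * y)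
    (am : Ac φ m M) (mi : m * g * m⁻¹ = g⁻¹) {X R : List (List ℕ)} (w v : List ℕ)
    (hX : ∀ r ∈ X, ev (EL φ j k l s g m) r = 1)
    (hw : ev (EL φ j k l s g m) w * g * (ev (EL φ j k l s g m) w)⁻¹ = g⁻¹)
    (d1 : (ap M 1 ∈ [1, 2, 3] ∧ ap M 2 ∈ [1, 2, 3] ∧ ap M 1 ≠ ap M 2) ∧ cp M M = I4 ∧
      cp (cp (cp M mJ) M) mJ = I4)
    (d2 : (∀ c ∈ w, c ∈ c3) ∧ (∀ c ∈ v, c ∈ c3) ∧ (∀ c ∈ v, c ∈ c4) ∧ cp (cp mK M) (cp mK M) = I4 ∧
      ap (evM (Ms M) v) 2 = 1 ∧ ap (evM (Ms M) v) 11 = 2)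
    (d3 : evM (Ms M) w = N ∧ (ap N 1 ∈ [1, 2, 3] ∧ ap N 2 ∈ [1, 2, 3] ∧ ap N 1 ≠ ap N 2) ∧
      cp N N = I4 ∧ ap N 4 ^^^ 4 < 16 ∧ ap mJ (ap N 4 ^^^ 4) = ap N 4 ^^^ 4)
    (d4 : ∀ r ∈ R, okA M r = true ∨ okC M r = true ∨ r ∈ X ++ EM ++ [7 :: w ++ 7 :: w]) :
    IvOK (EL φ j k l s g m) (ivOf ivl) ∧ (∀ r ∈ R, ev (EL φ j k l s g m) r = 1) ∧
      gen (EL φ j k l s g m) c4 = ⊤ := by
  have m2 := sqI h z.co z.adj.l z.ag am mi d1.2.1
  have ac := z.acts h hc (s := s) am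
  refine ⟨z.ivok h hc s2 m2, z.rels h hc s2 m2 am ?_ d4, z.top h hc sA (by decide) fun P hP e1 e2 => ?_⟩
  · simp only [List.forall_mem_append, EM, List.forall_mem_cons, List.not_mem_nil, false_imp_iff,
      implies_true, and_true, ev_cons, ev_append, ev_nil, mul_one, List.cons_append]
    have aw := (z.co.evA ac w d2.1).of d3.1
    refine ⟨⟨hX, (iv4 mi m2).1, sq4 (z.commJ h hc am mi d1).symm (z.j2 h hc) m2, ?_⟩,
      sq4 (cm _ (z.co.toN aw) (z.normB h hc aw hw d3.2.1) hw ?_).symm s2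
        (sqI h z.co z.adj.l z.ag aw hw d3.2.2.1)⟩
    · change k * (m * (k * m)) = 1
      rw [← mul_assoc]
      exact triv h z.co z.adj.l ((z.co.mulA (z.co.mulA z.ak am) (z.co.mulA z.ak am)).of d2.2.2.2.1)
        z.ag (by decide) (by rw [← mul_assoc, cg z.ki mi, mul_assoc, cg z.ki mi, mul_assoc (k * m)])
    · rw [z.co.cj aw, ← z.co.mul]; exact (z.ax' h hc d3.2.2.2.1).2 d3.2.2.2.2
  · obtain ⟨b1, b2⟩ := mv h hc z.co hP (z.co.evA ac v d2.2.1)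
    exact ⟨_, ev_mem_gen d2.2.2.1, b1, d2.2.2.2.2.1 ▸ b2 2 (by decide) e1,
      d2.2.2.2.2.2 ▸ b2 11 (by decide) (z.co.mul 2 9 ▸ mul_mem e1 e2 :)⟩

end Z

theorem main [IsSimpleGroup G] : Cfsg.Spor.IsoM22 G ∨ Cfsg.Spor.IsoM23 G := by
  obtain ⟨A, B, φ, j, k, l, g, z⟩ := exZ h hc
  obtain ⟨s, s2, sz, sg, sp, ds, sA, cm⟩ := z.swap h hc
  have co := z.co
  have hA := z.adj.l
  have sl : l * s = s * l := cm l (co.toN z.al) (z.normB h hc z.al z.li) z.li (by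
    rw [co.cj z.al]; exact (show φ 4 * φ 4 ∈ _ from co.sq 4 ▸ one_mem _))
  have a1 : Ac φ 1 I4 := co.ofA (one_mem A)
  have hX : ∀ m, ∀ r ∈ EX, ev (EL φ j k l s g m) r = 1 := fun m => by
    simp only [EX, List.forall_mem_cons, List.not_mem_nil, false_imp_iff,
      implies_true, and_true, ev_cons, ev_nil, mul_one]
    refine ⟨(mul_assoc ..).symm.trans z.g3, (iv4 z.li (z.l2 h hc)).1,
      sq4 (z.commJ h hc z.al z.li).symm (z.j2 h hc) (z.l2 h hc), (iv4 z.ki (z.k2 h hc)).1, ?_,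
      (iv4 sg s2).2, sq4 sl.symm s2 (z.l2 h hc), by simp only [mul_assoc] at sp; exact sp⟩
    change s * (φ 1 * (s * j)) = 1
    rw [← mul_assoc, ← mul_assoc, ← z.j2 h hc, ← sz, TH.inv_of_sq s2]
  rcases z.three h hc s2 sz sl ds with e | e; swap
  · have := kill (z.ivok h hc s2 (mul_one 1)) (z.rels h hc s2 (mul_one 1) a1
      (X := EX ++ [[7, 5, 4, 6, 5, 7, 5, 4, 6, 5, 7, 5, 4, 6, 5, 0, 4, 6]])
      (List.forall_mem_append.2 ⟨hX 1, List.forall_mem_singleton.2 (by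
        simp only [ev_cons, ev_nil, mul_one]; simp only [mul_assoc] at e; exact e)⟩) (by decide +kernel))
    have n : s ∈ N[A] := gen_le.2 (fun c hc' => co.toN (z.acts h hc a1 c (by revert c; decide))) this
    exact absurd (sz ▸ conj_mem n (co.mem 1)) (co.nA z.aj)
  have hY : ∀ m, ∀ r ∈ EX ++ [[7, 5, 4, 6, 5, 7, 5, 4, 6, 5, 7, 5, 4, 6, 5]],
      ev (EL φ j k l s g m) r = 1 := fun m =>
    List.forall_mem_append.2 ⟨hX m, List.forall_mem_singleton.2 (by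
      simp only [ev_cons, ev_nil, mul_one]; simp only [mul_assoc] at e; exact e)⟩
  by_cases hL : ∃ P, Adj Ω A P ∧ φ 2 ∈ N[P] ∧ φ 9 ∈ N[P]; swap
  · exact Or.inl (iso22 (z.ivok h hc s2 (mul_one 1))
      (z.rels h hc s2 (mul_one 1) a1 (hY 1) (by decide +kernel))
      (z.top h hc sA (fun _ => id) fun P a b c => absurd ⟨P, a, b, c⟩ hL))
  obtain ⟨P, hP, e1, e2⟩ := hL
  have ln := fun n hn => line' h hc co hP (n := 2) (m := 9) (n' := n) (by decide) (by decide)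
    (by decide) (by decide) (by decide) e1 e2 hn
  obtain ⟨y, hy, ey⟩ := h.toSit.comm_surj hP (co.mem 1)
    (fun e => absurd (ln 1 (by decide) e) (by decide)) ⟨co.mem 2, e1⟩
  obtain ⟨a, a1, b, b1, c, c1, d, d1, ay⟩ := co.exA (axN hy)
  obtain rfl : a = 3 := co.eq a1 (by decide) (by
    rw [← ay.e1.2, TH.cj_eq h.toSit hA (co.mem 1) (h.sq P hP.r y hy.1), ey, ← co.mul]; rfl)
  have ax := fun n => axiff h co hP hy ay (fun e => absurd (congrArg Prod.fst e) (show (3 : ℕ) ≠ 1 by decide)) (n := n)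
  have dd : ∀ b < 16, ∀ c < 16, ∀ d < 16, ap (3, b, c, d) 2 = 2 → ap (3, b, c, d) 9 = 9 →
      (∀ n < 16, n ^^^ ap (3, b, c, d) n ∈ [0, 2, 9, 2 ^^^ 9] ∧
        (ap (3, b, c, d) n = n → n ∈ [0, 2, 9, 2 ^^^ 9])) →
      (3, b, c, d) = (3, 2, 13, 10) ∨ (3, b, c, d) = (3, 2, 15, 10) := by decide +kernel
  refine Or.inr ?_
  rcases dd b b1 c c1 d d1 ((ax 2 (by decide)).1 e1) ((ax 9 (by decide)).1 e2) (fun n hn =>
    ⟨ln _ (xlt hn (co.lt ay hn)) (co.toCm ay hn ▸ axN (h.toSit.comm_mem hP (co.mem n) hy)),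
      fun e => ln n hn ((ax n hn).2 e)⟩) with f | f <;> rw [f] at ay
  · obtain ⟨x, -, am, mi⟩ := liftA h co hA z.ag z.g3 ay
    obtain ⟨f1, f2, f3⟩ := z.big h hc s2 sA cm am mi (R := TS4b.R0) (N := (2, 1, 7, 13)) [9, 10, 8]
      [5, 4, 6, 5, 10, 6] (hY _) (by
        change g⁻¹ * (x * y * (g * 1)) * g * (g⁻¹ * (x * y * (g * 1)))⁻¹ = g⁻¹
        calc _ = g⁻¹ * (x * y * g * (x * y)⁻¹) * g := by group
          _ = _ := by rw [mi]; group) (by decide +kernel) (by decide +kernel) (by decide +kernel)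
      (by decide +kernel)
    exact iso23b f1 f2 f3
  · obtain ⟨x, -, am, mi⟩ := liftA h co hA z.ag z.g3 (M := (2, 1, 8, 4))
      (co.mulA (co.mulA ay z.al) ay).of
    generalize x * (y * l * y) = m at am mi
    obtain ⟨f1, f2, f3⟩ := z.big h hc s2 sA cm am mi (R := TS4a.R0) (N := (3, 2, 4, 12))
      [9, 9, 10, 8, 8] [5, 4, 6, 5, 8, 4, 9, 10] (hY _) (by
        change g⁻¹ * (g⁻¹ * (m * (g * (g * 1)))) * g * (g⁻¹ * (g⁻¹ * (m * (g * (g * 1)))))⁻¹ = g⁻¹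
        calc _ = g⁻¹ * g⁻¹ * (m * g * m⁻¹) * g * g := by simp [mul_assoc]
          _ = _ := by rw [mi]; group) (by decide +kernel) (by decide +kernel) (by decide +kernel)
      (by decide +kernel)
    exact iso23a f1 f2 f3

end H28.TS
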