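import Mathlib
import Cfsg.Agent.H16.NM0

/-!
# S1739, doubling end: the model 2-group and the interfaces
-/

set_option autoImplicit false

namespace H28.ND

open Subgroup Equiv Equiv.Perm Cfsg H24 H23 H25.LB H5.Ly H20.So
open scoped commutatorElement

/-- The Sylow 2-subgroup of `2A₈`: `Heis(F₄) ⋊ Gal`, elements `(a,b,c,s)`, `x = x0 + x1 ω`. -/
@[ext] structure SS where
  a0 : Bool
  a1 : Bool
  b0 : Bool
  b1 : Bool
  c0 : Bool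
  c1 : Bool
  s : Bool
  deriving DecidableEq

namespace SS

instance : Mul SS := ⟨fun x y =>
  ⟨x.a0 ^^ (y.a0 ^^ (x.s && y.a1)), x.a1 ^^ y.a1, x.b0 ^^ (y.b0 ^^ (x.s && y.b1)), x.b1 ^^ y.b1,
    x.c0 ^^ (y.c0 ^^ (x.s && y.c1)) ^^ ((x.a0 && (y.b0 ^^ (x.s && y.b1))) ^^ (x.a1 && y.b1)),
    x.c1 ^^ y.c1 ^^ ((x.a0 && y.b1) ^^ (x.a1 && (y.b0 ^^ (x.s && y.b1))) ^^ (x.a1 && y.b1)),
    x.s ^^ y.s⟩⟩

instance : One SS := ⟨⟨false, false, false, false, false, false, false⟩⟩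

instance : Inv SS := ⟨fun x => x * x * x * x * x * x * x⟩

theorem forall_iff {p : SS → Prop} :
    (∀ a0 a1 b0 b1 c0 c1 s : Bool, p ⟨a0, a1, b0, b1, c0, c1, s⟩) ↔ ∀ x, p x :=
  ⟨fun h x => h x.1 x.2 x.3 x.4 x.5 x.6 x.7, fun h _ _ _ _ _ _ _ => h _⟩

theorem exists_iff {p : SS → Prop} :
    (∃ a0 a1 b0 b1 c0 c1 s : Bool, p ⟨a0, a1, b0, b1, c0, c1, s⟩) ↔ ∃ x, p x :=
  ⟨fun ⟨_, _, _, _, _, _, _, h⟩ => ⟨_, h⟩, fun ⟨x, h⟩ => ⟨x.1, x.2, x.3, x.4, x.5, x.6, x.7, h⟩⟩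

instance (priority := high) decAll (p : SS → Prop) [DecidablePred p] : Decidable (∀ x, p x) :=
  decidable_of_iff _ forall_iff

instance (priority := high) decEx (p : SS → Prop) [DecidablePred p] : Decidable (∃ x, p x) :=
  decidable_of_iff _ exists_iff

theorem assoc (x y w : SS) : x * y * w = x * (y * w) := by
  obtain ⟨a0, a1, b0, b1, c0, c1, s⟩ := x
  obtain ⟨a0', a1', b0', b1', c0', c1', s'⟩ := y
  obtain ⟨a0'', a1'', b0'', b1'', c0'', c1'', s''⟩ := w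
  ext <;> simp only [HMul.hMul, Mul.mul]
  · revert a0 a0' a1' a0'' a1'' s s'; decide
  · revert a1 a1' a1''; decide
  · revert b0 b0' b1' b0'' b1'' s s'; decide
  · revert b1 b1' b1''; decide
  · revert a0 a1 a0' a1' b0' b1' b0'' b1'' c0 c0' c1' c0'' c1'' s s'; decide +kernel
  · revert a0 a1 a0' a1' b0' b1' b0'' b1'' c1 c1' c1'' s s'; decide +kernel
  · revert s s' s''; decide

instance : Group SS := Group.ofLeftAxioms assoc (by decide) (by decide +kernel)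

/-- the list of all elements -/
def lst : List SS := [false, true].flatMap fun a0 => [false, true].flatMap fun a1 =>
  [false, true].flatMap fun b0 => [false, true].flatMap fun b1 => [false, true].flatMap fun c0 =>
  [false, true].flatMap fun c1 => [false, true].map fun s => ⟨a0, a1, b0, b1, c0, c1, s⟩

instance : Fintype SS := ⟨⟨(lst : Multiset SS), by decide +kernel⟩, by decide +kernel⟩

theorem card_SS : Nat.card SS = 128 := by rw [Nat.card_eq_fintype_card]; decide +kernel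

theorem pg : IsPGroup 2 SS := IsPGroup.of_card (n := 7) card_SS

end SS

/-- the central involution `(0,0,1)` -/
def zS : SS := ⟨false, false, false, false, true, false, false⟩
/-- `(0,0,ω)` -/
def ζS : SS := ⟨false, false, false, false, false, true, false⟩
/-- `(1,0,0)` -/
def eS : SS := ⟨true, false, false, false, false, false, false⟩
/-- `(ω,0,0)` -/
def wS : SS := ⟨false, true, false, false, false, false, false⟩
/-- `(0,1,0)` -/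
def eS' : SS := ⟨false, false, true, false, false, false, false⟩
/-- `(0,ω,0)` -/
def wS' : SS := ⟨false, false, false, true, false, false, false⟩
/-- the Frobenius -/
def σS : SS := ⟨false, false, false, false, false, false, true⟩

/-- `E = {(a,0,c)}` -/
def E₀ : Subgroup SS where
  carrier := {x | x.b0 = false ∧ x.b1 = false ∧ x.s = false}
  mul_mem' := by intro a b; simp only [Set.mem_setOf_eq]; revert a b; decide +kernel
  one_mem' := ⟨rfl, rfl, rfl⟩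
  inv_mem' := by intro a; simp only [Set.mem_setOf_eq]; revert a; decide +kernel

/-- `E' = {(0,b,c)}` -/
def E₁ : Subgroup SS where
  carrier := {x | x.a0 = false ∧ x.a1 = false ∧ x.s = false}
  mul_mem' := by intro a b; simp only [Set.mem_setOf_eq]; revert a b; decide +kernel
  one_mem' := ⟨rfl, rfl, rfl⟩
  inv_mem' := by intro a; simp only [Set.mem_setOf_eq]; revert a; decide +kernel

/-- `Z = E ∩ E' = {(0,0,c)}` -/
def Z₀ : Subgroup SS := E₀ ⊓ E₁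

/-- `E E' = {(a,b,c)}` -/
def J₀ : Subgroup SS where
  carrier := {x | x.s = false}
  mul_mem' := by intro a b; simp only [Set.mem_setOf_eq]; revert a b; decide +kernel
  one_mem' := rfl
  inv_mem' := by intro a; simp only [Set.mem_setOf_eq]; revert a; decide +kernel

instance : DecidablePred (· ∈ E₀) := fun x =>
  inferInstanceAs (Decidable (x.b0 = false ∧ x.b1 = false ∧ x.s = false))
instance : DecidablePred (· ∈ E₁) := fun x =>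
  inferInstanceAs (Decidable (x.a0 = false ∧ x.a1 = false ∧ x.s = false))
instance : DecidablePred (· ∈ Z₀) := fun x => inferInstanceAs (Decidable (x ∈ E₀ ∧ x ∈ E₁))
instance : DecidablePred (· ∈ J₀) := fun x => inferInstanceAs (Decidable (x.s = false))

/-- the graph automorphism, interchanging `E₀` and `E₁` -/
def sw : SS →* SS := MonoidHom.mk' (fun x => ⟨x.b0, x.b1, x.a0, x.a1,
    x.c0 ^^ ((x.a0 && x.b0) ^^ (x.a1 && x.b1)),
    x.c1 ^^ ((x.a0 && x.b1) ^^ (x.a1 && x.b0) ^^ (x.a1 && x.b1)), x.s⟩) (by decide +kernel)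

/-- three elements of `E₀` which are independent modulo `z` -/
def Ind (b1 b2 b3 : SS) : Prop :=
  b1 ∈ E₀ ∧ b2 ∈ E₀ ∧ b3 ∈ E₀ ∧ ∀ x ∈ [b1, b2, b3, b1 * b2, b1 * b3, b2 * b3, b1 * b2 * b3], x ≠ 1 ∧ x ≠ zS

instance (b1 b2 b3 : SS) : Decidable (Ind b1 b2 b3) := by unfold Ind; infer_instance

theorem sw_sw (x : SS) : sw (sw x) = x := by revert x; decide +kernel
theorem sw_z : sw zS = zS := by decide
theorem map_sw₀ : E₀.map sw = E₁ := by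
  ext x
  have : ∀ x : SS, (∃ y : SS, y ∈ E₀ ∧ sw y = x) ↔ x ∈ E₁ := by decide +kernel
  exact this x

/-- the affine action on `F₂³`, as numbers below 8 -/
def actN (x : SS) (i : ℕ) : ℕ :=
  let i := bif x.s then i ^^^ 1 ^^^ (3 * (i / 4)) else i
  let i := bif x.c1 then i ^^^ 1 else i
  let i := bif x.a1 then i ^^^ 5 else i
  let i := bif x.a0 then i ^^^ 3 else i
  let i := bif x.b1 then i ^^^ 6 ^^^ (i / 2 % 2) ^^^ (i / 4) else i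
  bif x.b0 then i ^^^ 2 ^^^ (i / 4) else i

theorem actN_lt : ∀ (x : SS) (i : Fin 8), actN x i < 8 := by decide +kernel

theorem actN_mul : ∀ (x y : SS) (i : Fin 8), actN (x * y) i = actN x (actN y i) := by decide +kernel

instance : MulAction SS (Fin 8) where
  smul x i := ⟨actN x i, actN_lt x i⟩
  one_smul _ := rfl
  mul_smul x y i := Fin.ext (actN_mul x y i)

/-- the permutation representation of `SS` (kernel `⟨z⟩`, image a Sylow subgroup of `A₈`):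
`e, w, ζ` are the translations `xor 3, 5, 1`. Use `ext i; revert i; decide` or `decide` to compute. -/
def ph : SS →* Perm (Fin 8) := MulAction.toPermHom SS (Fin 8)

theorem ph_apply (x : SS) (i : Fin 8) : ph x i = ⟨actN x i, actN_lt x i⟩ := rfl

/-- `S₈ ≤ Sₙ` -/
noncomputable def up {n : ℕ} (hn : 8 ≤ n) : Perm (Fin 8) →* Perm (Fin n) :=
  Perm.viaEmbeddingHom (Fin.castLEEmb hn)

variable {G : Type*} [Group G]

/-- a 2-element -/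
def Te (x : G) : Prop := ∃ k : ℕ, x ^ 2 ^ k = 1

/-- `x ≡ y` modulo the involution `a` -/
def Md1 (a x y : G) : Prop := x = y ∨ x = y * a

/-- the perfect core -/
def pcr (X : Subgroup G) : Subgroup G := sSup {L | L ≤ X ∧ ⁅L, L⁆ = L}

theorem pcr_le (X : Subgroup G) : pcr X ≤ X := sSup_le fun _ h => h.1
theorem le_pcr {L X : Subgroup G} (hp : ⁅L, L⁆ = L) (h : L ≤ X) : L ≤ pcr X := le_sSup ⟨h, hp⟩
theorem pcr_pf (X : Subgroup G) : ⁅pcr X, pcr X⁆ = pcr X :=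
  le_antisymm (commutator_le_self _) (sSup_le fun _ h => h.2.ge.trans
    (commutator_mono (le_pcr h.2 h.1) (le_pcr h.2 h.1)))
theorem pcr_mono {X Y : Subgroup G} (h : X ≤ Y) : pcr X ≤ pcr Y := le_pcr (pcr_pf X) ((pcr_le X).trans h)
theorem pf_cj {L : Subgroup G} (hp : ⁅L, L⁆ = L) (g : G) : ⁅cj g L, cj g L⁆ = cj g L := by
  unfold cj; rw [← map_commutator, hp]
theorem norm_pcr [Finite G] {A X : Subgroup G} (h : A ≤ N[X]) : A ≤ N[pcr X] := fun g hg =>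
  mem_N_of_cj_le (le_pcr (pf_cj (pcr_pf X) g) (cj_le_of_mem_N (pcr_le X) (h hg)))

/-- a perfect group covered by `Y` modulo `D` is covered by the perfect core of `Y` -/
theorem pcr_cover [Finite G] {X D Y : Subgroup G} (hX : ⁅X, X⁆ = X) (hY : Y ≤ N[D]) (h : X ≤ D ⊔ Y) :
    X ≤ D ⊔ pcr Y := by
  obtain ⟨Z, ⟨h1, h2⟩, hm⟩ := (wellFounded_lt (α := Subgroup G)).has_min {Z | Z ≤ Y ∧ X ≤ D ⊔ Z} ⟨Y, le_rfl, h⟩
  have h3 : X ≤ D ⊔ ⁅Z, Z⁆ := hX.ge.trans (commutator_le.2 fun a ha b hb => by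
    obtain ⟨d, hd, y, hy, rfl⟩ := (mem_sup_of_norm (h1.trans hY)).1 (h2 ha)
    obtain ⟨d', hd', y', hy', rfl⟩ := (mem_sup_of_norm (h1.trans hY)).1 (h2 hb)
    have : ⁅d * y, d' * y'⁆ = d * (y * d' * y⁻¹) * (y * y' * y⁻¹ * d⁻¹ * (y * y' * y⁻¹)⁻¹) * ⁅y, y'⁆ * d'⁻¹ := by
      simp only [commutatorElement_def]; group
    rw [this]
    have n1 := hY (h1 hy)
    have n2 := hY (h1 hy')
    exact mul_mem (mul_mem (mem_sup_left (mul_mem (mul_mem hd (conj_mem n1 hd'))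
      (conj_mem (mul_mem (mul_mem n1 n2) (inv_mem n1)) (inv_mem hd))))
      (mem_sup_right (commutator_mem_commutator hy hy'))) (mem_sup_left (inv_mem hd')))
  have h4 : ⁅Z, Z⁆ = Z := (eq_or_lt_of_le (commutator_le_self Z)).resolve_right
    (hm _ ⟨(commutator_le_self Z).trans h1, h3⟩)
  exact h2.trans (sup_le_sup_left (le_pcr h4 h1) D)

/-- What the reduction delivers about an involution `t` whose centraliser has a 2-component `K`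
of type `McL` (`n = 8`) or `Ly` (`n = 11`), with `⟨t⟩` Sylow in `C(K/O(K))`. -/
structure In (n : ℕ) (t : G) (K : Subgroup G) (J : G → Subgroup G) : Prop where
  hn : n = 8 ∨ n = 11
  iv : orderOf t = 2
  Kle : K ≤ C{t}
  Kn : C{t} ≤ N[K]
  pc : ∀ a ∈ K, orderOf a = 2 → Pc n (C{t} ⊓ C{a}) a (J a)
  Jle : ∀ a ∈ K, orderOf a = 2 → J a ≤ K
  cov : ∀ a ∈ K, orderOf a = 2 → K ⊓ C{a} ≤ J a ⊔ opp 2 K
  uniq : ∀ a ∈ K, orderOf a = 2 → ∀ L, IsPCompOf 2 L (C{t} ⊓ C{a}) → L = J a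
  one : ∀ a ∈ K, ∀ b ∈ K, orderOf a = 2 → orderOf b = 2 → ∃ k ∈ K, k * a * k⁻¹ = b
  rig : ∀ a ∈ K, orderOf a = 2 → ∀ g ∈ cz (J a) ⊓ C{t}, g ∈ cz K ∨ g * a ∈ cz K
  r2 : ∀ g ∈ cz K ⊓ C{t}, Te g → g = 1 ∨ g = t
  ev : n = 11 → ∀ a ∈ K, orderOf a = 2 → ∀ A : Act n (J a), ∀ g ∈ C{t} ⊓ C{a}, sign (A.φ g) = 1
  nz : ∀ a ∈ K, orderOf a = 2 → ¬ IsConj a t
  nz' : ∀ a ∈ K, ∀ b ∈ K, orderOf a = 2 → orderOf b = 2 → ¬ IsConj a (t * b)

/-- the elementary abelian group `E` of order 16 -/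
abbrev EE (ι : SS →* G) : Subgroup G := E₀.map ι

/-- `V = ⟨t⟩ × E` -/
abbrev VV (t : G) (ι : SS →* G) : Subgroup G := zpowers t ⊔ EE ι

/-- `M` induces `GL₃(2)` on `E/⟨z⟩` (`E` is the image of `E₀` under `ι`) -/
def GL3 (ι : SS → G) (M : Subgroup G) : Prop :=
  ∀ b1 b2 b3, Ind b1 b2 b3 → ∃ m ∈ M, Md1 (ι zS) (m * ι ζS * m⁻¹) (ι b1) ∧
    Md1 (ι zS) (m * ι eS * m⁻¹) (ι b2) ∧ Md1 (ι zS) (m * ι wS * m⁻¹) (ι b3)

/-- The model group inside `J z`, `z = ι zS`. -/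
structure Md (t : G) (K : Subgroup G) (J : G → Subgroup G) (ι : SS →* G) : Prop where
  inj : Function.Injective ι
  zK : ι zS ∈ K
  mem : ∀ s, ι s ∈ J (ι zS)
  m0 : ∃ M : Subgroup G, ⁅M, M⁆ = M ∧ M ≤ J (ι zS) ⊓ N[EE ι] ∧ ι.range ≤ M ∧ GL3 ι M ∧
    ∀ Y : Subgroup G, M ≤ N[Y] → ι eS' ∈ Y → M ≤ Y ⊔ C[EE ι]
  noTv : ∀ g ∈ N[J (ι zS)], (∀ e ∈ E₀, Md1 (ι zS) (g * ι e * g⁻¹) (ι e)) → g ∈ C[EE ι]
  cE : ∀ g ∈ N[J (ι zS)] ⊓ C[EE ι], Te g → (∃ e ∈ E₀, g * ι e ∈ cz (J (ι zS))) ∨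
    ∃ c ∈ J (ι zS) ⊓ C[EE ι], Odd (orderOf c) ∧ c ∉ cz (J (ι zS)) ∧ g * c * g⁻¹ * c ∈ cz (J (ι zS))
  c3 : ∀ c ∈ C{t} ⊓ C[EE ι], ∀ d ∈ C{t} ⊓ C[EE ι], Odd (orderOf c) → Odd (orderOf d) →
    c ∉ cz (J (ι zS)) → d ∈ cz (J (ι zS)) ∨ d * c ∈ cz (J (ι zS)) ∨ d * c⁻¹ ∈ cz (J (ι zS))
  cV : ∀ g ∈ C{t} ⊓ C[EE ι], Te g → ∃ e ∈ E₀, g = ι e ∨ g = t * ι e
  ord1 : ∀ R : Subgroup G, R ≤ C{t} → IsPGroup 2 R → Nat.card R ≤ 512
  ord2 : ∀ R : Subgroup G, R ≤ C{t} ⊓ N[EE ι] → IsPGroup 2 R → Nat.card R ≤ 256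
  rk : ∀ R : Subgroup G, R ≤ C{t} → (∀ x ∈ R, x * x = 1) → Nat.card R ≤ 128
  tr : ∀ e ∈ E₀, e ≠ 1 → ∃ k ∈ K ⊓ N[EE ι], k * ι zS * k⁻¹ = ι e

/-- `ι` lifts the standard Sylow subgroup of `A₈` -/
structure St {n : ℕ} (hn : 8 ≤ n) (L : Subgroup G) (ι : SS →* G) (A : Act n L) : Prop where
  inj : Function.Injective ι
  mem : ∀ s, ι s ∈ L
  ph : ∀ s, A.φ (ι s) = up hn (ph s)

/-- The whole context: two involutions `t`, `t z`, and the model for `E` and for `E'`. -/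
structure Cx (n : ℕ) (t : G) (K : Subgroup G) (J : G → Subgroup G) (K' : Subgroup G)
    (J' : G → Subgroup G) (ι : SS →* G) : Prop where
  c : In n t K J
  c' : In n (t * ι zS) K' J'
  m : Md t K J ι
  m' : Md (t * ι zS) K' J' ι
  ms : Md t K J (ι.comp sw)
  ms' : Md (t * ι zS) K' J' (ι.comp sw)

theorem Cx.sw {n : ℕ} {t : G} {K K' : Subgroup G} {J J' : G → Subgroup G} {ι : SS →* G}
    (x : Cx n t K J K' J' ι) : Cx n t K J K' J' (ι.comp sw) := by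
  have e : (ι.comp ND.sw).comp ND.sw = ι := MonoidHom.ext fun s => congrArg ι (sw_sw s)
  have e' : ι.comp ND.sw zS = ι zS := congrArg ι sw_z
  exact ⟨x.c, e' ▸ x.c', x.ms, e' ▸ x.ms', e.symm ▸ x.m, e' ▸ e.symm ▸ x.m'⟩

/-- `Q` is a Sylow 2-subgroup of `N(V) ∩ C(E)` -/
structure Qs (t : G) (ι : SS →* G) (Q : Subgroup G) : Prop where
  two : IsPGroup 2 Q
  le : Q ≤ N[VV t ι] ⊓ C[EE ι]
  ge : VV t ι ≤ Q
  del : ∀ e ∈ E₀, ∃ x ∈ Q, x * t * x⁻¹ = t * ι e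

/-- `x` is a special element over the involution `a` -/
def Sp (t : G) (J : G → Subgroup G) (a x : G) : Prop :=
  x ∈ cz (J a) ∧ x * x = 1 ∧ x * (t * x * t) = a

/-- `E₁ = θ(E₀)` as a subgroup -/
abbrev E1 (θ : SS → G) : Subgroup G := closure (θ '' (E₀ : Set SS))

/-- `F = E₁ E₁ᵗ` -/
abbrev FF (t : G) (θ : SS → G) : Subgroup G := E1 θ ⊔ cj t (E1 θ)

/-- The doubling `F = E₁ × E₁ᵗ` of `E`; `θ` matters only on `E₀`. -/
structure Db0 (t : G) (J : G → Subgroup G) (ι : SS →* G) (θ : SS → G) : Prop where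
  mul : ∀ a ∈ E₀, ∀ b ∈ E₀, θ (a * b) = θ a * θ b
  dg : ∀ a ∈ E₀, θ a * (t * θ a * t) = ι a
  cm : ∀ a ∈ E₀, ∀ b ∈ E₀, θ a * (t * θ b * t) = t * θ b * t * θ a
  sp : ∀ a ∈ E₀, a ≠ 1 → θ a ∈ cz (J (ι a))
  eqv : ∀ s, ∀ a ∈ E₀, ι s * θ a * (ι s)⁻¹ = θ (s * a * s⁻¹)

/-- The doubling with its consequences. -/
structure Db (t : G) (J : G → Subgroup G) (ι : SS →* G) (θ : SS → G) : Prop extends Db0 t J ι θ where
  nm : ∀ k ∈ C{t} ⊓ N[FF t θ], k ∈ N[E1 θ] ∨ k * t ∈ N[E1 θ]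
  fr : ∀ k ∈ C{t} ⊓ N[EE ι], ∀ R : Subgroup G, IsPGroup 2 R → R ≤ C{t} ⊓ N[FF t θ] →
    R ≤ N[cj k (FF t θ)] → ∃ o ∈ C{t} ⊓ C[EE ι] ⊓ C[R], Odd (orderOf o) ∧ o * k ∈ N[FF t θ]
  cF : ∀ g ∈ C[FF t θ], Te g → g ∈ FF t θ

/-- the special element over `e'` which normalises `F` -/
structure Tw (t : G) (J : G → Subgroup G) (ι : SS →* G) (θ : SS → G) (x : G) : Prop where
  sp : Sp t J (ι eS') x
  nF : x ∈ N[FF t θ]
  c1 : ∀ a ∈ Z₀, x * θ a = θ a * x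
  cm : ∀ a ∈ E₀, ∃ b ∈ Z₀, ∃ c ∈ Z₀, x * θ a * x = θ (a * b) * (t * θ c * t)
  sg : x * ι σS = ι σS * x
  two : IsPGroup 2 ↥(FF t θ ⊔ ι.range ⊔ zpowers t ⊔ zpowers x)

/-- `W₁ = N(E₁) ∩ C(E₂)` -/
abbrev W1 (t : G) (θ : SS → G) : Subgroup G := N[E1 θ] ⊓ C[cj t (E1 θ)]

/-- `g` acts on `E` as `w` acts on `E₁` -/
def Sm (ι : SS →* G) (θ : SS → G) (g w : G) : Prop :=
  ∀ a ∈ E₀, ∀ b ∈ E₀, g * ι a * g⁻¹ = ι b ↔ w * θ a * w⁻¹ = θ b

/-- The wreathed configuration, first half. -/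
structure W0 (t : G) (J : G → Subgroup G) (ι θ : SS →* G) (x : G) : Prop where
  db : Db t J ι θ
  tw : Tw t J ι θ x
  xW : x ∈ C[cj t (E1 θ)]
  dg : ∀ s, θ s * (t * θ s * t) = ι s
  cm : ∀ a b, θ a * (t * θ b * t) = t * θ b * t * θ a
  dj : ∀ a b, θ a = t * θ b * t → a = 1
  mem : θ.range ≤ pcr (W1 t θ)
  xe : ∃ p ∈ Z₀, x = θ eS' * ι p

/-- The wreathed configuration `(S₁ × S₂)⟨t⟩`, `S₁ = θ.range`. -/
structure Wr (t : G) (J : G → Subgroup G) (ι θ : SS →* G) : Prop where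
  db : Db t J ι θ
  dg : ∀ s, θ s * (t * θ s * t) = ι s
  cm : ∀ a b, θ a * (t * θ b * t) = t * θ b * t * θ a
  dj : ∀ a b, θ a = t * θ b * t → a = 1
  m1 : ∃ M : Subgroup G, ⁅M, M⁆ = M ∧ M ≤ C[cj t θ.range] ⊓ C{θ zS} ⊓ N[EE θ] ∧ θ.range ≤ M ∧ GL3 θ M
  tv : ∀ g ∈ N[EE θ] ⊓ C[cj t (EE θ)], (∀ e ∈ E₀, Md1 (θ zS) (g * θ e * g⁻¹) (θ e)) → g ∈ C[EE θ]
  pf : ∀ Y : Subgroup G, ⁅Y, Y⁆ = Y → Y ≤ N[EE θ] ⊓ C[cj t (EE θ)] → ∀ a b, θ a * (t * θ b * t) ∈ Y → b = 1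
  pe : ∀ Y : Subgroup G, ⁅Y, Y⁆ = Y → Y ≤ N[EE θ] ⊓ C[cj t (EE θ)] → ∀ g ∈ Y ⊓ C[EE θ], Te g → g ∈ EE θ
  sp : ∀ a, a * a = 1 → a ≠ 1 → θ a ∈ cz (J (ι a))

theorem E1_eq (θ : SS →* G) : E1 θ = EE θ := by
  rw [E1, ← coe_map, closure_eq]

/-- `H₀ = C(z₁, z₂)` -/
abbrev HH (t : G) (θ : SS →* G) : Subgroup G := C{θ zS} ⊓ C{t * θ zS * t}

/-- `S = S₁ × S₂` -/
abbrev S12 (t : G) (θ : SS →* G) : Subgroup G := θ.range ⊔ cj t θ.range

/-- `P` is a `t`-invariant Sylow 2-subgroup of `H₀` containing `S` -/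
structure P0 (t : G) (θ : SS →* G) (P : Subgroup G) : Prop where
  le : P ≤ HH t θ
  two : IsPGroup 2 P
  max : ∀ R : Subgroup G, IsPGroup 2 R → R ≤ HH t θ → P ≤ R → R ≤ P
  tN : t ∈ N[P]
  s1 : θ.range ≤ P

/-- the structure of `P` -/
structure Pe (t : G) (θ : SS →* G) (P : Subgroup G) : Prop extends P0 t θ P where
  nS : P ≤ N[θ.range]
  dich : ∀ p ∈ P, p ∈ N[EE θ] ∨ cj p (EE θ) = E₁.map θ ∧ cj p (E₁.map θ) = EE θ
  ker : P ⊓ N[EE θ] ⊓ N[cj t (EE θ)] ≤ S12 t θ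
  inn : ∀ p ∈ P ⊓ N[EE θ], ∃ s, p * θ s ∈ C[θ.range]

/-- the strongly closed subgroup -/
abbrev TT (t : G) (θ : SS →* G) (P : Subgroup G) : Subgroup G :=
  P ⊓ C[cj t θ.range] ⊓ C[(P ⊓ C[θ.range] : Subgroup G)]

end H28.ND
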