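import Mathlib
import Cfsg.Agent.H28.ND0

set_option autoImplicit false
set_option linter.unusedSectionVars false

namespace H28.ND

open Subgroup Equiv Equiv.Perm Cfsg H24 H23 H25.LB H5.Ly H20.So
open scoped commutatorElement

variable {G : Type*} [Group G] [Finite G] {n : ℕ} {t x y g k a b : G}
  {K K' L H D Q Q' R T P : Subgroup G} {J J' : G → Subgroup G} {ι : SS →* G}

/-! ### NDA -/
/-- `T` is a Sylow 2-subgroup of `H` -/
def Mx (T H : Subgroup G) : Prop :=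
  IsPGroup 2 T ∧ T ≤ H ∧ ∀ R : Subgroup G, IsPGroup 2 R → R ≤ H → T ≤ R → R ≤ T
theorem NDAx.syl (h : Mx T H) : Syl 2 H T :=
  syl_of_max Nat.prime_two (isPi_of_isPGroup Nat.prime_two h.1) h.2.1
    fun Q q1 q2 q3 => h.2.2 Q (q1.isPGroup Nat.prime_two) q3 q2
theorem NDAx.of_syl (h : Syl 2 H T) : Mx T H :=
  ⟨h.pi.isPGroup Nat.prime_two, h.le, fun _ r1 r2 r3 =>
    (h.eq_of_le (isPi_of_isPGroup Nat.prime_two r1) r3 r2).le⟩
theorem mx_ex (hR : IsPGroup 2 R) (h : R ≤ H) : ∃ T, Mx T H ∧ R ≤ T := by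
  obtain ⟨T, h1, h2⟩ := Sylow_superset Nat.prime_two (isPi_of_isPGroup Nat.prime_two hR) h
  exact ⟨T, ⟨h1.pi.isPGroup Nat.prime_two, h1.le, fun R' r1 r2 r3 =>
    (h1.eq_of_le (isPi_of_isPGroup Nat.prime_two r1) r3 r2).le⟩, h2⟩
theorem Mx.conj (h : Mx T H) (hR : IsPGroup 2 R) (hle : R ≤ H) : ∃ g ∈ H, cj g R ≤ T :=
  Sylow_Jsub Nat.prime_two (NDAx.syl h) (isPi_of_isPGroup Nat.prime_two hR) hle
theorem Mx.inf (h : Mx T H) (hD : D ≤ H) (hn : H ≤ N[D]) : Mx (T ⊓ D) D := NDAx.of_syl ((NDAx.syl h).inf_nml ⟨hD, hn⟩)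
theorem Mx.syl (h : Mx T H) : Syl 2 H T := NDAx.syl h
theorem Mx.split (h : Mx T H) (hD : D ≤ H) (hn : H ≤ N[D]) (hL : L ≤ H) (hn' : H ≤ N[L])
    (hx : x ∈ T) (hm : x ∈ D ⊔ L) : ∃ d ∈ T ⊓ D, ∃ l ∈ T ⊓ L, x = d * l := by
  have s := NDAx.syl h
  have s1 := s.inf_nml ⟨hD, hn⟩
  have s2 := s.inf_nml ⟨hL, hn'⟩
  have n1 : T ⊓ L ≤ N[T ⊓ D] := inf_le_left.trans (norm_inf (norm_self T) (h.2.1.trans hn))
  have n2 : T ⊓ L ≤ N[D] := (inf_le_left.trans h.2.1).trans hn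
  have u1 : Hall {2} (D ⊔ (T ⊓ L)) ((T ⊓ D) ⊔ (T ⊓ L)) := by
    refine Hall.mk' (sup_le_sup_right inf_le_right _) (s1.pi.sup s2.pi n1) ?_
    rw [((isProd_sup n2).symm.mono_left le_sup_right (sup_le_sup_right inf_le_right _)).relIndex_eq]
    exact s1.idx.dvd (relIndex_dvd_of_le_left _ le_sup_left)
  have u2 : Hall {2} (D ⊔ L) ((T ⊓ D) ⊔ (T ⊓ L)) := by
    refine u1.of_idx (sup_le_sup_left inf_le_right _) ?_
    rw [((isProd_sup (hL.trans hn)).mono_left le_sup_left (sup_le_sup_left inf_le_right _)).relIndex_eq]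
    exact s2.idx.dvd (relIndex_dvd_of_le_left _ le_sup_right)
  have e := u2.eq_of_le (K := T ⊓ (D ⊔ L)) (s.pi.inf_left _)
    (sup_le (inf_le_inf_left _ le_sup_left) (inf_le_inf_left _ le_sup_right)) inf_le_right
  exact (mem_sup_of_norm n1).1 (e.le ⟨hx, hm⟩)
theorem te_of_pg (hR : IsPGroup 2 R) (hx : x ∈ R) : Te x := by
  obtain ⟨k, hk⟩ := hR ⟨x, hx⟩
  exact ⟨k, congrArg Subtype.val hk⟩
theorem pg_of_te (h : ∀ x ∈ R, Te x) : IsPGroup 2 R := fun x => by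
  obtain ⟨k, hk⟩ := h x x.2
  exact ⟨k, Subtype.ext hk⟩
theorem pg_sup (hR : IsPGroup 2 R) (hT : IsPGroup 2 T) (hn : T ≤ N[R]) : IsPGroup 2 ↥(R ⊔ T) :=
  ((isPi_of_isPGroup Nat.prime_two hR).sup (isPi_of_isPGroup Nat.prime_two hT) hn).isPGroup Nat.prime_two
theorem pg_range (ι : SS →* G) : IsPGroup 2 ι.range := SS.pg.of_surjective _ ι.rangeRestrict_surjective
theorem odd_mem_opp (hc : D ≤ C[H]) (hD : ∀ g ∈ H, Te g → g ∈ D) (hg : g ∈ H)
    (ho : Odd (orderOf g)) : g ∈ opp 2 H := by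
  obtain ⟨T, hT, -⟩ := mx_ex (R := ⊥) (H := H) IsPGroup.of_bot bot_le
  exact mem_opp_of_central_sylow hT.1 hT.2.1
    (comm_eq_bot.2 fun y hy => hc (hD y (hT.2.1 hy) (te_of_pg hT.1 hy)))
    (cop_iff_not_dvd.2 (hT.syl.not_dvd Nat.prime_two)) hg (cop_two_iff_odd.2 ho)
theorem split2 (hc : D ≤ C[H]) (hD : ∀ g ∈ H, Te g → g ∈ D) (hg : g ∈ H) :
    ∃ d ∈ D, ∃ o ∈ opp 2 H, g = d * o ∧ Te d := by
  obtain ⟨d, o, e, h1, h2, h3, h4⟩ := two_odd g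
  exact ⟨d, hD d (zpowers_le.2 hg h1) h3, o, odd_mem_opp hc hD (zpowers_le.2 hg h2) h4, e, h3⟩
theorem In.h8 (c : In n t K J) : 8 ≤ n := by rcases c.hn with e | e <;> omega
theorem In.h11 (c : In n t K J) : n ≤ 11 := by rcases c.hn with e | e <;> omega
theorem In.tt (c : In n t K J) : t * t = 1 := iv_mul c.iv
theorem In.tK (c : In n t K J) : t ∉ K := fun h => c.nz t h c.iv (IsConj.refl t)
theorem In.two (c : In n t K J) (ha : a ∈ K) (h2 : orderOf a = 2) (hx : x ∈ K) (hc : x ∈ C{a})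
    (h : Te x) : x ∈ J a := by
  obtain ⟨k, hk⟩ := h
  have p := (c.pc a ha h2).comp.of_le (le_inf (c.Jle a ha h2) (c.pc a ha h2).le_C) (inf_le_inf_right _ c.Kle)
  exact mem_of_two (opp_le_normalizer_pcomp p) (odd_opp _) hk (t2_ded p.1 (c.cov a ha h2 ⟨hx, hc⟩) hc)
theorem In.jcj (c : In n t K J) (ha : a ∈ K) (h2 : orderOf a = 2) (hk : k ∈ C{t}) :
    cj k (J a) = J (k * a * k⁻¹) := by
  refine c.uniq _ (H24.conj_mem (c.Kn hk) ha) (iv_conj h2 k) _ ?_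
  have := pc_cj (c.pc a ha h2).comp k
  rwa [cj_inf, cj_of_mem hk, cj_C1] at this
theorem In.nJ (c : In n t K J) (ha : a ∈ K) (h2 : orderOf a = 2) (hx : x ∈ C{a})
    (ht : x * t * x⁻¹ = t ∨ x * t * x⁻¹ = t * a) : x ∈ N[J a] := by
  refine mem_N_iff_cj.2 (c.uniq a ha h2 _ ?_)
  have := pc_cj (c.pc a ha h2).comp x
  rw [cj_inf, cj_of_mem hx, cj_C1] at this
  rcases ht with e | e
  · rwa [e] at this
  · rw [e] at this
    have e1 : (C{t * a} ⊓ C{a} : Subgroup G) = C{t} ⊓ C{a} := by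
      ext y
      simp only [mem_inf, H24.mem_C1]
      refine and_congr_left fun h => ?_
      rw [mul_assoc t, ← h, ← mul_assoc, ← mul_assoc, mul_left_inj]
    rwa [e1] at this
theorem In.nJ_le (c : In n t K J) (ha : a ∈ K) (h2 : orderOf a = 2) : N[J a] ≤ C{a} := fun g hg => by
  have p := c.pc a ha h2
  rcases t1 c.h8 p (H24.conj_mem hg p.mem) (H24.conj_mem (N_le_N_cz _ hg) p.mem_cz)
    (a_sq (iv_mul (iv_conj h2 g))) with e | e
  · exact absurd e (iv_ne (iv_conj h2 g))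
  · exact mem_C1_iff_conj.2 e
theorem In.cz2 (c : In n t K J) (ha : a ∈ K) (h2 : orderOf a = 2) (hg : g ∈ cz (J a))
    (ht : g ∈ C{t}) (h : Te g) : g = 1 ∨ g = t ∨ g = a ∨ g = t * a := by
  have hc : Commute g a := H24.mem_C1.1 (c.nJ_le ha h2 (cz_le _ hg))
  have a2 := iv_mul h2
  rcases c.rig a ha h2 g ⟨hg, ht⟩ with e | e
  · rcases c.r2 g ⟨e, ht⟩ h with e | e
    exacts [Or.inl e, Or.inr (Or.inl e)]
  · obtain ⟨k, hk⟩ := h
    rcases c.r2 _ ⟨e, mul_mem ht (c.Kle ha)⟩ ⟨k + 1, by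
      rw [hc.mul_pow, pow_succ, pow_mul, hk, one_pow, one_mul, mul_comm, pow_mul, sq, a2, one_pow]⟩ with e | e
    · exact Or.inr (Or.inr (Or.inl (by rw [← mul_one g, ← a2, ← mul_assoc, e, one_mul])))
    · exact Or.inr (Or.inr (Or.inr (by rw [← mul_one g, ← a2, ← mul_assoc, e])))
theorem In.czJ (c : In n t K J) (ha : a ∈ K) (h2 : orderOf a = 2) (hx : x ∈ J a)
    (hc : x ∈ cz (J a)) (h : Te x) : x = 1 ∨ x = a := by
  obtain ⟨k, hk⟩ := h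
  exact t1 c.h8 (c.pc a ha h2) hx hc hk
theorem In.czK (c : In n t K J) (ha : a ∈ K) (h2 : orderOf a = 2) (hg : g ∈ cz K)
    (ht : g ∈ C{t}) (hc : g ∈ C{a}) : g ∈ cz (J a) :=
  cz_sub (c.Jle a ha h2) hg (c.nJ ha h2 hc (Or.inl (mem_C1_iff_conj.1 ht)))
theorem In.czO (c : In n t K J) (ha : a ∈ K) (h2 : orderOf a = 2) (hg : g ∈ cz (J a))
    (ht : g ∈ C{t}) (ho : Odd (orderOf g)) : g ∈ cz K := by
  have hc : Commute g a := H24.mem_C1.1 (c.nJ_le ha h2 (cz_le _ hg))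
  refine (c.rig a ha h2 g ⟨hg, ht⟩).elim id fun e => mem_of_sq_mem ho ?_
  have := mul_mem e e
  rwa [mul_assoc, ← mul_assoc a, ← hc.eq, mul_assoc, iv_mul h2, mul_one] at this
theorem In.tcz (c : In n t K J) (ha : a ∈ K) (h2 : orderOf a = 2) : t ∈ cz (J a) :=
  mem_cz.2 ⟨C_le_N _ fun k hk => H24.mem_C1.1 (c.Kle (c.Jle a ha h2 hk)), fun k hk => by
    rw [commutatorElement_eq_one_iff_mul_comm.2 (H24.mem_C1.1 (c.Kle (c.Jle a ha h2 hk)))]; exact one_mem _⟩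
theorem Md.memK (m : Md t K J ι) (c : In n t K J) (s : SS) : ι s ∈ K :=
  c.Jle _ m.zK (iv_of (by rw [← map_mul]; exact map_one ι) fun e =>
    absurd (m.inj (e.trans (map_one ι).symm)) (by decide)) (m.mem s)
theorem Md.ct (m : Md t K J ι) (c : In n t K J) (s : SS) : t * ι s = ι s * t := (H24.mem_C1.1 (c.Kle (m.memK c s))).symm
theorem Md.ord (m : Md t K J ι) {s : SS} (hs : s * s = 1) (h1 : s ≠ 1) : orderOf (ι s) = 2 :=
  iv_of (by rw [← map_mul, hs, map_one]) fun e => h1 (m.inj (e.trans (map_one ι).symm))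
theorem Md.inJ (m : Md t K J ι) (c : In n t K J) {u s : SS} (hu : u * u = 1) (h1 : u ≠ 1)
    (hs : s * u = u * s) : ι s ∈ J (ι u) :=
  c.two (m.memK c u) (m.ord hu h1) (m.memK c s) (H24.mem_C1.2 (by rw [← map_mul, hs, map_mul]))
    (te_of_pg (pg_range ι) ⟨s, rfl⟩)
theorem Md.mem_VV (m : Md t K J ι) (c : In n t K J) :
    x ∈ VV t ι ↔ ∃ e ∈ E₀, x = ι e ∨ x = t * ι e := by
  have hn : EE ι ≤ N[zpowers t] := norm_zpowers_of_cent (by
    rintro _ ⟨s, -, rfl⟩; exact c.Kle (m.memK c s))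
  rw [mem_sup_of_norm hn]
  constructor
  · rintro ⟨u, hu, _, ⟨e, he, rfl⟩, rfl⟩
    rcases a_mem_zp c.tt hu with rfl | rfl
    exacts [⟨e, he, Or.inl (one_mul _)⟩, ⟨e, he, Or.inr rfl⟩]
  · rintro ⟨e, he, rfl | rfl⟩
    exacts [⟨1, one_mem _, _, ⟨e, he, rfl⟩, (one_mul _).symm⟩, ⟨t, mem_zpowers t, _, ⟨e, he, rfl⟩, rfl⟩]
theorem Md.CV (m : Md t K J ι) : C[VV t ι] = C{t} ⊓ C[EE ι] := by
  have _ := m
  rw [C_sup, C_zpowers]
theorem Md.splitV (m : Md t K J ι) (c : In n t K J) (hg : g ∈ C{t} ⊓ C[EE ι]) :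
    ∃ v ∈ VV t ι, ∃ o ∈ opp 2 (C{t} ⊓ C[EE ι]), g = v * o := by
  obtain ⟨v, hv, o, ho, e, -⟩ := split2 (D := VV t ι) (by rw [← m.CV]; exact le_CC _)
    (fun g hg h => (m.mem_VV c).2 (m.cV g hg h)) hg
  exact ⟨v, hv, o, ho, e⟩
theorem Sp.cj (h : Sp t J a x) (c : In n t K J) (ha : a ∈ K) (h2 : orderOf a = 2) (hk : k ∈ C{t}) :
    Sp t J (k * a * k⁻¹) (k * x * k⁻¹) := by
  have e := H24.mem_C1.1 hk
  have e' : t * k⁻¹ = k⁻¹ * t := by rw [mul_inv_eq_iff_eq_mul, mul_assoc, ← e, inv_mul_cancel_left]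
  refine ⟨by rw [← c.jcj ha h2 hk, cz_cj]; exact conj_mem_cj k h.1, by
    rw [mul_assoc, mul_assoc, mul_assoc, inv_mul_cancel_left, ← mul_assoc x, h.2.1, one_mul, mul_inv_cancel], ?_⟩
  rw [← h.2.2]
  calc k * x * k⁻¹ * (t * (k * x * k⁻¹) * t) = k * x * k⁻¹ * (t * k) * x * (k⁻¹ * t) := by group
    _ = _ := by rw [← e, ← e']; group
theorem Sp.comm (h : Sp t J a x) (c : In n t K J) (ha : a ∈ K) (h2 : orderOf a = 2) :
    x * a = a * x ∧ t * x * t = x * a ∧ x * t * x = t * a := by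
  have e1 : x * a = a * x := H24.mem_C1.1 (c.nJ_le ha h2 (cz_le _ h.1))
  have e2 : t * x * t = x * a := by rw [← h.2.2, ← mul_assoc x x, h.2.1, one_mul]
  refine ⟨e1, e2, ?_⟩
  calc x * t * x = t * (t * x * t) * x := by rw [← mul_assoc, ← mul_assoc, c.tt, one_mul]
    _ = _ := by rw [e2, e1, mul_assoc, mul_assoc, h.2.1, mul_one]
theorem Sp.mul (h : Sp t J a x) (c : In n t K J) (ha : a ∈ K) (h2 : orderOf a = 2) :
    Sp t J a (x * a) := by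
  obtain ⟨e1, e2, -⟩ := h.comm c ha h2
  have e3 : a * t = t * a := H24.mem_C1.1 (c.Kle ha)
  have e4 : x * a * (x * a) = 1 := by
    rw [mul_assoc, ← mul_assoc a, ← e1, mul_assoc, iv_mul h2, mul_one, h.2.1]
  refine ⟨mul_mem h.1 (c.pc a ha h2).mem_cz, e4, ?_⟩
  rw [mul_assoc t, mul_assoc x a t, e3, ← mul_assoc x t, ← mul_assoc t, ← mul_assoc t, e2,
    ← mul_assoc, e4, one_mul]
theorem Sp.uniq (h : Sp t J a x) (h' : Sp t J a y) (c : In n t K J) (ha : a ∈ K)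
    (h2 : orderOf a = 2) (ht : Te (x * y)) : y = x ∨ y = x * a := by
  obtain ⟨e1, e2, e3⟩ := h.comm c ha h2
  obtain ⟨-, -, f3⟩ := h'.comm c ha h2
  have e5 : a * t = t * a := H24.mem_C1.1 (c.Kle ha)
  have hy : ∀ {w}, x * y = w → y = x * w := fun e => by rw [← e, ← mul_assoc, h.2.1, one_mul]
  have hc : x * y ∈ C{t} := mem_C1_iff_conj.2 (by
    rw [mul_inv_rev, iv_inv h.2.1, iv_inv h'.2.1]
    calc x * y * t * (y * x) = x * (y * t * y) * x := by group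
      _ = x * t * x * a := by rw [f3, mul_assoc, mul_assoc, ← e1]; group
      _ = t := by rw [e3, mul_assoc, iv_mul h2, mul_one])
  rcases c.cz2 ha h2 (mul_mem h.1 h'.1) hc ht with e | e | e | e
  · exact Or.inl ((hy e).trans (mul_one x))
  · refine absurd ?_ (iv_ne h2)
    rw [← h.2.2, ← h'.2.1, hy e]; group
  · exact Or.inr (hy e)
  · refine absurd ?_ (iv_ne h2)
    rw [← h'.2.1, hy e]
    calc a = x * (t * x * t) * (a * a) := by rw [h.2.2, iv_mul h2, mul_one]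
      _ = x * t * (x * (t * a)) * a := by group
      _ = x * t * (a * x * t) * a := by rw [← e5, ← e1]; group
      _ = _ := by group
theorem Sp.cent (h : Sp t J a x) (hk : k ∈ J a) (ht : Te ⁅k, x⁆) : k * x = x * k := by
  obtain ⟨j, hj⟩ := ht
  exact commutatorElement_eq_one_iff_mul_comm.1
    (eq_one_of_two_odd hj (odd_orderOf_of_mem (odd_opp _) ((mem_cz.1 h.1).2 k hk)))


end H28.ND
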