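import Mathlib
import Cfsg.Agent.H28.ND0

set_option autoImplicit false
set_option linter.unusedSectionVars false

namespace H28.ND

open Subgroup Equiv Equiv.Perm Cfsg H24 H23 H25.LB H5.Ly H20.So
open scoped commutatorElement

variable {G : Type*} [Group G] [Finite G] {n : ℕ} {t x y g k a b : G}
  {K K' L H D Q Q' R T P : Subgroup G} {J J' : G → Subgroup G} {ι : SS →* G}

namespace NDMBx
open H4.So

theorem up_eq (hn : 8 ≤ n) : up hn = via (Fin.castLEEmb hn) := rfl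

theorem ph_one : ∀ s : SS, (∀ i, ph s i = i) ↔ s = 1 ∨ s = zS := by decide +kernel

theorem ph_one' {s : SS} : ph s = 1 ↔ s = 1 ∨ s = zS := by
  rw [← ph_one, Equiv.ext_iff]; rfl

theorem ph_mv : ∀ s : SS, s * s = 1 → s ≠ 1 → s ≠ zS → ∀ i, ph s i ≠ i := by decide +kernel

/-- `SS` is generated by three elements -/
theorem gen {S : Submonoid SS} (h1 : σS ∈ S) (h2 : wS ∈ S) (h3 : wS' ∈ S) (x : SS) : x ∈ S := by
  have e : eS ∈ S := (show σS * wS * (σS * wS) = eS by decide) ▸ mul_mem (mul_mem h1 h2) (mul_mem h1 h2)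
  have f : eS' ∈ S := (show σS * wS' * (σS * wS') = eS' by decide) ▸ mul_mem (mul_mem h1 h3) (mul_mem h1 h3)
  have c : ζS ∈ S := (show eS * wS' * (eS * wS') = ζS by decide) ▸ mul_mem (mul_mem e h3) (mul_mem e h3)
  have z : zS ∈ S := (show eS * eS' * (eS * eS') = zS by decide) ▸ mul_mem (mul_mem e f) (mul_mem e f)
  have k : ∀ (b : Bool) {u}, u ∈ S → (bif b then u else 1) ∈ S := fun b u hu => by
    cases b
    · exact one_mem _
    · exact hu
  have : ∀ x : SS, (bif x.b0 then eS' else 1) * (bif x.b1 then wS' else 1) * (bif x.a0 then eS else 1) *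
    (bif x.a1 then wS else 1) * (bif x.c0 then zS else 1) * (bif x.c1 then ζS else 1) *
    (bif x.s then σS else 1) = x := by decide +kernel
  rw [← this x]
  exact mul_mem (mul_mem (mul_mem (mul_mem (mul_mem (mul_mem (k _ f) (k _ h3)) (k _ e)) (k _ h2)) (k _ z))
    (k _ c)) (k _ h1)

/-- addition in `F₂³` -/
def xf (x i : Fin 8) : Fin 8 := ⟨(x.1 ^^^ i.1) % 8, Nat.mod_lt _ (by decide)⟩

theorem xf_xf : ∀ x i, xf x (xf x i) = i := by decide +kernel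

/-- the translations -/
def tr (x : Fin 8) : Perm (Fin 8) := ⟨xf x, xf x, xf_xf x, xf_xf x⟩

theorem tr_ap (x i : Fin 8) : tr x i = xf x i := rfl
theorem xf_zero : ∀ x, xf x 0 = x := by decide +kernel
theorem xf_self : ∀ x, xf x x = 0 := by decide +kernel
theorem xf_comm : ∀ x y, xf x y = xf y x := by decide +kernel
theorem xf_eq : ∀ x y, xf x y = 0 → x = y := by decide +kernel
theorem tr_mul (x y : Fin 8) : tr (xf x y) = tr x * tr y :=
  Equiv.ext ((by decide +kernel : ∀ x y i, tr (xf x y) i = tr x (tr y i)) x y)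
theorem tr_zero : tr 0 = 1 := Equiv.ext (by decide +kernel)
theorem tr_self (x : Fin 8) : tr x * tr x = 1 := Equiv.ext (xf_xf x)
theorem tr_inj : Function.Injective tr := fun x y h => by
  rw [← xf_zero x, ← tr_ap, h, tr_ap, xf_zero]

theorem ph_tr {e : SS} (he : e ∈ E₀) : ph e = tr (ph e 0) :=
  Equiv.ext ((by decide +kernel : ∀ e ∈ E₀, ∀ i, ph e i = tr (ph e 0) i) e he)

theorem tr_ph (x : Fin 8) : ∃ e ∈ E₀, ph e = tr x := by
  obtain ⟨e, he, h⟩ := (by decide +kernel : ∀ x : Fin 8, ∃ e ∈ E₀, ph e 0 = x) x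
  exact ⟨e, he, by rw [ph_tr he, h]⟩

theorem mem_E {β : Perm (Fin 8)} : β ∈ E₀.map ph ↔ ∃ x, tr x = β :=
  ⟨by rintro ⟨e, he, rfl⟩; exact ⟨_, (ph_tr he).symm⟩, by rintro ⟨x, rfl⟩; exact tr_ph x⟩

/-- four involutions generating `AGL₃(2)` -/
def gf (k : Fin 4) (i : Fin 8) : Fin 8 :=
  ⟨[9925146, 14527233, 8745331, 6336302].getD k.1 0 / 8 ^ i.1 % 8, Nat.mod_lt _ (by decide)⟩

theorem gf_gf : ∀ k i, gf k (gf k i) = i := by decide +kernel

/-- the generators as permutations -/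
def gp (k : Fin 4) : Perm (Fin 8) := ⟨gf k, gf k, gf_gf k, gf_gf k⟩

/-- the linear parts -/
def lin (k : Fin 4) (x : Fin 8) : Fin 8 := xf (gf k x) (gf k 0)

theorem gp_tr (k : Fin 4) (x : Fin 8) : gp k * tr x * (gp k)⁻¹ = tr (lin k x) := by
  rw [mul_inv_eq_iff_eq_mul]
  exact Equiv.ext ((by decide +kernel : ∀ k x i, gp k (tr x i) = tr (lin k x) (gp k i)) k x)

/-- words -/
def wp : List (Fin 4) → Perm (Fin 8)
  | [] => 1
  | k :: w => gp k * wp w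

/-- linear parts of words -/
def lw : List (Fin 4) → Fin 8 → Fin 8
  | [], x => x
  | k :: w, x => lin k (lw w x)

/-- the affine group -/
def MM : Subgroup (Perm (Fin 8)) := closure (Set.range gp)

theorem wp_mem : ∀ w, wp w ∈ MM
  | [] => one_mem _
  | k :: w => mul_mem (subset_closure ⟨k, rfl⟩) (wp_mem w)

theorem wp_tr : ∀ w x, wp w * tr x * (wp w)⁻¹ = tr (lw w x)
  | [], x => by simp [wp, lw]
  | k :: w, x => by rw [wp, lw, ← gp_tr, ← wp_tr w x]; group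

/-- the table of words -/
def tb : List (List (List (List (Fin 4)))) :=
  [[[[], [], [], [], [], [], [], []], [[], [], [], [], [], [], [], []], [[], [], [], [], [], [], [], []], [[], [], [], [], [], [], [], []], [[], [], [], [], [], [], [], []], [[], [], [], [], [], [], [], []], [[], [], [], [], [], [], [], []], [[], [], [], [], [], [], [], []]],
  [[[], [], [], [], [], [], [], []], [[], [], [], [], [], [], [], []], [[], [], [], [], [1,0,1,0], [1,0,1], [3,0,3,1,0,1], [1,0,3,2,3,1]], [[], [], [], [], [0], [], [3,0,3], [3,0,3,0]], [[], [], [1], [1,0], [], [], [3,2,3,1], [3,2,3,1,0]], [[], [], [0,1], [0,1,0], [], [], [3,2,3,0,1], [0,3,2,3,1]], [[], [], [3,0,3,0,1], [1,0,3,2,3], [0,3,2,3], [0,3,2,3,0], [], []], [[], [], [3,0,3,1], [3,0,3,1,0], [3,2,3,0], [3,2,3], [], []]],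
  [[[], [], [], [], [], [], [], []], [[], [], [], [], [1,2,0,1,0], [3,0,1,2,1], [1,2,0,1], [0,1,2,0,1]], [[], [], [], [], [], [], [], []], [[], [], [], [], [1,2,1,0], [0,1,2,1,0], [1,2,1], [0,1,2,1]], [[], [1,2], [], [1,2,0], [], [1,2,3,0,3], [], [2,3,2,1,2]], [[], [0,1,2], [], [0,1,2,0], [2,1,0,3,2], [], [1,0,1,2,3], []], [[], [1,2,1,0,1], [], [0,3,0,1,2], [], [2,1,0,3,2,1,0], [], [2,1,0,3,2,1]], [[], [3,0,1,2,0], [], [3,0,1,2], [3,2,1,0,3,2], [], [1,2,3,0,3,1], []]],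
  [[[], [], [], [], [], [], [], []], [[], [], [], [], [3,0], [0,3,0], [0,3], [3]], [[], [], [], [], [3,1,0,1,0], [1,2,1,0,3], [0,3,1,0,1], [3,1,0,1]], [[], [], [], [], [], [], [], []], [[], [3,1,0], [3,1], [], [], [2,3,1,0], [2,3,1], []], [[], [0,3,1,0], [0,3,1], [], [2,3,0], [], [], [2,3]], [[], [0,3,0,1,0], [0,3,0,1], [], [3,0,3,2,3], [], [], [2,3,1,0,1]], [[], [3,0,1,0], [3,0,1], [], [], [2,3,0,1,0], [2,3,0,1], []]],
  [[[], [], [], [], [], [], [], []], [[], [], [1,0,3,0], [1,3,0], [], [], [1,0,3], [1,3]], [[], [1,0,3,1,0], [], [1,2,3,0], [], [1,0,3,1], [], [1,2,3]], [[], [0,2], [1,2,3,1,0], [], [], [0,2,0], [1,2,3,1], []], [[], [], [], [], [], [], [], []], [[], [], [2,1,0,3], [0,2,1,0], [], [], [2,1,0,3,0], [0,2,1]], [[], [2,1,0,3,1], [], [2,1,2,3,0], [], [1,0,3,0,1], [], [2,1,2,3]], [[], [1,3,0,1,0], [3,2,1,0,3], [], [], [1,3,0,1], [1,2,3,0,1], []]],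
  [[[], [], [], [], [], [], [], []], [[], [], [0,1,0,3,0], [2,0,1,0], [], [], [2,0,1], [0,1,0,3]], [[], [1,0,1,2], [], [0,1,2,3,0], [1,0,1,2,0], [], [0,1,2,3], []], [[], [2], [2,3,0,3], [], [2,0], [], [], [2,3,0,3,0]], [[], [], [3,2,3,2,1], [2,1,0], [], [], [2,1], [1,0,1,2,1]], [[], [], [], [], [], [], [], []], [[], [2,1,0,1], [0,3,2,1,0,3], [], [2,1,0,1,0], [], [], [0,1,2,3,0,1]], [[], [3,2,3,2], [], [2,3,0,3,1,0], [3,2,3,2,0], [], [2,3,0,3,1], []]],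
  [[[], [], [], [], [], [], [], []], [[], [], [1,0,3,2,0], [0,3,2], [1,0,3,2], [0,3,2,0], [], []], [[], [1,0,3,2,1,0], [], [0,1,2,3,2,0], [], [0,1,2,3,2], [], [1,0,3,2,1]], [[], [3,0,3,2], [2,1,2,1], [], [2,1,2,1,0], [], [], [3,0,3,2,0]], [[], [3,2,1,2,0], [], [2,1,2,0], [], [2,1,2], [], [3,2,1,2]], [[], [0,3,2,1,0], [2,1,2,0,1], [], [2,1,2,0,1,0], [], [], [0,3,2,1]], [[], [], [], [], [], [], [], []], [[], [], [3,2,1,2,0,1], [2,3,0,1,2], [1,2,3,0,1,2], [3,0,3,2,1], [], []]],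
  [[[], [], [], [], [], [], [], []], [[], [], [3,2,3,0,3], [3,2], [3,2,0], [0,1,0,3,2], [], []], [[], [3,0,1,2,3,0], [], [1,2,3,2,0], [1,2,3,2], [], [3,0,1,2,3], []], [[], [3,2,0,1,0], [2,3,2,0,1], [], [], [1,2,3,2,1], [3,2,0,1], []], [[], [3,2,1,0], [2,3,2,1], [], [], [2,3,2,1,0], [3,2,1], []], [[], [0,3,2,1,2,0], [], [2,3,2], [2,3,2,0], [], [0,3,2,1,2], []], [[], [], [2,3,0,1,2,3], [3,2,1,0,1], [2,1,2,3,2], [2,3,0,1,2,3,0], [], []], [[], [], [], [], [], [], [], []]]]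

/-- the word for a triple -/
def wd (x y z : Fin 8) : List (Fin 4) := ((tb.getD x.1 []).getD y.1 []).getD z.1 []

theorem wd_ok : ∀ x y z : Fin 8, x ≠ 0 ∧ y ≠ 0 ∧ z ≠ 0 ∧ x ≠ y ∧ x ≠ z ∧ y ≠ z ∧ xf x y ≠ z →
    lw (wd x y z) 1 = x ∧ lw (wd x y z) 3 = y ∧ lw (wd x y z) 5 = z := by decide +kernel

theorem tr3 {x y z : Fin 8} (h1 : tr x ≠ 1) (h2 : tr y ≠ 1) (h3 : tr z ≠ 1) (h4 : tr x * tr y ≠ 1)
    (h5 : tr x * tr z ≠ 1) (h6 : tr y * tr z ≠ 1) (h7 : tr x * tr y * tr z ≠ 1) :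
    ∃ m ∈ MM, m * tr 1 * m⁻¹ = tr x ∧ m * tr 3 * m⁻¹ = tr y ∧ m * tr 5 * m⁻¹ = tr z := by
  obtain ⟨e1, e2, e3⟩ := wd_ok x y z ⟨fun e => h1 (e ▸ tr_zero), fun e => h2 (e ▸ tr_zero),
    fun e => h3 (e ▸ tr_zero), fun e => h4 (e ▸ tr_self x), fun e => h5 (e ▸ tr_self x),
    fun e => h6 (e ▸ tr_self y), fun e => h7 (by rw [← tr_mul, e, tr_self])⟩
  exact ⟨_, wp_mem (wd x y z), by rw [wp_tr, e1], by rw [wp_tr, e2], by rw [wp_tr, e3]⟩

theorem g0 : ph eS' = gp 0 := Equiv.ext (by decide +kernel)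

theorem MM_le {Y : Subgroup (Perm (Fin 8))} (h : MM ≤ N[Y]) (h0 : ph eS' ∈ Y) : MM ≤ Y := by
  rw [g0] at h0
  have k : ∀ (j : Fin 4) (w), (∀ i, gp j (wp w i) = wp w (gp 0 i)) → gp j ∈ Y := fun j w e => by
    have : gp j = wp w * gp 0 * (wp w)⁻¹ := by rw [eq_mul_inv_iff_mul_eq]; exact Equiv.ext e
    rw [this]; exact conj_mem (h (wp_mem w)) h0
  refine (closure_le _).2 ?_
  rintro _ ⟨j, rfl⟩
  fin_cases j
  · exact h0
  · exact k 1 [3, 0, 1, 3, 1] (by decide +kernel)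
  · exact k 2 [0, 2] (by decide +kernel)
  · exact k 3 [1, 0, 1, 3, 1] (by decide +kernel)

theorem ph_mem (s : SS) : ph s ∈ MM := by
  have k : ∀ (u : SS) (w), (∀ i, ph u i = wp w i) → u ∈ (MM.comap ph).toSubmonoid := fun u w e => by
    have : ph u = wp w := Equiv.ext e
    show ph u ∈ MM
    rw [this]; exact wp_mem w
  exact gen (k σS [3, 0, 3] (by decide +kernel)) (k wS [1, 3, 1, 0, 2, 0] (by decide +kernel))
    (k wS' [1, 0, 1, 0] (by decide +kernel)) s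

theorem MM_N : MM ≤ N[E₀.map ph] := by
  refine (closure_le _).2 ?_
  rintro _ ⟨j, rfl⟩
  refine mem_N_of_finite fun β hβ => ?_
  obtain ⟨x, rfl⟩ := mem_E.1 hβ
  exact mem_E.2 ⟨_, (gp_tr j x).symm⟩

theorem MM_even : MM ≤ alternatingGroup (Fin 8) := by
  refine (closure_le _).2 ?_
  rintro _ ⟨j, rfl⟩
  exact mem_alternatingGroup.2 ((by decide +kernel : ∀ j, sign (gp j) = 1) j)

theorem t1 : ph ζS = tr 1 := Equiv.ext (by decide +kernel)
theorem t3 : ph eS = tr 3 := Equiv.ext (by decide +kernel)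
theorem t5 : ph wS = tr 5 := Equiv.ext (by decide +kernel)

theorem ex_out {B : Type*} [Finite B] (hc : Nat.card B = 8) (l : List B) (hl : l.length < 8) :
    ∃ b, b ∉ l := by
  classical
  by_contra h
  have := Fintype.ofFinite B
  have h1 : (Finset.univ : Finset B) ⊆ l.toFinset := fun b _ => by
    simpa using by_contra fun k => h ⟨b, k⟩
  have h2 := (Finset.card_le_card h1).trans l.toFinset_card_le
  rw [Finset.card_univ, ← Nat.card_eq_fintype_card] at h2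
  omega

theorem exθ {B : Type*} [Group B] [Finite B] (hc : Nat.card B = 8) (h2 : ∀ b : B, b * b = 1) :
    ∃ θ : Fin 8 → B, (∀ x y, θ (xf x y) = θ x * θ y) ∧ ∀ x, θ x = 1 → x = 0 := by
  have cm : ∀ a b : B, a * b = b * a := fun a b => by
    rw [← mul_inv_eq_one, mul_inv_rev, iv_inv (h2 a), iv_inv (h2 b)]; exact h2 _
  let _ : CommGroup B := { (inferInstance : Group B) with mul_comm := cm }
  obtain ⟨p, hp⟩ := ex_out hc [1] (by simp)
  obtain ⟨q, hq⟩ := ex_out hc [1, p] (by simp)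
  obtain ⟨r, hr⟩ := ex_out hc [1, p, q, p * q] (by simp)
  have ne : ∀ {a b : B}, a * b = 1 → b = a := fun {a b} h => by
    rw [eq_inv_of_mul_eq_one_right h, iv_inv (h2 a)]
  have k : ∀ (c d : Bool) (u : B), (bif (c ^^ d) then u else 1) = (bif c then u else 1) * (bif d then u else 1) :=
    fun c d u => by cases c <;> cases d <;> simp [h2]
  refine ⟨fun x => (bif x.1.testBit 0 then p else 1) * (bif x.1.testBit 1 then q else 1) *
    (bif x.1.testBit 2 then r else 1), fun x y => ?_, fun x hx => ?_⟩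
  · obtain ⟨e0, e1, e2⟩ := (by decide +kernel : ∀ x y : Fin 8,
      (xf x y).1.testBit 0 = (x.1.testBit 0 ^^ y.1.testBit 0) ∧
      (xf x y).1.testBit 1 = (x.1.testBit 1 ^^ y.1.testBit 1) ∧
      (xf x y).1.testBit 2 = (x.1.testBit 2 ^^ y.1.testBit 2)) x y
    simp only [e0, e1, e2, k]
    ac_rfl
  · simp only [List.mem_cons, List.not_mem_nil, or_false, not_or] at hp hq hr
    obtain ⟨b0, b1, b2, e0, e1, e2, e⟩ := (by decide +kernel : ∀ x : Fin 8, ∃ b0 b1 b2 : Bool,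
      x.1.testBit 0 = b0 ∧ x.1.testBit 1 = b1 ∧ x.1.testBit 2 = b2 ∧
      (b0 = false → b1 = false → b2 = false → x = 0)) x
    simp only [e0, e1, e2] at hx
    cases b0 <;> cases b1 <;> cases b2 <;> simp only [cond_true, cond_false, mul_one, one_mul] at hx
    · exact e rfl rfl rfl
    · exact absurd hx hr.1
    · exact absurd hx hq.1
    · exact absurd (ne hx) hr.2.2.1
    · exact absurd hx hp
    · exact absurd (ne hx) hr.2.1
    · exact absurd (ne hx) hq.2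
    · exact absurd (ne hx) hr.2.2.2

end NDMBx
open NDMBx H4.So

/-! ### NDMB -/
theorem up_t8 (hn : 8 ≤ n) {s : SS} (hs : s * s = 1) (h1 : s ≠ 1) (hz : s ≠ zS) : T8 (up hn (ph s)) := by
  refine t8_via (Fin.castLEEmb hn) ⟨by rw [← map_mul, hs, map_one], ?_⟩
  rw [Finset.eq_univ_iff_forall.2 fun i => mem_support.2 (ph_mv s hs h1 hz i)]
  rfl
theorem up_ph_one (hn : 8 ≤ n) {s : SS} : up hn (ph s) = 1 ↔ s = 1 ∨ s = zS := by
  rw [up_eq, map_eq_one_iff _ (via_inj _), ph_one']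
theorem pb_cent (hn : 8 ≤ n) {ρ : Perm (Fin n)} (h : ∀ e ∈ E₀, ρ * up hn (ph e) = up hn (ph e) * ρ) :
    ∃ e ∈ E₀, ∃ μ : Perm (Fin n), (∀ i : Fin n, i.val < 8 → μ i = i) ∧ ρ = up hn (ph e) * μ := by
  rw [up_eq] at h ⊢
  set f := Fin.castLEEmb hn with hf
  have k : ∀ j, ρ (f j) = via f (tr j) (ρ (f 0)) := fun j => by
    obtain ⟨e, he, e1⟩ := tr_ph j
    rw [← mul_apply, ← e1, ← h e he, mul_apply, via_ap, e1, tr_ap, xf_zero]
  obtain ⟨x, hx⟩ : ∃ x, f x = ρ (f 0) := by_contra fun h0 => by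
    have := k 1
    rw [via_out f _ fun i hi => h0 ⟨i, hi⟩] at this
    exact absurd (f.injective (ρ.injective this)) (by decide)
  obtain ⟨e, he, e1⟩ := tr_ph x
  refine ⟨e, he, (via f (ph e))⁻¹ * ρ, fun i hi => ?_, by group⟩
  obtain ⟨j, rfl⟩ : ∃ j, f j = i := ⟨⟨i, hi⟩, rfl⟩
  rw [mul_apply, Perm.inv_eq_iff_eq, k, ← hx, via_ap, via_ap, e1, tr_ap, tr_ap, xf_comm]
theorem pb_pe (hn : 8 ≤ n) (h : n = 8 ∨ n = 11) {B : Subgroup (Perm (Fin n))} (hc : Nat.card B = 8)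
    (h8 : ∀ β ∈ B, β ≠ 1 → T8 β) : ∃ ρ, cj ρ B = E₀.map ((up hn).comp ph) := by
  classical
  rw [up_eq]
  set f := Fin.castLEEmb hn with hf
  obtain ⟨θ, hm, h0⟩ := exθ hc fun b => Subtype.ext (by
    by_cases e : (b : Perm (Fin n)) = 1
    · simp [e]
    · exact (h8 b b.2 e).1)
  have n1 : ∀ x, x ≠ 0 → (θ x : Perm (Fin n)) ≠ 1 := fun x hx e => hx (h0 x (Subtype.ext e))
  have z0 : θ 0 = 1 := by
    have := hm 0 0
    rwa [xf_zero, left_eq_mul] at this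
  have sp : ∀ x, x ≠ 0 → (θ x : Perm (Fin n)).support = (θ 1 : Perm (Fin n)).support := fun x hx => by
    rcases h with h | h
    · have k : ∀ x, x ≠ 0 → (θ x : Perm (Fin n)).support = Finset.univ := fun x hx =>
        Finset.eq_univ_of_card _ (by rw [(h8 _ (θ x).2 (n1 x hx)).2, Fintype.card_fin, h])
      rw [k x hx, k 1 (by decide)]
    · exact p_fx h hc.ge h8 (θ x).2 (θ 1).2 (n1 x hx) (n1 1 (by decide))
  have c8 := (h8 _ (θ 1).2 (n1 1 (by decide))).2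
  obtain ⟨i0, hi0⟩ := Finset.card_pos.1 (show 0 < (θ 1 : Perm (Fin n)).support.card by omega)
  let j : Fin 8 → Fin n := fun x => (θ x : Perm (Fin n)) i0
  have jm : ∀ x y, (θ x : Perm (Fin n)) (j y) = j (xf x y) := fun x y => by
    simp only [j]; rw [hm, Subgroup.coe_mul, mul_apply]
  have ji : Function.Injective j := fun x y e => by
    by_contra ne
    have e2 : xf x y ≠ 0 := fun k => ne (xf_eq x y k)
    have e3 := jm x y
    rw [← e, jm, xf_self] at e3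
    refine mem_support.1 (sp _ e2 ▸ hi0) ?_
    show j _ = i0
    rw [← e3]; simp [j, z0]
  have js : Finset.univ.image j = (θ 1 : Perm (Fin n)).support := by
    refine Finset.eq_of_subset_of_card_le (fun i hi => ?_)
      (by rw [Finset.card_image_of_injective _ ji, c8]; rfl)
    obtain ⟨x, -, rfl⟩ := Finset.mem_image.1 hi
    by_cases e : x = 0
    · simpa [j, e, z0] using hi0
    · rw [← sp x e] at hi0 ⊢
      exact apply_mem_support.2 hi0
  obtain ⟨ρ, hρ⟩ := Perm.exists_extending_pair j f ji f.injective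
  have key : ∀ x, ρ * θ x * ρ⁻¹ = via f (tr x) := fun x => by
    refine ext_via f (fun y => ?_) fun i hi => ?_
    · rw [via_ap, mul_apply, mul_apply, ← hρ, Perm.inv_eq_iff_eq.2 rfl, jm, hρ, tr_ap]
    · rw [via_out f _ hi, mul_apply, mul_apply, ← Perm.eq_inv_iff_eq]
      by_cases e : x = 0
      · simp [e, z0]
      · refine notMem_support.1 fun k => ?_
        rw [sp x e, ← js] at k
        obtain ⟨y, -, e1⟩ := Finset.mem_image.1 k
        exact hi y (by rw [← hρ, e1]; simp)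
  refine ⟨ρ, (eq_of_le_of_card_ge ?_ ?_).symm⟩
  · rintro _ ⟨e, he, rfl⟩
    rw [MonoidHom.comp_apply, ph_tr he, ← key]
    exact conj_mem_cj _ (θ _).2
  · rw [card_cj, hc]
    have := Nat.card_le_card_of_injective (α := Fin 8) (β := E₀.map ((via f).comp ph))
      (fun x => ⟨via f (tr x), by obtain ⟨e, he, e1⟩ := tr_ph x; exact ⟨e, he, by rw [← e1]; rfl⟩⟩)
      fun x y e => tr_inj (via_inj f (congrArg Subtype.val e))
    simpa using this
theorem pb_m : ∃ M : Subgroup (Perm (Fin 8)), ⁅M, M⁆ = M ∧ ph.range ≤ M ∧ M ≤ N[E₀.map ph] ∧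
    (∀ b1 b2 b3, Ind b1 b2 b3 → ∃ m ∈ M, m * ph ζS * m⁻¹ = ph b1 ∧ m * ph eS * m⁻¹ = ph b2 ∧
      m * ph wS * m⁻¹ = ph b3) ∧
    ∀ Y : Subgroup (Perm (Fin 8)), M ≤ N[Y] → ph eS' ∈ Y → M ≤ Y ⊔ E₀.map ph := by
  refine ⟨MM, le_antisymm (commutator_le_self _) (MM_le (norm_comm_left _ _) ?_), ?_, MM_N, ?_,
    fun Y h1 h2 => (MM_le h1 h2).trans le_sup_left⟩
  · rw [show eS' = ⁅σS, wS'⁆ by decide +kernel, map_commutatorElement]
    exact commutator_mem_commutator (ph_mem _) (ph_mem _)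
  · rintro _ ⟨s, rfl⟩; exact ph_mem s
  · rintro b1 b2 b3 ⟨m1, m2, m3, h⟩
    have k : ∀ x ∈ [b1, b2, b3, b1 * b2, b1 * b3, b2 * b3, b1 * b2 * b3], ph x ≠ 1 := fun x hx e =>
      (ph_one'.1 e).elim (h x hx).1 (h x hx).2
    simp only [List.mem_cons, List.not_mem_nil, or_false, forall_eq_or_imp, forall_eq, map_mul] at k
    rw [t1, t3, t5]
    rw [ph_tr m1, ph_tr m2, ph_tr m3] at k ⊢
    exact tr3 k.1 k.2.1 k.2.2.1 k.2.2.2.1 k.2.2.2.2.1 k.2.2.2.2.2.1 k.2.2.2.2.2.2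
theorem pb_even {ρ : Perm (Fin 8)} (h : ρ ∈ N[E₀.map ph]) : sign ρ = 1 := by
  obtain ⟨x, hx⟩ := mem_E.1 (conj_mem h (mem_E.2 ⟨1, rfl⟩))
  obtain ⟨y, hy⟩ := mem_E.1 (conj_mem h (mem_E.2 ⟨3, rfl⟩))
  obtain ⟨z, hz⟩ := mem_E.1 (conj_mem h (mem_E.2 ⟨5, rfl⟩))
  have k : ∀ {u : Fin 8} {β}, β = ρ * tr u * ρ⁻¹ → u ≠ 0 → β ≠ 1 := fun {u β} e hu e1 => by
    rw [e, conj_eq_one_iff, ← tr_zero] at e1
    exact hu (tr_inj e1)
  obtain ⟨m, hm, e1, e2, e3⟩ := tr3 (k hx (by decide)) (k hy (by decide)) (k hz (by decide))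
    (k (u := xf 1 3) (by rw [hx, hy, tr_mul]; group) (by decide))
    (k (u := xf 1 5) (by rw [hx, hz, tr_mul]; group) (by decide))
    (k (u := xf 3 5) (by rw [hy, hz, tr_mul]; group) (by decide))
    (k (u := xf (xf 1 3) 5) (by rw [hx, hy, hz, tr_mul, tr_mul]; group) (by decide))
  have c : ∀ {u v : Fin 8}, m * tr u * m⁻¹ = tr v → tr v = ρ * tr u * ρ⁻¹ → Commute (m⁻¹ * ρ) (tr u) :=
    fun {u v} a b => by
      show m⁻¹ * ρ * tr u = tr u * (m⁻¹ * ρ)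
      rw [show m⁻¹ * ρ * tr u = m⁻¹ * (ρ * tr u * ρ⁻¹) * ρ by group, ← b, ← a]; group
  have c1 := c e1 hx
  have c3 := c e2 hy
  have c5 := c e3 hz
  have c0 : ∀ u, Commute (m⁻¹ * ρ) (tr u) := fun u => by
    have a : ∀ {u v}, Commute (m⁻¹ * ρ) (tr u) → Commute (m⁻¹ * ρ) (tr v) → Commute (m⁻¹ * ρ) (tr (xf u v)) :=
      fun a b => tr_mul _ _ ▸ a.mul_right b
    fin_cases u
    exacts [a c1 c1, c1, a c1 c3, c3, a c1 c5, c5, a c3 c5, a c1 (a c3 c5)]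
  have e : m⁻¹ * ρ = tr ((m⁻¹ * ρ) 0) := Equiv.ext fun j => by
    conv_lhs => rw [← xf_zero j, ← tr_ap, ← mul_apply, (c0 j).eq, mul_apply]
    rw [tr_ap, tr_ap, xf_comm]
  obtain ⟨s, -, hs⟩ := tr_ph ((m⁻¹ * ρ) 0)
  rw [← hs, inv_mul_eq_iff_eq_mul] at e
  exact mem_alternatingGroup.1 (MM_even (e ▸ mul_mem hm (ph_mem s)))
theorem pb_tau : ∃ τ : Perm (Fin 8), sign τ = -1 ∧ ∀ s, ph (sw s) = τ * ph s * τ⁻¹ := by
  refine ⟨swap 2 3 * swap 4 7 * swap 5 6, by decide +kernel, fun s => ?_⟩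
  rw [eq_mul_inv_iff_mul_eq]
  exact Equiv.ext ((by decide +kernel : ∀ (s : SS) (i : Fin 8), ph (sw s) (swap 2 3 (swap 4 7 (swap 5 6 i))) =
    swap 2 3 (swap 4 7 (swap 5 6 (ph s i)))) s)

end H28.ND
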