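import Mathlib
import Cfsg.Agent.H29.Planes
import Cfsg.Agent.H6.L52Cent

/-! `5 × 5` matrices over `F₂` as 25-bit codes; the centraliser of a transvection on codes. -/

set_option autoImplicit false

namespace H28

open H29 Matrix

/-- one partial product. -/
def ms (a b k l : ℕ) : ℕ :=
  Nat.mul (Nat.land (Nat.shiftRight a k) 1082401) (Nat.land (Nat.shiftRight b l) 31)

/-- product of codes. -/
def mul5 (a b : ℕ) : ℕ :=
  Nat.xor (Nat.xor (Nat.xor (Nat.xor (ms a b 0 0) (ms a b 1 5)) (ms a b 2 10)) (ms a b 3 15))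
    (ms a b 4 20)

/-- code of the identity. -/
def id5 : ℕ := 17043521

/-- spread five bits. -/
def sp5 (b : Fin 5 → Bool) : ℕ :=
  (b 0).toNat + 32 * (b 1).toNat + 1024 * (b 2).toNat + 32768 * (b 3).toNat + 1048576 * (b 4).toNat

theorem land_sp (x : ℕ) : x &&& 1082401 = sp5 fun i => x.testBit (5 * i) := by
  have h : ∀ b : Fin 5 → Bool, sp5 b < 2 ^ 25 ∧ ∀ n < 25, (sp5 b).testBit n =
      if h : n % 5 = 0 then b (Fin.ofNat 5 (n / 5)) else false := by decide +kernel
  have h2 : ∀ n < 25, Nat.testBit 1082401 n = decide (n % 5 = 0) := by decide +kernel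
  apply Nat.eq_of_testBit_eq
  intro n
  by_cases hn : n < 25
  · rw [(h _).2 n hn, Nat.testBit_and, h2 n hn]
    by_cases h5 : n % 5 = 0
    · have : 5 * ((n / 5) % 5) = n := by omega
      simp [h5, Fin.ofNat, this]
    · simp [h5]
  · have h3 : (2 : ℕ) ^ 25 ≤ 2 ^ n := Nat.pow_le_pow_right (by norm_num) (by omega)
    rw [Nat.testBit_and, Nat.testBit_lt_two_pow (x := 1082401) (by omega),
      Nat.testBit_lt_two_pow ((h _).1.trans_le h3), Bool.and_false]

theorem ms_spec (a b k l : ℕ) : ms a b k l < 2 ^ 25 ∧ ∀ i < 5, ∀ j < 5,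
    (ms a b k l).testBit (5 * i + j) = (a.testBit (5 * i + k) && b.testBit (l + j)) := by
  have h : ∀ b : Fin 5 → Bool, ∀ r < 32, sp5 b * r < 2 ^ 25 ∧ ∀ i < 5, ∀ j < 5,
      (sp5 b * r).testBit (5 * i + j) = (b (Fin.ofNat 5 i) && r.testBit j) := by decide +kernel
  have hr : (b >>> l) &&& 31 < 32 := Nat.and_lt_two_pow _ (n := 5) (by norm_num)
  have := h (fun i => (a >>> k).testBit (5 * i)) _ hr
  rw [← land_sp] at this
  refine ⟨this.1, fun i hi j hj => (this.2 i hi j hj).trans ?_⟩
  have h31 : ∀ j < 5, Nat.testBit 31 j = true := by decide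
  simp [Fin.ofNat, Nat.mod_eq_of_lt hi, Nat.testBit_and, h31 j hj, Nat.testBit_shiftRight,
    add_comm]

theorem mul5_lt (a b : ℕ) : mul5 a b < 2 ^ 25 :=
  Nat.xor_lt_two_pow (Nat.xor_lt_two_pow (Nat.xor_lt_two_pow (Nat.xor_lt_two_pow
    (ms_spec _ _ _ _).1 (ms_spec _ _ _ _).1) (ms_spec _ _ _ _).1) (ms_spec _ _ _ _).1)
    (ms_spec _ _ _ _).1

theorem testBit_mul5 (a b : ℕ) {i j : ℕ} (hi : i < 5) (hj : j < 5) :
    (mul5 a b).testBit (5 * i + j) =
      ((((a.testBit (5 * i) && b.testBit j) ^^ (a.testBit (5 * i + 1) && b.testBit (5 + j))) ^^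
        (a.testBit (5 * i + 2) && b.testBit (10 + j))) ^^
        (a.testBit (5 * i + 3) && b.testBit (15 + j)) ^^
        (a.testBit (5 * i + 4) && b.testBit (20 + j))) := by
  simp only [mul5, xor_eq, Nat.testBit_xor, (ms_spec _ _ _ _).2 i hi j hj, add_zero, zero_add]

/-- the order of the coordinates. -/
def ix5 : Fin 5 → ℕ := ![0, 4, 1, 2, 3]

theorem ix5_lt : ∀ i, ix5 i < 5 := by decide

/-- a bit as an element of `F₂`. -/
def bz (b : Bool) : ZMod 2 := cond b 1 0

/-- the matrix of a code. -/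
def mat5 (a : ℕ) : Matrix (Fin 5) (Fin 5) (ZMod 2) :=
  Matrix.of fun i j => bz (a.testBit (5 * ix5 i + ix5 j))

theorem mat5_mul (a b : ℕ) : mat5 (mul5 a b) = mat5 a * mat5 b := by
  ext i j
  have h : ∀ a0 a1 a2 a3 a4 b0 b1 b2 b3 b4 : Bool,
      bz (((((a0 && b0) ^^ (a1 && b1)) ^^ (a2 && b2)) ^^ (a3 && b3)) ^^ (a4 && b4)) =
      bz a0 * bz b0 + bz a4 * bz b4 + bz a1 * bz b1 + bz a2 * bz b2 + bz a3 * bz b3 := by
    decide +kernel
  simp only [mat5, Matrix.mul_apply, of_apply, Fin.sum_univ_five,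
    testBit_mul5 a b (ix5_lt i) (ix5_lt j), h]
  simp [ix5]

theorem mat5_id : mat5 id5 = 1 := by decide +kernel

theorem mat5_inj {a b : ℕ} (ha : a < 2 ^ 25) (hb : b < 2 ^ 25) (h : mat5 a = mat5 b) : a = b := by
  apply Nat.eq_of_testBit_eq
  intro n
  by_cases hn : n < 25
  · have h1 : ∀ n < 25, ∃ i j, n = 5 * ix5 i + ix5 j := by decide
    have h2 : ∀ x y, bz x = bz y → x = y := by decide
    obtain ⟨i, j, rfl⟩ := h1 n hn
    exact h2 _ _ (congrFun (congrFun h i) j)
  · have h3 : (2 : ℕ) ^ 25 ≤ 2 ^ n := Nat.pow_le_pow_right (by norm_num) (by omega)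
    rw [Nat.testBit_lt_two_pow (ha.trans_le h3), Nat.testBit_lt_two_pow (hb.trans_le h3)]

theorem mat5_surj (M : Matrix (Fin 5) (Fin 5) (ZMod 2)) : ∃ a < 2 ^ 25, mat5 a = M := by
  have h : Function.Bijective fun a : Fin (2 ^ 25) => mat5 a := by
    rw [Fintype.bijective_iff_injective_and_card]
    exact ⟨fun a b h => Fin.ext (mat5_inj a.2 b.2 h), by
      rw [show Fintype.card (Matrix (Fin 5) (Fin 5) (ZMod 2)) =
        Fintype.card (Fin 5 → Fin 5 → ZMod 2) from rfl]
      simp⟩
  obtain ⟨a, ha⟩ := h.2 M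
  exact ⟨a, a.2, ha⟩

/-- `a` and `c` agree outside the mask `m`. -/
def agr (m a c : ℕ) : Bool := Nat.beq (Nat.lor a m) (Nat.lor c m)

theorem agr_iff {m a c : ℕ} :
    agr m a c = true ↔ ∀ i, m.testBit i = false → a.testBit i = c.testBit i := by
  rw [agr, H29.beq_true, lor_eq, lor_eq]
  constructor
  · intro h i hi
    simpa [hi] using congrArg (fun x => Nat.testBit x i) h
  · intro h
    apply Nat.eq_of_testBit_eq
    intro i
    cases hi : m.testBit i
    · simp [h i hi]
    · simp [hi]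

/-- the mask with the listed bits. -/
noncomputable def mk5 (ps : List ℕ) : ℕ :=
  List.rec (motive := fun _ => ℕ) 0 (fun p _ ih => Nat.lor (Nat.shiftLeft 1 p) ih) ps

theorem testBit_mk5 : ∀ (ps : List ℕ) (i : ℕ), (mk5 ps).testBit i = decide (i ∈ ps)
  | [], i => by simp [show mk5 [] = 0 from rfl]
  | p :: t, i => by
    rw [show mk5 (p :: t) = 1 <<< p ||| mk5 t from rfl, Nat.testBit_or, testBit_mk5 t,
      Nat.one_shiftLeft, Nat.testBit_two_pow]
    simp [eq_comm]

theorem agr_mk5 {ps : List ℕ} {a c : ℕ} :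
    agr (mk5 ps) a c = true ↔ ∀ i, i ∉ ps → a.testBit i = c.testBit i := by
  simp [agr_iff, testBit_mk5]

/-- sum of `p` over all numbers that agree with `acc` outside `ps`. -/
noncomputable def sumP (ps : List ℕ) (p : ℕ → ℕ) : ℕ → ℕ :=
  List.rec (motive := fun _ => ℕ → ℕ) p
    (fun b _ ih acc => Nat.add (ih acc) (seqN (Nat.xor acc (Nat.shiftLeft 1 b)) ih)) ps

/-- `p` holds for all numbers that agree with `acc` outside `ps`. -/
noncomputable def allP (ps : List ℕ) (p : ℕ → Bool) : ℕ → Bool :=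
  List.rec (motive := fun _ => ℕ → Bool) p
    (fun b _ ih acc => and2 (ih acc) (seqN (Nat.xor acc (Nat.shiftLeft 1 b)) ih)) ps

theorem testBit_flip (c b i : ℕ) :
    (Nat.xor c (Nat.shiftLeft 1 b)).testBit i = (c.testBit i ^^ decide (b = i)) := by
  rw [xor_eq, shl_eq, Nat.testBit_xor, Nat.one_shiftLeft, Nat.testBit_two_pow]

theorem allP_spec {p : ℕ → Bool} : ∀ {ps : List ℕ} {c : ℕ}, allP ps p c = true →
    ∀ a, (∀ i, i ∉ ps → a.testBit i = c.testBit i) → p a = true
  | [], c, h, a, ha => by rwa [Nat.eq_of_testBit_eq fun i => ha i (by simp)]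
  | b :: t, c, h, a, ha => by
    rw [show allP (b :: t) p c = and2 (allP t p c) (seqN (Nat.xor c (Nat.shiftLeft 1 b)) (allP t p))
      from rfl, and2_true, seqN_eq] at h
    by_cases hb : a.testBit b = c.testBit b
    · refine allP_spec h.1 a fun i hi => ?_
      by_cases e : i = b
      · rw [e, hb]
      · exact ha i (by simp [e, hi])
    · refine allP_spec h.2 a fun i hi => ?_
      rw [testBit_flip]
      by_cases e : b = i
      · subst e; revert hb; cases a.testBit b <;> cases c.testBit b <;> simp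
      · rw [ha i (by simp [Ne.symm e, hi])]; simp [e]

theorem sumP_spec {q : ℕ → Bool} : ∀ {ps : List ℕ} (c : ℕ), ps.Nodup →
    {a | (∀ i, i ∉ ps → a.testBit i = c.testBit i) ∧ q a = true}.Finite ∧
    {a | (∀ i, i ∉ ps → a.testBit i = c.testBit i) ∧ q a = true}.ncard =
      sumP ps (fun a => cond (q a) 1 0) c
  | [], c, _ => by
    have : {a | (∀ i, i ∉ ([] : List ℕ) → a.testBit i = c.testBit i) ∧ q a = true} =
        if q c then {c} else ∅ := by
      ext a
      constructor
      · rintro ⟨h1, h2⟩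
        have := Nat.eq_of_testBit_eq fun i => h1 i (by simp)
        subst this
        simp [h2]
      · intro h
        by_cases hq : q c = true
        · simp only [hq, if_true, Set.mem_singleton_iff] at h
          subst h
          exact ⟨fun _ _ => rfl, hq⟩
        · simp [hq] at h
    rw [this]
    change _ ∧ _ = cond (q c) 1 0
    cases q c <;> simp
  | b :: t, c, hn => by
    rw [List.nodup_cons] at hn
    obtain ⟨f1, e1⟩ := sumP_spec (q := q) c hn.2
    obtain ⟨f2, e2⟩ := sumP_spec (q := q) (Nat.xor c (Nat.shiftLeft 1 b)) hn.2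
    have : {a | (∀ i, i ∉ b :: t → a.testBit i = c.testBit i) ∧ q a = true} =
        {a | (∀ i, i ∉ t → a.testBit i = c.testBit i) ∧ q a = true} ∪
        {a | (∀ i, i ∉ t → a.testBit i = (Nat.xor c (Nat.shiftLeft 1 b)).testBit i) ∧
          q a = true} := by
      ext a
      simp only [Set.mem_union, Set.mem_ofPred_eq, testBit_flip, List.mem_cons, not_or]
      constructor
      · rintro ⟨h1, h2⟩
        by_cases hb : a.testBit b = c.testBit b
        · refine Or.inl ⟨fun i hi => ?_, h2⟩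
          by_cases e : i = b
          · rw [e, hb]
          · exact h1 i ⟨e, hi⟩
        · refine Or.inr ⟨fun i hi => ?_, h2⟩
          by_cases e : b = i
          · subst e; revert hb; cases a.testBit b <;> cases c.testBit b <;> simp
          · rw [h1 i ⟨Ne.symm e, hi⟩]; simp [e]
      · rintro (⟨h1, h2⟩ | ⟨h1, h2⟩)
        · exact ⟨fun i hi => h1 i hi.2, h2⟩
        · exact ⟨fun i hi => by rw [h1 i hi.2]; simp [Ne.symm hi.1], h2⟩
    rw [this]
    refine ⟨f1.union f2, ?_⟩
    rw [Set.ncard_union_eq _ f1 f2, e1, e2]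
    · exact congrArg (Nat.add _) (seqN_eq _ _).symm
    · rw [Set.disjoint_left]
      rintro a ⟨h1, -⟩ ⟨h2, -⟩
      have := (h1 b hn.1).symm.trans (h2 b hn.1)
      rw [testBit_flip] at this
      simp at this

/-- determinant of the middle block. -/
def det3 (a : ℕ) : Bool :=
  (a.testBit 6 && a.testBit 12 && a.testBit 18) ^^ (a.testBit 6 && a.testBit 13 && a.testBit 17) ^^
  (a.testBit 7 && a.testBit 11 && a.testBit 18) ^^ (a.testBit 7 && a.testBit 13 && a.testBit 16) ^^
  (a.testBit 8 && a.testBit 11 && a.testBit 17) ^^ (a.testBit 8 && a.testBit 12 && a.testBit 16)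

/-- positions of the middle block. -/
def psM : List ℕ := [6, 7, 8, 11, 12, 13, 16, 17, 18]
/-- positions of the unipotent radical. -/
def psQ : List ℕ := [1, 2, 3, 4, 9, 14, 19]

/-- the codes of the centraliser of the transvection. -/
def inH (a : ℕ) : Bool := agr 1014750 a id5 && det3 a

theorem mk5_H : mk5 (psM ++ psQ) = 1014750 := by decide +kernel

/-- code of the transvection. -/
def z5 : ℕ := 17043537

theorem mat5_z : mat5 z5 = transvection 0 1 1 := by decide +kernel

theorem inH_iff {a : ℕ} : inH a = true ↔ a < 2 ^ 25 ∧ (mat5 a).det = 1 ∧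
    mat5 a * transvection 0 1 1 = transvection 0 1 1 * mat5 a := by
  have hd : ∀ a : ℕ, det !![bz (a.testBit 6), bz (a.testBit 7), bz (a.testBit 8);
      bz (a.testBit 11), bz (a.testBit 12), bz (a.testBit 13);
      bz (a.testBit 16), bz (a.testBit 17), bz (a.testBit 18)] = bz (det3 a) := fun a => by
    rw [det_fin_three, det3]
    simp only [of_apply, cons_val', cons_val_zero, cons_val_one, cons_val_fin_one, cons_val]
    generalize a.testBit 6 = b1, a.testBit 7 = b2, a.testBit 8 = b3, a.testBit 11 = b4,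
      a.testBit 12 = b5, a.testBit 13 = b6, a.testBit 16 = b7, a.testBit 17 = b8, a.testBit 18 = b9
    revert b1 b2 b3 b4 b5 b6 b7 b8 b9
    decide +kernel
  have hm : (∀ i ∈ [5, 10, 15, 20, 21, 22, 23], a.testBit i = false) →
      (mat5 a).det = bz (a.testBit 0) * bz (a.testBit 24) * bz (det3 a) := fun h => by
    rw [← hd, ← H6.det_five _ _ ![bz (a.testBit 4), bz (a.testBit 1), bz (a.testBit 2),
      bz (a.testBit 3)] ![bz (a.testBit 9), bz (a.testBit 14), bz (a.testBit 19)]]
    congr 1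
    simp only [List.mem_cons, List.not_mem_nil, or_false, forall_eq_or_imp, forall_eq] at h
    ext i j
    fin_cases i <;> fin_cases j <;> simp [mat5, ix5, h, bz]
  rw [inH, Bool.and_eq_true, ← mk5_H, agr_mk5]
  constructor
  · rintro ⟨h1, h2⟩
    have h3 : ∀ i ∈ [5, 10, 15, 20, 21, 22, 23], a.testBit i = false := fun i hi => by
      rw [h1 i (by revert i; decide)]; revert i; decide
    have h0 : a.testBit 0 = true := h1 0 (by decide)
    have h24 : a.testBit 24 = true := h1 24 (by decide)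
    refine ⟨Nat.lt_pow_two_of_testBit _ fun i hi => ?_, by rw [hm h3, h0, h24, h2]; rfl, ?_⟩
    · rw [h1 i (by simp [psM, psQ]; omega)]
      exact Nat.testBit_lt_two_pow (lt_of_lt_of_le (by decide)
        (Nat.pow_le_pow_right (by norm_num) hi))
    · simp only [List.mem_cons, List.not_mem_nil, or_false, forall_eq_or_imp, forall_eq] at h3
      ext i j
      fin_cases i <;> fin_cases j <;>
        simp [mat5, ix5, h3, h0, h24, bz, transvection, Matrix.mul_apply, Fin.sum_univ_succ,
          Matrix.one_apply, Matrix.single_apply, add_comm]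
  · rintro ⟨h1, h2, e⟩
    have h := fun i j => congrFun (congrFun e i) j
    have h00 := h 0 0
    have h02 := h 0 2
    have h03 := h 0 3
    have h04 := h 0 4
    have h21 := h 2 1
    have h31 := h 3 1
    have h41 := h 4 1
    have hz : ∀ b, bz b = 0 ↔ b = false := by decide
    simp [transvection, Matrix.mul_apply, Fin.sum_univ_succ, Matrix.one_apply,
      Matrix.single_apply, mat5, ix5, hz] at h00 h02 h03 h04 h21 h31 h41
    have h3 : ∀ i ∈ [5, 10, 15, 20, 21, 22, 23], a.testBit i = false := by simp [*]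
    rw [hm h3] at h2
    have hz2 : ∀ x y w, bz x * bz y * bz w = 1 → x = true ∧ y = true ∧ w = true := by decide
    obtain ⟨k1, k2, k3⟩ := hz2 _ _ _ h2
    refine ⟨fun i hi => ?_, k3⟩
    by_cases hi' : i < 25
    · have : ∀ i < 25, i ∉ psM ++ psQ → (i = 0 ∨ i = 24) ∧ id5.testBit i = true ∨
        i ∈ [5, 10, 15, 20, 21, 22, 23] ∧ id5.testBit i = false := by decide
      rcases this i hi' hi with ⟨rfl | rfl, e⟩ | ⟨e1, e⟩
      · rw [e, k1]
      · rw [e, k2]
      · rw [e, h3 i e1]
    · have h4 : (2 : ℕ) ^ 25 ≤ 2 ^ i := Nat.pow_le_pow_right (by norm_num) (by omega)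
      rw [Nat.testBit_lt_two_pow (h1.trans_le h4),
        Nat.testBit_lt_two_pow (lt_of_lt_of_le (by decide) h4)]

theorem inH_lt {a : ℕ} (h : inH a = true) : a < 2 ^ 25 := (inH_iff.1 h).1

theorem inH_mul {a b : ℕ} (ha : inH a = true) (hb : inH b = true) : inH (mul5 a b) = true := by
  rw [inH_iff] at ha hb ⊢
  refine ⟨mul5_lt a b, by rw [mat5_mul, det_mul, ha.2.1, hb.2.1, one_mul], ?_⟩
  rw [mat5_mul, mul_assoc, hb.2.2, ← mul_assoc, ha.2.2, mul_assoc]

/-- the special linear group `L₅(2)`. -/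
abbrev L5 : Type := SpecialLinearGroup (Fin 5) (ZMod 2)

/-- the transvection. -/
def s5 : L5 := ⟨transvection 0 1 1, det_transvection_of_ne 0 1 (by decide) 1⟩

/-- the centraliser of the transvection, on codes. -/
structure Hc : Type where
  /-- the code -/
  val : ℕ
  prop : inH val = true

theorem Hc.ext {a b : Hc} (h : a.1 = b.1) : a = b := by
  cases a; cases b; cases h; rfl

theorem Hc.eq_iff {a b : Hc} : a = b ↔ Nat.beq a.1 b.1 = true := by
  rw [H29.beq_true]; exact ⟨congrArg _, Hc.ext⟩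

instance : DecidableEq Hc := fun _ _ => decidable_of_iff _ Hc.eq_iff.symm

instance : Mul Hc := ⟨fun a b => ⟨mul5 a.1 b.1, inH_mul a.2 b.2⟩⟩

instance : One Hc := ⟨⟨id5, by decide +kernel⟩⟩

/-- the matrix of an element. -/
def Hc.cen (a : Hc) : Subgroup.centralizer ({s5} : Set L5) :=
  ⟨⟨mat5 a.1, (inH_iff.1 a.2).2.1⟩,
    Subgroup.mem_centralizer_singleton_iff.2 (Subtype.ext (inH_iff.1 a.2).2.2)⟩

theorem Hc.cen_bij : Function.Bijective Hc.cen := by
  refine ⟨fun a b h => Hc.ext (mat5_inj (inH_lt a.2) (inH_lt b.2)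
    (congrArg (fun x => x.1.1) h)), fun g => ?_⟩
  obtain ⟨a, ha, e⟩ := mat5_surj g.1.1
  refine ⟨⟨a, inH_iff.2 ⟨ha, e ▸ g.1.2, ?_⟩⟩, Subtype.ext (Subtype.ext e)⟩
  rw [e]
  have h0 : g.1 * s5 = s5 * g.1 := Subgroup.mem_centralizer_singleton_iff.1 g.2
  exact congrArg Subtype.val h0

theorem Hc.cen_mul (a b : Hc) : (a * b).cen = a.cen * b.cen :=
  Subtype.ext (Subtype.ext (mat5_mul _ _))

theorem Hc.cen_one : (1 : Hc).cen = 1 := Subtype.ext (Subtype.ext mat5_id)

noncomputable instance : Inv Hc := ⟨fun a => (Hc.cen_bij.2 a.cen⁻¹).choose⟩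

noncomputable instance : Group Hc :=
  Group.ofLeftAxioms (fun a b c => Hc.cen_bij.1 (by simp only [Hc.cen_mul, mul_assoc]))
    (fun a => Hc.cen_bij.1 (by rw [Hc.cen_mul, Hc.cen_one, one_mul]))
    (fun a => Hc.cen_bij.1 (by
      rw [Hc.cen_mul, Hc.cen_one, show a⁻¹.cen = _ from (Hc.cen_bij.2 a.cen⁻¹).choose_spec,
        inv_mul_cancel]))

/-- codes and matrices. -/
noncomputable def Hc.equiv : Hc ≃* Subgroup.centralizer ({s5} : Set L5) :=
  MulEquiv.ofBijective (MonoidHom.mk' Hc.cen Hc.cen_mul) Hc.cen_bij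

instance : Finite Hc := Finite.of_injective _ Hc.cen_bij.1

theorem Hc.card : Nat.card Hc = 21504 :=
  (Nat.card_congr Hc.equiv.toEquiv).trans (H6.card_centralizer_transvection s5 rfl)

@[simp] theorem Hc.val_mul (a b : Hc) : (a * b).1 = mul5 a.1 b.1 := rfl

@[simp] theorem Hc.val_one : (1 : Hc).1 = id5 := rfl

/-- the element with a given code. -/
def hc (a : ℕ) : Hc := if h : inH a = true then ⟨a, h⟩ else 1

theorem hc_val {a : ℕ} (h : inH a = true) : (hc a).1 = a := by rw [hc, dif_pos h]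

@[simp] theorem hc_coe (a : Hc) : hc a.1 = a := by rw [hc, dif_pos a.2]

theorem exists_merge (ps : List ℕ) (a c : ℕ) : ∃ m : ℕ, (∀ i ∈ ps, m.testBit i = a.testBit i) ∧
    ∀ i, i ∉ ps → m.testBit i = c.testBit i :=
  ⟨c ^^^ ((a ^^^ c) &&& mk5 ps), fun i hi => by
    simp only [Nat.testBit_xor, Nat.testBit_and, testBit_mk5, hi, decide_true, Bool.and_true]
    cases a.testBit i <;> cases c.testBit i <;> rfl,
    fun i hi => by simp [testBit_mk5, hi]⟩

/-- `p` holds on the whole centraliser. -/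
noncomputable def allH (p : ℕ → Bool) : Bool :=
  allP psM (fun m => Bool.rec true (allP psQ p m) (det3 m)) id5

theorem allH_spec {p : ℕ → Bool} (h : allH p = true) (a : Hc) : p a.1 = true := by
  have ha := a.2
  rw [inH, Bool.and_eq_true, ← mk5_H, agr_mk5] at ha
  obtain ⟨m, h1, h2⟩ := exists_merge psM a.1 id5
  have h3 := allP_spec h m h2
  have h4 : det3 m = true := by
    rw [← ha.2, det3, det3]
    simp only [psM, List.mem_cons, List.not_mem_nil, or_false, forall_eq_or_imp, forall_eq] at h1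
    simp only [h1]
  rw [h4] at h3
  refine allP_spec h3 _ fun i hi => ?_
  by_cases hm : i ∈ psM
  · exact (h1 i hm).symm
  · rw [h2 i hm, ha.1 i (by simp [hm, hi])]

/-- the condition for a set of positions to define a subgroup. -/
def patOK (m : ℕ) : Prop := ∀ i < 5, ∀ j < 5, ∀ k < 5, m.testBit (5 * i + j) = true ∨
  m.testBit (5 * i + k) = false ∧ i ≠ k ∨ m.testBit (5 * k + j) = false ∧ k ≠ j ∨
    m.testBit (5 * i + k) = false ∧ m.testBit (5 * k + j) = false

set_option synthInstance.maxSize 1024 in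
instance (m : ℕ) : Decidable (patOK m) := by unfold patOK; infer_instance

theorem agr_mul {m : ℕ} (hm : patOK m) {a b : ℕ} (ha : agr m a id5 = true)
    (hb : agr m b id5 = true) : agr m (mul5 a b) id5 = true := by
  rw [agr_iff] at ha hb ⊢
  intro n hn
  by_cases h25 : n < 25
  · obtain ⟨i, hi, j, hj, rfl⟩ : ∃ i < 5, ∃ j < 5, n = 5 * i + j :=
      ⟨n / 5, by omega, n % 5, by omega, by omega⟩
    have hd : ∀ i < 5, ∀ j < 5, id5.testBit (5 * i + j) = decide (i = j) := by decide
    have k : ∀ k < 5, (a.testBit (5 * i + k) && b.testBit (5 * k + j)) =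
        (decide (i = k) && decide (k = j)) := fun k hk => by
      rcases hm i hi j hj k hk with h | h | h | h
      · simp [hn] at h
      · simp [ha _ h.1, hd i hi k hk, h.2]
      · simp [hb _ h.1, hd k hk j hj, h.2]
      · rw [ha _ h.1, hb _ h.2, hd i hi k hk, hd k hk j hj]
    have k0 := k 0 (by norm_num)
    have k1 := k 1 (by norm_num)
    have k2 := k 2 (by norm_num)
    have k3 := k 3 (by norm_num)
    have k4 := k 4 (by norm_num)
    simp only [add_zero, mul_zero, zero_add, mul_one, Nat.reduceMul] at k0 k1 k2 k3 k4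
    rw [testBit_mul5 a b hi hj, k0, k1, k2, k3, k4, hd i hi j hj]
    clear * - hi hj
    revert i j
    suffices ∀ i < 5, ∀ j < 5, _ from fun i hi j hj => this i hi j hj
    decide
  · have h4 : (2 : ℕ) ^ 25 ≤ 2 ^ n := Nat.pow_le_pow_right (by norm_num) (by omega)
    rw [Nat.testBit_lt_two_pow ((mul5_lt a b).trans_le h4),
      Nat.testBit_lt_two_pow (lt_of_lt_of_le (by decide) h4)]

/-- a subgroup from a submonoid of a finite group. -/
def subOf {G : Type*} [Group G] [Finite G] (p : G → Prop) (h1 : p 1)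
    (hm : ∀ a b, p a → p b → p (a * b)) : Subgroup G where
  carrier := {a | p a}
  one_mem' := h1
  mul_mem' := hm _ _
  inv_mem' := fun {a} ha => by
    have : ∀ n : ℕ, p (a ^ n) := fun n => by
      induction n with
      | zero => simpa using h1
      | succ n ih => rw [pow_succ]; exact hm _ _ ih ha
    have h2 : a⁻¹ = a ^ (orderOf a - 1) := by
      rw [inv_eq_iff_mul_eq_one, ← pow_succ', Nat.sub_add_cancel (orderOf_pos a), pow_orderOf_eq_one]
    rw [Set.mem_ofPred_eq, h2]
    exact this _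

/-- the pattern subgroup with free positions `ps`. -/
noncomputable def PS (ps : List ℕ) (h : patOK (mk5 ps)) : Subgroup Hc :=
  subOf (fun a => agr (mk5 ps) a.1 id5 = true) (by simp [agr]) fun _ _ => agr_mul h

theorem mem_PS {ps : List ℕ} {h : patOK (mk5 ps)} {a : Hc} :
    a ∈ PS ps h ↔ agr (mk5 ps) a.1 id5 = true := Iff.rfl

theorem forall_PS {ps : List ℕ} {h : patOK (mk5 ps)} {p : ℕ → Bool}
    (hp : allP ps (fun a => Bool.rec true (p a) (det3 a)) id5 = true) :
    ∀ a ∈ PS ps h, p a.1 = true := fun a ha => by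
  have := allP_spec hp a.1 (agr_mk5.1 ha)
  have h2 := a.2
  rw [inH, Bool.and_eq_true] at h2
  rwa [h2.2] at this

theorem ncard_PS {ps : List ℕ} (h : patOK (mk5 ps)) (hn : ps.Nodup) (q : ℕ → Bool) :
    {a : Hc | a ∈ PS ps h ∧ q a.1 = true}.ncard =
      sumP ps (fun a => cond (inH a && q a) 1 0) id5 := by
  rw [← (sumP_spec (q := fun a => inH a && q a) id5 hn).2,
    ← Set.ncard_image_of_injective _ fun _ _ => Hc.ext]
  congr 1
  ext a
  simp only [mem_PS, agr_mk5, Set.mem_image, Set.mem_ofPred_eq, Bool.and_eq_true]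
  exact ⟨fun ⟨b, ⟨h1, h2⟩, e⟩ => e ▸ ⟨h1, b.2, h2⟩, fun ⟨h1, h2, h3⟩ => ⟨⟨a, h2⟩, ⟨h1, h3⟩, rfl⟩⟩

theorem card_PS {ps : List ℕ} (h : patOK (mk5 ps)) (hn : ps.Nodup) :
    Nat.card (PS ps h) = sumP ps (fun a => cond (inH a) 1 0) id5 := by
  have := ncard_PS h hn fun _ => true
  simp only [and_true, Bool.and_true] at this
  exact this

end H28
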