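import Mathlib
import Cfsg.Agent.H28.HC
import Cfsg.Agent.H29.Ext

/-! More computations in the centraliser of a transvection of `L₅(2)`. -/

set_option autoImplicit false
set_option maxRecDepth 100000
set_option synthInstance.maxSize 4096
set_option Elab.async false

namespace H28

open H29

/-- evaluate the code of `a`, then continue. -/
noncomputable def frc {α : Type} (a : Hc) (k : Hc → α) : α :=
  Nat.rec (motive := fun m => m = a.1.succ → α) (fun _ => k a)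
    (fun m _ h => k ⟨m, Nat.succ.inj h ▸ a.2⟩) (Nat.succ a.1) rfl

theorem frc_eq {α : Type} (a : Hc) (k : Hc → α) : frc a k = k a := rfl

/-- a bit of a code. -/
def bitH (a : Hc) (p : ℕ) : Bool := Nat.beq (Nat.land (Nat.shiftRight a.1 p) 1) 1

/-- the remainder after sifting. -/
noncomputable def rem (l : List (ℕ × Hc × Hc)) : Hc → Hc :=
  List.rec (motive := fun _ => Hc → Hc) (fun a => a)
    (fun x _ ih a => Bool.rec (ih a) (frc (x.2.1 * a) ih) (bitH a x.1)) l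

/-- the image computed by sifting. -/
noncomputable def sig (l : List (ℕ × Hc × Hc)) (a : Hc) : Hc := frc a <|
  List.rec (motive := fun _ => Hc → Hc) (fun _ => 1)
    (fun x _ ih a => Bool.rec (ih a) (x.2.2 * frc (x.2.1 * a) ih) (bitH a x.1)) l

theorem sift_ind {P : Hc → Hc → Prop} (h1 : P 1 1)
    (hm : ∀ a b a' b', P a b → P a' b' → P (a * a') (b * b')) :
    ∀ l : List (ℕ × Hc × Hc), (∀ x ∈ l, P x.2.1 x.2.2 ∧ x.2.1 * x.2.1 = 1) →
      ∀ a, rem l a = 1 → P a (sig l a)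
  | [], _, a, h => by rw [show a = 1 from h]; exact h1
  | x :: l, hl, a, h => by
    have ih := sift_ind h1 hm l fun y hy => hl y (by simp [hy])
    change (Bool.rec (rem l a) (rem l (x.2.1 * a)) (bitH a x.1) : Hc) = 1 at h
    change P a (Bool.rec (sig l a) (x.2.2 * sig l (x.2.1 * a)) (bitH a x.1))
    revert h
    cases bitH a x.1
    · exact ih a
    · intro h
      have := hm _ _ _ _ (hl x (by simp)).1 (ih _ h)
      rwa [← mul_assoc, (hl x (by simp)).2, one_mul] at this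

theorem mem_of_sift {K : Subgroup Hc} {l : List (ℕ × Hc × Hc)}
    (hl : ∀ x ∈ l, x.2.1 ∈ K ∧ x.2.1 * x.2.1 = 1) {a : Hc} (h : rem l a = 1) : a ∈ K :=
  sift_ind (P := fun a _ => a ∈ K) K.one_mem (fun _ _ _ _ => K.mul_mem) l hl a h

/-- search. -/
noncomputable def exP (ps : List ℕ) (P : Hc → Prop) [DecidablePred P] : Bool :=
  Bool.rec true false (allP ps (atH fun a => ¬ P a) id5)

theorem exP_spec {ps : List ℕ} {P : Hc → Prop} [DecidablePred P] (h : exP ps P = true) :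
    ∃ a, P a := by
  by_contra! k
  rw [exP, allP_iff.2 fun a _ => atH_iff.2 fun _ => k _] at h
  exact absurd h (by simp)

namespace Held

/-- the letters in the centraliser. -/
noncomputable def lt : ℕ → Hc :=
  nth 1 [⟪17043523⟫, ⟪17043649⟫, ⟪17051713⟫, ⟪17567809⟫, 1, ⟪17041537⟫, ⟪16916545⟫]

theorem lt_sq (c : ℕ) : lt c * lt c = 1 :=
  nth_forall (p := fun a : Hc => a * a = 1) (by simp) (by decide +kernel) c

theorem lt_iv : IvOK lt (ivOf []) := fun c => eq_inv_of_mul_eq_one_left (lt_sq c)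

theorem Tc_le_gen : Tc ≤ gen lt [0, 1, 2, 3] := by
  let ws : List (ℕ × List ℕ) := [(1, [0]), (2, [0, 1, 0, 1]), (3, [0, 1, 2, 1, 0, 1, 2, 1]),
    (4, [0, 1, 2, 3, 2, 1, 0, 1, 2, 3, 2, 1]), (7, [1]), (8, [1, 2, 1, 2]),
    (9, [1, 2, 3, 2, 1, 2, 3, 2]), (13, [2]), (14, [2, 3, 2, 3]), (19, [3])]
  have h : ∀ a ∈ Tc, rem (ws.map fun x => (x.1, ev lt x.2, 1)) a = 1 := by decide +kernel
  have h2 : ∀ x ∈ ws, (∀ c ∈ x.2, c ∈ [0, 1, 2, 3]) ∧ ev lt x.2 * ev lt x.2 = 1 := by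
    decide +kernel
  refine fun a ha => mem_of_sift (fun x hx => ?_) (h a ha)
  obtain ⟨y, hy, rfl⟩ := List.mem_map.1 hx
  exact ⟨ev_mem_gen (h2 y hy).1, (h2 y hy).2⟩

theorem gen_lt : gen lt [0, 1, 2, 3, 5, 6] = ⊤ := by
  have h : ∀ (p : ℕ) (w : List ℕ), p.Prime → (∀ c ∈ w, c ∈ [0, 1, 2, 3, 5, 6]) →
      ev lt (powW p w) = 1 → ev lt w ≠ 1 → p ∣ Nat.card (gen lt [0, 1, 2, 3, 5, 6]) :=
    fun p w hp h1 h2 h3 => by
      have := Fact.mk hp
      rw [ev_powW] at h2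
      exact orderOf_eq_prime h2 h3 ▸ Subgroup.orderOf_dvd_natCard _ (ev_mem_gen h1)
  have h3 := h 3 [1, 5] (by norm_num) (by decide) (by decide +kernel) (by decide +kernel)
  have h7 := h 7 [1, 5, 6] (by norm_num) (by decide) (by decide +kernel) (by decide +kernel)
  have h2 := Subgroup.card_dvd_of_le
    (Tc_le_gen.trans (gen_sub (l' := [0, 1, 2, 3, 5, 6]) (by decide +kernel)))
  rw [card_Tc] at h2
  refine Subgroup.eq_top_of_le_card _ (Nat.le_of_dvd Nat.card_pos ?_)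
  rw [Hc.card]
  exact Nat.Coprime.mul_dvd_of_dvd_of_dvd (by norm_num : Nat.Coprime (2 ^ 10) 21) h2
    (Nat.Coprime.mul_dvd_of_dvd_of_dvd (by norm_num : Nat.Coprime 3 7) h3 h7)

theorem norm_of_lt {A : Subgroup Hc}
    (h : ∀ c ∈ [0, 1, 2, 3, 5, 6], ∀ a ∈ A, lt c * a * lt c ∈ A) (g : Hc) :
    ∀ a ∈ A, g * a * g⁻¹ ∈ A := by
  have : gen lt [0, 1, 2, 3, 5, 6] ≤ subOf (fun g => ∀ a ∈ A, g * a * g⁻¹ ∈ A) (by simp)
      (fun g k h1 h2 a ha => by simpa [mul_assoc] using h1 _ (h2 a ha)) :=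
    gen_le.2 fun c hc a ha => by rw [← lt_iv c]; exact h c hc a ha
  exact this (gen_lt ▸ Subgroup.mem_top g)

/-- constants of the two sides. -/
def uu (i : Bool) : Hc := cond i ⟪17044033⟫ ⟪17043529⟫
/-- the element of order three. -/
def xx (i : Bool) : Hc := cond i ⟪17178689⟫ ⟪17045633⟫
/-- an involution inverting it. -/
def ss (i : Bool) : Hc := cond i ⟪17051713⟫ ⟪17043649⟫
/-- a root element. -/
def bb : Hc := ⟪17043777⟫
/-- a root element. -/
def ww (i : Bool) : Hc := cond i ⟪17059905⟫ ⟪17043525⟫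
/-- a simple root element. -/
def tt (i : Bool) : Hc := cond i ⟪17043523⟫ ⟪17567809⟫
/-- the second class. -/
def tB : Hc := ⟪17044041⟫
/-- a conjugate of `tB`. -/
def eB : Hc := ⟪17044305⟫

/-- the centraliser of `uu i`. -/
noncomputable abbrev Cc (i : Bool) : Subgroup Hc := PS (cond i
  [12, 13, 17, 18, 2, 3, 4, 7, 8, 9, 14, 19] [6, 7, 11, 12, 1, 2, 3, 4, 8, 9, 13, 14])
  (by cases i <;> decide +kernel)
/-- its centre. -/
noncomputable abbrev Z1 (i : Bool) : Subgroup Hc :=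
  PS (cond i [4, 9] [3, 4]) (by cases i <;> decide +kernel)
/-- the centre of `R`. -/
noncomputable abbrev Zc : Subgroup Hc := PS [3, 4, 8, 9] (by decide +kernel)
/-- the extraspecial group. -/
noncomputable abbrev Qc : Subgroup Hc := PS psQ (by decide +kernel)
/-- the normal subgroups of order 16. -/
noncomputable abbrev Vc (i : Bool) : Subgroup Hc :=
  PS (cond i [4, 9, 14, 19] [1, 2, 3, 4]) (by cases i <;> decide +kernel)

/-- action on `Z1`. -/
def lZ (i : Bool) : List (ℕ × Hc × Hc) :=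
  cond i [(4, zc, uu true), (9, uu true, ⟪17044049⟫)] [(3, uu false, ⟪17043545⟫), (4, zc, uu false)]
/-- action on `U`. -/
def lU (i : Bool) : List (ℕ × Hc × Hc) := cond i
  [(2, ⟪17043525⟫, ⟪17043649⟫), (3, ⟪17043529⟫, ⟪17043777⟫), (4, ⟪17043537⟫, ⟪17044033⟫),
    (7, ⟪17043649⟫, ⟪17043653⟫), (8, ⟪17043777⟫, ⟪17043785⟫), (9, ⟪17044033⟫, ⟪17044049⟫)]
  [(3, ⟪17043529⟫, ⟪17043545⟫), (4, ⟪17043537⟫, ⟪17043529⟫), (8, ⟪17043777⟫, ⟪17044289⟫),
    (9, ⟪17044033⟫, ⟪17043777⟫), (13, ⟪17051713⟫, ⟪17068097⟫), (14, ⟪17059905⟫, ⟪17051713⟫)]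
/-- the first option. -/
def cc (o : Bool) : Hc := cond o zc 1
/-- the second option. -/
def yy (i o : Bool) : Hc := cond o (ww i * uu (!i) * zc) (ww i)
/-- action on `R`. -/
noncomputable def lR (i oc oy : Bool) : List (ℕ × Hc × Hc) :=
  (cond i 13 7, ss i, ss i * cc oc * sig (lU i) (cc oc)) ::
    (cond i 14 2, ww i, yy i oy * sig (lU i) (yy i oy * ww i)) :: lU i
/-- action on `R`. -/
noncomputable def sR (i o : Bool) : Hc → Hc := sig (lR i o o)

theorem cen_u (i : Bool) : ∀ h : Hc, h * uu i = uu i * h → h ∈ Cc i := by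
  cases i <;> decide +kernel

theorem cen_U (i : Bool) : ∀ h ∈ Cc i, h * uu (!i) = uu (!i) * h → h * ww (!i) = ww (!i) * h →
    h ∈ Uc i := by cases i <;> decide +kernel

theorem cen_V (i : Bool) : ∀ h ∈ Cc i, h * tt (!i) = tt (!i) * h → h * ww i = ww i * h →
    h ∈ Vc i := by cases i <;> decide +kernel

theorem Cc_comm (i : Bool) : ∀ h ∈ Cc i, h * uu i = uu i * h := by cases i <;> decide +kernel

theorem ord3 (i : Bool) : ∀ h : Hc, h * h * h = 1 → h ≠ 1 → (∀ a ∈ Uc i, h * a * (h * h) ∈ Uc i) →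
    exP (cond i [2, 3, 7, 8, 13, 14, 19] [1, 2, 7, 8, 9, 13, 14])
      (fun p => p * xx i = h * p ∧ p ∈ Tc) = true := by cases i <;> decide +kernel

theorem cen_x (i : Bool) : ∀ a ∈ Uc i, a * xx i = xx i * a →
    a = 1 ∨ a = zc ∨ a = uu i ∨ a = zc * uu i := by cases i <;> decide +kernel

/-- invariance under `tt i`. -/
abbrev tinv (i : Bool) (g : Hc) : Prop :=
  tt i * (g * sig (lU i) (g * (tt i * g * tt i))) * tt i = g

theorem chk_s (i : Bool) : ∀ s ∈ Cc i, s * s = 1 → s * xx i * s * xx i = 1 →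
    ∃ k ∈ [1, xx i, xx i * xx i], ∃ c ∈ Z1 i, k * (s * sig (lZ i) c) = ss i * c * k ∧
      (tinv i (ss i * c) → c = cc false ∨ c = cc true) := by cases i <;> decide +kernel

theorem chk_w (i : Bool) : ∀ c ∈ Z1 i, ∀ w ∈ Cc i, w * w = 1 →
    w * xx i * (w * xx i) * (w * xx i) = 1 → w * (ss i * c) = ss i * c * w → w ∉ Uc i →
    (∀ a ∈ Uc i, a * xx i * (a * xx i) * (a * xx i) = 1 → a * (ss i * c) = ss i * c * a →
      (a * (xx i * w * (xx i * xx i)) * (a * (xx i * w * (xx i * xx i))) = uu i → a = bb) ∧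
      (a * (xx i * w * (xx i * xx i)) * (a * (xx i * w * (xx i * xx i))) = zc * uu i →
        a = uu (!i) * bb)) ∧
    ∃ v ∈ Uc i, w * sig (lU i) v = ww i * v ∧
      ww i * v * (tt i * (ww i * v) * tt i) ∈ Uc i ∧ ww i * v * (ww i * v) = 1 ∧
      (tinv i (ww i * v) → ww i * v = yy i false ∨ ww i * v = yy i true) := by
  cases i <;> decide +kernel

theorem chk_U (i : Bool) : ∀ a ∈ Uc i, rem (lU i) a = 1 ∧ sig (lU i) a ∈ Uc i ∧
    sig (lU i) (sig (lU i) (sig (lU i) a)) = a ∧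
    tt i * sig (lU i) (tt i * sig (lU i) a * tt i) * tt i = a ∧ tt i * a * tt i ∈ Uc i ∧
    (sig (lU i) a = a → a = 1) := by cases i <;> decide +kernel

theorem chk_R (i oc oy : Bool) : ∀ a ∈ Rc, rem (lR i oc oy) a = 1 ∧ sig (lR i oc oy) a ∈ Rc := by
  cases i <;> cases oc <;> cases oy <;> decide +kernel

/-- the option forced by the fusion pattern. -/
def om (m : ℕ) (i : Bool) : Bool := m.testBit (cond i 7 6)

theorem chk_opt (i : Bool) : ∀ m ∈ [3, 5, 23, 87, 151, 215], m.testBit (cls (uu i)) = true →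
    ∀ o : Bool, (∀ d ∈ Rc, d * d = 1 → m.testBit (cls d) = m.testBit (cls (sR i o d))) →
      o = om m i := by cases i <;> decide +kernel

theorem chk_mix (i : Bool) : ∀ m < 256, m.testBit 3 = true → m.testBit 5 = true →
    (∀ k ∈ [0, 1, 2, 4], m.testBit k = false) → ∀ oc oy : Bool, (∀ d ∈ Rc, d * d = 1 →
      m.testBit (cls d) = m.testBit (cls (sig (lR i oc oy) d))) → oc = oy := by
  cases i <;> decide +kernel

theorem chk_pat : ∀ m < 256, m.testBit 0 = true → m.testBit 3 = false → m.testBit 5 = false →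
    (∀ i : Bool, ∀ k < 8, rep k ∈ Uc i → m.testBit k = true →
      cntP (psU i) (fun d => m.testBit (cls d) = true ∧ m.testBit (cls (d * rep k)) = true ∧
        m.testBit (cls (d * 1)) = true) =
      cntP (psU i) (fun d => m.testBit (cls d) = true ∧ m.testBit (cls (d * zc)) = true ∧
        m.testBit (cls (d * 1)) = true)) → m ∈ [1, 3, 5, 23, 87, 151, 215] := by decide +kernel

theorem not_comm : ∀ a ∈ Uc true, ∀ b ∈ Uc false,
    a * b * (a * b) ≠ rep 3 ∧ a * b * (a * b) ≠ rep 5 := by decide +kernel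

theorem P_norm (i : Bool) : ∀ p ∈ Pc i, ∀ x ∈ lU i, p * x.2.1 * hinv p ∈ Uc i := by
  cases i <;> decide +kernel

theorem rep_comm : ∀ k ∈ [0, 1, 2, 4], ∃ a ∈ Uc true, ∃ b ∈ Uc false,
    a * b * (a * b) = rep k := by decide +kernel

theorem rep_spec : ∀ k < 8, rep k ∈ Tc ∧ rep k * rep k = 1 ∧ cls (rep k) = k ∧
    (k < 6 → rep k ∈ Zc) := by decide +kernel

theorem Zc_iff {a : Hc} : a ∈ Zc ↔ a ∈ Uc true ∧ a ∈ Uc false := by
  have h1 : ∀ a ∈ Zc, a ∈ Uc true ∧ a ∈ Uc false := by decide +kernel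
  have h2 : ∀ a ∈ Uc true, a ∈ Uc false → a ∈ Zc := by decide +kernel
  exact ⟨h1 a, fun h => h2 a h.1 h.2⟩

theorem Uc_comm (i : Bool) {a b : Hc} (ha : a ∈ Uc i) (hb : b ∈ Uc i) : a * b = b * a := by
  have := Uc_sq i _ ((Uc i).mul_mem ha hb)
  rw [← inv_inj, mul_inv_rev, mul_inv_rev, inv_eq_of_mul_eq_one_right (Uc_sq i a ha),
    inv_eq_of_mul_eq_one_right (Uc_sq i b hb), ← inv_eq_of_mul_eq_one_right this, mul_inv_rev,
    inv_eq_of_mul_eq_one_right (Uc_sq i a ha), inv_eq_of_mul_eq_one_right (Uc_sq i b hb)]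

theorem Zc_comm {a b : Hc} (ha : a ∈ Zc) (hb : b ∈ Rc) : a * b = b * a := by
  have h : ∀ a ∈ Zc, ∀ b ∈ Rc, a * b = b * a := by decide +kernel
  exact h a ha b hb

end Held

end H28
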