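import Mathlib
import Cfsg.Agent.H29.Ext

set_option autoImplicit false
set_option maxRecDepth 100000
set_option Elab.async false
set_option linter.all false

namespace H28.HTpp2

open H29

noncomputable def n0 : Net := ben 8 [(nat_lit 0xc304349c71694d07c13c40000001400040000),
 (nat_lit 0x511250f5525a3a5aaf0055afa00000fa05a0000),
 (nat_lit 0x8f1100f2152f11ceaaddcc88003347aa440000),
 (nat_lit 0x818207c047c6dedccec51d1052540400000),
 (nat_lit 0x3010b0000d93c220f421f0841285100006000),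
 (nat_lit 0x86933ff386933ff30003000020032000),
 (nat_lit 0x3060486933df3694fc604),
 (nat_lit 0x30604)]
noncomputable def t0 : List ℕ := [(nat_lit 0x39809e06a0a75b902a0528550d6143310b94ae2),
 (nat_lit 0xa208c8200101b030000284501fa802042802fc),
 (nat_lit 0x31c002d0279140200000005005d18039cc91d00),
 (nat_lit 0x39c49ed227915b330080aa05422e68000000000)]
noncomputable def d0 : ℕ := (nat_lit 0x4408602950400004557a55a8000000000000000)
noncomputable def n1 : Net := ben 8 [(nat_lit 0x345cccccd5545cc5c0000001113d557cd0c7c00),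
 (nat_lit 0x10372f050f05f27000000000000f0007052aba0),
 (nat_lit 0x331506370c33010000000000112e118c152200),
 (nat_lit 0x28999003004440000000010100002109000a8),
 (nat_lit 0x1000101bc00be00000000000010101000001000),
 (nat_lit 0x1008800350088000000000000100000),
 (nat_lit 0x10088000000000001008800),
 (nat_lit 0x1008800)]
noncomputable def t1 : List ℕ := [(nat_lit 0x6c60663dbdb0b18d26fb6973c8280cc1820c042),
 (nat_lit 0x600665a0003cb18165362dd0ccd58cd1838d074),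
 (nat_lit 0x6c07839dbfc00660673e01e8ccd58cd64c00480),
 (nat_lit 0x6c07e7bdbffcb7ed18c1fe07300030000000000)]
noncomputable def d1 : ℕ := (nat_lit 0x118010420001401000000000020202202050a00)
noncomputable def n2 : Net := ben 8 [(nat_lit 0x331d10330070cd731440545ccccd15700000c0c),
 (nat_lit 0xb5000a050fa500b00000032727019b00015212),
 (nat_lit 0x844111d0023000800000001452a8b00880400),
 (nat_lit 0x112120d0d00c2000000304044002580800000),
 (nat_lit 0x200060030003c01000000000080408000008000),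
 (nat_lit 0x2001000220010000000000000800000),
 (nat_lit 0x20010000000000002001000),
 (nat_lit 0x2001000)]
noncomputable def t2 : List ℕ := [(nat_lit 0x1b78c2249144b2601eb3398061f99855705888),
 (nat_lit 0x5608752bc5f47b284f34f097e664800226d8088),
 (nat_lit 0x5fbb02510ac180004f3c009806048187f9ff920),
 (nat_lit 0x5fbfff734ff1f32e00c3f307807b5e200000000)]
noncomputable def d2 : ℕ := (nat_lit 0x20000084000a008120000840110020100000444)
noncomputable def n3 : Net := ben 8 [(nat_lit 0x343cf5540400133ffcc00437f040033c0f00),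
 (nat_lit 0xa0000a553a5a200f0722700000a000aaa50000),
 (nat_lit 0x7702330011110011aa440023010d0122aa0000),
 (nat_lit 0x1012020c0c62078a1b9004000300021222b0000),
 (nat_lit 0x1200127200020000000a106000033310000d670),
 (nat_lit 0xd8a12000d8a1200000000000000000),
 (nat_lit 0xd8a1200000000000d8a120),
 (nat_lit 0xd8a120)]
noncomputable def t3 : List ℕ := [(nat_lit 0x250a14d9000c3b88a40a6606f4002f0aa8ca7a2),
 (nat_lit 0x1502c6b010843b83e75768a4d8d18de0288238c),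
 (nat_lit 0x748002c1d6a1c420a40a0098dcd18de80070400),
 (nat_lit 0x7586def9d6a5ffff18616e44230402100000000)]
noncomputable def d3 : ℕ := (nat_lit 0xa7100002800000000808001002800055600000)
noncomputable def n4 : Net := ben 8 [(nat_lit 0x33c001c3555c07d400000003554d54cd330c300),
 (nat_lit 0x1bba007700021a5000000000555f60201aaba00),
 (nat_lit 0x2a00bf0000bb11000000000606c0452a080808),
 (nat_lit 0x2b0b00000189900000000006f40e40f2f00a8),
 (nat_lit 0x20b800f800000000004000500000000f80),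
 (nat_lit 0xb0003800b0000000000040000000),
 (nat_lit 0xb000000000000000b000),
 (nat_lit 0xb000)]
noncomputable def t4 : List ℕ := [(nat_lit 0x7894a8aec308508154a5692c409295748350742),
 (nat_lit 0x66063fd7fcce500039322ddd003000648204074),
 (nat_lit 0x7fffc7d53ff102307f3e01e0000001707c40400),
 (nat_lit 0x7fffffd7fff9523000c1fe05123210000000000)]
noncomputable def d4 : ℕ := (nat_lit 0xa84800000002a805408200aa000)
noncomputable def n5 : Net := ben 8 [(nat_lit 0x3f003c3001740ccfcf30c3cc033410004003d0),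
 (nat_lit 0x505ff0ff07a50a050505205a0a570a0aa0a0a02),
 (nat_lit 0x33119944ff023788880077116e000000228804),
 (nat_lit 0x23d3d0a0a93926d6dc4c4797a0001000220a0),
 (nat_lit 0x410061908190110a5c0a5c0020412100000000),
 (nat_lit 0x38004c1a3c804d021a0000221a0000),
 (nat_lit 0x4c12f12843903fc45c16f32),
 (nat_lit 0x6db2f12)]
noncomputable def t5 : List ℕ := [(nat_lit 0x5ac060a1926724810bd884405162c7346149000),
 (nat_lit 0xc7824a222813c98034a80e8c42b3024017d340),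
 (nat_lit 0x778102cdf8c0c000038836e83c00002761a4c00),
 (nat_lit 0x7fe376effae7fcdd48f6b600fbeff7901000000)]
noncomputable def d5 : ℕ := (nat_lit 0x4891005100322800000100010000088000a8)
noncomputable def n6 : Net := ben 8 [(nat_lit 0x1c30003c015f00c4c33c00000c3c30f303d0001),
 (nat_lit 0x22a1abbfa3010a521a7a505f002aa0a0f0aa00),
 (nat_lit 0x4f08bbcc660800009b1504012a00cc09008800),
 (nat_lit 0x42020e4e4001010100003ecec616920200080),
 (nat_lit 0xe2000010800084008400000030),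
 (nat_lit 0x20098410200900000000ff847300),
 (nat_lit 0x20090000000000002009),
 (nat_lit 0x2009)]
noncomputable def t6 : List ℕ := [(nat_lit 0x53c259215632598f988a2bea21740903a452cc),
 (nat_lit 0x3691049f78910ec11038389f332060a01076500),
 (nat_lit 0x7ff971edfbffff5e7e281092bb1061342e70790),
 (nat_lit 0x7ffd7dffbfffdfdd81d0af65002e00001000000)]
noncomputable def d6 : ℕ := (nat_lit 0x20200000000000005000044c09c480000002)
noncomputable def n7 : Net := ben 8 [(nat_lit 0xd0f45d5d55450705555d0001557000734fc),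
 (nat_lit 0x11f30f19fb00500f00000b5a5a000a1050),
 (nat_lit 0x8802ccccde120000cc000888018f0089130e),
 (nat_lit 0x888888c2014404000c08080001980800010),
 (nat_lit 0x38003808000000000080808000008000),
 (nat_lit 0x40000800f84008000000000000800000),
 (nat_lit 0x8004000000000000800),
 (nat_lit 0x800)]
noncomputable def t7 : List ℕ := [(nat_lit 0x70b102f2040a037070a3180027073c22d4c0c6c),
 (nat_lit 0x7646c8af68080b3101fcd83340fc2420a6d8000),
 (nat_lit 0x4d9b32f16c11e008413000300004243f7800c00),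
 (nat_lit 0x7ffffaf36c19e33830c3d8c37ffbda400000000)]
noncomputable def d7 : ℕ := (nat_lit 0x40082a414000a002204000001000105110)
def ivl : List ℕ := []
def cols : List ℕ := [0, 1, 2, 3, 4, 5, 6, 7]
def hcols : List ℕ := [0, 1, 2, 3, 4, 5, 7]
def G0 : List (List ℕ) := [[0, 1, 0, 1, 0, 1, 0, 1],
 [0, 2, 0, 2],
 [1, 2, 1, 2, 1, 2, 1, 2],
 [0, 1, 0, 2, 1, 0, 2, 1, 0, 2, 1, 2],
 [0, 3, 0, 3],
 [1, 3, 1, 3],
 [2, 3, 2, 3, 2, 3, 2, 3],
 [1, 2, 1, 3, 2, 1, 3, 2, 1, 3, 2, 3],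
 [2, 4, 2, 4],
 [3, 4, 3, 4],
 [1, 4, 1, 4],
 [0, 4, 0, 4, 0, 4],
 [0, 1, 0, 1, 4, 0, 1, 0, 4],
 [3, 5, 3, 5],
 [1, 5, 1, 5, 1, 5],
 [0, 1, 0, 1, 5, 0, 5],
 [1, 2, 1, 2, 5, 2, 5],
 [0, 6, 0, 6],
 [2, 6, 2, 6, 2, 6],
 [1, 2, 1, 2, 6, 1, 6],
 [2, 3, 2, 3, 6, 3, 6],
 [0, 7, 0, 7],
 [1, 7, 1, 7],
 [2, 7, 2, 7],
 [3, 7, 3, 7, 3, 7],
 [2, 3, 2, 3, 7, 3, 2, 3, 7],
 [4, 7, 4, 7],
 [5, 7, 5, 7],
 [4, 6, 4, 6],
 [5, 6, 5, 6, 5, 6],
 [4, 5, 4, 5, 4, 5, 4, 5],
 [1, 4, 5, 1, 4, 5, 4, 1, 5],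
 [6, 7, 6, 7, 6, 7, 6, 7],
 [2, 6, 2, 7, 6, 2, 7, 6, 7]]
def R0 : List (List ℕ) := G0
theorem hii : ∀ c, ivOf ivl (ivOf ivl c) = c := ivOf_ivOf (by decide +kernel)
theorem der : Derives (ivOf ivl) R0 R0 := Derives.refl _ _
noncomputable def nl : List Net := [n0, n1, n2, n3, n4, n5, n6, n7]
noncomputable def T : TCData := ⟨155, 155, 8, 4, nth Net.nil nl, ivOf ivl, cols, hcols, R0,
  nth [] [t0, t1, t2, t3, t4, t5, t6, t7], nth 0 [d0, d1, d2, d3, d4, d5, d6, d7]⟩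
theorem hn : NetsOK 155 (nth Net.nil nl) := netsOK_of_all (by decide +kernel)
theorem hiv : IvOK (sg (nth Net.nil nl)) (ivOf ivl) :=
  ivOK_of_chk (k := 8) hn (by decide) (n := 8) (by decide) (by decide) (allN_true.1 (by decide +kernel))
theorem hb : T.Basic := TCData.basic_of_chk hn hiv (by decide +kernel)
theorem hG0 : ∀ r ∈ G0, ev (sg (nth Net.nil nl)) r = 1 :=
  rels_of_chk (k := 8) hn (by decide) hiv (allN_true.1 (by decide +kernel))
noncomputable def s0 : List TCData.Step := [.pts 0 0 0 13 [152],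
 .all 1 0 0,
 .all 4 0 0,
 .pts 15 0 0 12 [116],
 .all 15 2 0,
 .all 15 5 0,
 .all 17 0 0,
 .all 21 0 0]
noncomputable def s1 : List TCData.Step := [.pts 0 1 0 9 [74],
 .all 5 0 0,
 .all 10 0 0,
 .all 12 1 0,
 .all 12 6 0,
 .pts 14 0 0 3 [64],
 .pts 14 0 0 11 [112],
 .pts 15 1 0 11 [138],
 .pts 15 1 0 13 [124, 128, 150],
 .pts 15 3 0 11 [129],
 .pts 15 3 0 12 [114],
 .pts 15 3 0 13 [120, 126],
 .pts 16 0 0 10 [110],
 .pts 16 0 0 14 [132],
 .all 16 2 0,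
 .pts 19 0 0 8 [40],
 .pts 19 2 0 2 [2],
 .pts 19 2 0 8 [56, 87, 88],
 .all 19 5 0,
 .all 22 0 0,
 .pts 31 0 0 11 [92],
 .pts 31 7 0 9 [95],
 .pts 31 7 0 11 [99, 105],
 .pts 31 7 0 12 [102]]
noncomputable def s2 : List TCData.Step := [.all 1 1 0,
 .pts 2 1 0 9 [39, 44],
 .pts 2 1 0 12 [130],
 .pts 6 0 0 10 [59],
 .pts 6 0 0 13 [144],
 .all 8 0 0,
 .pts 16 1 0 5 [12, 26, 28],
 .pts 16 1 0 12 [108],
 .pts 16 3 0 11 [106],
 .all 16 5 0,
 .pts 18 0 0 12 [133],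
 .pts 19 1 0 7 [43, 54],
 .pts 19 1 0 8 [38],
 .pts 20 0 0 9 [48],
 .pts 20 0 0 10 [50],
 .pts 20 0 0 13 [141],
 .pts 23 0 0 3 [103],
 .pts 23 0 0 10 [104],
 .pts 25 0 0 10 [62],
 .pts 25 0 0 11 [73],
 .pts 25 0 0 13 [148],
 .pts 25 2 0 3 [21],
 .pts 25 2 0 12 [151],
 .all 25 6 0,
 .pts 33 5 0 5 [35],
 .pts 33 5 0 9 [77]]
noncomputable def s3 : List TCData.Step := [.all 4 1 0,
 .all 5 1 0,
 .all 9 0 0,
 .all 13 0 0,
 .all 20 1 0,
 .all 20 5 0,
 .pts 24 0 0 11 [73],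
 .pts 24 0 0 12 [97],
 .pts 25 1 0 15 [150],
 .pts 25 7 0 11 [62]]
noncomputable def s4 : List TCData.Step := [.all 8 1 0,
 .all 9 1 0,
 .pts 10 1 0 1 [9],
 .pts 10 1 0 9 [40],
 .all 11 1 0,
 .pts 12 4 0 13 [117, 152],
 .pts 12 4 0 14 [119, 120, 130, 149],
 .pts 12 8 0 9 [74],
 .pts 12 8 0 10 [136],
 .pts 12 8 0 14 [128, 133],
 .all 26 0 0,
 .all 28 0 0,
 .pts 30 0 0 2 [64],
 .pts 30 0 0 12 [96],
 .pts 31 1 0 5 [10],
 .pts 31 1 0 12 [108],
 .all 31 4 0,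
 .pts 31 6 0 11 [125],
 .pts 31 6 0 12 [112]]
noncomputable def s5 : List TCData.Step := [.all 13 1 0,
 .all 14 1 0,
 .all 15 4 0,
 .all 15 6 0,
 .all 16 4 0,
 .pts 16 6 0 7 [66],
 .pts 16 6 0 8 [53],
 .pts 16 6 0 11 [105],
 .all 27 0 0,
 .all 29 0 0,
 .pts 30 1 0 8 [98],
 .pts 30 1 0 11 [99],
 .pts 31 2 0 4 [19],
 .pts 31 5 0 2 [16],
 .pts 31 5 0 12 [127],
 .pts 31 8 0 3 [18],
 .pts 31 8 0 10 [125]]
noncomputable def s6 : List TCData.Step := [.all 17 1 0,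
 .all 18 1 0,
 .pts 19 4 0 6 [10],
 .pts 19 4 0 12 [138],
 .pts 19 4 0 13 [109],
 .all 19 6 0,
 .all 20 4 0,
 .pts 20 6 0 5 [21],
 .pts 20 6 0 10 [80],
 .all 28 1 0,
 .all 29 1 0,
 .pts 32 0 0 4 [36],
 .pts 32 0 0 5 [87],
 .pts 32 0 0 9 [69],
 .pts 33 1 0 1 [6],
 .pts 33 1 0 13 [95],
 .pts 33 1 0 15 [150],
 .pts 33 4 0 15 [120],
 .pts 33 7 0 11 [73]]
noncomputable def s7 : List TCData.Step := [.all 21 1 0,
 .all 22 1 0,
 .pts 23 1 0 1 [2, 98],
 .pts 23 1 0 11 [153],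
 .all 24 1 0,
 .all 25 4 0,
 .pts 25 8 0 8 [56],
 .pts 25 8 0 9 [53, 88],
 .all 26 1 0,
 .all 27 1 0,
 .pts 32 1 0 9 [39],
 .pts 33 3 0 7 [41],
 .pts 33 6 0 4 [32],
 .pts 33 6 0 10 [51, 58],
 .pts 33 8 0 15 [129]]
theorem hR0 : ∀ r ∈ R0, ev (sg (nth Net.nil nl)) r = 1 := hG0
theorem col0 : T.ColOK 0 := TCData.colOK_of_chk (U := (T.stepsMask 0 s0 (T.mask0 0))) (V := (T.stepsMask 0 s0 (T.mask0 0))) hb (TCData.cov_stepsMask hb (by decide) s0 _ (T.cov_mask0 0)) (TCData.cov_stepsMask hb (by decide) s0 _ (T.cov_mask0 0)) (by decide +kernel)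
theorem col1 : T.ColOK 1 := TCData.colOK_of_chk (U := (T.stepsMask 1 s1 (T.mask0 1))) (V := (T.stepsMask 1 s1 (T.mask0 1))) hb (TCData.cov_stepsMask hb (by decide) s1 _ (T.cov_mask0 1)) (TCData.cov_stepsMask hb (by decide) s1 _ (T.cov_mask0 1)) (by decide +kernel)
theorem col2 : T.ColOK 2 := TCData.colOK_of_chk (U := (T.stepsMask 2 s2 (T.mask0 2))) (V := (T.stepsMask 2 s2 (T.mask0 2))) hb (TCData.cov_stepsMask hb (by decide) s2 _ (T.cov_mask0 2)) (TCData.cov_stepsMask hb (by decide) s2 _ (T.cov_mask0 2)) (by decide +kernel)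
theorem col3 : T.ColOK 3 := TCData.colOK_of_chk (U := (T.stepsMask 3 s3 (T.mask0 3))) (V := (T.stepsMask 3 s3 (T.mask0 3))) hb (TCData.cov_stepsMask hb (by decide) s3 _ (T.cov_mask0 3)) (TCData.cov_stepsMask hb (by decide) s3 _ (T.cov_mask0 3)) (by decide +kernel)
theorem col4 : T.ColOK 4 := TCData.colOK_of_chk (U := (T.stepsMask 4 s4 (T.mask0 4))) (V := (T.stepsMask 4 s4 (T.mask0 4))) hb (TCData.cov_stepsMask hb (by decide) s4 _ (T.cov_mask0 4)) (TCData.cov_stepsMask hb (by decide) s4 _ (T.cov_mask0 4)) (by decide +kernel)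
theorem col5 : T.ColOK 5 := TCData.colOK_of_chk (U := (T.stepsMask 5 s5 (T.mask0 5))) (V := (T.stepsMask 5 s5 (T.mask0 5))) hb (TCData.cov_stepsMask hb (by decide) s5 _ (T.cov_mask0 5)) (TCData.cov_stepsMask hb (by decide) s5 _ (T.cov_mask0 5)) (by decide +kernel)
theorem col6 : T.ColOK 6 := TCData.colOK_of_chk (U := (T.stepsMask 6 s6 (T.mask0 6))) (V := (T.stepsMask 6 s6 (T.mask0 6))) hb (TCData.cov_stepsMask hb (by decide) s6 _ (T.cov_mask0 6)) (TCData.cov_stepsMask hb (by decide) s6 _ (T.cov_mask0 6)) (by decide +kernel)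
theorem col7 : T.ColOK 7 := TCData.colOK_of_chk (U := (T.stepsMask 7 s7 (T.mask0 7))) (V := (T.stepsMask 7 s7 (T.mask0 7))) hb (TCData.cov_stepsMask hb (by decide) s7 _ (T.cov_mask0 7)) (TCData.cov_stepsMask hb (by decide) s7 _ (T.cov_mask0 7)) (by decide +kernel)
theorem ok : T.OK := ⟨hb, TCData.treeOK_of_chk hn (by decide +kernel), (List.forall_mem_cons.2 ⟨col0, (List.forall_mem_cons.2 ⟨col1, (List.forall_mem_cons.2 ⟨col2, (List.forall_mem_cons.2 ⟨col3, (List.forall_mem_cons.2 ⟨col4, (List.forall_mem_cons.2 ⟨col5, (List.forall_mem_cons.2 ⟨col6, (List.forall_mem_cons.2 ⟨col7, (fun _ h => absurd h List.not_mem_nil)⟩)⟩)⟩)⟩)⟩)⟩)⟩)⟩), der _ _ hiv hR0⟩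
theorem bd {G : Type} [Group G] {e : ℕ → G} (h1 : IvOK e (ivOf ivl)) (h2 : ∀ r ∈ R0, ev e r = 1)
    {m : ℕ} (h : Bd (gen e hcols) m) : Bd (gen e cols) (155 * m) := ok.bd h1 (der G e h1 h2) h
theorem cm {G : Type} [Group G] {e : ℕ → G} (h1 : IvOK e (ivOf ivl)) (h2 : ∀ r ∈ R0, ev e r = 1)
    (h3 : gen e cols = ⊤) {ρ : G →* Equiv.Perm ℕ} (h4 : ∀ c, ρ (e c) = sg (nth Net.nil nl) c) :
    CosetModel ρ (gen e hcols) 155 := ok.cosetModel h1 (der G e h1 h2) h3 fun c _ => h4 c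

end H28.HTpp2
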