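import Mathlib
import Cfsg.Agent.H28.HC2
import Cfsg.Agent.H28.HT0
import Cfsg.Agent.H28.HTa
import Cfsg.Agent.H28.HTb
import Cfsg.Agent.H28.HTpp2
import Cfsg.Agent.H28.HTpq2
import Cfsg.Agent.H28.HTqp2
import Cfsg.Agent.H28.HTqq2.R

/-! Computations for the relators of the amalgam. -/

set_option autoImplicit false
set_option maxRecDepth 100000
set_option synthInstance.maxSize 4096
set_option Elab.async false

namespace H28

namespace Held

open H29

/-- elements whose centraliser is `U`. -/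
def gU (i : Bool) : List Hc := [zc, uu i, uu (!i), ww (!i)]
/-- generators of the normaliser of the element of order three. -/
noncomputable def kg (i o : Bool) : ℕ → Hc := nth 1 [tt i, xx i, ss i * cc o, yy i o]
/-- words in these generators. -/
noncomputable def wK (i : Bool) : ℕ → List ℕ :=
  nth [] (cond i [[0], [], [2], [1, 3, 1, 1], [], [], [1, 2]] [[1, 3, 1, 1], [2], [], [0], [], [1, 2]])
/-- translation parts of the letters. -/
noncomputable def AH (i o : Bool) : ℕ → Hc := nth 1 (cond i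
  (cond o [1, ⟪17043649⟫, zc, ⟪17043541⟫, 1, 1, zc] [1, ⟪17043649⟫])
  (cond o [⟪17059921⟫, zc, ⟪17051713⟫, 1, 1, zc] [1, 1, ⟪17051713⟫]))
/-- letters of the centraliser that normalise `U`. -/
def LH (i : Bool) : List ℕ := cond i [0, 1, 2, 3, 6] [0, 1, 2, 3, 5]
/-- the new letter. -/
def nw (i : Bool) : ℕ := cond i 4 7
/-- the twist between the two elements of order three. -/
def dl (m : ℕ) : Hc :=
  cond (om m true) (cond (om m false) bb (uu false)) (cond (om m false) (uu true) 1)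
/-- action on `R`. -/
noncomputable def sM (m : ℕ) (i : Bool) : Hc → Hc := sR i (om m i)
/-- linear parts of the letters. -/
noncomputable def FL (m c : ℕ) (v : Hc) : Hc :=
  cond (Nat.beq c 4) (tt true * sM m true v * tt true)
    (cond (Nat.beq c 7) (tt false * sM m false v * tt false) (lt c * v * lt c))
/-- translation parts of the letters. -/
noncomputable def AL (m : ℕ) (i : Bool) (c : ℕ) : Hc :=
  cond (Nat.beq c (nw i)) 1 (cond (Nat.beq c (nw (!i)))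
    (tt (!i) * (dl m * sM m (!i) (dl m)) * tt (!i) * AH i (om m i) (cond i 3 0)) (AH i (om m i) c))
/-- linear part of a word. -/
noncomputable def evF (F : ℕ → Hc → Hc) (w : List ℕ) (v : Hc) : Hc :=
  List.rec (motive := fun _ => Hc) v (fun c _ ih => frc ih (F c)) w
/-- translation part of a word. -/
noncomputable def evA (F : ℕ → Hc → Hc) (A : ℕ → Hc) (w : List ℕ) : Hc :=
  List.rec (motive := fun _ => Hc) 1 (fun c _ ih => frc ih (F c) * A c) w

theorem chk_AL : ∀ m ∈ [3, 5, 23, 87, 151, 215], ∀ i : Bool, (∀ c ∈ LH i,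
    lt c = AL m i c * ev (kg i (om m i)) (wK i c)) ∧
    ∀ c ∈ 4 :: 7 :: LH i, AL m i c ∈ Uc i ∧ ∀ v ∈ Uc i, FL m c v ∈ Uc i := by decide +kernel

theorem sM_U : ∀ m ∈ [3, 5, 23, 87, 151, 215], ∀ i : Bool, ∀ v ∈ Zc, sM m i v ∈ Zc := by
  decide +kernel

/-- a relator of the centraliser. -/
abbrev chkH (r : List ℕ) : Prop := (∀ c ∈ r, c ∈ [0, 1, 2, 3, 5, 6]) ∧ ev lt r = 1
/-- a relator of the normaliser of `U`. -/
abbrev chkM (m : ℕ) (i : Bool) (L r : List ℕ) : Prop :=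
  (∀ c ∈ r, c ∈ L) ∧ (∀ v ∈ gU i, evF (FL m) r v = v) ∧ evA (FL m) (AL m i) r = 1
/-- a relator of the amalgam. -/
abbrev chkR (m : ℕ) (r : List ℕ) : Prop :=
  chkH r ∨ chkM m true (4 :: 7 :: LH true) r ∨ chkM m false (4 :: 7 :: LH false) r

theorem rel_pp : ∀ r ∈ HTpp2.R0, chkR 23 r := by decide +kernel
theorem rel_pq : ∀ r ∈ HTpq2.R0, chkR 87 r := by decide +kernel
theorem rel_qp : ∀ r ∈ HTqp2.R0, chkR 151 r := by decide +kernel
theorem rel_qq : ∀ r ∈ HTqq2.R0, chkR 215 r := by decide +kernel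

/-- action on `V`. -/
def lV (i : Bool) : List (ℕ × Hc × Hc) :=
  (cond i 19 1, tt (!i), tt (!i)) :: (cond i 14 2, ww i, ww i) :: lZ i
/-- action of the letters on `V`. -/
noncomputable def FV (i : Bool) (c : ℕ) (v : Hc) : Hc :=
  cond (Nat.beq c (nw i)) (tt i * sig (lV i) v * tt i) (lt c * v * lt c)
/-- a relator detected on `V`. -/
abbrev chkV (i : Bool) (r : List ℕ) : Prop := r = powW 5 (r.take 5) ∧
  (∀ c ∈ r.take 5, c ∈ nw i :: [0, 1, 2, 3, 5, 6]) ∧ (∀ v ∈ Vc i, evF (FV i) r v = v) ∧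
  ∀ v ∈ Vc i, evF (FV i) (r.take 5) v = v → v = 1

theorem rel_ab (i : Bool) : ∀ r ∈ cond i HTb.R0 HTa.R0,
    chkH r ∨ chkM (cond i 5 3) i (nw i :: LH i) r ∨ chkV i r := by cases i <;> decide +kernel

theorem chk_V (i : Bool) : (∀ c ∈ nw i :: [0, 1, 2, 3, 5, 6], ∀ v ∈ Vc i, FV i c v ∈ Vc i) ∧
    (∀ v ∈ Vc i, rem (lV i) v = 1 ∧ v ∈ Tc ∧ v * v = 1 ∧ (v ≠ 1 → (cond i 5 3).testBit (cls v))) ∧
    (∀ k < 8, (cond i 5 3).testBit k → rep k ∈ Vc i) ∧
    (∀ x ∈ [zc, uu i, tt (!i), ww i], x ∈ Vc i) ∧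
    (∀ x ∈ lV i, x.2.1 * x.2.1 = 1) ∧ ev (kg i false) [1, 3, 1, 1] = tt (!i) ∧
    (∀ v ∈ Vc i, ∀ w ∈ Vc i, v * w = w * v ∧ (uu (!i) * v ≠ v * uu (!i) →
      uu (!i) * w ≠ w * uu (!i) → uu (!i) * (v * w) = v * w * uu (!i))) ∧
    uu (!i) * tt (!i) * tt i ≠ tt (!i) * tt i * uu (!i) := by
  cases i <;> decide +kernel

theorem chk_comm : ∀ m ∈ [23, 87, 151, 215], ∀ i : Bool, ∀ v ∈ gU i,
    sM m false (sM m true (sM m false (sM m false (sM m true (sM m true v))))) = v := by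
  decide +kernel

/-- the condition for commuting elements of order three. -/
abbrev EE (m : ℕ) (h d : Hc) : Prop :=
  d * sM m false d * h * sM m true (sM m false d * d) = 1
/-- test words. -/
def ns (m : ℕ) : List (List ℕ) :=
  cond (om m true) (cond (om m false) [[0, 1, 0, 1, 3], [0, 2, 3, 2, 3]] [[0], [1, 0, 1, 3]])
    (cond (om m false) [[3], [0, 2, 3, 2]] [[0], [3]])

theorem chk_dl : ∀ m ∈ [23, 87, 151, 215], dl m ∈ Zc ∧ (∀ w ∈ ns m, (∀ c ∈ w, c ∈ [0, 1, 2, 3]) ∧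
      (∀ i : Bool, evA (FL m) (AL m i) w ∈ Zc) ∧ ∀ d ∈ Zc, evF (FL m) w d ∈ Zc) ∧
    ∀ h ∈ Zc, (∃ d ∈ Zc, EE m h d) ∧ ∀ d ∈ Zc, EE m h d → (∀ w ∈ ns m, EE m h
      (evA (FL m) (AL m true) w * evF (FL m) w d * evA (FL m) (AL m false) w)) →
      d = dl m ∨ d = dl m * zc := by decide +kernel

/-- ranks of the classes. -/
noncomputable def rk : ℕ → ℕ := nth 9 [0, 1, 1, 0, 2, 1, 2, 2]

theorem chk_fuse : ∀ m ∈ [23, 87, 151, 215], ∀ k < 8, k = 0 ∨ k = 3 ∨ ∃ j : Bool, ∃ d ∈ Rc,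
    d * d = 1 ∧ cls d = k ∧ rk (cls (sM m j d)) < rk k := by decide +kernel

theorem conj_tB : ∀ h : Hc, (frc (h * tB * hinv h) fun b => decide
    ((b ∈ Uc true → h ∈ Pc true) ∧ (b ∈ Uc false → h ∈ Pc false))) = true := by decide +kernel

/-- the four-group. -/
def lE : List Hc := [1, tB, eB, tB * eB]

theorem cen_E : ∀ h : Hc, h * tB = tB * h → h * eB = eB * h → h ∈ Rc := by decide +kernel

theorem chk_E : ∀ m ∈ [23, 87, 151, 215], ∀ i : Bool, (∀ j ∈ Uc i, j ∉ lE →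
      ∃ a ∈ lE, m.testBit (cls (j * a)) = true) ∧
    ∀ a ∈ Uc i, a ≠ 1 → a ≠ tB → m.testBit (cls a) = false → m.testBit (cls (a * tB)) = false →
      cntP (psU i) (fun d => m.testBit (cls d) = true ∧ m.testBit (cls (d * tB)) = true ∧
        m.testBit (cls (d * a)) = true) =
      cntP (psU i) (fun d => m.testBit (cls d) = true ∧ m.testBit (cls (d * tB)) = true ∧
        m.testBit (cls (d * eB)) = true) → a = eB ∨ a = eB * tB := by decide +kernel

theorem chk_Z : ∀ a ∈ Zc, a ≠ 1 → (23 : ℕ).testBit (cls a) = false →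
    cntP psT (fun b => b * a = a * b) ≤ 512 ∧ ∀ b ∈ Zc, b ≠ 1 → (23 : ℕ).testBit (cls b) = false →
      a * b ≠ 1 → (23 : ℕ).testBit (cls (a * b)) = false →
      ∀ c ∈ Tc, c * a = a * c → c * b = b * c → c ∈ Rc := by decide +kernel

theorem card_S : cntP psT (fun b => b * tB = tB * b) = 512 := by decide +kernel

theorem chk_Zm : ∀ m ∈ [23, 87, 151, 215], ∀ a ∈ Zc,
    m.testBit (cls a) = (23 : ℕ).testBit (cls a) := by decide +kernel

theorem chk_RE : ∀ d ∈ Rc, d * d * (d * d) = 1 ∧ (d * d ∈ lE → d ∈ Uc true ∨ d ∈ Uc false) := by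
  decide +kernel

theorem chk_Q : (∀ c ∈ [0, 1, 2, 3, 5, 6], ∀ a ∈ Qc, lt c * a * lt c ∈ Qc) ∧
    (∀ a ∈ Qc, a * a * (a * a) = 1) ∧ ∀ a ∈ gU true, a ∈ Qc := by decide +kernel

theorem chk_nc : ∀ m ∈ [23, 87, 151], ∀ a ∈ lE, ∃ b ∈ lE, m.testBit (cls (zc * b)) = true ∧
    m.testBit (cls (ww (m == 87) * a * b)) = false := by decide +kernel

theorem chk_He : (∀ r ∈ [[4, 6, 7, 6, 4, 4, 6, 7, 6, 4], powW 5 [2, 4, 6, 7, 6, 4]],
      chkM 215 true (4 :: 7 :: LH true) r) ∧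
    (∀ v ∈ [tB, eB], evF (FL 215) [4, 6, 7, 6, 4] v = v) ∧
    evF (FL 215) [2, 4, 6, 7, 6, 4] zc ≠ zc := by decide +kernel

end Held

end H28
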