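import Mathlib
import Cfsg.Agent.H28.HC2
import Cfsg.Agent.H28.GrpLem

/-! Groups with the involution centraliser of `L₅(2)`: Sylow subgroup and fusion. -/

set_option autoImplicit false
set_option linter.unusedSectionVars false

namespace H28

theorem exists_norm {G : Type*} [Group G] [Finite G] {p : ℕ} [Fact p.Prime] {P Q : Subgroup G}
    (hP : IsPGroup p P) (hne : ¬ P ≤ Q) :
    ∃ g ∈ P, g ∉ Q ∧ ∀ x ∈ P, x ∈ Q → g * x * g⁻¹ ∈ Q := by
  have := hP.isNilpotent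
  obtain ⟨g, h1, h2⟩ := SetLike.exists_of_lt (Group.normalizerCondition_of_isNilpotent (Q.subgroupOf P)
    (lt_top_iff_ne_top.2 fun h => hne (Subgroup.subgroupOf_eq_top.1 h)))
  exact ⟨g, g.2, h2, fun x hx hq => (Subgroup.mem_normalizer_iff.1 h1 ⟨x, hx⟩).1 hq⟩

theorem exists_two_over {G : Type*} [Group G] [Finite G] {p : ℕ} [Fact p.Prime]
    {K A B : Subgroup G} (hA : IsPGroup p A) (hB : IsPGroup p B) (h1 : A ≤ K) (h2 : B ≤ K) :
    ∃ c ∈ K, ∃ S : Subgroup G, IsPGroup p S ∧ A ≤ S ∧ ∀ x ∈ B, c * x * c⁻¹ ∈ S := by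
  obtain ⟨P, hP⟩ := (hA.comap_of_injective K.subtype K.subtype_injective).exists_le_sylow
  obtain ⟨g, hg⟩ := exists_conj_le _ (P : Subgroup K)
    (hB.comap_of_injective K.subtype K.subtype_injective) P.not_dvd_index
  exact ⟨g⁻¹, K.inv_mem g.2, P.1.map K.subtype, P.2.map _, fun x hx => ⟨⟨x, h1 hx⟩, hP hx, rfl⟩,
    fun x hx => ⟨_, hg ⟨x, h2 hx⟩ hx, by simp⟩⟩

namespace Held

variable {G : Type*} [Group G] [Finite G] {φ : Hc →* G}

/-- `φ` is an isomorphism onto the centraliser of `φ z`. -/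
structure HS (φ : Hc →* G) : Prop where
  inj : Function.Injective φ
  cen : ∀ g : G, g * φ zc = φ zc * g → ∃ h, φ h = g

/-- `g` conjugates `a` to `b`. -/
def Cj (φ : Hc →* G) (g : G) (a b : Hc) : Prop := g * φ a * g⁻¹ = φ b

section
variable {g g' : G} {a b c a' b' : Hc}

theorem Cj.mul (h : Cj φ g a b) (h' : Cj φ g a' b') : Cj φ g (a * a') (b * b') := by
  rw [Cj, map_mul, map_mul, ← h, ← h']; group

theorem Cj.inv (h : Cj φ g a b) : Cj φ g a⁻¹ b⁻¹ := by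
  rw [Cj, map_inv, map_inv, ← h]; group

theorem cj_one (g : G) : Cj φ g 1 1 := by simp [Cj]

theorem cj_refl (a : Hc) : Cj φ 1 a a := by simp [Cj]

theorem Cj.comp (h' : Cj φ g b c) (h : Cj φ g' a b) : Cj φ (g * g') a c := by
  rw [Cj, ← h', ← h]; group

theorem Cj.symm (h : Cj φ g a b) : Cj φ g⁻¹ b a := by
  rw [Cj, ← h]; group

theorem cj_of {h : Hc} (e : h * a = b * h) : Cj φ (φ h) a b := by
  rw [Cj, ← map_mul, e, map_mul, mul_inv_cancel_right]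

theorem Cj.congr (h : Cj φ g a b) (e : a = a') (e' : b = b') : Cj φ g a' b' := e ▸ e' ▸ h

theorem Cj.comm (h : Cj φ g a a) : g * φ a = φ a * g := mul_inv_eq_iff_eq_mul.1 h

theorem cj_of_comm (h : g * φ a = φ a * g) : Cj φ g a a := mul_inv_eq_iff_eq_mul.2 h

theorem HS.uniq (H : HS φ) (h : Cj φ g a b) (h' : Cj φ g a b') : b = b' :=
  H.inj (Eq.trans (Eq.symm h) h')

theorem HS.cinj (H : HS φ) (h : Cj φ g a b) (h' : Cj φ g a' b) : a = a' := H.uniq h.symm h'.symm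

theorem HS.eq (H : HS φ) {h : Hc} (e : Cj φ (φ h) a b) : h * a = b * h :=
  H.inj (by rw [map_mul, map_mul]; exact mul_inv_eq_iff_eq_mul.1 e)

theorem HS.comm (H : HS φ) (h : Cj φ g a b) (h' : Cj φ g a' b') (e : a * a' = a' * a) :
    b * b' = b' * b := H.uniq (h.mul h') (e ▸ h'.mul h)

theorem HS.sq (H : HS φ) (h : Cj φ g a b) (e : a * a = 1) : b * b = 1 :=
  H.uniq (h.mul h) ((cj_one g).congr e.symm rfl)

theorem HS.ne_one (H : HS φ) (h : Cj φ g a b) (e : a ≠ 1) : b ≠ 1 := fun e' =>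
  e (H.cinj h ((cj_one g).congr rfl e'.symm))

theorem HS.of_cj (H : HS φ) (h : Cj φ g zc zc) : ∃ h, φ h = g := H.cen g h.comm

/-- an element that commutes with the preimage of `z` is carried into the centraliser. -/
theorem HS.exists_cj (H : HS φ) (h : Cj φ g a zc) (e : b * a = a * b) : ∃ c, Cj φ g b c := by
  obtain ⟨c, hc⟩ := H.cen (g * φ b * g⁻¹) (by
    rw [← h, conj_mul, conj_mul, ← map_mul, ← map_mul, e])
  exact ⟨c, hc.symm⟩

end

/-- `g` conjugates `A` into `B`. -/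
def Mp (φ : Hc →* G) (g : G) (A B : Subgroup Hc) : Prop := ∀ a ∈ A, ∃ b ∈ B, Cj φ g a b

theorem Mp.comp {g g' : G} {A B C : Subgroup Hc} (h' : Mp φ g B C) (h : Mp φ g' A B) :
    Mp φ (g * g') A C := fun a ha => by
  obtain ⟨b, hb, e⟩ := h a ha
  obtain ⟨c, hc, e'⟩ := h' b hb
  exact ⟨c, hc, e'.comp e⟩

theorem HS.mp_symm (H : HS φ) {g : G} {A B : Subgroup Hc} (h : Mp φ g A B)
    (hc : Nat.card B ≤ Nat.card A) : Mp φ g⁻¹ B A := fun b hb => by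
  choose f h1 h2 using h
  have : Function.Injective fun a : A => (⟨f a a.2, h1 a a.2⟩ : B) := fun a a' e =>
    Subtype.ext (H.cinj (h2 a a.2) ((h2 a' a'.2).congr rfl (Subtype.ext_iff.1 e).symm))
  obtain ⟨a, ha⟩ := (this.bijective_of_nat_card_le hc).2 ⟨b, hb⟩
  exact ⟨a, a.2, ((h2 a a.2).congr rfl (Subtype.ext_iff.1 ha)).symm⟩

/-- the normaliser of the image of `A`. -/
def Nm (φ : Hc →* G) (A : Subgroup Hc) : Subgroup G :=
  subOf (fun g => Mp φ g A A) (fun a ha => ⟨a, ha, cj_refl a⟩) fun _ _ => Mp.comp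

theorem mem_Nm {g : G} {A : Subgroup Hc} : g ∈ Nm φ A ↔ Mp φ g A A := Iff.rfl

theorem HS.mem_of_nm (H : HS φ) {g : G} {A : Subgroup Hc} (hg : g ∈ Nm φ A) {a b : Hc}
    (h : Cj φ g a b) : a ∈ A ↔ b ∈ A := by
  constructor
  · intro ha
    obtain ⟨c, hc, e⟩ := hg a ha
    rwa [H.uniq h e]
  · intro hb
    obtain ⟨c, hc, e⟩ := (Nm φ A).inv_mem hg b hb
    rwa [H.uniq h.symm e]

theorem two_Tc {A : Subgroup Hc} (h : A ≤ Tc) : IsPGroup 2 A :=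
  (IsPGroup.of_card card_Tc).to_le h

theorem HS.norm_T (H : HS φ) {g : G} (h : Mp φ g Tc Tc) : ∃ h, φ h = g := by
  obtain ⟨w, hw, e⟩ := h zc (Rc_le_Tc (Uc_le_Rc true (zc_mem true)))
  have k : ∀ b ∈ Tc, w * b = b * w := fun b hb => by
    obtain ⟨a, -, e'⟩ := H.mp_symm h le_rfl b hb
    exact H.comm e (by simpa using e'.symm) (zc_comm a).symm
  refine H.of_cj (e.congr rfl ((center_Tc w hw (k _ ?_) (k _ ?_) (k _ ?_) (k _ ?_)).resolve_left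
    (H.ne_one e ?_))) <;> decide +kernel

theorem eq_Tc {P : Subgroup Hc} (hP : IsPGroup 2 P) (h : Tc ≤ P) : P ≤ Tc := by
  obtain ⟨k, hk⟩ := hP.exists_card_eq
  have h1 := P.card_subgroup_dvd_card
  rw [hk, Hc.card] at h1
  have h2 : k ≤ 10 := by
    by_contra h2
    exact absurd ((pow_dvd_pow 2 (show 11 ≤ k by omega)).trans h1) (by norm_num)
  exact (eq_of_le_of_card_le h (by
    rw [hk, card_Tc]; exact Nat.pow_le_pow_right (by norm_num) h2)).ge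

theorem HS.maxT (H : HS φ) {P : Subgroup G} (h0 : IsPGroup 2 P) (hP : Tc.map φ ≤ P) :
    P ≤ Tc.map φ := by
  by_contra h
  obtain ⟨g, h1, h2, h3⟩ := exists_norm h0 h
  obtain ⟨k, rfl⟩ := H.norm_T (g := g) fun a ha => by
    obtain ⟨b, hb, e⟩ := h3 _ (hP ⟨a, ha, rfl⟩) ⟨a, ha, rfl⟩
    exact ⟨b, hb, e.symm⟩
  exact h2 ⟨k, eq_Tc (h0.comap_of_injective φ H.inj) (fun a ha => hP ⟨a, ha, rfl⟩) h1, rfl⟩

theorem HS.sylow (H : HS φ) : ¬ 2 ∣ (Tc.map φ).index := by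
  obtain ⟨P, hP⟩ := ((two_Tc le_rfl).map φ).exists_le_sylow
  rw [le_antisymm hP (H.maxT P.2 hP)]
  exact P.not_dvd_index

theorem HS.into_T (H : HS φ) {S : Subgroup G} (hS : IsPGroup 2 S) :
    ∃ h : G, ∀ x ∈ S, ∃ b ∈ Tc, h * x * h⁻¹ = φ b := by
  obtain ⟨g, hg⟩ := exists_conj_le S _ hS H.sylow
  refine ⟨g⁻¹, fun x hx => ?_⟩
  obtain ⟨b, hb, e⟩ := hg x hx
  exact ⟨b, hb, by rw [e, inv_inv]⟩

theorem cj_sift {g : G} {l : List (ℕ × Hc × Hc)}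
    (hl : ∀ x ∈ l, Cj φ g x.2.1 x.2.2 ∧ x.2.1 * x.2.1 = 1) {a : Hc} (h : rem l a = 1) :
    Cj φ g a (sig l a) := sift_ind (cj_one g) (fun _ _ _ _ => Cj.mul) l hl a h

theorem mp_sift {g : G} {l : List (ℕ × Hc × Hc)} {A B : Subgroup Hc}
    (hl : ∀ x ∈ l, (∃ b ∈ B, Cj φ g x.2.1 b) ∧ x.2.1 * x.2.1 = 1) (h : ∀ a ∈ A, rem l a = 1) :
    Mp φ g A B := fun a ha =>
  sift_ind (P := fun a _ => ∃ b ∈ B, Cj φ g a b) ⟨1, B.one_mem, cj_one g⟩
    (fun _ _ _ _ ⟨_, h1, h2⟩ ⟨_, h3, h4⟩ => ⟨_, B.mul_mem h1 h3, h2.mul h4⟩) l hl a (h a ha)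

theorem cj_hinv (h a : Hc) : Cj φ (φ h) a (h * a * hinv h) := cj_of (by simp [hinv_eq])

theorem cj_invol {h : Hc} (e : h * h = 1) (a : Hc) : Cj φ (φ h) a (h * a * h) :=
  cj_of (by rw [mul_assoc, e, mul_one])

theorem P_nm (i : Bool) {p : Hc} (hp : p ∈ Pc i) : φ p ∈ Nm φ (Uc i) := by
  have h : ∀ x ∈ lU i, x.2.1 * x.2.1 = 1 := by cases i <;> decide +kernel
  exact mp_sift (fun x hx => ⟨⟨_, P_norm i p hp x hx, cj_hinv _ _⟩, h x hx⟩)
    fun a ha => (chk_U i a ha).1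

theorem nm_R {g : G} (h : ∀ i, g ∈ Nm φ (Uc i)) : g ∈ Nm φ Rc := by
  have k : ∀ x ∈ lR true false false, (x.2.1 ∈ Uc true ∨ x.2.1 ∈ Uc false) ∧
    x.2.1 * x.2.1 = 1 := by decide +kernel
  refine mp_sift (fun x hx => ⟨?_, (k x hx).2⟩) fun a ha => (chk_R true false false a ha).1
  rcases (k x hx).1 with e | e <;>
  · obtain ⟨b, hb, e'⟩ := h _ _ e
    exact ⟨b, Uc_le_Rc _ hb, e'⟩

theorem Uc_le_Tc (i : Bool) : Uc i ≤ Tc := (Uc_le_Rc i).trans Rc_le_Tc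

theorem two_map {A : Subgroup Hc} (h : A ≤ Tc) (g : G) :
    IsPGroup 2 ((A.map φ).map (MulAut.conj g).toMonoidHom) := ((two_Tc h).map φ).map _

theorem HS.not_mp (H : HS φ) (g : G) : ¬ Mp φ g (Uc true) (Uc false) := fun h => by
  obtain ⟨c, hc, S, h1, h2, h3⟩ := exists_two_over (K := Nm φ (Uc false))
    ((two_Tc le_rfl).map φ) (two_map (φ := φ) le_rfl g)
    (by rintro _ ⟨t, ht, rfl⟩; exact P_nm _ (Tc_le_Pc _ ht)) (by
      rintro _ ⟨_, ⟨t, ht, rfl⟩, rfl⟩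
      exact (h.comp (P_nm _ (Tc_le_Pc _ ht))).comp (H.mp_symm h (by rw [card_Uc, card_Uc])))
  obtain ⟨k, hk⟩ := H.norm_T (g := c * g) fun a ha => by
    obtain ⟨b, hb, e⟩ := H.maxT h1 h2 (h3 _ ⟨_, ⟨a, ha, rfl⟩, rfl⟩)
    exact ⟨b, hb, by rw [Cj, e]; simp [mul_assoc]⟩
  have h4 : ∀ a ∈ Uc true, k * a * hinv k ∈ Uc false := fun a ha => by
    obtain ⟨b, hb, e⟩ := Mp.comp hc h a ha
    rwa [H.uniq (cj_hinv k a) (hk ▸ e)]
  exact not_conj_U k (h4 _ (by decide +kernel)) (h4 _ (by decide +kernel))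

theorem ncard_Uc (i : Bool) : (Uc i : Set Hc).ncard = 64 := card_Uc i

/-- weak closure. -/
theorem HS.weak (H : HS φ) {g : G} {i : Bool} (h : Mp φ g (Uc i) Tc) : g ∈ Nm φ (Uc i) := by
  choose! f h1 h2 using h
  have h3 : ∀ a ∈ Uc i, f a ∈ Uc true ∨ f a ∈ Uc false := fun a ha => by
    refine or_assoc.2 (big_Tc _ (h1 a ha) (H.sq (h2 a ha) (Uc_sq i a ha))) |>.resolve_right ?_
    rw [← ncard_cntP (by decide +kernel) (by decide), not_lt, ← ncard_Uc i]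
    exact Set.ncard_le_ncard_of_injOn f (fun b hb => ⟨h1 b hb, H.sq (h2 b hb) (Uc_sq i b hb),
      H.comm (h2 a ha) (h2 b hb) (Uc_comm i ha hb)⟩)
      fun b hb c hc e => H.cinj (h2 b hb) (e ▸ h2 c hc)
  have h4 : (∀ a ∈ Uc i, f a ∈ Uc true) ∨ ∀ a ∈ Uc i, f a ∈ Uc false := by
    by_contra! k
    obtain ⟨⟨a, ha, k1⟩, b, hb, k2⟩ := k
    have := h3 _ ((Uc i).mul_mem ha hb)
    rw [H.uniq (h2 _ ((Uc i).mul_mem ha hb)) ((h2 a ha).mul (h2 b hb))] at this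
    rcases this with k | k
    · exact k1 (((Uc true).mul_mem_cancel_right ((h3 b hb).resolve_right k2)).1 k)
    · exact k2 (((Uc false).mul_mem_cancel_left ((h3 a ha).resolve_left k1)).1 k)
  have h5 : ∀ j, (∀ a ∈ Uc i, f a ∈ Uc j) → Mp φ g (Uc i) (Uc j) :=
    fun j k a ha => ⟨_, k a ha, h2 a ha⟩
  cases i
  · exact h4.elim (fun k => absurd (H.mp_symm (h5 _ k) (by rw [card_Uc, card_Uc])) (H.not_mp _))
      (h5 _)
  · exact h4.elim (h5 _) fun k => absurd (h5 _ k) (H.not_mp _)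

theorem HS.control (H : HS φ) {K : Subgroup G} {A : Subgroup Hc} {g : G} (hA : A ≤ Tc)
    (h1 : ∀ a ∈ A, φ a ∈ K) (h2 : ∀ a ∈ A, g * φ a * g⁻¹ ∈ K) :
    ∃ c ∈ K, ∀ i, Uc i ≤ A → c * g ∈ Nm φ (Uc i) := by
  obtain ⟨c, hc, S, k1, k2, k3⟩ := exists_two_over (K := K) ((two_Tc hA).map φ)
    (two_map (φ := φ) hA g) (by rintro _ ⟨t, ht, rfl⟩; exact h1 t ht)
    (by rintro _ ⟨_, ⟨t, ht, rfl⟩, rfl⟩; exact h2 t ht)
  obtain ⟨h, hh⟩ := H.into_T k1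
  refine ⟨c, hc, fun i hi => ((Nm φ (Uc i)).mul_mem_cancel_left (x := h)
    (H.weak fun a ha => hh _ (k2 ⟨a, hi ha, rfl⟩))).1 (H.weak fun a ha => ?_)⟩
  obtain ⟨b, hb, e⟩ := hh _ (k3 _ ⟨_, ⟨a, hi ha, rfl⟩, rfl⟩)
  exact ⟨b, hb, by rw [Cj, ← e]; simp [mul_assoc]⟩

theorem HS.fuse (H : HS φ) {A : Subgroup Hc} {g : G} {a b : Hc} (hA : A ≤ Tc) (h : Cj φ g a b)
    (h1 : ∀ x ∈ A, x * a = a * x) (h2 : ∀ x ∈ A, x * b = b * x) :
    ∃ n, Cj φ n a b ∧ ∀ i, Uc i ≤ A → n ∈ Nm φ (Uc i) := by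
  obtain ⟨c, hc, k⟩ := H.control (K := Subgroup.centralizer {φ b}) (g := g) hA
    (fun x hx => Subgroup.mem_centralizer_singleton_iff.2 (by rw [← map_mul, h2 x hx, map_mul]))
    fun x hx => Subgroup.mem_centralizer_singleton_iff.2 (by
      rw [← h, conj_mul, conj_mul, ← map_mul, h1 x hx, map_mul])
  exact ⟨_, (cj_of_comm (Subgroup.mem_centralizer_singleton_iff.1 hc)).comp h, k⟩

theorem HS.not_cj_B (H : HS φ) {k k' : ℕ} (hk : k ∈ [0, 1, 2, 4]) (hk' : k' = 3 ∨ k' = 5) (g : G) :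
    ¬ Cj φ g (rep k) (rep k') := fun h => by
  have h0 : k < 6 := by simp at hk; omega
  obtain ⟨n, h1, h2⟩ := H.fuse Rc_le_Tc h
    (fun x hx => (Zc_comm ((rep_spec k (by omega)).2.2.2 h0) hx).symm)
    fun x hx => (Zc_comm ((rep_spec k' (by omega)).2.2.2 (by omega)) hx).symm
  obtain ⟨a, ha, b, hb, e⟩ := rep_comm k hk
  obtain ⟨a', ha', e1⟩ := h2 _ (Uc_le_Rc true) a ha
  obtain ⟨b', hb', e2⟩ := h2 _ (Uc_le_Rc false) b hb
  have := H.uniq ((e1.mul e2).mul (e1.mul e2)) (e ▸ h1)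
  rcases hk' with rfl | rfl
  · exact (not_comm a' ha' b' hb').1 this
  · exact (not_comm a' ha' b' hb').2 this

/-- the bits of `m` list the classes of involutions with the property `p`. -/
structure Pat (φ : Hc →* G) (p : G → Prop) (m : ℕ) : Prop where
  inv : ∀ g x, p x → p (g * x * g⁻¹)
  iff : ∀ a ∈ Tc, a * a = 1 → (p (φ a) ↔ m.testBit (cls a) = true)

theorem inv_iff {p : G → Prop} (hp : ∀ g x, p x → p (g * x * g⁻¹)) {g : G} {a b : Hc}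
    (h : Cj φ g a b) : p (φ a) ↔ p (φ b) := ⟨fun k => h ▸ hp _ _ k, fun k => h.symm ▸ hp _ _ k⟩

theorem exists_pat {p : G → Prop} (hp : ∀ g x, p x → p (g * x * g⁻¹)) (h1 : ¬ p 1) :
    ∃ m < 256, Pat φ p m := by
  classical
  refine ⟨Nat.ofBits fun k : Fin 8 => decide (p (φ (rep k))), Nat.ofBits_lt_two_pow _, hp,
    fun a ha h2 => ?_⟩
  rw [Nat.testBit_ofBits]
  by_cases e : a = 1
  · simp [e, cls_one, h1]
  · obtain ⟨k1, k2⟩ := cls_spec ha h2 e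
    obtain ⟨c, hc⟩ := isConj_iff.1 k2
    rw [dif_pos k1, decide_eq_true_iff]
    exact inv_iff hp (g := (φ c)⁻¹) (cj_of (mul_inv_eq_iff_eq_mul.1 hc)).symm

theorem Pat.bit {p : G → Prop} {m : ℕ} (h : Pat φ p m) (H : HS φ) {g : G} {a b : Hc}
    (e : Cj φ g a b) (ha : a ∈ Tc) (hb : b ∈ Tc) (h2 : a * a = 1) :
    m.testBit (cls a) = m.testBit (cls b) := by
  rw [Bool.eq_iff_iff, ← h.iff a ha h2, ← h.iff b hb (H.sq e h2)]
  exact inv_iff h.inv e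

theorem Pat.rep {p : G → Prop} {m : ℕ} (h : Pat φ p m) {k : ℕ} (hk : k < 8) :
    p (φ (rep k)) ↔ m.testBit k = true := by
  rw [h.iff _ (rep_spec k hk).1 (rep_spec k hk).2.1, (rep_spec k hk).2.2.1]

/-- the counting invariant. -/
noncomputable abbrev cnt (m : ℕ) (i : Bool) (a b : Hc) : ℕ :=
  cntP (psU i) fun d => m.testBit (cls d) = true ∧ m.testBit (cls (d * a)) = true ∧
    m.testBit (cls (d * b)) = true

theorem Pat.cnt_le {p : G → Prop} {m : ℕ} (h : Pat φ p m) (H : HS φ) {i : Bool} {n : G}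
    (hn : n ∈ Nm φ (Uc i)) {a b a' b' : Hc} (ha : a ∈ Uc i) (hb : b ∈ Uc i) (e1 : Cj φ n a a')
    (e2 : Cj φ n b b') : cnt m i a b ≤ cnt m i a' b' := by
  have hd : (psU i).Nodup := by cases i <;> decide
  have ho : patOK (mk5 (psU i)) := by cases i <;> decide +kernel
  rw [cnt, cnt, ← ncard_cntP ho hd, ← ncard_cntP ho hd]
  have k : ∀ {a a'}, a ∈ Uc i → Cj φ n a a' → m.testBit (cls a) = true →
      m.testBit (cls a') = true := fun ha e => by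
    rw [h.bit H e (Uc_le_Tc i ha) (Uc_le_Tc i ((H.mem_of_nm hn e).1 ha)) (Uc_sq i _ ha)]
    exact id
  choose! f h1 h2 using hn
  exact Set.ncard_le_ncard_of_injOn f (fun d ⟨d0, d1, d2, d3⟩ => ⟨h1 d d0, k d0 (h2 d d0) d1,
    k ((Uc i).mul_mem d0 ha) ((h2 d d0).mul e1) d2, k ((Uc i).mul_mem d0 hb) ((h2 d d0).mul e2) d3⟩)
    fun b hb c hc e => H.cinj (h2 b hb.1) (e ▸ h2 c hc.1)

theorem Pat.cnt_eq {p : G → Prop} {m : ℕ} (h : Pat φ p m) (H : HS φ) {i : Bool} {n : G}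
    (hn : n ∈ Nm φ (Uc i)) {a b a' b' : Hc} (ha : a ∈ Uc i) (hb : b ∈ Uc i) (e1 : Cj φ n a a')
    (e2 : Cj φ n b b') : cnt m i a b = cnt m i a' b' :=
  le_antisymm (h.cnt_le H hn ha hb e1 e2) (h.cnt_le H ((Nm φ _).inv_mem hn)
    ((H.mem_of_nm hn e1).1 ha) ((H.mem_of_nm hn e2).1 hb) e1.symm e2.symm)

theorem rep_zero : rep 0 = zc := by decide +kernel

theorem HS.exists_D (H : HS φ) : ∃ m ∈ [1, 3, 5, 23, 87, 151, 215], Pat φ (IsConj (φ zc)) m := by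
  obtain ⟨m, hm, h⟩ := exists_pat (φ := φ) (p := IsConj (φ zc))
    (fun g x hx => hx.trans (isConj_iff.2 ⟨g, rfl⟩))
    (by rw [isConj_one_left, map_eq_one_iff φ H.inj]; decide +kernel)
  have k : ∀ k, k = 3 ∨ k = 5 → m.testBit k = false := fun k hk => by
    rw [← Bool.not_eq_true, ← h.rep (by omega), isConj_iff]
    exact fun ⟨g, hg⟩ => H.not_cj_B (k := 0) (by simp) hk g (Cj.congr hg rep_zero.symm rfl)
  refine ⟨m, chk_pat m hm ((h.rep (by norm_num)).1 (by rw [rep_zero])) (k 3 (by simp))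
    (k 5 (by simp)) fun i k hk h1 h2 => ?_, h⟩
  obtain ⟨g, hg⟩ := isConj_iff.1 ((h.rep hk).2 h2)
  obtain ⟨n, h3, h4⟩ := H.fuse (Uc_le_Tc i) hg (fun x _ => zc_comm x) fun x hx => Uc_comm i hx h1
  exact (h.cnt_eq H (h4 i le_rfl) (zc_mem i) (Uc i).one_mem h3 (cj_one n)).symm

theorem exists_HS {z : G} (hz : orderOf z = 2)
    (e : Subgroup.centralizer ({z} : Set G) ≃* Subgroup.centralizer ({s5} : Set L5)) :
    ∃ φ : Hc →* G, HS φ ∧ φ zc = z := by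
  let f := Hc.equiv.trans e.symm
  have hz' : z ∈ Subgroup.centralizer ({z} : Set G) := Subgroup.mem_centralizer_singleton_iff.2 rfl
  obtain ⟨a, ha⟩ := f.surjective ⟨z, hz'⟩
  have h1 : ∀ b, a * b = b * a := fun b => f.injective (by
    rw [map_mul, map_mul, ha]
    exact Subtype.ext (Subgroup.mem_centralizer_singleton_iff.1 (f b).2).symm)
  have h2 : a = zc := (center_Tc a (Uc_le_Tc true (cen_U true a (cen_u true a (h1 _)) (h1 _) (h1 _)))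
    (h1 _) (h1 _) (h1 _) (h1 _)).resolve_left fun h => by
      rw [h, map_one, Subtype.ext_iff] at ha
      rw [← show (1 : G) = z from ha, orderOf_one] at hz
      exact absurd hz (by norm_num)
  have h3 : ((Subgroup.subtype _).comp f.toMonoidHom) zc = z := by
    rw [← h2]; exact congrArg Subtype.val ha
  refine ⟨_, ⟨Subtype.val_injective.comp f.injective, fun g hg => ?_⟩, h3⟩
  rw [h3] at hg
  obtain ⟨h, hh⟩ := f.surjective ⟨g, Subgroup.mem_centralizer_singleton_iff.2 hg⟩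
  exact ⟨h, congrArg Subtype.val hh⟩

theorem HS.card_T (H : HS φ) : Nat.card (Tc.map φ) = 2 ^ 10 :=
  (Subgroup.card_map_of_injective H.inj).trans card_Tc

end Held

end H28
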