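import Mathlib
import Cfsg.Agent.H28.XW
import Cfsg.Agent.H6.XEDefs
import Cfsg.Agent.H6.XB

/-! The centraliser of a member of `D` on codes -/

set_option autoImplicit false
set_option maxRecDepth 100000
set_option Elab.async false
set_option synthInstance.maxSize 4000
set_option linter.unusedSectionVars false

namespace H28.XW

open H29 H7.Cay Subgroup H24 H6.XS

def eqc (a b : ℕ) : Bool := Nat.beq (Nat.mod a 1152) (Nat.mod b 1152)
def inM (m a : ℕ) : Bool := tb m (Nat.mod a 1152)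

theorem eqc_iff {a b : ℕ} : eqc a b = true ↔ a % 1152 = b % 1152 := nbeq

/-- a product of conjugates of `c` -/
noncomputable def cc (q c : ℕ) : ℕ :=
  lit c fun c => lit (mu c c) fun d => mu (mu (mu q c) q) (mu (mu d d) c)

theorem c1 : ∀ c < 1152, eqc c 0 = true ∨ eqc c 1151 = true ∨ ∃ q ∈ [0, 22, 34, 338, 436],
    eqc (cc q c) 1151 = true ∨ ∃ r ∈ [0, 22, 34, 338, 436], eqc (cc r (cc q c)) 1151 = true := by
  decide +kernel
theorem c2 : ∀ a < 1152, (a = 0 ∨ ∃ l < 4, C.step a l < a) ∧ ∀ l < 4, C.step (C.step a l) l = a := by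
  decide +kernel
theorem c3 : ∀ a ∈ QL, (∀ b ∈ QL, mu a b ∈ QL) ∧ eqc (mu (mu (mu a a) a) a) 0 = true ∧
    ∀ b ∈ [1, 2, 3, 48], mu (mu b a) b ∈ QL := by decide +kernel
theorem c4 : ∀ c < 1152, inM DM c = true ∨ eqc (mu c c) 0 = false ∨ c = 0 ∨ c ∈ QL ∨
    mu 1151 c ∈ UL := by decide +kernel
theorem c5 : ∀ c < 1152, (inM DM c = true → c ∈ DL) ∧ (inM RM c = true → c ∈ W1.map Prod.fst) ∧
    (eqc (mu c c) 0 = true → c = 0 ∨ inM DM c = true ∨ c ∈ NL) ∧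
    ∃ p ∈ W1, eqc (mu c 42) (mu p.1 c) = true ∧ inM RM p.1 = true := by decide +kernel
theorem c6 : (∀ p ∈ W1, eqc (mu p.2 42) (mu p.1 p.2) = true) ∧
    (∀ p ∈ W2, eqc (mu p.2 1104) (mu p.1 p.2) = true) ∧
    (∀ p ∈ W3, eqc (mu p.2 1105) (mu p.1 p.2) = true) ∧
    UL = W1.map Prod.fst ++ W2.map Prod.fst ∧ DL = 1151 :: (UL ++ W3.map Prod.fst) ∧
    ∀ c ∈ DL, c = 1151 ∨ inM DM (mu 1151 c) = true ∨ c ∈ UL := by decide +kernel

variable {G : Type*} [Group G] {D : Set G} {R : G → G → Prop} {z : G} {φ : ℕ → G}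

/-- `φ` names the elements of `C(z)` -/
structure Md (D : Set G) (R : G → G → Prop) (z : G) (φ : ℕ → G) : Prop where
  mul : ∀ a b, φ a * φ b = φ (mu a b)
  eq : ∀ a b, φ a = φ b ↔ eqc a b = true
  one : φ 0 = 1
  cen : φ 1151 = z
  memD : ∀ a, φ a ∈ D ↔ inM DM a = true
  memR : ∀ a, R z (φ a) ↔ inM RM a = true
  surj : ∀ x, x * z = z * x → ∃ c < 1152, φ c = x

theorem Md.cj (m : Md D R z φ) (hD : ∀ d ∈ D, ∀ g : G, g * d * g⁻¹ ∈ D)
    (hR : ∀ x y g : G, R x y → R (g * x * g⁻¹) (g * y * g⁻¹)) (g : G) :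
    Md D R (g * z * g⁻¹) fun c => g * φ c * g⁻¹ := by
  refine ⟨fun a b => by rw [← m.mul]; group, fun a b => by rw [← m.eq]; simp, by simp [m.one],
    by rw [m.cen], fun a => ?_, fun a => ?_, fun x hx => ?_⟩
  · rw [← m.memD]
    exact ⟨fun h => by simpa [mul_assoc] using hD _ h g⁻¹, fun h => hD _ h g⟩
  · rw [← m.memR]
    exact ⟨fun h => by simpa [mul_assoc] using hR _ _ g⁻¹ h, fun h => hR _ _ g h⟩
  · obtain ⟨c, h1, h2⟩ := m.surj (g⁻¹ * x * g) (by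
      rw [show g⁻¹ * x * g * z = g⁻¹ * (x * (g * z * g⁻¹)) * g by group, hx]; group)
    exact ⟨c, h1, by rw [h2]; group⟩

theorem Md.eq1 (m : Md D R z φ) (a : ℕ) : φ a = 1 ↔ eqc a 0 = true := by rw [← m.one, m.eq]

theorem Md.getD (m : Md D R z φ) {x : G} (h : x ∈ D) (hx : x * z = z * x) : ∃ c ∈ DL, φ c = x := by
  obtain ⟨c, h1, rfl⟩ := m.surj x hx
  exact ⟨c, (c5 c h1).1 ((m.memD c).1 h), rfl⟩

theorem Md.getN (m : Md D R z φ) {x : G} (h : NI D x) (hx : x * z = z * x) : ∃ c ∈ NL, φ c = x := by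
  obtain ⟨c, h1, rfl⟩ := m.surj x hx
  rcases (c5 c h1).2.2.1 ((m.eq1 _).1 ((m.mul c c).symm.trans h.sq)) with rfl | k | k
  exacts [absurd m.one h.ne, absurd ((m.memD c).2 k) h.not, ⟨c, k, rfl⟩]

theorem Md.getU (m : Md D R z φ) {x : G} (h : Nb D z x) : ∃ c ∈ UL, φ c = x := by
  obtain ⟨c, h1, rfl⟩ := m.getD h.mem h.comm.symm
  rcases c6.2.2.2.2.2 c h1 with rfl | k | k
  exacts [absurd m.cen h.ne, absurd (by rw [← m.cen, m.mul, m.memD]; exact k) h.not, ⟨c, k, rfl⟩]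

variable [Finite G] {Q : G → Subgroup G} {a b0 b1 b2 b3 : G}

theorem base (h : Sit D Q 2) (wc : WC D Q) (s : Sys D a b0 b1 b2 b3) : ∃ φ : ℕ → G,
    Md D (fun x y => ∃ g, g * a * g⁻¹ = x ∧ g * φ 42 * g⁻¹ = y) a φ ∧
      φ 1 = b0 ∧ φ 2 = b1 ∧ φ 3 = b2 ∧ φ 48 = b3 := by
  let e : ℕ → G := fun c => [b0, b1, b2, b3].getD c 1
  have q0 := h.sq s.n0.mem
  have q1 := h.sq s.n1.mem
  have q2 := h.sq s.n2.mem
  have q3 := h.sq s.n3.mem
  have ee : ∀ c, e c * e c = 1 ∧ e c ∈ C{a} := fun c => by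
    rcases c with _ | _ | _ | _ | c
    exacts [⟨q0, mem_C1.2 s.n0.comm.symm⟩, ⟨q1, mem_C1.2 s.n1.comm.symm⟩,
      ⟨q2, mem_C1.2 s.n2.comm.symm⟩, ⟨q3, mem_C1.2 s.n3.comm.symm⟩, ⟨one_mul 1, one_mem _⟩]
  have iv : IvOK e (ivOf []) := fun c => eq_inv_of_mul_eq_one_left (ee c).1
  have cm : ∀ {x y : G}, x * x = 1 → y * y = 1 → x * y = y * x → x * (y * (x * (y * 1))) = 1 :=
    fun {x y} hx hy k => by rw [mul_one, ← mul_assoc y, ← k, mul_assoc, hy, mul_one, hx]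
  have k : C.OK e := ok iv (by
    simp only [XW.R, List.forall_mem_cons, ev_cons, ev_nil, List.not_mem_nil, false_imp_iff, imp_true_iff]
    exact ⟨by simpa [e, pow_succ, mul_assoc] using s.r01, by simpa [e, pow_succ, mul_assoc] using s.r12,
      by simpa [e, pow_succ, mul_assoc] using s.r23, cm q0 q2 s.r02, cm q0 q3 s.r03, cm q1 q3 s.r13, trivial⟩)
  let φ := val e
  have mul : ∀ a b, φ a * φ b = φ (mu a b) := fun a b => (mu_spec k a b).2
  have eq' : ∀ {a b}, eqc a b = true → φ a = φ b := fun k => congrArg (C.val e) (eqc_iff.1 k)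
  have one : φ 0 = 1 := C.val_zero e
  have g0 : φ 1 = b0 := (k.word (u := [0]) (c := 1) (by decide) (by decide +kernel)).trans (mul_one _)
  have g1 : φ 2 = b1 := (k.word (u := [1]) (c := 2) (by decide) (by decide +kernel)).trans (mul_one _)
  have g2 : φ 3 = b2 := (k.word (u := [2]) (c := 3) (by decide) (by decide +kernel)).trans (mul_one _)
  have g3 : φ 48 = b3 := (k.word (u := [3]) (c := 48) (by decide) (by decide +kernel)).trans (mul_one _)
  have cen : φ 1151 = a := by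
    rw [← s.cen, ← g0, ← g1, ← g2, ← g3]
    simp only [pow_two, mul]
    exact eq' (by decide +kernel)
  have md : ∀ c, φ (c % 1152) = φ c := fun c => eq' (eqc_iff.2 (Nat.mod_mod _ _))
  have ker : ∀ c < 1152, φ c = 1 → c = 0 := fun c hc h1 => by
    have k1 : ∀ q ∈ [0, 22, 34, 338, 436], ∀ c, φ c = 1 → φ (cc q c) = 1 := fun q hq c h1 => by
      simp only [cc, lit_eq, ← mul, h1, mul_one]
      rw [mul, ← one]
      exact eq' (by revert q; decide +kernel)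
    have k2 : ∀ c, φ c = 1 → eqc c 1151 ≠ true := fun c h1 h2 =>
      h.ne_one s.mem (cen.symm.trans ((eq' h2).symm.trans h1))
    rcases c1 c hc with h2 | h2 | ⟨q, hq, h2 | ⟨r, hr, h2⟩⟩
    exacts [by have := eqc_iff.1 h2; omega, absurd h2 (k2 _ h1), absurd h2 (k2 _ (k1 q hq _ h1)),
      absurd h2 (k2 _ (k1 r hr _ (k1 q hq _ h1)))]
  have inj : ∀ y < 1152, ∀ x < 1152, C.val e x = C.val e y → x = y := fun y => by
    induction y using Nat.strong_induction_on with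
    | _ y ih =>
      intro hy x hx h1
      rcases (c2 y hy).1 with rfl | ⟨l, hl, h2⟩
      · exact ker x hx ((congrArg (C.val e) (Nat.mod_eq_of_lt hx)).trans (h1.trans one))
      · rw [← (c2 x hx).2 l hl, ih _ h2 (by omega) _ (k.slt x hx l hl)
          (by rw [← k.edge x hx l hl, ← k.edge y hy l hl, h1]), (c2 y hy).2 l hl]
  have eq : ∀ a b, φ a = φ b ↔ eqc a b = true := fun a b =>
    ⟨fun h1 => eqc_iff.2 (inj _ (Nat.mod_lt _ (by decide)) _ (Nat.mod_lt _ (by decide)) h1), eq'⟩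
  have ca : ∀ c, φ c * a * (φ c)⁻¹ = a := fun c =>
    mul_inv_eq_iff_eq_mul.2 (mem_C1.1 (C.val_mem (fun l => (ee l).2) _))
  have surj : ∀ x, x * a = a * x → ∃ c < 1152, φ c = x := fun x hx => by
    obtain ⟨c, h1, h2⟩ := k.exists_code iv (L := [0, 1, 2, 3]) (by decide) (by decide) (g := x)
      ((closure_le _).2 (by
        rintro _ (rfl | rfl | rfl | rfl)
        exacts [mem_gen (c := 0) (by decide), mem_gen (c := 1) (by decide), mem_gen (c := 2) (by decide),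
          mem_gen (c := 3) (by decide)]) (s.top ▸ mem_C1.2 hx))
    exact ⟨c, h1, (congrArg (C.val e) (Nat.mod_eq_of_lt h1)).trans h2⟩
  have cD : ∀ {x : G} (g : G), g * x * g⁻¹ ∈ D ↔ x ∈ D := fun g =>
    ⟨fun k => by simpa [mul_assoc] using h.conj _ k g⁻¹, fun k => h.conj _ k g⟩
  have cw : ∀ {c k r}, eqc (mu k r) (mu c k) = true → φ c = φ k * φ r * (φ k)⁻¹ := fun k => by
    rw [eq_mul_inv_iff_mul_eq, mul, mul, eq' k]
  have cw2 : ∀ {c k r}, eqc (mu k r) (mu c k) = true →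
      (φ c ∈ D ↔ φ r ∈ D) ∧ (a * φ c ∈ D ↔ a * φ r ∈ D) := fun {c k r} h1 => by
    rw [cw h1, ← cD (x := a * φ r) (φ k), cD, ← mul_assoc (φ k), mul_inv_eq_iff_eq_mul.1 (ca k)]
    simp only [mul_assoc, and_self]
  obtain ⟨w1, w2, w3, wU, wD, -⟩ := c6
  have r1 := cw2 (w1 (1, W1.lookup 1 |>.getD 0) (by decide +kernel))
  have r2 := cw2 (w2 (48, W2.lookup 48 |>.getD 0) (by decide +kernel))
  have r3 := cw2 (w3 (49, W3.lookup 49 |>.getD 0) (by decide +kernel))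
  have hU : ∀ c ∈ UL, φ c ∈ D ∧ a * φ c ∉ D := fun c hc => by
    simp only [wU, List.mem_append, List.mem_map] at hc
    rcases hc with ⟨p, hp, rfl⟩ | ⟨p, hp, rfl⟩
    · rw [(cw2 (w1 p hp)).1, (cw2 (w1 p hp)).2, ← r1.1, ← r1.2, g0]; exact ⟨s.n0.mem, s.n0.not⟩
    · rw [(cw2 (w2 p hp)).1, (cw2 (w2 p hp)).2, ← r2.1, ← r2.2, g3]; exact ⟨s.n3.mem, s.n3.not⟩
  let N : Subgroup G :=
    { carrier := {x | ∃ c ∈ QL, φ c = x}
      one_mem' := ⟨0, by decide, one⟩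
      mul_mem' := by
        rintro _ _ ⟨c, hc, rfl⟩ ⟨d, hd, rfl⟩
        exact ⟨_, (c3 c hc).1 d hd, (mul c d).symm⟩
      inv_mem' := by
        rintro _ ⟨c, hc, rfl⟩
        refine ⟨_, (c3 _ ((c3 c hc).1 c hc)).1 c hc, eq_inv_of_mul_eq_one_left ?_⟩
        rw [mul, eq' (c3 c hc).2.1, one] }
  have NQ : N ≤ Q a := h.o2 a s.mem N (by rintro _ ⟨c, -, rfl⟩; exact C.val_mem (fun l => (ee l).2) _)
    (s.top ▸ (closure_le _).2 fun g hg => mem_N_of_finite (by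
      rintro _ ⟨c, hc, rfl⟩
      rcases hg with rfl | rfl | rfl | rfl
      · rw [inv_eq_of_mul_eq_one_left q0, ← g0, mul, mul]; exact ⟨_, (c3 c hc).2.2 _ (by decide), rfl⟩
      · rw [inv_eq_of_mul_eq_one_left q1, ← g1, mul, mul]; exact ⟨_, (c3 c hc).2.2 _ (by decide), rfl⟩
      · rw [inv_eq_of_mul_eq_one_left q2, ← g2, mul, mul]; exact ⟨_, (c3 c hc).2.2 _ (by decide), rfl⟩
      · rw [inv_eq_of_mul_eq_one_left q3, ← g3, mul, mul]; exact ⟨_, (c3 c hc).2.2 _ (by decide), rfl⟩))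
    (by
      rintro ⟨_, c, hc, rfl⟩
      refine ⟨2, Subtype.ext ?_⟩
      change φ c ^ (2 ^ 2) = 1
      simp only [show 2 ^ 2 = 4 from rfl, pow_succ, pow_zero, one_mul, mul]
      rw [eq' (c3 c hc).2.1, one])
  have im : ∀ m c, inM m (c % 1152) = inM m c := fun m c => congrArg (tb m) (Nat.mod_mod _ _)
  refine ⟨φ, ⟨mul, eq, one, cen, fun c => ?_, fun c => ?_, surj⟩, g0, g1, g2, g3⟩
  · rw [← md, ← im]
    have hc := Nat.mod_lt c (show 0 < 1152 by decide)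
    generalize c % 1152 = c at hc
    refine ⟨fun h1 => ?_, fun h1 => ?_⟩
    · rcases c4 c hc with h2 | h2 | rfl | h2 | h2
      · exact h2
      · rw [(eq _ _).1 ((mul c c).symm.trans ((h.sq h1).trans one.symm))] at h2; cases h2
      · exact absurd one (h.ne_one h1)
      · rw [← im, eqc_iff.1 ((eq _ _).1 ((wc a s.mem _ h1 (NQ ⟨c, h2, rfl⟩)).trans cen.symm))]
        decide +kernel
      · exact absurd (by rwa [← mul, cen, ← mul_assoc, h.sq s.mem, one_mul]) (hU _ h2).2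
    · have h2 := (c5 c hc).1 h1
      rw [wD, List.mem_cons, List.mem_append, List.mem_map] at h2
      rcases h2 with rfl | h2 | ⟨p, hp, rfl⟩
      · exact cen ▸ s.mem
      · exact (hU c h2).1
      · rw [(cw2 (w3 p hp)).1, ← r3.1, eq' (show eqc 49 (mu 1 48) = true by decide +kernel), ← mul, g0, g3]
        exact s.tl
  · refine ⟨fun ⟨g, h1, h2⟩ => ?_, fun h1 => ?_⟩
    · obtain ⟨k, hk, rfl⟩ := surj g (mul_inv_eq_iff_eq_mul.1 h1)
      obtain ⟨p, -, h3, h4⟩ := (c5 k hk).2.2.2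
      rwa [← im, ← eqc_iff.1 ((eq _ _).1 ((cw h3).trans h2)), im]
    · obtain ⟨p, hp, h2⟩ := List.mem_map.1 ((c5 _ (Nat.mod_lt c (by decide))).2.1 ((im _ c).trans h1))
      exact ⟨φ p.2, ca _, by rw [← cw (w1 p hp), h2, md]⟩

end H28.XW
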