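import Mathlib
import Cfsg.Agent.H28.XW2

/-! Facts read off in the centraliser of a member of `D` -/

set_option autoImplicit false
set_option maxRecDepth 100000
set_option Elab.async false
set_option synthInstance.maxSize 100000
set_option synthInstance.maxHeartbeats 400000
set_option linter.unusedSectionVars false
set_option linter.unusedSimpArgs false

namespace H28.XW

open H29 H7.Cay Subgroup H24 H6.XS

variable {G : Type*} [Group G] {D : Set G} {R : G → G → Prop}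

theorem nb_def {a y : G} : Nb D a y ↔ y ∈ D ∧ a * y = y * a ∧ a * y ∉ D ∧ y ≠ a :=
  ⟨fun h => ⟨h.1, h.2, h.3, h.4⟩, fun h => ⟨h.1, h.2.1, h.2.2.1, h.2.2.2⟩⟩
theorem ni_def {t : G} : NI D t ↔ t * t = 1 ∧ t ≠ 1 ∧ t ∉ D :=
  ⟨fun h => ⟨h.1, h.2, h.3⟩, fun h => ⟨h.1, h.2.1, h.2.2⟩⟩
theorem yt_def {t y : G} : Yt D t y ↔ y ∈ D ∧ y * t = t * y ∧ y * t ∈ D :=
  ⟨fun h => ⟨h.1, h.2, h.3⟩, fun h => ⟨h.1, h.2.1, h.2.2⟩⟩
theorem zt_def {t y : G} : Zt D t y ↔ y ∈ D ∧ y * t = t * y ∧ y * t ∉ D :=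
  ⟨fun h => ⟨h.1, h.2, h.3⟩, fun h => ⟨h.1, h.2.1, h.2.2⟩⟩
theorem lam_def {t y f : G} : Lam D t y f ↔ Zt D t f ∧ f * y = y * f ∧ f * y ∉ D ∧ f * y * t ∉ D :=
  ⟨fun h => ⟨h.1, h.2, h.3, h.4⟩, fun h => ⟨h.1, h.2.1, h.2.2.1, h.2.2.2⟩⟩
theorem sw_def {ρ x y u v f : G} : Sw D ρ x y u v f ↔
    ρ * x * ρ = y ∧ ρ * u = u * ρ ∧ ρ * v = v * ρ ∧ ρ * f = f * ρ ∧ NI D ρ :=
  ⟨fun h => ⟨h.2, h.3, h.4, h.5, h.1⟩, fun h => ⟨h.2.2.2.2, h.1, h.2.1, h.2.2.1, h.2.2.2.1⟩⟩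
theorem ln_def {p1 p2 p3 p4 p5 : G} : Ln D p1 p2 p3 p4 p5 ↔ p1 ∈ D ∧ Nb D p1 p2 ∧ Nb D p1 p3 ∧
    Nb D p1 p4 ∧ Nb D p1 p5 ∧ Nb D p2 p3 ∧ Nb D p2 p4 ∧ Nb D p2 p5 ∧ Nb D p3 p4 ∧ Nb D p3 p5 ∧
      Nb D p4 p5 ∧ p1 * p2 * p3 * p4 * p5 = 1 :=
  ⟨fun h => ⟨h.1, h.2, h.3, h.4, h.5, h.6, h.7, h.8, h.9, h.10, h.11, h.12⟩,
    fun ⟨a, b, c, d, e, f, g, h, i, j, k, l⟩ => ⟨a, b, c, d, e, f, g, h, i, j, k, l⟩⟩

theorem nb_symm {a y : G} (ha : a ∈ D) (h : Nb D a y) : Nb D y a :=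
  ⟨ha, h.comm.symm, h.comm ▸ h.not, h.ne.symm⟩

variable (hM : ∀ z ∈ D, ∃ φ, Md D R z φ)
include hM

theorem rsymm (hR : ∀ x y g : G, R x y → R (g * x * g⁻¹) (g * y * g⁻¹)) (x : G) (hx : x ∈ D) (y : G)
    (n : Nb D x y) (r : R x y) : R y x := by
  obtain ⟨e, n1, n2, n3⟩ : ∃ e, Nb D x e ∧ Nb D e y ∧ e * x * y ∉ D := by
    clear r
    obtain ⟨φ, m⟩ := hM x hx
    obtain ⟨y, ky, rfl⟩ := m.getU n
    obtain rfl := m.cen
    suffices ∃ e ∈ UL, Nb D (φ 1151) (φ e) ∧ Nb D (φ e) (φ y) ∧ φ e * φ 1151 * φ y ∉ D from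
      this.elim fun e h => ⟨_, h.2⟩
    clear n
    revert y
    simp only [nb_def, ni_def, yt_def, zt_def, lam_def, sw_def, m.mul, m.eq, m.eq1, m.memD, m.memR, ne_eq,
      pow_succ, pow_zero, one_mul]
    decide +kernel
  obtain ⟨φ, m⟩ := hM e n1.mem
  obtain ⟨x, kx, rfl⟩ := m.getU (nb_symm hx n1)
  obtain ⟨y, ky, rfl⟩ := m.getU n2
  obtain rfl := m.cen
  suffices ∃ q ∈ QL, φ q * φ x = φ y * φ q ∧ φ q * φ y = φ x * φ q by
    obtain ⟨q, -, h1, h2⟩ := this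
    have := hR _ _ (φ q) r
    rwa [h1, h2, mul_inv_cancel_right, mul_inv_cancel_right] at this
  clear r n1 n2 hx
  revert n3
  revert n
  revert ky
  revert y
  revert kx
  revert x
  simp only [nb_def, ni_def, yt_def, zt_def, lam_def, sw_def, m.mul, m.eq, m.eq1, m.memD, m.memR, ne_eq,
    pow_succ, pow_zero, one_mul]
  decide +kernel

theorem phi1 (a : G) (ha : a ∈ D) (x y : G) (h1 : Nb D a x) (h2 : Nb D a y) (h3 : x * y = y * x) :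
    (R a x ↔ R a y) ↔ x * y ∉ D := by
  obtain ⟨φ, m⟩ := hM a ha
  obtain ⟨x, kx, rfl⟩ := m.getU h1
  obtain ⟨y, ky, rfl⟩ := m.getU h2
  obtain rfl := m.cen
  clear h1 h2
  revert h3
  revert ky
  revert y
  revert kx
  revert x
  simp only [nb_def, ni_def, yt_def, zt_def, lam_def, sw_def, m.mul, m.eq, m.eq1, m.memD, m.memR, ne_eq,
    pow_succ, pow_zero, one_mul]
  decide +kernel

theorem phi3 (a : G) (ha : a ∈ D) (x y : G) (h1 : Nb D a x) (h2 : Nb D a y) (h3 : R a x ↔ R a y) :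
    x * y = y * x ∨ x * y * x = y * x * y := by
  obtain ⟨φ, m⟩ := hM a ha
  obtain ⟨x, kx, rfl⟩ := m.getU h1
  obtain ⟨y, ky, rfl⟩ := m.getU h2
  obtain rfl := m.cen
  clear h1 h2
  revert h3
  revert ky
  revert y
  revert kx
  revert x
  simp only [nb_def, ni_def, yt_def, zt_def, lam_def, sw_def, m.mul, m.eq, m.eq1, m.memD, m.memR, ne_eq,
    pow_succ, pow_zero, one_mul]
  decide +kernel

theorem f1 (t x y : G) (h1 : NI D t) (h2 : Yt D t x) (h3 : Yt D t y) (h4 : x * y = y * x) (h5 : y ≠ x)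
    (h6 : y ≠ x * t) : x * y ∈ D ↔ x * y * t ∉ D := by
  obtain ⟨φ, m⟩ := hM x h2.mem
  obtain ⟨t, kt, rfl⟩ := m.getN h1 h2.comm.symm
  obtain ⟨y, ky, rfl⟩ := m.getD h3.mem h4.symm
  obtain rfl := m.cen
  clear h1 h4
  revert h6
  revert h5
  revert h3
  revert ky
  revert y
  revert h2
  revert kt
  revert t
  simp only [nb_def, ni_def, yt_def, zt_def, lam_def, sw_def, m.mul, m.eq, m.eq1, m.memD, m.memR, ne_eq,
    pow_succ, pow_zero, one_mul]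
  decide +kernel

theorem f3a (t x : G) (h1 : NI D t) (h2 : Yt D t x) : ∃ f1 f2 f3, f1 ≠ f2 ∧ f1 ≠ f3 ∧ f2 ≠ f3 ∧
    ∀ f, Lam D t x f ↔ f = f1 ∨ f = f2 ∨ f = f3 := by
  obtain ⟨φ, m⟩ := hM x h2.mem
  obtain ⟨t, kt, rfl⟩ := m.getN h1 h2.comm.symm
  obtain rfl := m.cen
  suffices ∃ f1 ∈ DL, Lam D (φ t) (φ 1151) (φ f1) ∧ ∃ f2 ∈ DL, Lam D (φ t) (φ 1151) (φ f2) ∧ φ f1 ≠ φ f2 ∧
      ∃ f3 ∈ DL, Lam D (φ t) (φ 1151) (φ f3) ∧ φ f1 ≠ φ f3 ∧ φ f2 ≠ φ f3 ∧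
        ∀ f ∈ DL, Lam D (φ t) (φ 1151) (φ f) → φ f = φ f1 ∨ φ f = φ f2 ∨ φ f = φ f3 by
    obtain ⟨f1, -, a1, f2, -, a2, b1, f3, -, a3, b2, b3, k⟩ := this
    refine ⟨_, _, _, b1, b2, b3, fun f => ⟨fun h => ?_, by rintro (rfl | rfl | rfl) <;> assumption⟩⟩
    obtain ⟨f, kf, rfl⟩ := m.getD h.mem h.cy
    exact k f kf h
  clear h1
  revert h2
  revert kt
  revert t
  simp only [nb_def, ni_def, yt_def, zt_def, lam_def, sw_def, m.mul, m.eq, m.eq1, m.memD, m.memR, ne_eq,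
    pow_succ, pow_zero, one_mul]
  decide +kernel

theorem f3b (t x y f : G) (h1 : NI D t) (h2 : Yt D t x) (h3 : Yt D t y) (h4 : y * x * y = x * t)
    (h5 : Lam D t x f) (h6 : f * y = y * f) : ∃ f', Lam D t x f' ∧ Lam D t y f' := by
  have h7 := h5.toZt
  obtain ⟨φ, m⟩ := hM f h5.mem
  obtain ⟨t, kt, rfl⟩ := m.getN h1 h5.comm.symm
  obtain ⟨x, kx, rfl⟩ := m.getD h2.mem h5.cy.symm
  obtain ⟨y, ky, rfl⟩ := m.getD h3.mem h6.symm
  obtain rfl := m.cen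
  suffices ∃ f ∈ DL, Lam D (φ t) (φ x) (φ f) ∧ Lam D (φ t) (φ y) (φ f) from this.elim fun e h => ⟨_, h.2⟩
  clear h1 h6
  revert h4
  revert h3
  revert ky
  revert y
  revert h5
  revert h2
  revert kx
  revert x
  revert h7
  revert kt
  revert t
  simp only [nb_def, ni_def, yt_def, zt_def, lam_def, sw_def, m.mul, m.eq, m.eq1, m.memD, m.memR, ne_eq,
    pow_succ, pow_zero, one_mul]
  decide +kernel

theorem f4a (t e x y e' : G) (h1 : NI D t) (h2 : Zt D t e) (h3 : Yt D t x) (h4 : Yt D t y)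
    (h5 : Nb D e x) (h6 : Nb D e y) (h7 : (x * y) ^ 2 = t) (h8 : Zt D t e') (h9 : e' * e = e * e')
    (h10 : e' * (x * y) = x * y * e') : e' * x = x * e' ∧ e' * y = y * e' := by
  obtain ⟨φ, m⟩ := hM e h2.mem
  obtain ⟨t, kt, rfl⟩ := m.getN h1 h2.comm.symm
  obtain ⟨x, kx, rfl⟩ := m.getU h5
  obtain ⟨y, ky, rfl⟩ := m.getU h6
  obtain ⟨f, kf, rfl⟩ := m.getD h8.mem h9
  obtain rfl := m.cen
  clear h1 h5 h6 h9
  revert h10
  revert h8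
  revert kf
  revert f
  revert h7
  revert h4
  revert ky
  revert y
  revert h3
  revert kx
  revert x
  revert h2
  revert kt
  revert t
  simp only [nb_def, ni_def, yt_def, zt_def, lam_def, sw_def, m.mul, m.eq, m.eq1, m.memD, m.memR, ne_eq,
    pow_succ, pow_zero, one_mul]
  decide +kernel

theorem f4b (hs : ∀ d ∈ D, d * d = 1) (t e x y e' x' y' : G) (h1 : NI D t) (h2 : Zt D t e) (h3 : Yt D t x)
    (h4 : Yt D t y) (h5 : Nb D e x) (h6 : Nb D e y) (h7 : (x * y) ^ 2 = t) (h8 : Zt D t e')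
    (h9 : Yt D t x') (h10 : Yt D t y') (h11 : Nb D e' x') (h12 : Nb D e' y') (h13 : x' * y' = x * y)
    (h14 : e' * e = e * e') (h15 : e * x' = x' * e) (h16 : e * y' = y' * e) : e' = e := by
  obtain rfl : y' = x' * (x * y) := by rw [← h13, ← mul_assoc, hs _ h9.mem, one_mul]
  obtain ⟨φ, m⟩ := hM e h2.mem
  obtain ⟨t, kt, rfl⟩ := m.getN h1 h2.comm.symm
  obtain ⟨x, kx, rfl⟩ := m.getU h5
  obtain ⟨y, ky, rfl⟩ := m.getU h6
  obtain ⟨f, kf, rfl⟩ := m.getD h8.mem h14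
  obtain ⟨u, ku, rfl⟩ := m.getD h9.mem h15.symm
  obtain rfl := m.cen
  clear h1 h5 h6 h13 h14 h15 h16
  revert h12
  revert h11
  revert h8
  revert kf
  revert f
  revert h10
  revert h9
  revert ku
  revert u
  revert h7
  revert h4
  revert ky
  revert y
  revert h3
  revert kx
  revert x
  revert h2
  revert kt
  revert t
  simp only [nb_def, ni_def, yt_def, zt_def, lam_def, sw_def, m.mul, m.eq, m.eq1, m.memD, m.memR, ne_eq,
    pow_succ, pow_zero, one_mul]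
  decide +kernel

theorem f6 (t e x y : G) (h1 : NI D t) (h2 : Zt D t e) (h3 : Yt D t x) (h4 : Yt D t y)
    (h5 : Nb D e x) (h6 : Nb D e y) (h7 : (x * y) ^ 2 = t) :
    ∃ f1 f2, Zt D t f1 ∧ Zt D t f2 ∧ f1 ≠ e ∧ f2 ≠ e ∧ f1 * e = e * f1 ∧
      f2 * e = e * f2 ∧ f1 * (x * y) = x * y * f1 ∧ f2 * (x * y) = x * y * f2 ∧ e * f1 * f2 = t := by
  obtain ⟨φ, m⟩ := hM e h2.mem
  obtain ⟨t, kt, rfl⟩ := m.getN h1 h2.comm.symm
  obtain ⟨x, kx, rfl⟩ := m.getU h5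
  obtain ⟨y, ky, rfl⟩ := m.getU h6
  obtain rfl := m.cen
  suffices ∃ f ∈ DL, Zt D (φ t) (φ f) ∧ Zt D (φ t) (φ 1151 * φ f * φ t) ∧ φ f ≠ φ 1151 ∧
      φ 1151 * φ f * φ t ≠ φ 1151 ∧ φ f * φ 1151 = φ 1151 * φ f ∧
      φ 1151 * φ f * φ t * φ 1151 = φ 1151 * (φ 1151 * φ f * φ t) ∧ φ f * (φ x * φ y) = φ x * φ y * φ f ∧
      φ 1151 * φ f * φ t * (φ x * φ y) = φ x * φ y * (φ 1151 * φ f * φ t) ∧
      φ 1151 * φ f * (φ 1151 * φ f * φ t) = φ t from this.elim fun e h => ⟨_, _, h.2⟩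
  clear h1 h5 h6
  revert h7
  revert h4
  revert ky
  revert y
  revert h3
  revert kx
  revert x
  revert h2
  revert kt
  revert t
  simp only [nb_def, ni_def, yt_def, zt_def, lam_def, sw_def, m.mul, m.eq, m.eq1, m.memD, m.memR, ne_eq,
    pow_succ, pow_zero, one_mul]
  decide +kernel

theorem f7 (t e x y : G) (h1 : NI D t) (h2 : Zt D t e) (h3 : x ∈ D) (h4 : y ∈ D) (h5 : e * x = x * e)
    (h6 : e * y = y * e) (h7 : x * t = t * x) (h8 : y * t = t * y) : (x * y) ^ 4 = 1 := by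
  rw [show 4 = 2 * 2 from rfl, pow_mul]
  obtain ⟨φ, m⟩ := hM e h2.mem
  obtain ⟨t, kt, rfl⟩ := m.getN h1 h2.comm.symm
  obtain ⟨x, kx, rfl⟩ := m.getD h3 h5.symm
  obtain ⟨y, ky, rfl⟩ := m.getD h4 h6.symm
  obtain rfl := m.cen
  clear h1 h3 h4 h5 h6
  revert h8
  revert ky
  revert y
  revert h7
  revert kx
  revert x
  revert h2
  revert kt
  revert t
  simp only [nb_def, ni_def, yt_def, zt_def, lam_def, sw_def, m.mul, m.eq, m.eq1, m.memD, m.memR, ne_eq,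
    pow_succ, pow_zero, one_mul]
  decide +kernel

theorem f8 (t e : G) (h1 : NI D t) (h2 : Zt D t e) : ∃ x y, Yt D t x ∧ Yt D t y ∧ Lam D t x e ∧
    Lam D t y e ∧ ¬ (R e x ↔ R e y) := by
  obtain ⟨φ, m⟩ := hM e h2.mem
  obtain ⟨t, kt, rfl⟩ := m.getN h1 h2.comm.symm
  obtain rfl := m.cen
  suffices ∃ x ∈ UL, Yt D (φ t) (φ x) ∧ Lam D (φ t) (φ x) (φ 1151) ∧ ∃ y ∈ UL, Yt D (φ t) (φ y) ∧
      Lam D (φ t) (φ y) (φ 1151) ∧ ¬ (R (φ 1151) (φ x) ↔ R (φ 1151) (φ y)) by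
    obtain ⟨x, -, a1, a2, y, -, a3, a4, a5⟩ := this
    exact ⟨_, _, a1, a3, a2, a4, a5⟩
  clear h1
  revert h2
  revert kt
  revert t
  simp only [nb_def, ni_def, yt_def, zt_def, lam_def, sw_def, m.mul, m.eq, m.eq1, m.memD, m.memR, ne_eq,
    pow_succ, pow_zero, one_mul]
  decide +kernel

theorem e1 (p1 p2 p3 p4 p5 : G) (l : Ln D p1 p2 p3 p4 p5) : ∃ d, Nb D p5 d ∧ d * p1 * d = p2 ∧
    d * p3 = p3 * d ∧ d * p4 = p4 * d := by
  have n12 := l.n12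
  have n13 := l.n13
  have n23 := l.n23
  have n14 := l.n14
  have n24 := l.n24
  have n34 := l.n34
  have pd := l.prod
  obtain ⟨φ, m⟩ := hM p5 l.n15.mem
  obtain ⟨p1, kp1, rfl⟩ := m.getU (nb_symm l.mem l.n15)
  obtain ⟨p2, kp2, rfl⟩ := m.getU (nb_symm l.n12.mem l.n25)
  obtain ⟨p3, kp3, rfl⟩ := m.getU (nb_symm l.n13.mem l.n35)
  obtain ⟨p4, kp4, rfl⟩ := m.getU (nb_symm l.n14.mem l.n45)
  obtain rfl := m.cen
  suffices ∃ d ∈ UL, Nb D (φ 1151) (φ d) ∧ φ d * φ p1 * φ d = φ p2 ∧ φ d * φ p3 = φ p3 * φ d ∧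
      φ d * φ p4 = φ p4 * φ d from this.elim fun e h => ⟨_, h.2⟩
  clear l
  revert n34
  revert n24
  revert n14
  revert pd
  revert kp4
  revert p4
  revert n23
  revert n13
  revert kp3
  revert p3
  revert n12
  revert kp2
  revert p2
  revert kp1
  revert p1
  simp only [nb_def, ni_def, yt_def, zt_def, lam_def, sw_def, m.mul, m.eq, m.eq1, m.memD, m.memR, ne_eq,
    pow_succ, pow_zero, one_mul]
  decide +kernel

theorem e3 (p1 p2 p3 p4 p5 ρ σ : G) (l : Ln D p1 p2 p3 p4 p5) (h1 : Sw D ρ p1 p2 p3 p4 p5)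
    (h2 : Sw D σ p3 p4 p1 p2 p5) : ρ * σ = σ * ρ := by
  have n12 := l.n12
  have n13 := l.n13
  have n23 := l.n23
  have n14 := l.n14
  have n24 := l.n24
  have n34 := l.n34
  have pd := l.prod
  obtain ⟨φ, m⟩ := hM p5 l.n15.mem
  obtain ⟨p1, kp1, rfl⟩ := m.getU (nb_symm l.mem l.n15)
  obtain ⟨p2, kp2, rfl⟩ := m.getU (nb_symm l.n12.mem l.n25)
  obtain ⟨p3, kp3, rfl⟩ := m.getU (nb_symm l.n13.mem l.n35)
  obtain ⟨p4, kp4, rfl⟩ := m.getU (nb_symm l.n14.mem l.n45)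
  obtain ⟨ρ, kρ, rfl⟩ := m.getN h1.toNI h1.cf
  obtain ⟨σ, kσ, rfl⟩ := m.getN h2.toNI h2.cf
  obtain rfl := m.cen
  clear l
  revert h2
  revert kσ
  revert σ
  revert h1
  revert kρ
  revert ρ
  revert n34
  revert n24
  revert n14
  revert pd
  revert kp4
  revert p4
  revert n23
  revert n13
  revert kp3
  revert p3
  revert n12
  revert kp2
  revert p2
  revert kp1
  revert p1
  simp only [nb_def, ni_def, yt_def, zt_def, lam_def, sw_def, m.mul, m.eq, m.eq1, m.memD, m.memR, ne_eq,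
    pow_succ, pow_zero, one_mul]
  decide +kernel

theorem e4 (p1 p2 p3 p4 p5 ρ σ : G) (l : Ln D p1 p2 p3 p4 p5) (h1 : Sw D ρ p1 p2 p3 p4 p5)
    (h2 : Sw D σ p2 p3 p1 p4 p5) : (ρ * σ) ^ 3 = 1 := by
  have n12 := l.n12
  have n13 := l.n13
  have n23 := l.n23
  have n14 := l.n14
  have n24 := l.n24
  have n34 := l.n34
  have pd := l.prod
  obtain ⟨φ, m⟩ := hM p5 l.n15.mem
  obtain ⟨p1, kp1, rfl⟩ := m.getU (nb_symm l.mem l.n15)
  obtain ⟨p2, kp2, rfl⟩ := m.getU (nb_symm l.n12.mem l.n25)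
  obtain ⟨p3, kp3, rfl⟩ := m.getU (nb_symm l.n13.mem l.n35)
  obtain ⟨p4, kp4, rfl⟩ := m.getU (nb_symm l.n14.mem l.n45)
  obtain ⟨ρ, kρ, rfl⟩ := m.getN h1.toNI h1.cf
  obtain ⟨σ, kσ, rfl⟩ := m.getN h2.toNI h2.cf
  obtain rfl := m.cen
  clear l
  revert h2
  revert kσ
  revert σ
  revert h1
  revert kρ
  revert ρ
  revert n34
  revert n24
  revert n14
  revert pd
  revert kp4
  revert p4
  revert n23
  revert n13
  revert kp3
  revert p3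
  revert n12
  revert kp2
  revert p2
  revert kp1
  revert p1
  simp only [nb_def, ni_def, yt_def, zt_def, lam_def, sw_def, m.mul, m.eq, m.eq1, m.memD, m.memR, ne_eq,
    pow_succ, pow_zero, one_mul]
  decide +kernel

theorem e5 (p1 p2 p3 p4 p5 d q : G) (l : Ln D p1 p2 p3 p4 p5) (h1 : Nb D p5 d) (h2 : d * p1 * d = p2)
    (h3 : d * p3 = p3 * d) (h4 : d * p4 = p4 * d) (h5 : Nb D p1 q) (h6 : q * p2 = p2 * q)
    (h7 : q * p5 = p5 * q) (h8 : q * p3 * q = p4) (h9 : p5 * q ∈ D) :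
    d * (p1 * q) = p1 * q * d ∧ p5 * p1 * q * d ∉ D ∧ p5 * p1 * q ∈ D := by
  have n12 := l.n12
  have n13 := l.n13
  have n23 := l.n23
  have n14 := l.n14
  have n24 := l.n24
  have n34 := l.n34
  have pd := l.prod
  obtain ⟨φ, m⟩ := hM p5 l.n15.mem
  obtain ⟨p1, kp1, rfl⟩ := m.getU (nb_symm l.mem l.n15)
  obtain ⟨p2, kp2, rfl⟩ := m.getU (nb_symm l.n12.mem l.n25)
  obtain ⟨p3, kp3, rfl⟩ := m.getU (nb_symm l.n13.mem l.n35)
  obtain ⟨p4, kp4, rfl⟩ := m.getU (nb_symm l.n14.mem l.n45)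
  obtain ⟨d, kd, rfl⟩ := m.getU h1
  obtain ⟨q, kq, rfl⟩ := m.getD h5.mem h7
  obtain rfl := m.cen
  clear l h1 h7
  revert h9
  revert h8
  revert h6
  revert h5
  revert kq
  revert q
  revert h4
  revert h3
  revert h2
  revert kd
  revert d
  revert n34
  revert n24
  revert n14
  revert pd
  revert kp4
  revert p4
  revert n23
  revert n13
  revert kp3
  revert p3
  revert n12
  revert kp2
  revert p2
  revert kp1
  revert p1
  simp only [nb_def, ni_def, yt_def, zt_def, lam_def, sw_def, m.mul, m.eq, m.eq1, m.memD, m.memR, ne_eq,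
    pow_succ, pow_zero, one_mul]
  decide +kernel

theorem e6 (z : G) (hz : z ∈ D) (p d q r : G) (h1 : Nb D z p) (h2 : Nb D z d) (h3 : Nb D p d)
    (h4 : Nb D z q) (h5 : Nb D z r) (h6 : Nb D q r) (h7 : p * q = q * p) (h8 : p * q ∈ D)
    (h9 : d * q ≠ q * d) (h10 : r * p ≠ p * r) : d * r = r * d := by
  obtain ⟨φ, m⟩ := hM z hz
  obtain ⟨p, kp, rfl⟩ := m.getU h1
  obtain ⟨d, kd, rfl⟩ := m.getU h2
  obtain ⟨q, kq, rfl⟩ := m.getU h4
  obtain ⟨r, kr, rfl⟩ := m.getU h5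
  obtain rfl := m.cen
  clear h1 h2 h4 h5
  revert h10
  revert h6
  revert kr
  revert r
  revert h9
  revert h8
  revert h7
  revert kq
  revert q
  revert h3
  revert kd
  revert d
  revert kp
  revert p
  simp only [nb_def, ni_def, yt_def, zt_def, lam_def, sw_def, m.mul, m.eq, m.eq1, m.memD, m.memR, ne_eq,
    pow_succ, pow_zero, one_mul]
  decide +kernel

end H28.XW
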