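import Mathlib
import Cfsg.Agent.H29.Ext

set_option autoImplicit false
set_option maxRecDepth 100000
set_option Elab.async false
set_option linter.all false

namespace H28.XUT1

open H29

noncomputable def n0 : Net := ben 4 [(nat_lit 0x0),
 (nat_lit 0x0),
 (nat_lit 0x0),
 (nat_lit 0x0)]
noncomputable def t0 : List ℕ := [(nat_lit 0x38d2),
 (nat_lit 0xdc),
 (nat_lit 0x7f20),
 (nat_lit 0x0)]
noncomputable def d0 : ℕ := (nat_lit 0x0)
noncomputable def n1 : Net := ben 4 [(nat_lit 0x0),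
 (nat_lit 0x0),
 (nat_lit 0x0),
 (nat_lit 0x0)]
noncomputable def t1 : List ℕ := [(nat_lit 0x40d2),
 (nat_lit 0x40dc),
 (nat_lit 0x3f20),
 (nat_lit 0x0)]
noncomputable def d1 : ℕ := (nat_lit 0x0)
noncomputable def n2 : Net := ben 4 [(nat_lit 0x0),
 (nat_lit 0x0),
 (nat_lit 0x0),
 (nat_lit 0x0)]
noncomputable def t2 : List ℕ := [(nat_lit 0x3b52),
 (nat_lit 0x5c),
 (nat_lit 0x7fa0),
 (nat_lit 0x0)]
noncomputable def d2 : ℕ := (nat_lit 0x0)
noncomputable def n3 : Net := ben 4 [(nat_lit 0x0),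
 (nat_lit 0x0),
 (nat_lit 0x0),
 (nat_lit 0x0)]
noncomputable def t3 : List ℕ := [(nat_lit 0x531a),
 (nat_lit 0x401c),
 (nat_lit 0x3fe0),
 (nat_lit 0x0)]
noncomputable def d3 : ℕ := (nat_lit 0x0)
noncomputable def n4 : Net := ben 4 [(nat_lit 0x1d0),
 (nat_lit 0x1a00),
 (nat_lit 0x4608),
 (nat_lit 0x40)]
noncomputable def t4 : List ℕ := [(nat_lit 0x784a),
 (nat_lit 0x2b04),
 (nat_lit 0x0),
 (nat_lit 0x0)]
noncomputable def d4 : ℕ := (nat_lit 0x420)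
noncomputable def n5 : Net := ben 4 [(nat_lit 0x3330),
 (nat_lit 0x1b1a),
 (nat_lit 0x28a),
 (nat_lit 0x8)]
noncomputable def t5 : List ℕ := [(nat_lit 0x2),
 (nat_lit 0x7e04),
 (nat_lit 0x0),
 (nat_lit 0x0)]
noncomputable def d5 : ℕ := (nat_lit 0x150)
noncomputable def n6 : Net := ben 4 [(nat_lit 0x37c3),
 (nat_lit 0x5001),
 (nat_lit 0x308),
 (nat_lit 0x40)]
noncomputable def t6 : List ℕ := [(nat_lit 0x1158),
 (nat_lit 0x58),
 (nat_lit 0x7fa0),
 (nat_lit 0x0)]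
noncomputable def d6 : ℕ := (nat_lit 0x4)
noncomputable def n7 : Net := ben 4 [(nat_lit 0x600),
 (nat_lit 0x5012),
 (nat_lit 0x18e),
 (nat_lit 0x8)]
noncomputable def t7 : List ℕ := [(nat_lit 0x1b92),
 (nat_lit 0x1fd6),
 (nat_lit 0x1fa0),
 (nat_lit 0x6000)]
noncomputable def d7 : ℕ := (nat_lit 0x8)
noncomputable def n8 : Net := n7.rev
noncomputable def t8 : List ℕ := mapPull n8 t7
noncomputable def d8 : ℕ := (nat_lit 0x0)
noncomputable def n9 : Net := ben 4 [(nat_lit 0x8fe),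
 (nat_lit 0xa2),
 (nat_lit 0x748c),
 (nat_lit 0x3c)]
noncomputable def t9 : List ℕ := [(nat_lit 0x2509),
 (nat_lit 0x824),
 (nat_lit 0x0),
 (nat_lit 0x0)]
noncomputable def d9 : ℕ := (nat_lit 0x5282)
noncomputable def n10 : Net := n9.rev
noncomputable def t10 : List ℕ := mapPull n10 t9
noncomputable def d10 : ℕ := (nat_lit 0x2800)
def ivl : List ℕ := [0, 1, 2, 3, 4, 5, 6, 8, 7, 10, 9, 12, 11, 14, 13, 16, 15, 17, 18]
def cols : List ℕ := [0, 1, 2, 3, 4, 5, 6, 7, 8, 9, 10]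
def hcols : List ℕ := [0, 1, 2, 3, 4, 5, 6, 7, 8]
def G0 : List (List ℕ) := [[0, 1, 0, 1],
 [0, 2, 0, 2],
 [0, 3, 0, 3],
 [0, 4, 0, 4],
 [0, 5, 0, 5],
 [0, 6, 0, 6],
 [1, 2, 1, 2],
 [1, 3, 1, 3],
 [1, 4, 1, 4],
 [1, 5, 1, 5],
 [2, 3, 2, 3],
 [2, 6, 2, 6],
 [4, 5, 4, 5],
 [4, 6, 4, 6],
 [0, 1, 6, 1, 6],
 [0, 2, 4, 2, 4],
 [1, 3, 5, 3, 5],
 [2, 3, 6, 3, 6],
 [4, 5, 6, 5, 6],
 [0, 1, 2, 5, 2, 5],
 [0, 1, 3, 4, 3, 4],
 [7, 7, 7],
 [0, 7, 0, 8],
 [1, 8, 2, 7],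
 [4, 8, 6, 7],
 [1, 2, 7, 2, 8],
 [2, 3, 8, 3, 7],
 [4, 6, 7, 6, 8],
 [5, 6, 8, 5, 8],
 [9, 9, 9],
 [6, 9, 6, 9],
 [9, 0, 10, 1],
 [9, 1, 10, 0, 1],
 [9, 2, 10, 3],
 [9, 3, 10, 2, 3],
 [9, 4, 10, 5],
 [9, 5, 10, 4, 5],
 [9, 8, 9, 8, 9, 8, 9, 8, 9, 8],
 [7, 9, 8, 10, 7, 9, 8, 10, 7, 9, 8, 10, 7, 9, 8, 10, 7, 9, 8, 10]]
def R0 : List (List ℕ) := G0
def w0 : List ℕ := [8, 9, 6, 7, 9, 8, 10, 7, 9, 4, 10, 7, 10, 7, 10, 7, 10, 6, 4, 6, 5, 6, 10, 7, 10, 7, 10, 7, 10, 6, 9, 6, 5, 4, 6, 9, 8, 9, 8, 9, 8, 9, 5, 6, 9, 8, 10, 7, 9, 4]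
def R1 : List (List ℕ) := R0 ++ [w0]
theorem hii : ∀ c, ivOf ivl (ivOf ivl c) = c := ivOf_ivOf (by decide +kernel)
noncomputable def pr0 : List (ℕ × ℕ) := [(187, (nat_lit 0x700000400000100000700000200000700000200000700000100000700005000000100000700003000000100012900000700004000005000003800004800004000005000008a0000820000010000810000090000120000500000380000480000400000500000070001350000070000ba00000700000200002a0000d20000c90000d10000da00010900000700000200000900001a0000110000190000070000300000b20001190000b10000070000b100002800003000000700012500000700004000000700000200000a00005000002900007a00009200008900009100000700007a00000700000100004a0000090000120000a100001100000700003000003a0000e100003900000700003000002800007a00000700003800000700000200000a00008100000900001100003100000700006100002800003000000700003800000700000100000a00009a00000900001200002100000700007900002000003000000700003800000700004800004000004800004000004800004000004800002a00000700000200003000000a0000610000090000070000890000200000070000400000070000020000070000ad00000700012d0000070000380000070000e500000700005000002900000700000a00000100000900001100000700011d00000700005000002900000700002900003000000a0000010000090000070000dd00000700004000000700000a0000010000090000110000070000f50000070000400000070000010000200000070000c5))]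
theorem p0 : chkProg 4 (ivOf ivl) R0 pr0 [(0, w0)] = true := by decide +kernel
theorem der : Derives (ivOf ivl) R0 R1 := (Derives.refl _ _).prog hii p0
noncomputable def nl : List Net := [n0, n1, n2, n3, n4, n5, n6, n7, n8, n9, n10]
noncomputable def T : TCData := ⟨15, 15, 4, 4, nth Net.nil nl, ivOf ivl, cols, hcols, R1,
  nth [] [t0, t1, t2, t3, t4, t5, t6, t7, t8, t9, t10], nth 0 [d0, d1, d2, d3, d4, d5, d6, d7, d8, d9, d10]⟩
theorem hn : NetsOK 15 (nth Net.nil nl) := netsOK_of_all (by decide +kernel)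
theorem hiv : IvOK (sg (nth Net.nil nl)) (ivOf ivl) :=
  ivOK_of_chk (k := 4) hn (by decide) (n := 19) (by decide) (by decide) (allN_true.1 (by decide +kernel))
theorem hb : T.Basic := TCData.basic_of_chk hn hiv (by decide +kernel)
theorem hG0 : ∀ r ∈ G0, ev (sg (nth Net.nil nl)) r = 1 :=
  rels_of_chk (k := 4) hn (by decide) hiv (allN_true.1 (by decide +kernel))
noncomputable def s0 : List TCData.Step := [.pts 3 0 0 4 [10],
 .pts 4 0 0 3 [4],
 .pts 4 0 0 4 [5, 8],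
 .pts 5 0 0 2 [2],
 .pts 14 0 0 5 [13],
 .pts 20 0 0 5 [11],
 .pts 22 2 0 2 [3],
 .pts 22 2 0 3 [6],
 .all 31 1 0,
 .pts 32 3 0 4 [14],
 .pts 32 3 0 5 [12]]
noncomputable def s1 : List TCData.Step := [.pts 8 0 0 4 [10, 12],
 .pts 9 0 0 3 [4],
 .pts 9 0 0 4 [5, 8],
 .pts 23 0 0 2 [3],
 .pts 23 0 0 3 [6],
 .all 31 3 0,
 .pts 32 1 0 1 [1],
 .pts 32 1 0 3 [7],
 .pts 32 1 0 4 [9]]
noncomputable def s2 : List TCData.Step := [.pts 11 0 0 2 [2],
 .pts 11 0 0 5 [9],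
 .pts 15 3 0 5 [12],
 .pts 19 4 0 3 [4],
 .pts 19 4 0 4 [5],
 .pts 25 3 0 2 [3],
 .pts 25 3 0 3 [6],
 .all 33 1 0,
 .pts 34 3 0 4 [14],
 .pts 34 3 0 5 [11, 13]]
noncomputable def s3 : List TCData.Step := [.pts 17 3 0 4 [6],
 .pts 17 3 0 5 [9],
 .pts 26 1 0 3 [3],
 .pts 26 3 0 3 [4],
 .pts 26 3 0 4 [5],
 .all 33 3 0,
 .pts 34 1 0 1 [1],
 .pts 34 1 0 4 [7, 10],
 .pts 34 1 0 5 [8]]
noncomputable def s4 : List TCData.Step := [.pts 12 0 0 1 [3],
 .pts 13 0 0 2 [2],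
 .pts 35 1 0 1 [1, 12],
 .pts 35 1 0 2 [8],
 .pts 36 3 0 3 [11]]
noncomputable def s5 : List TCData.Step := [.pts 35 3 0 2 [2, 13],
 .pts 36 1 0 1 [1],
 .pts 36 1 0 2 [9],
 .pts 36 4 0 2 [12]]
noncomputable def s6 : List TCData.Step := [.pts 13 1 0 5 [8],
 .pts 18 4 0 4 [5],
 .pts 24 2 0 3 [4],
 .pts 27 3 0 3 [6],
 .pts 30 0 0 4 [7, 9, 10]]
noncomputable def s7 : List TCData.Step := [.all 24 1 0,
 .pts 27 4 0 7 [11],
 .pts 28 2 0 2 [2],
 .pts 28 2 0 3 [1],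
 .pts 28 2 0 7 [8],
 .pts 28 4 0 4 [5],
 .pts 28 4 0 7 [12],
 .pts 37 1 0 7 [9],
 .pts 37 1 0 8 [14],
 .pts 39 0 0 6 [10]]
noncomputable def s8 : List TCData.Step := [.pts 21 0 0 3 [6]]
noncomputable def s9 : List TCData.Step := [.pts 36 2 0 1 [8]]
noncomputable def s10 : List TCData.Step := [.pts 29 0 0 1 [9, 14],
 .pts 29 0 0 2 [1, 10, 12],
 .pts 30 1 0 1 [2],
 .pts 35 0 0 1 [4]]
theorem hR0 : ∀ r ∈ R0, ev (sg (nth Net.nil nl)) r = 1 := hG0
theorem col0 : T.ColOK 0 := TCData.colOK_of_chk (U := (T.stepsMask 0 s0 (T.mask0 0))) (V := (T.stepsMask 0 s0 (T.mask0 0))) hb (TCData.cov_stepsMask hb (by decide) s0 _ (T.cov_mask0 0)) (TCData.cov_stepsMask hb (by decide) s0 _ (T.cov_mask0 0)) (by decide +kernel)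
theorem col1 : T.ColOK 1 := TCData.colOK_of_chk (U := (T.stepsMask 1 s1 (T.mask0 1))) (V := (T.stepsMask 1 s1 (T.mask0 1))) hb (TCData.cov_stepsMask hb (by decide) s1 _ (T.cov_mask0 1)) (TCData.cov_stepsMask hb (by decide) s1 _ (T.cov_mask0 1)) (by decide +kernel)
theorem col2 : T.ColOK 2 := TCData.colOK_of_chk (U := (T.stepsMask 2 s2 (T.mask0 2))) (V := (T.stepsMask 2 s2 (T.mask0 2))) hb (TCData.cov_stepsMask hb (by decide) s2 _ (T.cov_mask0 2)) (TCData.cov_stepsMask hb (by decide) s2 _ (T.cov_mask0 2)) (by decide +kernel)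
theorem col3 : T.ColOK 3 := TCData.colOK_of_chk (U := (T.stepsMask 3 s3 (T.mask0 3))) (V := (T.stepsMask 3 s3 (T.mask0 3))) hb (TCData.cov_stepsMask hb (by decide) s3 _ (T.cov_mask0 3)) (TCData.cov_stepsMask hb (by decide) s3 _ (T.cov_mask0 3)) (by decide +kernel)
theorem col4 : T.ColOK 4 := TCData.colOK_of_chk (U := (T.stepsMask 4 s4 (T.mask0 4))) (V := (T.stepsMask 4 s4 (T.mask0 4))) hb (TCData.cov_stepsMask hb (by decide) s4 _ (T.cov_mask0 4)) (TCData.cov_stepsMask hb (by decide) s4 _ (T.cov_mask0 4)) (by decide +kernel)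
theorem col5 : T.ColOK 5 := TCData.colOK_of_chk (U := (T.stepsMask 5 s5 (T.mask0 5))) (V := (T.stepsMask 5 s5 (T.mask0 5))) hb (TCData.cov_stepsMask hb (by decide) s5 _ (T.cov_mask0 5)) (TCData.cov_stepsMask hb (by decide) s5 _ (T.cov_mask0 5)) (by decide +kernel)
theorem col6 : T.ColOK 6 := TCData.colOK_of_chk (U := (T.stepsMask 6 s6 (T.mask0 6))) (V := (T.stepsMask 6 s6 (T.mask0 6))) hb (TCData.cov_stepsMask hb (by decide) s6 _ (T.cov_mask0 6)) (TCData.cov_stepsMask hb (by decide) s6 _ (T.cov_mask0 6)) (by decide +kernel)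
theorem col7 : T.ColOK 7 := TCData.colOK_of_chk (U := (T.stepsMask 7 s7 (T.mask0 7))) (V := (T.stepsMask 8 s8 (T.mask0 8))) hb (TCData.cov_stepsMask hb (by decide) s7 _ (T.cov_mask0 7)) (TCData.cov_stepsMask hb (by decide) s8 _ (T.cov_mask0 8)) (by decide +kernel)
theorem col8 : T.ColOK 8 := TCData.colOK_of_chk (U := (T.stepsMask 8 s8 (T.mask0 8))) (V := (T.stepsMask 7 s7 (T.mask0 7))) hb (TCData.cov_stepsMask hb (by decide) s8 _ (T.cov_mask0 8)) (TCData.cov_stepsMask hb (by decide) s7 _ (T.cov_mask0 7)) (by decide +kernel)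
theorem col9 : T.ColOK 9 := TCData.colOK_of_chk (U := (T.stepsMask 9 s9 (T.mask0 9))) (V := (T.stepsMask 10 s10 (T.mask0 10))) hb (TCData.cov_stepsMask hb (by decide) s9 _ (T.cov_mask0 9)) (TCData.cov_stepsMask hb (by decide) s10 _ (T.cov_mask0 10)) (by decide +kernel)
theorem col10 : T.ColOK 10 := TCData.colOK_of_chk (U := (T.stepsMask 10 s10 (T.mask0 10))) (V := (T.stepsMask 9 s9 (T.mask0 9))) hb (TCData.cov_stepsMask hb (by decide) s10 _ (T.cov_mask0 10)) (TCData.cov_stepsMask hb (by decide) s9 _ (T.cov_mask0 9)) (by decide +kernel)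
theorem ok : T.OK := ⟨hb, TCData.treeOK_of_chk hn (by decide +kernel), (List.forall_mem_cons.2 ⟨col0, (List.forall_mem_cons.2 ⟨col1, (List.forall_mem_cons.2 ⟨col2, (List.forall_mem_cons.2 ⟨col3, (List.forall_mem_cons.2 ⟨col4, (List.forall_mem_cons.2 ⟨col5, (List.forall_mem_cons.2 ⟨col6, (List.forall_mem_cons.2 ⟨col7, (List.forall_mem_cons.2 ⟨col8, (List.forall_mem_cons.2 ⟨col9, (List.forall_mem_cons.2 ⟨col10, (fun _ h => absurd h List.not_mem_nil)⟩)⟩)⟩)⟩)⟩)⟩)⟩)⟩)⟩)⟩)⟩), der _ _ hiv hR0⟩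
theorem bd {G : Type} [Group G] {e : ℕ → G} (h1 : IvOK e (ivOf ivl)) (h2 : ∀ r ∈ R0, ev e r = 1)
    {m : ℕ} (h : Bd (gen e hcols) m) : Bd (gen e cols) (15 * m) := ok.bd h1 (der G e h1 h2) h
theorem cm {G : Type} [Group G] {e : ℕ → G} (h1 : IvOK e (ivOf ivl)) (h2 : ∀ r ∈ R0, ev e r = 1)
    (h3 : gen e cols = ⊤) {ρ : G →* Equiv.Perm ℕ} (h4 : ∀ c, ρ (e c) = sg (nth Net.nil nl) c) :
    CosetModel ρ (gen e hcols) 15 := ok.cosetModel h1 (der G e h1 h2) h3 fun c _ => h4 c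

end H28.XUT1
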