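import Mathlib
import Cfsg.Agent.H10.U43P
import Cfsg.Agent.H28.XUT0
import Cfsg.Agent.H28.XUT1
import Cfsg.Agent.H28.XUT2

/-!
# A presentation of `U₄(3)` over the centraliser of an involution
-/

set_option autoImplicit false
set_option maxRecDepth 100000
set_option Elab.async false
set_option linter.all false

namespace H28.XU

open H29 H9.MX Subgroup

theorem ubd1 : UBd (ivOf XUT0.ivl) XUT1.R0 XUT1.cols 5760 := fun _ _ _ hi hR =>
  XUT1.bd hi hR (XUT2.bd hi (rels_sub hR (by decide +kernel)) (bd_nil _))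
theorem ubd0 : UBd (ivOf XUT0.ivl) XUT0.R0 XUT0.cols 3265920 := fun G _ e hi hR =>
  XUT0.bd hi hR (ubd1 G e hi (rels_sub hR (by decide +kernel)))

def wl : List (List ℕ) := [[4], [2, 5, 3, 4, 5, 1, 4, 0], [5, 4, 3, 5, 2, 4, 5], [5, 1, 4, 0, 5],
  [1, 4, 5, 3, 3, 5, 2, 2, 4, 0], [0, 4, 2, 2, 0, 5, 2, 4, 0], [1, 4, 5, 3, 5, 2, 4, 0], [0, 4, 5, 2, 0, 5, 3, 4, 0],
  [1, 4, 5, 3, 1, 5, 3, 4, 1], [4, 0, 5, 3, 3, 4, 2, 1, 4, 5, 4], [4, 5, 4, 2, 5, 4, 3, 0, 2, 5, 1],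
  [1, 4, 5, 0, 5, 3, 3, 1, 4, 0], [1, 4, 5, 2, 0, 5, 3, 0, 4, 0], [0], [1], [2], [3], [4], [5]]
def wT : List (List ℕ) := [[9, 8, 9, 11, 10, 8, 9, 4, 11, 7], [9, 8, 9, 11, 10, 8, 9, 2, 12, 8],
  [8, 9, 11, 8, 2, 9, 12, 8, 10, 4], [9, 11, 8, 10, 7, 3, 11, 10, 7, 2], [0], [9, 8, 9, 11, 10, 7, 3, 10, 1]]
def w2 : List (List ℕ) := [[0], [1], [2], [3], [4], [5], [6], [7], [8], [9], [10], [0, 2, 10, 8], [0, 2, 5, 10, 8]]
/-- Relations in `2 ^ 4 : A₆`. -/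
def RX : List (List ℕ × List ℕ) := [([6, 10, 7, 10, 7], [7, 6, 10, 7, 10]), ([6, 10, 7, 10, 0], [1, 3, 6, 10, 7, 10]),
  ([6, 10, 7, 10, 0, 1, 3], [0, 6, 10, 7, 10]), ([6, 10, 7, 10, 6, 10, 7, 10, 6, 10, 7, 10], []),
  ([9, 7, 6, 7], [6, 10, 7, 10, 9, 7, 6]), ([9, 7, 6, 6, 10, 7, 10], [8, 9, 7, 6])]

noncomputable def nets : ℕ → Net := wNets (nth Net.nil H10.U43T0.nl) wl
theorem hn : NetsOK 280 nets := H10.U43T0.hn.wNets wl
noncomputable def EQ (u v : List ℕ) : Bool := allN 9 (chkEq 280 9 nets u v)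
/-- The letters in the model. -/
noncomputable def y : ℕ → H10.U43P.S := wE (pe H10.U43T0.nl) wl

theorem hρ (c : ℕ) : (PG H10.U43T0.nl).subtype (y c) = sg nets c := map_wE (pe_rho _) wl c

theorem eq_of {u v : List ℕ} (h : EQ u v = true) : ev y u = ev y v :=
  Subtype.ext ((map_ev_sg fun c _ => hρ c).trans (Eq.trans (ev_eq_of_planeEq hn (k := 9) (by decide)
    fun j hj => chkEq_sound hn (by decide) (allN_true.1 h j hj)) (map_ev_sg fun c _ => hρ c).symm))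

theorem q1 : ∀ c < 19, EQ [ivOf XUT0.ivl c, c] [] = true := by decide +kernel
theorem q2 : ∀ r ∈ XUT0.R0, EQ r [] = true := by decide +kernel
theorem q3 : ∀ c < 6, EQ [13 + c] (nth [] wT c) = true ∧ (∀ d ∈ nth [] wT c, d ∈ XUT0.cols) ∧
    nth [] wl (13 + c) = [c] := by decide +kernel
theorem q4 : ∀ p ∈ RX, EQ p.1 p.2 = true ∧ (∀ c ∈ p.1, c ∈ XUT1.cols) ∧ ∀ c ∈ p.2, c ∈ XUT1.cols := by
  decide +kernel
theorem q5 : chkChain 280 9 (wNets nets w2) [(13, 12, 160, [11, 12]), (1, 20, 36, [])]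
    [0, 1, 2, 3, 4, 5, 6, 7, 8, 9, 10, 11, 12] = true := by decide +kernel

theorem iv_y : IvOK y (ivOf XUT0.ivl) := fun c => by
  by_cases h : c < 19
  · exact eq_inv_of_mul_eq_one_left (by simpa using eq_of (q1 c h))
  · have : y c = 1 := by rw [y, wE, nth_default _ (by simp [wl]; omega), ev_nil]
    rw [ivOf, nth_default _ (by simp [XUT0.ivl]; omega), this, inv_one]

theorem rel_y : ∀ r ∈ XUT0.R0, ev y r = 1 := fun r hr => eq_of (q2 r hr)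

theorem top_y : gen y XUT0.cols = ⊤ := by
  rw [eq_top_iff, ← H10.U43P.top]
  refine gen_le.2 fun c hc => ?_
  obtain ⟨h1, h2, h3⟩ := q3 c (by revert c; decide)
  have := eq_of h1
  rw [ev_cons, ev_nil, mul_one, y, wE, h3, ev_cons, ev_nil, mul_one] at this
  exact this ▸ ev_mem_gen h2

instance : Finite H10.U43P.S := Nat.finite_of_card_ne_zero (by rw [H10.U43P.card.1]; decide)

theorem card1 : 5760 ≤ Nat.card (gen y XUT1.cols) :=
  (le_card_gen_of_chain (hn.wNets w2) H10.U43P.card.2 (fun c _ => map_wE hρ w2 c) q5).trans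
    (card_le_of_le (gen_le.2 fun c hc => ev_mem_gen (by revert c; decide +kernel)))

universe u

variable {G : Type u} [Group G] [Finite G] {e : ℕ → G}

theorem tr_univ {R : List (List ℕ)} {L : List ℕ} {n : ℕ} (hU : UBd (ivOf XUT0.ivl) R L n)
    (hL : ∀ c ∈ L, ivOf XUT0.ivl c ∈ L) (h1 : IvOK e (ivOf XUT0.ivl)) (r1 : ∀ r ∈ R, ev y r = 1)
    (r2 : ∀ r ∈ R, ev e r = 1) (hn : n ≤ Nat.card (gen y L)) : Tr y e L := by
  let f : Shrink.{0} G ≃* G := Shrink.mulEquiv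
  exact (tr_of_bd hU hL iv_y (ivOK_map f.symm.toMonoidHom h1) r1
    (fun r hr => by rw [← map_ev, r2 r hr, map_one]) hn).trans
    (Tr.of_injective f.symm.toMonoidHom f.symm.injective fun _ _ => rfl)

theorem rx (h1 : IvOK e (ivOf XUT0.ivl)) (h2 : ∀ r ∈ XUT1.R0, ev e r = 1) : ∀ p ∈ RX, ev e p.1 = ev e p.2 :=
  fun p hp => (tr_univ ubd1 (by decide) h1 (rels_sub rel_y (by decide +kernel)) h2 card1).eq iv_y h1 (by decide)
    (q4 p hp).2.1 (q4 p hp).2.2 (eq_of (q4 p hp).1)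

theorem recog (h1 : IvOK e (ivOf XUT0.ivl)) (h2 : ∀ r ∈ XUT0.R0, ev e r = 1) (h3 : e 0 ≠ 1) :
    Nonempty (H10.U43P.S ≃* gen e XUT0.cols) :=
  haveI := H10.U43P.simple
  equiv_of_simple (tr_univ ubd0 (by decide) h1 rel_y h2 (by rw [top_y, card_top, H10.U43P.card.1])) iv_y h1
    (by decide) top_y ⟨[0], by decide, by simpa using h3⟩

end H28.XU
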