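import Mathlib
import Cfsg.Agent.H7.XKU
import Cfsg.Agent.H7.XV
import Cfsg.Agent.H28.XUM

/-!
# The element of order three that permutes `z`, `v`, `z v`
-/

set_option autoImplicit false
set_option maxRecDepth 100000
set_option linter.all false
set_option synthInstance.maxSize 4000

namespace H28.XU

open H29 H7.Cay H7.X32 Subgroup H24

/-- The element with a given code. -/
noncomputable abbrev c (n : ℕ) : KU := KK.of n

variable {G : Type*} [Group G] {ι : KU →* G} {g g' r y : G} {p q p' q' u : KU} {W : Subgroup G}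

/-- `g` conjugates `p` to `q`. -/
def Cj (ι : KU →* G) (g : G) (p q : KU) : Prop := g * ι p * g⁻¹ = ι q

theorem Cj.mul (a : Cj ι g p q) (b : Cj ι g p' q') : Cj ι g (p * p') (q * q') := by
  rw [Cj, map_mul, map_mul, ← a, ← b]; group
theorem Cj.inv (a : Cj ι g p q) : Cj ι g p⁻¹ q⁻¹ := by
  rw [Cj, map_inv, map_inv, ← a]; group
theorem cj1 : Cj ι g 1 1 := by simp [Cj]
theorem Cj.comp (a : Cj ι g q u) (b : Cj ι g' p q) : Cj ι (g * g') p u := by
  rw [Cj, ← a, ← b]; group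
theorem Cj.symm (a : Cj ι g p q) : Cj ι g⁻¹ q p := by rw [Cj, ← a]; group
theorem cj_ι {k : KU} (h : k * p * k⁻¹ = q) : Cj ι (ι k) p q := by simp [Cj, ← h]
theorem Cj.of (a : Cj ι g p q) (h : p = p' ∧ q = q') : Cj ι g p' q' := h.1 ▸ h.2 ▸ a

/-- `ι` maps the model onto `C(z)`. -/
structure Em (ι : KU →* G) : Prop where
  inj : Function.Injective ι
  cen : ∀ g, g * ι (c 16) = ι (c 16) * g → ∃ k, ι k = g

theorem Em.iff (E : Em ι) (a : Cj ι g p q) (b : Cj ι g p' q') : p = p' ↔ q = q' := by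
  rw [← E.inj.eq_iff, ← E.inj.eq_iff (a := q), ← a, ← b]; simp

theorem Em.code (E : Em ι) (a : Cj ι g (c 16) (c 16)) : ∃ k, ι k = g :=
  E.cen g (mul_inv_eq_iff_eq_mul.1 a)

theorem Em.un (E : Em ι) {k : KU} (a : Cj ι (ι k) p q) : k * p * k⁻¹ = q :=
  E.inj (by simpa [Cj] using a)

/-- `r` permutes `z`, `v`, `z v` and is inverted by `x`. -/
structure Pre (ι : KU →* G) (r : G) : Prop where
  r3 : r * (r * r) = 1
  xr : ι (c 11) * r * (ι (c 11))⁻¹ = r⁻¹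
  rz : Cj ι r (c 16) (c 15)
  rv : Cj ι r (c 15) (c 31)

theorem Pre.rw (h : Pre ι r) : Cj ι r (c 31) (c 16) := (h.rz.mul h.rv).of (by decide +kernel)

theorem Em.pre (E : Em ι) (yz : Cj ι y (c 16) (c 15)) (yv : Cj ι y (c 15) (c 16)) : ∃ r, Pre ι r := by
  have xx : ι (c 11) * ι (c 11) = 1 := by
    rw [← map_mul, (by decide +kernel : c 11 * c 11 = 1), map_one]
  have x1 : Cj ι (ι (c 11)) (c 16) (c 16) := cj_ι (by decide +kernel)
  have x2 : Cj ι (ι (c 11)) (c 15) (c 31) := cj_ι (by decide +kernel)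
  have x3 : Cj ι (ι (c 11)) (c 31) (c 15) := cj_ι (by decide +kernel)
  have y3 : Cj ι y (c 31) (c 31) := (yz.mul yv).of (by decide +kernel)
  have a1 := x3.comp (y3.comp (x2.comp yv.symm))
  have a2 := x2.comp (yz.comp (x1.comp yz.symm))
  have e : ι (c 11) * (ι (c 11) * (y * (ι (c 11) * y⁻¹))) * (ι (c 11))⁻¹ =
      (ι (c 11) * (y * (ι (c 11) * y⁻¹)))⁻¹ := by
    rw [← mul_assoc, xx]
    nth_rewrite 1 [eq_inv_of_mul_eq_one_left xx]
    group
  generalize ι (c 11) * (y * (ι (c 11) * y⁻¹)) = ρ at a1 a2 e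
  have a3 : Cj ι ρ (c 31) (c 16) := (a1.mul a2).of (by decide +kernel)
  have b1 := a3.comp (a2.comp a1)
  have b2 := a1.comp (a3.comp a2)
  obtain ⟨k, hk⟩ := E.code b1
  have k4 : k * k * k * k = 1 := (by decide +kernel : ∀ k : KU, k * c 15 * k⁻¹ = c 15 → k * k * k * k = 1) k
    (E.un (hk ▸ b2))
  refine ⟨ρ * (ρ * (ρ * ρ)), ?_, ?_, a1.comp b1, a2.comp b2⟩
  · have := congrArg ι k4
    simp only [map_mul, map_one, hk] at this
    rw [← this]; group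
  · rw [show (ρ * (ρ * (ρ * ρ)))⁻¹ = ρ⁻¹ * (ρ⁻¹ * (ρ⁻¹ * ρ⁻¹)) by group, ← e]; group

theorem Pre.next (h : Pre ι r) (a : Cj ι r p q) (hp : c 11 * p * (c 11)⁻¹ = p) :
    Cj ι r q (c 11 * q * (c 11)⁻¹) ∧ Cj ι r (c 11 * q * (c 11)⁻¹) p := by
  have b : Cj ι r⁻¹ p (c 11 * q * (c 11)⁻¹) :=
    h.xr ▸ ((cj_ι rfl).comp a).comp (map_inv ι _ ▸ (cj_ι (ι := ι) hp).symm)
  refine ⟨?_, by simpa using b.symm⟩
  have e : r = r⁻¹ * r⁻¹ := by rw [← mul_inv_rev, eq_inv_iff_mul_eq_one, h.r3]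
  have := b.comp a.symm
  rwa [← e] at this

theorem Pre.ex (E : Em ι) (h : Pre ι r) (hp : p * c 31 = c 31 * p) : ∃ q, Cj ι r p q := by
  obtain ⟨q, hq⟩ := E.cen (r * ι p * r⁻¹) (by
    rw [← h.rw, conj_mul, conj_mul, ← map_mul, ← map_mul, hp])
  exact ⟨q, hq.symm⟩

/-- The action on `⟨z, v⟩`. -/
def Cd (p q : KU) : Prop := ∀ u ∈ [(1, 1), (c 16, c 15), (c 15, c 31), (c 31, c 16)], p = u.1 ↔ q = u.2

noncomputable instance (p q : KU) : Decidable (Cd p q) := by unfold Cd; infer_instance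

theorem Pre.cd (E : Em ι) (h : Pre ι r) (a : Cj ι r p q) : Cd p q := by
  simp only [Cd, List.forall_mem_cons, List.not_mem_nil, false_imp_iff, implies_true, and_true]
  exact ⟨E.iff a cj1, E.iff a h.rz, E.iff a h.rv, E.iff a h.rw⟩

theorem Pre.conj (h : Pre ι r) {k : KU} (h1 : c 11 * k = k * c 11) (h2 : k * c 16 * k⁻¹ = c 16)
    (h3 : k * c 15 * k⁻¹ = c 15) (h4 : k * c 31 * k⁻¹ = c 31) : Pre ι (ι k * r * (ι k)⁻¹) := by
  have e : ι (c 11) * ι k = ι k * ι (c 11) := by rw [← map_mul, h1, map_mul]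
  refine ⟨by rw [conj_mul, conj_mul, h.r3]; group, ?_, ((cj_ι h3).comp h.rz).comp (cj_ι h2).symm,
    ((cj_ι h4).comp h.rv).comp (cj_ι h3).symm⟩
  calc _ = ι (c 11) * ι k * r * (ι (c 11) * ι k)⁻¹ := by group
    _ = ι k * (ι (c 11) * r * (ι (c 11))⁻¹) * (ι k)⁻¹ := by rw [e]; group
    _ = _ := by rw [h.xr]; group

/-- The action of `r` on `C(z, v)` is the one in `U₄(3)`. -/
structure Gd (ι : KU →* G) (r : G) : Prop extends Pre ι r where
  re : Cj ι r (c 5) (c 207)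
  rg : Cj ι r (c 6) (c 614)

theorem Em.good (E : Em ι) (yz : Cj ι y (c 16) (c 15)) (yv : Cj ι y (c 15) (c 16))
    (hz : ι (c 16) ∈ W) (hv : ι (c 15) ∈ W) (h5 : ι (c 5) ∉ W) (h9 : ι (c 9) ∉ W)
    (hW : ∀ g, Cj ι g (c 16) (c 15) → ∀ p : KU, p.val < 32 → g * ι p * g⁻¹ ∈ W) : ∃ r, Gd ι r := by
  obtain ⟨r, h⟩ := E.pre yz yv
  have key : ∀ p ∈ [c 5, c 6], ∃ q, Cj ι r p q ∧ Cj ι r q (c 11 * q * (c 11)⁻¹) ∧
      q ∈ [c 202, c 207, c 218, c 223, c 608, c 614, c 624, c 630] ∧ (p = c 5 ↔ q.val < 600) := fun p hp => by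
    obtain ⟨p1, p2, p3, p4, p5⟩ := (by decide +kernel : ∀ p ∈ [c 5, c 6], p * c 31 = c 31 * p ∧
      c 11 * p * (c 11)⁻¹ = p ∧ p * p = 1 ∧ p * c 16 = c 16 * p ∧ p.val < 32) p hp
    obtain ⟨q, a⟩ := h.ex E p1
    obtain ⟨b, d⟩ := h.next a p2
    have m : ι q ∈ W := a ▸ hW r h.rz p p5
    have m1 : ι (c 31) ∈ W := by
      rw [(by decide +kernel : c 31 = c 16 * c 15), map_mul]; exact mul_mem hz hv
    refine ⟨q, a, b, (by decide +kernel : ∀ p ∈ [c 5, c 6], ∀ q : KU, q * q = 1 → q * c 15 = c 15 * q →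
      Cd p q → (∀ w ∈ [1, c 16, c 15, c 31], w * q ≠ c 5 ∧ w * q ≠ c 9) →
      Cd (p * q * (c 11 * q * (c 11)⁻¹)) (q * (c 11 * q * (c 11)⁻¹) * p) →
      Cd (p * q * (p * q)) (q * (c 11 * q * (c 11)⁻¹) * (q * (c 11 * q * (c 11)⁻¹))) →
      q ∈ [c 202, c 207, c 218, c 223, c 608, c 614, c 624, c 630] ∧ (p = c 5 ↔ q.val < 600)) p hp q
      ((E.iff (a.mul a) cj1).1 p3) ((E.iff (a.mul h.rz) (h.rz.mul a)).1 p4) (h.cd E a) (fun w hw => ?_)
      (h.cd E ((a.mul b).mul d)) (h.cd E ((a.mul b).mul (a.mul b)))⟩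
    have m2 : ι (w * q) ∈ W := by
      rw [map_mul]
      refine mul_mem ?_ m
      simp only [List.mem_cons, List.not_mem_nil, or_false] at hw
      rcases hw with rfl | rfl | rfl | rfl
      exacts [by simp, hz, hv, m1]
    exact ⟨fun e => h5 (e ▸ m2), fun e => h9 (e ▸ m2)⟩
  obtain ⟨p, a1, -, a2, a3⟩ := key (c 5) (by simp)
  obtain ⟨q, b1, -, b2, b3⟩ := key (c 6) (by simp)
  obtain ⟨k, -, u, hu, w, hw, e1, e2, e3, e4, e5, e6, e7, e8⟩ := (by decide +kernel :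
    ∀ p ∈ [c 202, c 207, c 218, c 223, c 608, c 614, c 624, c 630], (c 5 = c 5 ↔ p.val < 600) →
    ∀ q ∈ [c 202, c 207, c 218, c 223, c 608, c 614, c 624, c 630], (c 6 = c 5 ↔ q.val < 600) →
    Cd (c 5 * c 6 * (c 5 * c 6)) (p * q * (p * q)) → ∃ k ∈ [1, c 5, c 6, c 5 * c 6],
    ∃ u ∈ [(1, 1), (c 16, c 15)], ∃ w ∈ [(1, 1), (c 16, c 15)], c 11 * k = k * c 11 ∧ k * c 16 * k⁻¹ = c 16 ∧
      k * c 15 * k⁻¹ = c 15 ∧ k * c 31 * k⁻¹ = c 31 ∧ k * (c 5 * u.1) * k⁻¹ = c 5 ∧ k * (p * u.2) * k⁻¹ = c 207 ∧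
      k * (c 6 * w.1) * k⁻¹ = c 6 ∧ k * (q * w.2) * k⁻¹ = c 614) p a2 a3 q b2 b3
    (h.cd E ((a1.mul b1).mul (a1.mul b1)))
  have f : ∀ u ∈ [((1 : KU), (1 : KU)), (c 16, c 15)], Cj ι r u.1 u.2 := by
    simp only [List.forall_mem_cons, List.not_mem_nil, false_imp_iff, implies_true, and_true]
    exact ⟨cj1, h.rz⟩
  exact ⟨_, h.conj e1 e2 e3 e4, ((cj_ι e6).comp (a1.mul (f u hu))).comp (cj_ι e5).symm,
    ((cj_ι e8).comp (b1.mul (f w hw))).comp (cj_ι e7).symm⟩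

/-! ### The two subgroups `2 ^ 4 : A₅` -/

/-- The codes of the letters. -/
noncomputable def kc (n : ℕ) : KU := c (nth 0 [16, 15, 5, 207, 6, 614, 11, 224, 384, 0, 0, 256, 352] n)

/-- The letters. -/
noncomputable def lt (ι : KU →* G) (r : G) (n : ℕ) : G :=
  if n = 9 then r else if n = 10 then r⁻¹ else ι (kc n)

theorem ev_lt : ∀ {w : List ℕ}, (∀ n ∈ w, n ≠ 9 ∧ n ≠ 10) → ev (lt ι r) w = ι (ev kc w)
  | [], _ => by simp
  | n :: w, h => by
    rw [ev_cons, ev_cons, map_mul, ev_lt fun m hm => h m (by simp [hm]), lt,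
      if_neg (h n (by simp)).1, if_neg (h n (by simp)).2]

theorem iv_lt : IvOK (lt ι r) (ivOf XUT0.ivl) := fun n => by
  by_cases h : n < 19
  · by_cases h9 : n = 9
    · subst h9; rfl
    by_cases h10 : n = 10
    · subst h10; exact (inv_inv r).symm
    obtain ⟨a1, a2, a3⟩ := (by decide +kernel : ∀ n < 19, n ≠ 9 → n ≠ 10 → ivOf XUT0.ivl n ≠ 9 ∧
      ivOf XUT0.ivl n ≠ 10 ∧ kc (ivOf XUT0.ivl n) = (kc n)⁻¹) n h h9 h10
    rw [lt, lt, if_neg a1, if_neg a2, if_neg h9, if_neg h10, a3, map_inv]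
  · have : kc n = 1 := by rw [kc, nth_default _ (by simp; omega)]; rfl
    rw [ivOf, nth_default _ (by simp [XUT0.ivl]; omega), lt, if_neg (by omega), if_neg (by omega), this,
      map_one, inv_one]

/-- Five times. -/
def p5 (w : List ℕ) : List ℕ := w ++ (w ++ (w ++ (w ++ w)))

theorem actw {e gs : ℕ → G} {ms : ℕ → ℕ} (h : EV e) :
    ∀ w : List ℕ, (∀ l ∈ w, Act e (gs l) (ms l)) → Act e (ev gs w) (wd ms w)
  | [], _ => act_one e
  | l :: w, a => by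
    rw [ev_cons]; exact (a l (by simp)).mul h (actw h w fun m hm => a m (by simp [hm]))

theorem Em.five (E : Em ι) {e : ℕ → KU} (h : EV e) (h1 : e 1 = c 16)
    (h2 : ∀ k : KU, (∀ n ∈ [2, 4, 8], k * e n * k⁻¹ = e n) → ∃ n < 16, k = e n)
    (h3 : ∀ n < 16, ∀ m < 16, e n = e m → n = m) {gs : ℕ → G} {ms : ℕ → ℕ} {w : List ℕ}
    (a : ∀ l ∈ w, Act (fun n => ι (e n)) (gs l) (ms l))
    (b : wd ms (p5 w) = idm ∧ ∀ n < 16, lin (wd ms w) n = n → n = 0) : ev gs (p5 w) = 1 := by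
  have a1 := actw (h.map ι) w a
  have a2 := actw (h.map ι) (p5 w) fun l hl => a l (by simpa [p5] using hl)
  rw [b.1] at a2
  have a3 : ∀ n < 16, Cj ι (ev gs (p5 w)) (e n) (e n) := fun n hn => by
    have := a2 n hn
    rwa [(by decide : ∀ n < 16, lin idm n = n) n hn] at this
  obtain ⟨k, hk⟩ := E.code (h1 ▸ a3 1 (by decide))
  obtain ⟨n, hn, rfl⟩ := h2 k fun n hn => E.un (hk ▸ a3 n (by revert n; decide))
  have a4 : ι (e (lin (wd ms w) n)) = ι (e n) := (a1 n hn).symm.trans (by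
    simp only [hk]; simp [p5, mul_assoc])
  rw [← hk, b.2 n hn (h3 _ (lin_lt _ _) _ hn (E.inj a4)), h.zero, map_one]

/-- The first `2 ^ 4`. -/
noncomputable def e1 (n : ℕ) : KU :=
  c (nth 0 [0, 16, 15, 31, 5, 21, 10, 26, 207, 223, 192, 208, 202, 218, 197, 213] n)
/-- The second `2 ^ 4`. -/
noncomputable def e2 (n : ℕ) : KU :=
  c (nth 0 [0, 16, 15, 31, 6, 22, 25, 9, 614, 630, 633, 617, 608, 624, 623, 639] n)
/-- The actions. -/
noncomputable def ms (n : ℕ) : ℕ := nth idm [0, 0, 0, 0, 0, 0, 0, mk4 1 4 6 14, mk4 1 6 2 12, mk4 2 3 8 12,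
  mk4 3 1 12 4, mk4 1 7 2 14, mk4 1 4 7 11] n

theorem ev1 : EV e1 := by unfold EV; decide +kernel
theorem ev2 : EV e2 := by unfold EV; decide +kernel

theorem act_inv {e : ℕ → G} {m m' : ℕ} (a : Act e g m) (h : ∀ x < 16, lin m (lin m' x) = x) :
    Act e g⁻¹ m' := fun x hx => by
  conv_lhs => rw [← h x hx, ← a _ (lin_lt _ _)]
  group

/-- Relators with `r`. -/
def RA : List (List ℕ) := [[9, 9, 9], [6, 9, 6, 9], [9, 0, 10, 1], [9, 1, 10, 0, 1], [9, 2, 10, 3],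
  [9, 3, 10, 2, 3], [9, 4, 10, 5], [9, 5, 10, 4, 5], p5 [9, 8], p5 [7, 9, 8, 10], p5 [9, 12], p5 [9, 11, 10, 12]]

theorem Gd.ra (E : Em ι) (h : Gd ι r) : ∀ w ∈ RA, ev (lt ι r) w = 1 := by
  have rf : Cj ι r (c 207) (c 202) := (h.next h.re (by decide +kernel)).1.of (by decide +kernel)
  have rh : Cj ι r (c 614) (c 608) := (h.next h.rg (by decide +kernel)).1.of (by decide +kernel)
  have a1 : Act (fun n => ι (e1 n)) r (ms 9) :=
    (ev1.map ι).act_mk (by decide) (by decide) (by decide) (by decide) h.rz h.rv h.re rf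
  have a2 : Act (fun n => ι (e2 n)) r (ms 9) :=
    (ev2.map ι).act_mk (by decide) (by decide) (by decide) (by decide) h.rz h.rv h.rg rh
  have b1 : ∀ l ∈ [7, 8, 9, 10], Act (fun n => ι (e1 n)) (lt ι r l) (ms l) := by
    simp only [List.forall_mem_cons, List.not_mem_nil, false_imp_iff, implies_true, and_true]
    exact ⟨Act.map ι (g := kc 7) (by unfold Act; decide +kernel),
      Act.map ι (g := kc 8) (by unfold Act; decide +kernel), a1, act_inv a1 (by decide +kernel)⟩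
  have b2 : ∀ l ∈ [9, 10, 11, 12], Act (fun n => ι (e2 n)) (lt ι r l) (ms l) := by
    simp only [List.forall_mem_cons, List.not_mem_nil, false_imp_iff, implies_true, and_true]
    exact ⟨a2, act_inv a2 (by decide +kernel), Act.map ι (g := kc 11) (by unfold Act; decide +kernel),
      Act.map ι (g := kc 12) (by unfold Act; decide +kernel)⟩
  have f1 := @Em.five _ _ _ E _ ev1 rfl (by decide +kernel) (by decide +kernel) (lt ι r) ms
  have f2 := @Em.five _ _ _ E _ ev2 rfl (by decide +kernel) (by decide +kernel) (lt ι r) ms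
  have o : ∀ {n : ℕ} {q : KU} {w : List ℕ}, Cj ι r (kc n) q → (∀ m ∈ n :: w, m ≠ 9 ∧ m ≠ 10) ∧
      q * ev kc w = 1 → ev (lt ι r) (9 :: n :: 10 :: w) = 1 := fun {n q w} a b => by
    have := b.1 n (by simp)
    rw [ev_cons, ev_cons, ev_cons, ev_lt fun m hm => b.1 m (by simp [hm]), lt.eq_1 ι r n, if_neg this.1,
      if_neg this.2, ← mul_assoc, ← mul_assoc]
    exact (congrArg (· * _) a).trans (by rw [← map_mul, b.2, map_one])
  simp only [RA, List.forall_mem_cons, List.not_mem_nil, false_imp_iff, implies_true, and_true]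
  refine ⟨?_, ?_, o h.rz (by decide +kernel), o h.rv (by decide +kernel), o h.re (by decide +kernel),
    o rf (by decide +kernel), o h.rg (by decide +kernel), o rh (by decide +kernel),
    f1 (fun l hl => b1 l (by revert l; decide)) (by decide +kernel),
    f1 (fun l hl => b1 l (by revert l; decide)) (by decide +kernel),
    f2 (fun l hl => b2 l (by revert l; decide)) (by decide +kernel),
    f2 (fun l hl => b2 l (by revert l; decide)) (by decide +kernel)⟩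
  · exact (show r * (r * (r * 1)) = _ by rw [mul_one]).trans h.r3
  · change ι (c 11) * (r * (ι (c 11) * (r * 1))) = 1
    have := h.xr
    rw [← map_inv, (by decide +kernel : (c 11)⁻¹ = c 11)] at this
    rw [← mul_assoc, ← mul_assoc, this]; group

/-- The last relator. -/
def R3 : List ℕ := [6, 10, 7, 10, 11, 9, 8, 9, 6, 11, 6, 10, 7, 10, 12, 9, 8, 9, 6, 12]

theorem Gd.rel (E : Em ι) (h : Gd ι r) {w : List ℕ}
    (hw : w ∈ RA ∨ (∀ n ∈ w, n ≠ 9 ∧ n ≠ 10) ∧ ev kc w = 1) : ev (lt ι r) w = 1 :=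
  hw.elim (h.ra E w) fun a => by rw [ev_lt a.1, a.2, map_one]

theorem Gd.rel1 (E : Em ι) (h : Gd ι r) : ∀ w ∈ XUT1.R0, ev (lt ι r) w = 1 := fun w hw =>
  h.rel E (by revert w; decide +kernel)

theorem Gd.rel0 (E : Em ι) (h : Gd ι r) (h3 : ev (lt ι r) R3 = 1) : ∀ w ∈ XUT0.R0, ev (lt ι r) w = 1 :=
  fun w hw => ((by decide +kernel : ∀ w ∈ XUT0.R0, w = R3 ∨ w ∈ RA ∨
    (∀ n ∈ w, n ≠ 9 ∧ n ≠ 10) ∧ ev kc w = 1) w hw).elim (fun e => e ▸ h3) (h.rel E)

end H28.XU
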