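import Mathlib
import Cfsg.Agent.H7.SyG
import Cfsg.Agent.H7.XP6
import Cfsg.Agent.H5.LySE
import Cfsg.Agent.H28.XUL

/-!
# The centraliser of `3 ^ 2` and the recognition of `U₄(3)`
-/

set_option autoImplicit false
set_option maxRecDepth 100000
set_option linter.all false
set_option synthInstance.maxSize 4000

namespace H28.XU

open H29 H7.Cay H7.X32 Subgroup H24 H26 H26.Gold
open scoped commutatorElement

universe u

variable {G : Type u} [Group G] [Finite G] {ι : KU →* G} {g h r w : G}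

/-- The subgroup with the listed codes. -/
def lsub (l : List KU) (h : 1 ∈ l ∧ (∀ a ∈ l, ∀ b ∈ l, a * b ∈ l) ∧ ∀ a ∈ l, a⁻¹ ∈ l) : Subgroup KU where
  carrier := {k | k ∈ l}
  one_mem' := h.1
  mul_mem' := fun {a b} ha hb => h.2.1 a ha b hb
  inv_mem' := fun {a} ha => h.2.2 a ha

/-- The codes of `3 ^ 2`. -/
noncomputable def lA : List KU := [c 0, c 32, c 64, c 96, c 128, c 224, c 256, c 352, c 384]
/-- The codes of `⟨z, s⟩`. -/
noncomputable def lW : List KU := [c 0, c 16, c 192, c 208]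
/-- `3 ^ 2` -/
noncomputable def AA (ι : KU →* G) : Subgroup G := (lsub lA (by decide +kernel)).map ι
/-- `⟨z, s⟩` -/
noncomputable def WW (ι : KU →* G) : Subgroup G := (lsub lW (by decide +kernel)).map ι

theorem mem_AA : g ∈ AA ι ↔ ∃ k ∈ lA, ι k = g := Iff.rfl
theorem mem_WW : g ∈ WW ι ↔ ∃ k ∈ lW, ι k = g := Iff.rfl

theorem mem_CA : g ∈ C[AA ι] ↔ ∀ k ∈ lA, ι k * g = g * ι k :=
  mem_C.trans ⟨fun a k hk => a _ ⟨k, hk, rfl⟩, fun a _ ⟨k, hk, e⟩ => e ▸ a k hk⟩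

theorem ι_NA {k : KU} (a : ∀ p ∈ lA, k * p * k⁻¹ ∈ lA) : ι k ∈ N[AA ι] :=
  mem_N_of_finite fun _ ⟨p, hp, e⟩ => ⟨_, a p hp, by simp [← e]⟩

theorem z_CA : ι (c 16) ∈ C[AA ι] := mem_CA.2 fun k hk => by
  rw [← map_mul, ← map_mul, (by decide +kernel : ∀ k ∈ lA, k * c 16 = c 16 * k) k hk]

theorem zz : ι (c 16) * ι (c 16) = 1 := by
  rw [← map_mul, (by decide +kernel : c 16 * c 16 = 1), map_one]

theorem Em.ne (E : Em ι) {p q : KU} (a : p ≠ q) : ι p ≠ ι q := fun e => a (E.inj e)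

theorem Em.z1 (E : Em ι) : ι (c 16) ≠ 1 := map_one ι ▸ E.ne (by decide +kernel)

theorem Em.cz (E : Em ι) (a : g * ι (c 16) * g⁻¹ ∈ C[AA ι]) (b : g * ι (c 16) * g⁻¹ ∈ C{ι (c 16)}) :
    g ∈ C{ι (c 16)} := by
  obtain ⟨k, hk⟩ := E.cen _ (mem_C1.1 b)
  rw [mem_C1_iff_conj, ← hk]
  congr 1
  refine (by decide +kernel : ∀ k : KU, k * k = 1 → k ≠ 1 → (∀ p ∈ lA, p * k = k * p) → k = c 16) k
    (E.inj ?_) (fun e => E.z1 ?_) fun p hp => E.inj ?_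
  · rw [map_mul, hk, conj_mul, zz, map_one]; group
  · rw [e, map_one] at hk; exact conj_eq_one_iff.1 hk.symm
  · rw [map_mul, map_mul, hk, mem_CA.1 a p hp]

theorem Em.case1 (E : Em ι) (H : C[AA ι] ≤ C{ι (c 16)}) (g1 : g * ι (c 224) = ι (c 224) * g)
    (g2 : g ∉ C{ι (c 16)}) (g3 : g * (g * g) = 1) (h1 : h * ι (c 224) * h⁻¹ = g)
    (h2 : h * g * h⁻¹ = (ι (c 224))⁻¹) : False := by
  have p3 := Nat.prime_three
  have t : ∀ {x : G}, x * (x * x) = 1 → PiElt {3} x := fun {x} e =>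
    piElt_of_pow_eq_one (piNat_self p3) (by rw [pow_three, e])
  have t' : ∀ k ∈ lA, PiElt {3} (ι k) := fun k hk => t (by
    rw [← map_mul, ← map_mul, (by decide +kernel : ∀ k ∈ lA, k * (k * k) = 1) k hk, map_one])
  have hA : IsPi {3} (AA ι) := isPi_iff_piElt.2 fun _ ⟨k, hk, e⟩ => e ▸ t' k hk
  have nz : ∀ q ∈ N[AA ι], ∃ k, ι k = q := fun q hq => by
    have := (mem_N.1 (norm_C le_rfl hq) _).1 z_CA
    exact E.cen q (mem_C1.1 (E.cz this (H this)))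
  have hS : Syl 3 ⊤ (AA ι) := by
    by_contra hS
    obtain ⟨P, a1, a2, -, a3⟩ := exists_lt_norm_of_not_syl p3 hA le_top hS
    refine a2.not_ge fun q hq => ?_
    obtain ⟨k, rfl⟩ := nz q (a3 hq)
    have o : OddE (ι k) := (a1.piElt hq).of_mem (by simp)
    refine H7.SJ.mem_of_odd o (H7.SJ.mem_of_odd (o.mul o rfl) ⟨k * k * (k * k), ?_, by simp⟩)
    refine (by decide +kernel : ∀ k : KU, (∀ p ∈ [c 224, c 256], k * p * k⁻¹ ∈ lA) →
      k * k * (k * k) ∈ lA) k fun p hp => ?_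
    obtain ⟨p', a, b⟩ := (mem_N.1 (a3 hq) _).1 ⟨p, (by decide +kernel : ∀ p ∈ [c 224, c 256], p ∈ lA) p hp, rfl⟩
    rwa [← E.un (show Cj ι (ι k) p p' from b.symm)] at a
  obtain ⟨y, -, hy⟩ := Sylow_Jsub p3 hS ((t' (c 224) (by decide +kernel)).isPi.sup (t g3).isPi
    (norm_of_cent (by rw [C_zpowers, zpowers_le, mem_C1]; exact g1))) le_top
  obtain ⟨p, hp, e1⟩ := hy (conj_mem_cj y (mem_sup_left (mem_zpowers _)))
  obtain ⟨q, hq, e2⟩ := hy (conj_mem_cj y (mem_sup_right (mem_zpowers _)))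
  have b1 : Cj ι (y * h * y⁻¹) p q := by rw [Cj, e1, e2, ← h1]; group
  have b2 : Cj ι (y * h * y⁻¹) q p⁻¹ := by
    rw [Cj, map_inv, e1, e2, show (y * ι (c 224) * y⁻¹)⁻¹ = y * (ι (c 224))⁻¹ * y⁻¹ from conj_inv, ← h2]
    group
  have n : ∀ (m : KU) (x : KU), ι m = y * ι x * y⁻¹ → q ≠ m := fun m x e f => g2 (by
    rw [← f, e2] at e
    rw [mul_left_cancel (mul_right_cancel e), mem_C1, ← map_mul, ← map_mul,
      (by decide +kernel : ∀ x : KU, x * c 16 = c 16 * x) x])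
  have p1 : p ≠ 1 := fun e => E.ne (by decide +kernel : c 224 ≠ 1) (by
    rw [e, map_one] at e1; rw [conj_eq_one_iff.1 e1.symm, map_one])
  have k1 := (by decide +kernel : ∀ p ∈ lA, ∀ q ∈ lA, p ≠ 1 → q ≠ 1 → q ≠ p → q ≠ p⁻¹ → ∀ u ∈ lA,
    ∃ m ∈ [1, p, p⁻¹], ∃ n ∈ [1, q, q⁻¹], u = m * n ∧ ∀ m' ∈ [1, q, q⁻¹], ∀ n' ∈ [1, p⁻¹, p⁻¹⁻¹],
      m' * n' ∈ lA) p hp q hq p1 (n _ 1 (by simp)) (n _ _ e1) (n _ (c 224)⁻¹ (by simp [e1, mul_assoc]))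
  obtain ⟨k, hk⟩ := nz (y * h * y⁻¹) (mem_N_of_finite fun _ ⟨u, hu, e⟩ => by
    obtain ⟨m, hm, n, hn, rfl, f⟩ := k1 u hu
    simp only [List.mem_cons, List.not_mem_nil, or_false] at hm hn
    have c1 : ∃ m' ∈ [1, q, q⁻¹], Cj ι (y * h * y⁻¹) m m' := by
      rcases hm with rfl | rfl | rfl
      exacts [⟨_, by simp, cj1⟩, ⟨_, by simp, b1⟩, ⟨_, by simp, b1.inv⟩]
    have c2 : ∃ n' ∈ [1, p⁻¹, p⁻¹⁻¹], Cj ι (y * h * y⁻¹) n n' := by
      rcases hn with rfl | rfl | rfl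
      exacts [⟨_, by simp, cj1⟩, ⟨_, by simp, b2⟩, ⟨_, by simp, b2.inv⟩]
    obtain ⟨m', a1, a2⟩ := c1
    obtain ⟨n', a3, a4⟩ := c2
    exact ⟨_, f m' a1 n' a3, e ▸ Eq.symm (a2.mul a4)⟩)
  rw [← hk] at b1 b2
  refine p1 ((by decide +kernel : ∀ k : KU, ∀ p ∈ lA, k * p * k⁻¹ ∈ lA →
    k * (k * p * k⁻¹) * k⁻¹ = p⁻¹ → p = 1) k p hp ?_ ?_)
  · rwa [E.un b1]
  · rw [E.un b1, E.un b2]

theorem Em.case2 (E : Em ι) (H : ¬ C[AA ι] ≤ C{ι (c 16)}) : ∃ α ∈ C[AA ι], α * α ≠ 1 ∧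
    α ∈ C{ι (c 192)} ∧ ι (c 16) * α * ι (c 16) * α = 1 := by
  have hZ := zstar_sub' z_CA E.z1 zz fun g hg e => mem_C1_iff_conj.1
    (E.cz (mul_mem (mul_mem hg z_CA) (inv_mem hg)) (mem_C1.2 e.symm))
  have key : ∀ m ∈ C[AA ι], m ∉ C{ι (c 16)} → ∃ α ∈ C[AA ι], α * α ≠ 1 ∧
      α = ι (c 16) * m * ι (c 16) * m⁻¹ ∧ ι (c 16) * α * ι (c 16) * α = 1 := fun m hm h1 => by
    have a : ι (c 16) * m * (ι (c 16))⁻¹ * m⁻¹ ∈ Od[C[AA ι]] :=
      hZ (commutator_mem_commutator (mem_zpowers _) hm)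
    rw [← eq_inv_of_mul_eq_one_left zz] at a
    refine ⟨_, pcore_le _ _ a, fun e => h1 ?_, rfl, ?_⟩
    · have := eq_one_of_odd_sq ((Od_odd _).piElt a) e
      rw [mem_C1_iff_conj]
      calc _ = ι (c 16) * ι (c 16) * (m * ι (c 16) * m⁻¹) := by rw [zz, one_mul]
        _ = ι (c 16) * (ι (c 16) * m * ι (c 16) * m⁻¹) := by group
        _ = _ := by rw [this, mul_one]
    · calc _ = ι (c 16) * ι (c 16) * m * ι (c 16) * m⁻¹ * (ι (c 16) * ι (c 16)) * m * ι (c 16) * m⁻¹ := by group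
        _ = m * (ι (c 16) * ι (c 16)) * m⁻¹ := by nth_rewrite 1 [zz]; nth_rewrite 1 [zz]; group
        _ = 1 := by rw [zz, mul_one, mul_inv_cancel]
  have ex : ∃ m ∈ C[AA ι], m ∉ C{ι (c 16)} ∧ m ∈ C{ι (c 192)} := by
    by_contra hc
    have hc' : ∀ m ∈ C[AA ι], m ∈ C{ι (c 192)} → m ∈ C{ι (c 16)} := fun m a b => by
      by_contra d; exact hc ⟨m, a, d, b⟩
    have hW : EA (WW ι) := ea_of_sq fun _ ⟨k, hk, e⟩ => by
      rw [← e, ← map_mul, (by decide +kernel : ∀ k ∈ lW, k * k = 1) k hk, map_one]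
    have c4 : 4 ≤ ♯(WW ι) := by
      rw [WW, card_map_of_injective E.inj]
      exact ((by decide +kernel : KK.cnt H7.XU0.M.n (fun n => decide (KK.of n ∈ lW)) = 4).symm.trans
        (KK.card_sub (fun k : KU => k ∈ lW)).symm).le
    have hK := H7.SJ.gen1 (L := C{ι (c 16)}) hW c4 (Od_odd C[AA ι]) (norm_pcore _ (norm_C
      fun _ ⟨k, hk, e⟩ => e ▸ ι_NA ((by decide +kernel : ∀ k ∈ lW, ∀ p ∈ lA, k * p * k⁻¹ ∈ lA) k hk)))
      fun _ ⟨k, hk, e⟩ k1 m hm => by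
        subst e
        have hm1 := pcore_le _ _ hm.1
        rcases (by decide +kernel : ∀ k ∈ lW, k = 1 ∨ k = c 16 ∨ k = c 192 ∨ k = c 208) k hk with
          rfl | rfl | rfl | rfl
        · exact absurd (map_one ι) k1
        · exact hm.2
        · exact hc' m hm1 hm.2
        · have t1 : Cj ι (ι (c 160)) (c 208) (c 192) := cj_ι (by decide +kernel)
          have t2 : Cj ι (ι (c 160)) (c 16) (c 16) := cj_ι (by decide +kernel)
          exact (cjC t2).1 (hc' _ ((mem_N.1 (norm_C le_rfl (ι_NA (by decide +kernel))) _).1 hm1)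
            ((cjC t1).2 hm.2))
    refine H fun m hm => ?_
    by_contra d
    obtain ⟨α, -, a2, a3, a4⟩ := key m hm d
    have a : α ∈ C{ι (c 16)} := hK (by
      have := hZ (commutator_mem_commutator (mem_zpowers _) hm)
      rwa [commutatorElement_def, ← eq_inv_of_mul_eq_one_left zz, ← a3] at this)
    rw [← mem_C1.1 a, mul_assoc α, zz, mul_one] at a4
    exact a2 a4
  obtain ⟨m, a, b, d⟩ := ex
  obtain ⟨α, a1, a2, a3, a4⟩ := key m a b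
  have : ι (c 16) ∈ C{ι (c 192)} := by
    rw [mem_C1, ← map_mul, ← map_mul, (by decide +kernel : c 16 * c 192 = c 192 * c 16)]
  exact ⟨α, a1, a2, a3 ▸ mul_mem (mul_mem (mul_mem this d) this) (inv_mem d), a4⟩

theorem Gd.r3' (E : Em ι) (h : Gd ι r) : ev (lt ι r) R3 = 1 := by
  have X := rx iv_lt (h.rel1 E)
  simp only [RX, List.forall_mem_cons, List.not_mem_nil, false_imp_iff, implies_true, and_true] at X
  obtain ⟨x1, x2, x3, x4, x5, x6⟩ := X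
  obtain ⟨g, hg⟩ : ∃ g, g = ev (lt ι r) [6, 10, 7, 10] := ⟨_, rfl⟩
  obtain ⟨h, hh⟩ : ∃ g, g = ev (lt ι r) [9, 7, 6] := ⟨_, rfl⟩
  have eg : ∀ w, ev (lt ι r) (6 :: 10 :: 7 :: 10 :: w) = g * ev (lt ι r) w :=
    fun w => hg ▸ ev_append _ [6, 10, 7, 10] w
  have eh : ∀ w, ev (lt ι r) (9 :: 7 :: 6 :: w) = h * ev (lt ι r) w :=
    fun w => hh ▸ ev_append _ [9, 7, 6] w
  have ei : ∀ w, ev (lt ι r) (9 :: 8 :: 9 :: 6 :: w) = g⁻¹ * ev (lt ι r) w :=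
    fun w => (ev_append _ [9, 8, 9, 6] w).trans (by rw [hg, ← ev_invW iv_lt]; rfl)
  have e13 : ∀ w, ev (lt ι r) (1 :: 3 :: w) = ι (c 192) * ev (lt ι r) w := fun w =>
    (ev_append _ [1, 3] w).trans (by
      rw [ev_lt (w := [1, 3]) (by decide), (by decide +kernel : ev kc [1, 3] = c 192)])
  have l0 : ∀ w, ev (lt ι r) (0 :: w) = ι (c 16) * ev (lt ι r) w := fun w => ev_cons _ _ _
  have l7 : ∀ w, ev (lt ι r) (7 :: w) = ι (c 224) * ev (lt ι r) w := fun w => ev_cons _ _ _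
  have l8 : ∀ w, ev (lt ι r) (8 :: w) = ι (c 384) * ev (lt ι r) w := fun w => ev_cons _ _ _
  have l11 : ∀ w, ev (lt ι r) (11 :: w) = ι (c 256) * ev (lt ι r) w := fun w => ev_cons _ _ _
  have l12 : ∀ w, ev (lt ι r) (12 :: w) = ι (c 352) * ev (lt ι r) w := fun w => ev_cons _ _ _
  simp only [R3, eg, eh, ei, e13, l0, l7, l8, l11, l12, ev_nil, mul_one] at x1 x2 x3 x4 x5 x6 ⊢
  by_cases H : C[AA ι] ≤ C{ι (c 16)}
  · refine (E.case1 H x1 (fun e => E.ne (by decide +kernel : c 192 ≠ c 16) ?_) x4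
      (mul_inv_eq_iff_eq_mul.2 x5) (mul_inv_eq_iff_eq_mul.2 ?_)).elim
    · exact mul_right_cancel (x2.symm.trans (mem_C1.1 e))
    · rw [x6, ← map_inv, (by decide +kernel : (c 224)⁻¹ = c 384)]
  obtain ⟨α, a1, a2, a3, a4⟩ := E.case2 H
  have y1 : g * ι (c 16) * g⁻¹ = ι (c 192) := mul_inv_eq_iff_eq_mul.2 x2
  have y2 : g * ι (c 208) * g⁻¹ = ι (c 16) := by
    rw [mul_inv_eq_iff_eq_mul, ← x3, ← map_mul, (by decide +kernel : c 16 * c 192 = c 208)]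
  obtain ⟨k, hk⟩ := E.cen (g⁻¹ * α * g) (mem_C1.1 ((cjC y1).1 (by simpa [mul_assoc] using a3)))
  have hα : α = g * ι k * g⁻¹ := by rw [hk]; group
  have b := (by decide +kernel : ∀ k : KU, k * c 224 = c 224 * k → c 208 * k * c 208 * k = 1 →
    k * k = 1 ∨ k * k = c 256 ∨ k * k = (c 256)⁻¹) k (E.inj (by
      have := mem_CA.1 a1 (c 224) (by decide +kernel)
      rw [map_mul, map_mul, hk]
      calc _ = g⁻¹ * (α * ι (c 224)) * g := by rw [mul_assoc (g⁻¹ * α), x1]; group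
        _ = g⁻¹ * (ι (c 224) * g) * (g⁻¹ * α * g) := by rw [← this]; group
        _ = _ := by rw [← x1]; group)) (E.inj (by
      rw [hα, ← y2, conj_mul, conj_mul, conj_mul, conj_eq_one_iff] at a4
      simpa using a4))
  have d : g * ι (k * k) * g⁻¹ ∈ C{ι (c 256)} := by
    rw [map_mul, ← conj_mul, ← hα]
    exact mem_C1.2 (mem_CA.1 (mul_mem a1 a1) _ (by decide +kernel)).symm
  have d' : g * ι (c 256) * g⁻¹ ∈ C{ι (c 256)} := by
    rcases b with b | b | b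
    · exact absurd (by rw [hα, conj_mul, ← map_mul, b, map_one]; group) a2
    · rwa [b] at d
    · rw [b, map_inv, ← conj_inv] at d; exact inv_mem_iff.1 d
  rw [(by decide +kernel : c 352 = (c 256)⁻¹), map_inv]
  calc _ = g * ι (c 256) * g⁻¹ * ι (c 256) * (ι (c 256) * (g * ι (c 256) * g⁻¹))⁻¹ := by group
    _ = 1 := by rw [mem_C1.1 d', mul_inv_cancel]

theorem Gd.top (E : Em ι) (h : Gd ι r) (gn : ∀ H : Subgroup G,
    (∀ p ∈ [KU.i, KU.j, KU.k, KU.l, KU.a, KU.b, KU.t, KU.s], ι p ∈ H) → ∀ k, ι k ∈ H) :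
    gen (lt ι r) XUT0.cols = ⊤ := by
  have m : ∀ w : List ℕ, (∀ n ∈ w, n ∈ XUT0.cols ∧ n ≠ 9 ∧ n ≠ 10) → ι (ev kc w) ∈ gen (lt ι r) XUT0.cols :=
    fun w a => ev_lt (r := r) (fun n hn => (a n hn).2) ▸ ev_mem_gen fun n hn => (a n hn).1
  have all : ∀ k : KU, ι k ∈ gen (lt ι r) XUT0.cols := gn _ fun p hp => by
    obtain ⟨w, -, a, rfl⟩ := (by decide +kernel : ∀ p ∈ [KU.i, KU.j, KU.k, KU.l, KU.a, KU.b, KU.t, KU.s],
      ∃ w ∈ [[2, 6, 1], [4, 6, 1], [1, 6], [2, 4, 6], [8, 12], [8, 11], [4, 3, 5], [1, 3]],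
      (∀ n ∈ w, n ∈ XUT0.cols ∧ n ≠ 9 ∧ n ≠ 10) ∧ p = ev kc w) p hp
    exact m w a
  have mr : r ∈ gen (lt ι r) XUT0.cols := mem_gen (e := lt ι r) (c := 9) (by decide)
  refine H5.Ly.se_top (all (c 16)) zz (fun g a => ?_) (fun w _ a b d => ?_) (all (c 5)) (all (c 6)) ?_ ?_ ?_ ?_
  · obtain ⟨k, rfl⟩ := E.cen g a
    exact all k
  · obtain ⟨k, rfl⟩ := E.cen w d
    obtain ⟨u, hu, m, rfl⟩ := (by decide +kernel : ∀ k : KU, k * k = 1 → k ≠ 1 →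
      ∃ u ∈ [c 16, c 15, c 207, c 614], ∃ m : KU, k = m * u * m⁻¹) k (E.inj (by simpa using a))
      fun e => b (by rw [e, map_one])
    have f : ∀ p ∈ [c 5, c 6], ∃ y ∈ gen (lt ι r) XUT0.cols, Cj ι y (c 16) p := fun p hp => by
      obtain ⟨m, e⟩ := (by decide +kernel : ∀ p ∈ [c 5, c 6], ∃ m : KU, m * c 15 * m⁻¹ = p) p hp
      exact ⟨_, mul_mem (all m) mr, (cj_ι e).comp h.rz⟩
    obtain ⟨y, y1, y2⟩ : ∃ y ∈ gen (lt ι r) XUT0.cols, Cj ι y (c 16) u := by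
      simp only [List.mem_cons, List.not_mem_nil, or_false] at hu
      rcases hu with rfl | rfl | rfl | rfl
      · exact ⟨1, one_mem _, by simp [Cj]⟩
      · exact ⟨r, mr, h.rz⟩
      · obtain ⟨y, y1, y2⟩ := f (c 5) (by simp)
        exact ⟨_, mul_mem mr y1, h.re.comp y2⟩
      · obtain ⟨y, y1, y2⟩ := f (c 6) (by simp)
        exact ⟨_, mul_mem mr y1, h.rg.comp y2⟩
    exact ⟨_, mul_mem (all m) y1, (cj_ι rfl).comp y2⟩
  · rw [← map_mul, (by decide +kernel : c 5 * c 5 = 1), map_one]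
  · rw [← map_mul, (by decide +kernel : c 6 * c 6 = 1), map_one]
  · rw [← map_mul, sq, ← map_mul, (by decide +kernel : c 5 * c 6 * (c 5 * c 6) = c 16)]; exact E.z1
  · rw [show 4 = 2 * 2 from rfl, pow_mul, ← map_mul, sq, sq, ← map_mul,
      (by decide +kernel : c 5 * c 6 * (c 5 * c 6) = c 16), zz]

theorem Gd.iso (E : Em ι) (h : Gd ι r) (gn : ∀ H : Subgroup G,
    (∀ p ∈ [KU.i, KU.j, KU.k, KU.l, KU.a, KU.b, KU.t, KU.s], ι p ∈ H) → ∀ k, ι k ∈ H) :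
    Nonempty (H10.U43P.S ≃* G) := by
  obtain ⟨f⟩ := recog iv_lt (h.rel0 E (h.r3' E)) E.z1
  exact ⟨f.trans ((MulEquiv.subgroupCongr (h.top E gn)).trans topEquiv)⟩

end H28.XU
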