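import Mathlib
import Cfsg.Agent.H14.HeDat
import Cfsg.Agent.H24.AltMult

/-! Coordinates on the extraspecial group `2^(1+8)_+`: 9-bit codes. -/

set_option autoImplicit false

namespace H28.Th

open H29 H7.Cay
open H14.He (bp bp_mul bp_comm bp_pair sel)

/-- product of codes. -/
def mulQ (n m : ℕ) : ℕ :=
  Nat.xor (Nat.xor n m)
    (Nat.land (Nat.shiftRight 6919680 (Nat.land (Nat.land (Nat.shiftRight n 4) m) 15)) 256)

/-- inverse of a code. -/
def invQ (n : ℕ) : ℕ := Nat.xor n (mulQ n n)

theorem testBit_mulQ_lt (n m : ℕ) {i : ℕ} (hi : i ≠ 8) :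
    (mulQ n m).testBit i = (n.testBit i ^^ m.testBit i) := by
  have h : Nat.testBit 256 i = false := by
    rw [show 256 = 2 ^ 8 from rfl, Nat.testBit_two_pow]; simpa using hi.symm
  simp only [mulQ, xor_eq, land_eq, Nat.testBit_xor, Nat.testBit_and, h, Bool.and_false,
    Bool.xor_false]

theorem testBit_mulQ_eight (n m : ℕ) :
    (mulQ n m).testBit 8 = ((n.testBit 8 ^^ m.testBit 8) ^^ ((n.testBit 4 && m.testBit 0) ^^
      ((n.testBit 5 && m.testBit 1) ^^ ((n.testBit 6 && m.testBit 2) ^^
        (n.testBit 7 && m.testBit 3))))) := by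
  have h : ∀ k < 16, ((6919680 >>> k) &&& 256).testBit 8 =
      (k.testBit 0 ^^ (k.testBit 1 ^^ (k.testBit 2 ^^ k.testBit 3))) := by decide +kernel
  have h7 : ∀ i < 4, Nat.testBit 15 i = true := by decide
  simp only [mulQ, xor_eq, land_eq, shr_eq, Nat.testBit_xor]
  rw [h _ (Nat.and_lt_two_pow _ (n := 4) (by norm_num))]
  simp only [Nat.testBit_and, Nat.testBit_shiftRight, h7 0 (by norm_num), h7 1 (by norm_num),
    h7 2 (by norm_num), h7 3 (by norm_num), Bool.and_true]

theorem mulQ_lt {n m : ℕ} (hn : n < 512) (hm : m < 512) : mulQ n m < 512 :=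
  Nat.xor_lt_two_pow (n := 9) (Nat.xor_lt_two_pow (n := 9) hn hm)
    (Nat.and_lt_two_pow _ (n := 9) (by norm_num))

theorem invQ_lt {n : ℕ} (hn : n < 512) : invQ n < 512 :=
  Nat.xor_lt_two_pow (n := 9) hn (mulQ_lt hn hn)

variable {H : Type*} [Group H]

/-- the element with a given code. -/
def th (e : ℕ → H) (n : ℕ) : H :=
  bp (e 0) (n.testBit 0) * (bp (e 1) (n.testBit 1) * (bp (e 2) (n.testBit 2) * (bp (e 3) (n.testBit 3) * (bp (e 4) (n.testBit 4) * (bp (e 5) (n.testBit 5) * (bp (e 6) (n.testBit 6) * (bp (e 7) (n.testBit 7) * (bp (e 8) (n.testBit 8)))))))))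

/-- the relations of the extraspecial group. -/
structure Heis (e : ℕ → H) : Prop where
  sq : ∀ i < 9, e i * e i = 1
  comm : ∀ i < 9, ∀ k < i, (i = k + 4 → k = 4) → e i * e k = e k * e i
  pair : ∀ i < 4, e (i + 4) * e i = e i * (e (i + 4) * e 8)

variable {e : ℕ → H}

theorem Heis.th_mul (h : Heis e) (n m : ℕ) : th e n * th e m = th e (mulQ n m) := by
  have c := fun i k (hi : i < 9) (hk : k < i) (hik : i = k + 4 → k = 4) =>
    bp_comm (h.comm i hi k hk hik)
  have key : ∀ r : H, th e n * (th e m * r) = th e (mulQ n m) * r := by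
    intro r
    simp only [th, mul_assoc, testBit_mulQ_lt n m (show 0 ≠ 8 by decide),
      testBit_mulQ_lt n m (show 1 ≠ 8 by decide),
      testBit_mulQ_lt n m (show 2 ≠ 8 by decide),
      testBit_mulQ_lt n m (show 3 ≠ 8 by decide),
      testBit_mulQ_lt n m (show 4 ≠ 8 by decide),
      testBit_mulQ_lt n m (show 5 ≠ 8 by decide),
      testBit_mulQ_lt n m (show 6 ≠ 8 by decide),
      testBit_mulQ_lt n m (show 7 ≠ 8 by decide), testBit_mulQ_eight]
    simp only [bp_mul (h.sq 0 (by decide)), bp_mul (h.sq 1 (by decide)), bp_mul (h.sq 2 (by decide)), bp_mul (h.sq 3 (by decide)), bp_mul (h.sq 4 (by decide)), bp_mul (h.sq 5 (by decide)), bp_mul (h.sq 6 (by decide)), bp_mul (h.sq 7 (by decide)), bp_mul (h.sq 8 (by decide)),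
      bp_pair (h.pair 0 (by decide)), bp_pair (h.pair 1 (by decide)), bp_pair (h.pair 2 (by decide)), bp_pair (h.pair 3 (by decide)),
      c 1 0 (by decide) (by decide) (by decide),
      c 2 0 (by decide) (by decide) (by decide),
      c 2 1 (by decide) (by decide) (by decide),
      c 3 0 (by decide) (by decide) (by decide),
      c 3 1 (by decide) (by decide) (by decide),
      c 3 2 (by decide) (by decide) (by decide),
      c 4 1 (by decide) (by decide) (by decide),
      c 4 2 (by decide) (by decide) (by decide),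
      c 4 3 (by decide) (by decide) (by decide),
      c 5 0 (by decide) (by decide) (by decide),
      c 5 2 (by decide) (by decide) (by decide),
      c 5 3 (by decide) (by decide) (by decide),
      c 5 4 (by decide) (by decide) (by decide),
      c 6 0 (by decide) (by decide) (by decide),
      c 6 1 (by decide) (by decide) (by decide),
      c 6 3 (by decide) (by decide) (by decide),
      c 6 4 (by decide) (by decide) (by decide),
      c 6 5 (by decide) (by decide) (by decide),
      c 7 0 (by decide) (by decide) (by decide),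
      c 7 1 (by decide) (by decide) (by decide),
      c 7 2 (by decide) (by decide) (by decide),
      c 7 4 (by decide) (by decide) (by decide),
      c 7 5 (by decide) (by decide) (by decide),
      c 7 6 (by decide) (by decide) (by decide),
      c 8 0 (by decide) (by decide) (by decide),
      c 8 1 (by decide) (by decide) (by decide),
      c 8 2 (by decide) (by decide) (by decide),
      c 8 3 (by decide) (by decide) (by decide),
      c 8 4 (by decide) (by decide) (by decide),
      c 8 5 (by decide) (by decide) (by decide),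
      c 8 6 (by decide) (by decide) (by decide),
      c 8 7 (by decide) (by decide) (by decide)]
    congr 10
    generalize n.testBit 8 = a, m.testBit 8 = b, (n.testBit 4 && m.testBit 0) = c,
      (n.testBit 5 && m.testBit 1) = d, (n.testBit 6 && m.testBit 2) = f,
      (n.testBit 7 && m.testBit 3) = g
    revert a b c d f g
    decide
  simpa using key 1

theorem th_zero : th e 0 = 1 := by simp [th, bp]

theorem th_pow {i : ℕ} (hi : i < 9) : th e (2 ^ i) = e i := by
  simp only [th, bp, Nat.testBit_two_pow]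
  interval_cases i <;> simp

theorem th_256 : th e 256 = e 8 := th_pow (i := 8) (by norm_num)

theorem th_congr {e' : ℕ → H} (h : ∀ i < 9, e i = e' i) (n : ℕ) : th e n = th e' n := by
  simp only [th, h 0 (by decide), h 1 (by decide), h 2 (by decide), h 3 (by decide),
    h 4 (by decide), h 5 (by decide), h 6 (by decide), h 7 (by decide), h 8 (by decide)]

theorem Heis.th_inv (h : Heis e) {n : ℕ} (hn : n < 512) : th e (invQ n) = (th e n)⁻¹ := by
  have : ∀ n < 512, mulQ n (invQ n) = 0 := by decide +kernel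
  rw [eq_inv_iff_mul_eq_one, mul_eq_one_comm, h.th_mul, this n hn, th_zero]

theorem Heis.th_eq_one (h : Heis e) (h8 : e 8 ≠ 1) {n : ℕ} (hn : n < 512) (h1 : th e n = 1) :
    n = 0 := by
  have : ∀ n < 512, n = 0 ∨ n = 256 ∨ ∃ i < 8, mulQ n (2 ^ i) = mulQ (mulQ (2 ^ i) n) 256 := by
    decide +kernel
  rcases this n hn with h0 | rfl | ⟨i, hi, h2⟩
  · exact h0
  · exact absurd (th_256.symm.trans h1) h8
  · have := congrArg (th e) h2
    rw [← h.th_mul, ← h.th_mul, ← h.th_mul, h1, th_256, one_mul, mul_one] at this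
    exact absurd (by simpa using this) h8

theorem eq_of_mulQ {n m : ℕ} (hn : n < 512) (hm : m < 512) (h : mulQ (invQ n) m = 0) : n = m := by
  have h1 : ∀ n < 512, invQ n % 256 = n % 256 ∧ mulQ (invQ n) (Nat.xor n 256) ≠ 0 := by
    decide +kernel
  have h2 : ∀ n < 512, ∀ k < 2, n % 256 + 256 * k = n ∨ n % 256 + 256 * k = Nat.xor n 256 := by
    decide +kernel
  have h3 : m % 256 = n % 256 := by
    rw [← (h1 n hn).1]
    refine Nat.eq_of_testBit_eq fun i => ?_
    rw [show 256 = 2 ^ 8 from rfl, Nat.testBit_mod_two_pow, Nat.testBit_mod_two_pow]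
    by_cases hi : i < 8
    · have := testBit_mulQ_lt (invQ n) m (i := i) (by omega)
      rw [h, Nat.zero_testBit] at this
      revert this
      cases (invQ n).testBit i <;> cases m.testBit i <;> simp
    · simp [hi]
  have h4 : n % 256 + 256 * (m / 256) = m := by rw [← h3]; exact Nat.mod_add_div m 256
  rcases h2 n hn (m / 256) (by omega) with h5 | h5
  · exact h5.symm.trans h4
  · rw [← h4, h5] at h
    exact absurd h (h1 n hn).2

theorem Heis.th_inj (h : Heis e) (h8 : e 8 ≠ 1) {n m : ℕ} (hn : n < 512) (hm : m < 512)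
    (h1 : th e n = th e m) : n = m := by
  refine eq_of_mulQ hn hm (h.th_eq_one h8 (mulQ_lt (invQ_lt hn) hm) ?_)
  rw [← h.th_mul, h.th_inv hn, h1, inv_mul_cancel]

theorem Heis.th_eight (h : Heis e) (n : ℕ) : e 8 * th e n = th e n * e 8 := by
  have : ∀ i, (mulQ 256 n).testBit i = (mulQ n 256).testBit i := fun i => by
    by_cases hi : i = 8
    · subst hi
      have h0 : ∀ i < 8, Nat.testBit 256 i = false := by decide
      simp [testBit_mulQ_eight, h0, Bool.xor_comm]
    · simp [testBit_mulQ_lt _ _ hi, Bool.xor_comm]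
  rw [← th_256 (e := e), h.th_mul, h.th_mul, Nat.eq_of_testBit_eq this]

/-- the map on codes with the given packed images of the basis. -/
noncomputable def ap (T n : ℕ) : ℕ := lit n fun n =>
  (mulQ (sel n 0 (pk T 9 0)) (mulQ (sel n 1 (pk T 9 1)) (mulQ (sel n 2 (pk T 9 2)) (mulQ (sel n 3 (pk T 9 3)) (mulQ (sel n 4 (pk T 9 4)) (mulQ (sel n 5 (pk T 9 5)) (mulQ (sel n 6 (pk T 9 6)) (mulQ (sel n 7 (pk T 9 7)) (sel n 8 256)))))))))

theorem sel_lt (n i : ℕ) {c : ℕ} (hc : c < 512) : sel n i c < 512 := by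
  rw [sel]; cases n.testBit i <;> simp [hc]

theorem ap_lt (T n : ℕ) : ap T n < 512 := by
  have := fun i => sel_lt n i (pk_lt T 9 i)
  exact (mulQ_lt (this _) (mulQ_lt (this _) (mulQ_lt (this _) (mulQ_lt (this _) (mulQ_lt (this _) (mulQ_lt (this _) (mulQ_lt (this _) (mulQ_lt (this _) (sel_lt _ _ (by norm_num))))))))))

/-- `g` acts on the group by the packed table `T`. -/
structure Acts (e : ℕ → H) (g : H) (T : ℕ) : Prop where
  bas : ∀ i < 8, g * e i = th e (pk T 9 i) * g
  eight : g * e 8 = e 8 * g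

theorem Acts.th (h : Heis e) {g : H} {T : ℕ} (hg : Acts e g T) (n : ℕ) :
    g * th e n = th e (ap T n) * g := by
  have h1 : ∀ i c (r : H), g * e i = Th.th e c * g →
      g * (bp (e i) (n.testBit i) * r) = Th.th e (sel n i c) * (g * r) := fun i c r hc => by
    rw [bp, sel]
    cases n.testBit i
    · simp [th_zero]
    · simp [← mul_assoc, hc]
  have h2 := h1 8 256 1 (by rw [th_256, hg.eight])
  rw [mul_one, mul_one] at h2
  rw [ap, lit_eq]
  simp only [← h.th_mul, mul_assoc]
  rw [Th.th, h1 0 _ _ (hg.bas 0 (by decide)), h1 1 _ _ (hg.bas 1 (by decide)), h1 2 _ _ (hg.bas 2 (by decide)), h1 3 _ _ (hg.bas 3 (by decide)), h1 4 _ _ (hg.bas 4 (by decide)), h1 5 _ _ (hg.bas 5 (by decide)), h1 6 _ _ (hg.bas 6 (by decide)), h1 7 _ _ (hg.bas 7 (by decide)), h2]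

theorem th_mem {Q : Subgroup H} (hQ : ∀ i < 9, e i ∈ Q) (n : ℕ) : th e n ∈ Q := by
  have : ∀ i < 9, ∀ b, bp (e i) b ∈ Q := fun i hi b => by
    cases b
    · exact Q.one_mem
    · exact hQ i hi
  exact (Q.mul_mem (this 0 (by decide) _) (Q.mul_mem (this 1 (by decide) _) (Q.mul_mem (this 2 (by decide) _) (Q.mul_mem (this 3 (by decide) _) (Q.mul_mem (this 4 (by decide) _) (Q.mul_mem (this 5 (by decide) _) (Q.mul_mem (this 6 (by decide) _) (Q.mul_mem (this 7 (by decide) _) (this 8 (by decide) _)))))))))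

theorem Heis.th_surj (h : Heis e) (h8 : e 8 ≠ 1) {Q : Subgroup H} (hQ : ∀ i < 9, e i ∈ Q)
    (hc : Nat.card Q = 512) {q : H} (hq : q ∈ Q) : ∃ n < 512, th e n = q := by
  haveI : Finite Q := Nat.finite_of_card_ne_zero (by omega)
  have hb : Function.Bijective fun n : Fin 512 => (⟨th e n, th_mem hQ n⟩ : Q) := by
    rw [Nat.bijective_iff_injective_and_card]
    exact ⟨fun a b hab => Fin.ext (h.th_inj h8 a.2 b.2 (congrArg Subtype.val hab)),
      by rw [hc, Nat.card_fin]⟩
  obtain ⟨n, hn⟩ := hb.2 ⟨q, hq⟩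
  exact ⟨n, n.2, congrArg Subtype.val hn⟩

theorem th_map {K : Type*} [Group K] (f : H →* K) (n : ℕ) :
    f (th e n) = th (fun i => f (e i)) n := by
  have : ∀ (g : H) b, f (bp g b) = bp (f g) b := fun g b => by cases b <;> simp [bp]
  simp only [th, map_mul, this]

theorem Heis.map {K : Type*} [Group K] (h : Heis e) (f : H →* K) : Heis fun i => f (e i) :=
  ⟨fun i hi => by rw [← map_mul, h.sq i hi, map_one],
    fun i hi k hk hik => by rw [← map_mul, h.comm i hi k hk hik, map_mul],
    fun i hi => by rw [← map_mul, h.pair i hi, map_mul, map_mul]⟩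

theorem Acts.map {K : Type*} [Group K] {g : H} {T : ℕ} (h : Acts e g T) (f : H →* K) :
    Acts (fun i => f (e i)) (f g) T :=
  ⟨fun i hi => by rw [← map_mul, h.bas i hi, map_mul, th_map],
    by rw [← map_mul, h.eight, map_mul]⟩

/-! ### The two modules of `A₉` -/

/-- the three-cycle `(i 7 8)`. -/
def rp (i : Fin 7) : Equiv.Perm (Fin 9) := H24.AltMult.c 8 7 (i.castLE (by norm_num))

theorem rp_mem (i : Fin 7) : rp i ∈ alternatingGroup (Fin 9) := by
  rw [Equiv.Perm.mem_alternatingGroup]; revert i; decide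

/-- the three-cycle `(i 7 8)` as an even permutation. -/
def rr (i : Fin 7) : alternatingGroup (Fin 9) := ⟨rp i, rp_mem i⟩

/-- the vector with a given code. -/
def lin {V : Type*} [AddCommGroup V] (β : ℕ → V) (n : ℕ) : V :=
  ∑ i ∈ Finset.range 8, if n.testBit i then β i else 0

/-- the quadratic form on codes. -/
def q0 (n : ℕ) : ZMod 2 := if (mulQ n n).testBit 8 then 1 else 0

/-- images of the basis vectors: even-weight module. -/
def Mnat (i : Fin 7) (j : ℕ) : ℕ :=
  (([[60, 63, 4, 189, 45, 32, 125, 8], [30, 2, 4, 159, 15, 63, 95, 8], [88, 2, 93, 217, 73, 32, 64, 8], [123, 120, 126, 250, 16, 90, 64, 8], [1, 105, 111, 235, 123, 75, 64, 8], [1, 44, 4, 174, 16, 14, 110, 8], [1, 2, 72, 204, 16, 32, 12, 8]] : List (List ℕ)).getD i []).getD j 0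

/-- images of the basis vectors: spin module. -/
def Mspin (i : Fin 7) (j : ℕ) : ℕ :=
  (([[225, 18, 148, 88, 2, 13, 10, 6], [97, 210, 52, 40, 12, 8, 9, 7], [161, 146, 132, 120, 6, 5, 11, 4], [65, 194, 180, 104, 14, 9, 1, 3], [33, 82, 164, 72, 10, 1, 8, 5], [129, 66, 36, 24, 8, 4, 2, 1], [193, 130, 20, 56, 4, 12, 3, 2]] : List (List ℕ)).getD i []).getD j 0

example : ∀ i : Fin 7, rp i 7 = 8 ∧ rp i 8 = i.castLE (by norm_num) := by decide

end H28.Th
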