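import Mathlib
import Cfsg.Agent.H28.ThQ
import Cfsg.Agent.H6.XSDual

/-! Coordinates on a centraliser `2^(1+8).A₉`: alphabets, orbits, stabiliser chains. -/

set_option autoImplicit false
set_option maxRecDepth 100000

namespace H28.Th

open H29 H7.Cay Equiv Subgroup

/-- the table of the identity on codes. -/
def idT : ℕ := 1181745669222511412225

/-- the table of the identity on points. -/
def idP : ℕ := 36344967696

/-- action of a word on codes. -/
noncomputable def apW (T : ℕ → ℕ) (w : List ℕ) (n : ℕ) : ℕ :=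
  List.rec (motive := fun _ => ℕ) n (fun c _ ih => ap (T c) ih) w

/-- action of a word on points. -/
noncomputable def ppW (P : ℕ → ℕ) (w : List ℕ) (i : ℕ) : ℕ :=
  List.rec (motive := fun _ => ℕ) i (fun c _ ih => lit ih fun x => pk (P c) 4 x) w

theorem apW_lt (T : ℕ → ℕ) (w : List ℕ) {n : ℕ} (hn : n < 512) : apW T w n < 512 := by
  cases w with
  | nil => exact hn
  | cons c w => exact ap_lt _ _

variable {G : Type*} [Group G]

/-- the centraliser of the central involution. -/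
def CC (e : ℕ → G) : Subgroup G := centralizer {e 8}

/-- the extraspecial group. -/
def QQ (e : ℕ → G) : Subgroup G := gen e (List.range 9)

variable {e : ℕ → G} {π : G → Perm (Fin 9)} {T P : ℕ → ℕ}

theorem mem_CC {g : G} : g ∈ CC e ↔ Commute g (e 8) := mem_centralizer_singleton_iff

theorem e_mem_QQ {i : ℕ} (hi : i < 9) : e i ∈ QQ e := mem_gen (List.mem_range.2 hi)

theorem th_mem_QQ (n : ℕ) : th e n ∈ QQ e := th_mem (fun _ => e_mem_QQ) n

theorem Heis.mem_QQ (h : Heis e) {g : G} : g ∈ QQ e ↔ ∃ n < 512, th e n = g := by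
  refine ⟨fun hg => ?_, fun ⟨n, _, hn⟩ => hn ▸ th_mem_QQ n⟩
  induction hg using closure_induction with
  | mem x hx =>
    obtain ⟨i, hi, rfl⟩ := hx
    have hi : i < 9 := List.mem_range.1 hi
    exact ⟨2 ^ i, Nat.pow_lt_pow_right (by norm_num) hi, th_pow hi⟩
  | one => exact ⟨0, by norm_num, th_zero⟩
  | mul x y _ _ hx hy =>
    obtain ⟨n, hn, rfl⟩ := hx
    obtain ⟨m, hm, rfl⟩ := hy
    exact ⟨_, mulQ_lt hn hm, (h.th_mul n m).symm⟩
  | inv x _ hx =>
    obtain ⟨n, hn, rfl⟩ := hx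
    exact ⟨_, invQ_lt hn, h.th_inv hn⟩

theorem Heis.th_C (h : Heis e) (n : ℕ) : th e n ∈ CC e := mem_CC.2 (h.th_eight n).symm

theorem Heis.QQ_le (h : Heis e) : QQ e ≤ CC e := fun _ hg => by
  obtain ⟨n, -, rfl⟩ := h.mem_QQ.1 hg
  exact h.th_C n

theorem Heis.z2 (h : Heis e) : e 8 * e 8 = 1 := h.sq 8 (by norm_num)

theorem Heis.th_z (h : Heis e) (n : ℕ) : th e n * e 8 = th e (mulQ n 256) := by
  rw [← h.th_mul, th_256]

theorem Heis.card_codes (h : Heis e) (h8 : e 8 ≠ 1) (K : Subgroup G) (p : ℕ → Prop)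
    [DecidablePred p] (hK : ∀ g, g ∈ K ↔ ∃ n < 512, p n ∧ th e n = g) :
    Nat.card K = ((Finset.range 512).filter p).card := by
  rw [← Nat.card_eq_finsetCard]
  refine (Nat.card_congr (Equiv.ofBijective
    (fun n : ((Finset.range 512).filter p) => (⟨th e n, (hK _).2 ⟨n, Finset.mem_range.1
      (Finset.mem_filter.1 n.2).1, (Finset.mem_filter.1 n.2).2, rfl⟩⟩ : K)) ⟨?_, ?_⟩)).symm
  · intro a b hab
    exact Subtype.ext (h.th_inj h8 (Finset.mem_range.1 (Finset.mem_filter.1 a.2).1)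
      (Finset.mem_range.1 (Finset.mem_filter.1 b.2).1) (congrArg Subtype.val hab))
  · rintro ⟨g, hg⟩
    obtain ⟨n, h1, h2, rfl⟩ := (hK g).1 hg
    exact ⟨⟨n, Finset.mem_filter.2 ⟨Finset.mem_range.2 h1, h2⟩⟩, rfl⟩

theorem Heis.card_QQ (h : Heis e) (h8 : e 8 ≠ 1) : Nat.card (QQ e) = 512 := by
  rw [h.card_codes h8 (QQ e) (fun _ => True) (fun g => by simpa using h.mem_QQ),
    Finset.filter_true, Finset.card_range]

theorem Heis.th_comm (h : Heis e) (h8 : e 8 ≠ 1) {n m : ℕ} (hn : n < 512) (hm : m < 512) :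
    Commute (th e n) (th e m) ↔ mulQ n m = mulQ m n := by
  rw [commute_iff_eq, h.th_mul, h.th_mul]
  exact ⟨h.th_inj h8 (mulQ_lt hn hm) (mulQ_lt hm hn), fun h1 => by rw [h1]⟩

theorem Heis.comm_or (h : Heis e) {a b : G} (ha : a ∈ QQ e) (hb : b ∈ QQ e) :
    a * b = b * a ∨ a * b = b * a * e 8 := by
  obtain ⟨n, hn, rfl⟩ := h.mem_QQ.1 ha
  obtain ⟨m, hm, rfl⟩ := h.mem_QQ.1 hb
  rw [h.th_mul, h.th_mul, h.th_z]
  have h0 : ∀ i < 8, Nat.testBit 256 i = false := by decide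
  have h1 : Nat.testBit 256 8 = true := by decide
  have h2 : ∀ i, i ≠ 8 → Nat.testBit 256 i = false := fun i hi => by
    rw [show 256 = 2 ^ 8 from rfl, Nat.testBit_two_pow]; simpa using hi.symm
  by_cases hc : (mulQ n m).testBit 8 = (mulQ m n).testBit 8
  · refine Or.inl (congrArg _ (Nat.eq_of_testBit_eq fun i => ?_))
    by_cases hi : i = 8
    · rw [hi, hc]
    · rw [testBit_mulQ_lt _ _ hi, testBit_mulQ_lt _ _ hi, Bool.xor_comm]
  · refine Or.inr (congrArg _ (Nat.eq_of_testBit_eq fun i => ?_))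
    by_cases hi : i = 8
    · rw [hi, testBit_mulQ_eight (mulQ m n)]
      simp only [h0 0 (by decide), h0 1 (by decide), h0 2 (by decide), h0 3 (by decide), h1]
      revert hc
      cases (mulQ n m).testBit 8 <;> cases (mulQ m n).testBit 8 <;> simp
    · rw [testBit_mulQ_lt _ _ hi, testBit_mulQ_lt _ _ hi, testBit_mulQ_lt _ _ hi, h2 i hi,
        Bool.xor_comm, Bool.xor_false]

theorem Heis.sq_or (h : Heis e) {a : G} (ha : a ∈ QQ e) : a * a = 1 ∨ a * a = e 8 := by
  obtain ⟨n, hn, rfl⟩ := h.mem_QQ.1 ha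
  have : ∀ n < 512, mulQ n n = 0 ∨ mulQ n n = 256 := by decide +kernel
  rw [h.th_mul]
  rcases this n hn with h1 | h1 <;> rw [h1]
  exacts [Or.inl th_zero, Or.inr th_256]

theorem Heis.cen_Q (h : Heis e) (h8 : e 8 ≠ 1) {a : G} (ha : a ∈ QQ e)
    (hc : ∀ i < 8, Commute a (e i)) : a = 1 ∨ a = e 8 := by
  obtain ⟨n, hn, rfl⟩ := h.mem_QQ.1 ha
  have : ∀ n < 512, (∀ i < 8, mulQ n (2 ^ i) = mulQ (2 ^ i) n) → n = 0 ∨ n = 256 := by
    decide +kernel
  rcases this n hn fun i hi => (h.th_comm h8 hn (Nat.pow_lt_pow_right (by norm_num)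
    (show i < 9 by omega))).1 (by rw [th_pow (by omega)]; exact hc i hi) with rfl | rfl
  exacts [Or.inl th_zero, Or.inr th_256]

theorem Heis.xs (h : Heis e) (h8 : e 8 ≠ 1) : H3.XS 2 (e 8) (QQ e) where
  ord := orderOf_eq_prime (by rw [pow_two, h.z2]) h8
  mem := e_mem_QQ (by norm_num)
  central := fun x hx => (mem_CC.1 (h.QQ_le hx)).symm
  comm := fun x hx y hy => by
    rcases h.comm_or hx hy with h1 | h1
    · rw [commutatorElement_def, h1]; simp
    · rw [commutatorElement_def, h1, mul_assoc y, (mem_CC.1 (h.QQ_le hx)).eq, ← mul_assoc,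
        (mem_CC.1 (h.QQ_le hy)).eq]
      simp
  pow := fun x hx => by
    rw [pow_two]
    rcases h.sq_or hx with h1 | h1 <;> simp [h1]
  center_le := fun x hx hc => by
    rcases h.cen_Q h8 hx fun i hi => hc _ (e_mem_QQ (by omega)) with h1 | h1 <;> simp [h1]

theorem Heis.card_ab [Finite G] (h : Heis e) (h8 : e 8 ≠ 1) {R : Subgroup G} (hR : R ≤ QQ e)
    (hz : e 8 ∈ R) (hab : ∀ a ∈ R, ∀ b ∈ R, a * b = b * a) : Nat.card R ≤ 32 := by
  have h1 := H6.xs_card_mul (h.xs h8) hR hz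
  have h2 : Nat.card R ≤ Nat.card ↥(QQ e ⊓ centralizer (R : Set G)) :=
    card_le_of_le (le_inf hR fun a ha b hb => hab b hb a ha)
  rw [h.card_QQ h8] at h1
  nlinarith

theorem acts_one : Acts e (1 : G) idT :=
  ⟨fun i hi => by
    rw [one_mul, mul_one, show pk idT 9 i = 2 ^ i from
      (by decide : ∀ i < 8, pk idT 9 i = 2 ^ i) i hi, th_pow (by omega)], by simp⟩

theorem Acts.inv (h : Heis e) {g : G} {t t' : ℕ} (hg : Acts e g t)
    (hc : ∀ j < 8, ap t (pk t' 9 j) = 2 ^ j) : Acts e g⁻¹ t' :=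
  ⟨fun i hi => by
    have := hg.th h (pk t' 9 i)
    rw [hc i hi, th_pow (by omega)] at this
    calc g⁻¹ * e i = g⁻¹ * (e i * g) * g⁻¹ := by group
      _ = _ := by rw [← this]; group,
    (Commute.inv_left hg.eight : Commute g⁻¹ (e 8))⟩

/-- an alphabet in the centraliser, with its action on codes and points. -/
structure Ok (e : ℕ → G) (π : G → Perm (Fin 9)) (T P : ℕ → ℕ) : Prop where
  heis : Heis e
  z1 : e 8 ≠ 1
  mul : ∀ g ∈ CC e, ∀ k ∈ CC e, π (g * k) = π g * π k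
  ker : ∀ g ∈ CC e, π g = 1 ↔ g ∈ QQ e
  sgn : ∀ g ∈ CC e, Perm.sign (π g) = 1
  sur : ∀ σ, Perm.sign σ = 1 → ∃ g ∈ CC e, π g = σ
  cen : ∀ g ∈ CC e, (∀ i < 8, Commute g (e i)) → g ∈ QQ e
  acts : ∀ c, Acts e (e c) (T c)
  pi : ∀ c (i : Fin 9), (π (e c) i : ℕ) = pk (P c) 4 i

namespace Ok

variable (h : Ok e π T P)
include h

theorem mem (c : ℕ) : e c ∈ CC e := mem_CC.2 (h.acts c).eight

theorem ev_C (w : List ℕ) : ev e w ∈ CC e := ev_mem fun c _ => h.mem c

/-- the homomorphism to the symmetric group. -/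
def ph : CC e →* Perm (Fin 9) := MonoidHom.mk' (fun g => π g) fun a b => h.mul _ a.2 _ b.2

theorem one : π 1 = 1 := h.ph.map_one

theorem inv {g : G} (hg : g ∈ CC e) : π g⁻¹ = (π g)⁻¹ := h.ph.map_inv ⟨g, hg⟩

theorem pow {g : G} (hg : g ∈ CC e) (n : ℕ) : π (g ^ n) = π g ^ n := h.ph.map_pow ⟨g, hg⟩ n

theorem pQ {g : G} (hg : g ∈ QQ e) : π g = 1 := (h.ker g (h.heis.QQ_le hg)).2 hg

theorem conj {g x : G} (hg : g ∈ CC e) (hx : x ∈ CC e) : π (g * x * g⁻¹) = π g * π x * (π g)⁻¹ := by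
  rw [h.mul _ (mul_mem hg hx) _ (inv_mem hg), h.mul _ hg _ hx, h.inv hg]

theorem nor {g q : G} (hg : g ∈ CC e) (hq : q ∈ QQ e) : g * q * g⁻¹ ∈ QQ e := by
  have hq' := h.heis.QQ_le hq
  rw [← h.ker _ (mul_mem (mul_mem hg hq') (inv_mem hg)), h.conj hg hq', h.pQ hq]
  simp

theorem nor' {g q : G} (hg : g ∈ CC e) (hq : q ∈ QQ e) : g⁻¹ * q * g ∈ QQ e := by
  simpa using h.nor (inv_mem hg) hq

theorem of_eq {g k : G} (hg : g ∈ CC e) (hk : k ∈ CC e) (h1 : π g = π k) :
    ∃ n < 512, g = th e n * k := by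
  obtain ⟨n, hn, h2⟩ := h.heis.mem_QQ.1 ((h.ker (g * k⁻¹) (mul_mem hg (inv_mem hk))).1
    (by rw [h.mul _ hg _ (inv_mem hk), h.inv hk, h1, mul_inv_cancel]))
  exact ⟨n, hn, by rw [h2]; group⟩

theorem inj {n m : ℕ} (hn : n < 512) (hm : m < 512) (h1 : th e n = th e m) : n = m :=
  h.heis.th_inj h.z1 hn hm h1

theorem cen' {g : G} (hg : g ∈ CC e) (hc : ∀ i < 8, Commute g (e i)) : g = 1 ∨ g = e 8 :=
  h.heis.cen_Q h.z1 (h.cen g hg hc) hc

theorem ev_th (w : List ℕ) (n : ℕ) : ev e w * th e n = th e (apW T w n) * ev e w := by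
  induction w with
  | nil => simp [apW]
  | cons c w ih =>
    rw [ev_cons, mul_assoc, ih, ← mul_assoc, (h.acts c).th h.heis, mul_assoc]; rfl

theorem e_th (c n : ℕ) : e c * th e n = th e (ap (T c) n) * e c := (h.acts c).th h.heis n

theorem ev_pi (w : List ℕ) (i : Fin 9) : (π (ev e w) i : ℕ) = ppW P w i := by
  induction w with
  | nil => simp [ppW, h.one]
  | cons c w ih =>
    rw [ev_cons, h.mul _ (h.mem c) _ (h.ev_C w), Perm.mul_apply, h.pi, ih]; rfl

theorem ev_pi_eq {w : List ℕ} {σ : Perm (Fin 9)} (hc : ∀ i : Fin 9, ppW P w i = σ i) :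
    π (ev e w) = σ := Equiv.ext fun i => Fin.ext ((h.ev_pi w i).trans (hc i))

theorem pi_eq {c : ℕ} {σ : Perm (Fin 9)} (hc : ∀ i : Fin 9, pk (P c) 4 i = σ i) :
    π (e c) = σ := Equiv.ext fun i => Fin.ext ((h.pi c i).trans (hc i))

theorem acts_ev {w : List ℕ} {t : ℕ} (hc : ∀ j < 8, apW T w (2 ^ j) = pk t 9 j) :
    Acts e (ev e w) t :=
  ⟨fun i hi => by rw [← hc i hi, ← h.ev_th, th_pow (by omega)], mem_CC.1 (h.ev_C w)⟩

theorem ev_comm {w : List ℕ} {n : ℕ} (hc : apW T w n = n) : Commute (ev e w) (th e n) := by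
  rw [commute_iff_eq, h.ev_th, hc]

theorem e_comm {c n : ℕ} (hc : ap (T c) n = n) : Commute (e c) (th e n) := by
  rw [commute_iff_eq, h.e_th, hc]

/-- two words with the same action differ by a central element. -/
theorem ev_eq_or {u v : List ℕ} (hc : ∀ j < 8, apW T u (2 ^ j) = apW T v (2 ^ j)) :
    ev e u = ev e v ∨ ev e u = ev e v * e 8 := by
  have := h.cen' (g := (ev e v)⁻¹ * ev e u) (mul_mem (inv_mem (h.ev_C v)) (h.ev_C u)) fun i hi => by
    have h1 := h.ev_th u (2 ^ i)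
    have h2 := h.ev_th v (2 ^ i)
    rw [th_pow (by omega)] at h1 h2
    rw [commute_iff_eq, mul_assoc, h1, hc i hi]
    calc _ = (ev e v)⁻¹ * (th e (apW T v (2 ^ i)) * ev e v) * ((ev e v)⁻¹ * ev e u) := by group
      _ = _ := by rw [← h2]; group
  exact this.imp (fun h1 => (inv_mul_eq_one.1 h1).symm) fun h1 => by rw [← h1]; group

theorem range_ph : h.ph.range = alternatingGroup (Fin 9) := by
  ext σ
  rw [Perm.mem_alternatingGroup]
  exact ⟨fun ⟨g, hg⟩ => hg ▸ h.sgn g g.2, fun hσ => by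
    obtain ⟨g, hg, h1⟩ := h.sur σ hσ
    exact ⟨⟨g, hg⟩, h1⟩⟩

theorem ker_ph : h.ph.ker = (QQ e).subgroupOf (CC e) := by
  ext g
  exact h.ker g g.2

theorem card_C : Nat.card (CC e) = 92897280 := by
  have h1 := h.ph.ker.index_mul_card
  have h2 : 2 * Nat.card (alternatingGroup (Fin 9)) = Nat.card (Perm (Fin 9)) :=
    two_mul_nat_card_alternatingGroup
  rw [Nat.card_perm, Nat.card_fin] at h2
  rw [index_ker, h.range_ph, h.ker_ph,
    Nat.card_congr (subgroupOfEquivOfLe h.heis.QQ_le).toEquiv, h.heis.card_QQ h.z1] at h1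
  simp only [Nat.factorial] at h2
  omega

/-- the order of a subgroup of the centraliser from its image. -/
theorem card_dvd {D : Subgroup G} (hD : D ≤ CC e) {K : Subgroup (Perm (Fin 9))}
    (hK : ∀ g ∈ D, π g ∈ K) : Nat.card D ∣ Nat.card ↥(D ⊓ QQ e) * Nat.card K := by
  let f : D →* Perm (Fin 9) := h.ph.comp (inclusion hD)
  have h1 := f.ker.index_mul_card
  have h2 : f.ker = (D ⊓ QQ e).subgroupOf D := by
    ext g
    rw [mem_subgroupOf, mem_inf, and_iff_right g.2]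
    exact h.ker g (hD g.2)
  rw [index_ker, h2, Nat.card_congr (subgroupOfEquivOfLe inf_le_left).toEquiv] at h1
  rw [← h1, mul_comm]
  exact Nat.mul_dvd_mul_left _ (card_dvd_of_le (by rintro _ ⟨g, rfl⟩; exact hK g g.2))

theorem conj_ok (g : G) : Ok (fun c => g * e c * g⁻¹) (fun x => π (g⁻¹ * x * g)) T P := by
  have hC : ∀ x, x ∈ CC (fun c => g * e c * g⁻¹) ↔ g⁻¹ * x * g ∈ CC e := fun x => by
    rw [mem_CC, mem_CC, ← Commute.conj_iff (a := x) (h := g⁻¹)]
    simp [mul_assoc]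
  have hQ : ∀ x, x ∈ QQ (fun c => g * e c * g⁻¹) ↔ g⁻¹ * x * g ∈ QQ e := fun x => by
    have := map_gen (MulAut.conj g).toMonoidHom e (List.range 9)
    rw [QQ, QQ, ← show _ = gen (fun c => g * e c * g⁻¹) (List.range 9) from this,
      mem_map_equiv]
    simp
  refine ⟨h.heis.map (MulAut.conj g).toMonoidHom, fun h1 => h.z1 (by simpa using h1),
    fun a ha b hb => ?_, fun a ha => ?_, fun a ha => h.sgn _ ((hC a).1 ha), fun σ hσ => ?_,
    fun a ha h1 => ?_, fun c => (h.acts c).map (MulAut.conj g).toMonoidHom, fun c i => ?_⟩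
  · rw [← h.mul _ ((hC a).1 ha) _ ((hC b).1 hb)]
    congr 1
    group
  · rw [hQ, h.ker _ ((hC a).1 ha)]
  · obtain ⟨a, ha, h1⟩ := h.sur σ hσ
    exact ⟨g * a * g⁻¹, (hC _).2 (by simpa [mul_assoc] using ha), by simpa [mul_assoc] using h1⟩
  · refine (hQ a).2 (h.cen _ ((hC a).1 ha) fun i hi => ?_)
    simpa [mul_assoc] using (h1 i hi).conj g⁻¹
  · simpa [mul_assoc] using h.pi c i

end Ok

theorem mem_CC_conj (g x : G) : x ∈ CC (fun c => g * e c * g⁻¹) ↔ g⁻¹ * x * g ∈ CC e := by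
  rw [mem_CC, mem_CC, ← Commute.conj_iff (a := x) (h := g⁻¹)]
  simp [mul_assoc]

theorem mem_QQ_conj (g x : G) : x ∈ QQ (fun c => g * e c * g⁻¹) ↔ g⁻¹ * x * g ∈ QQ e := by
  have := map_gen (MulAut.conj g).toMonoidHom e (List.range 9)
  rw [QQ, QQ, ← show _ = gen (fun c => g * e c * g⁻¹) (List.range 9) from this, mem_map_equiv]
  simp

theorem th_conj (g : G) (n : ℕ) : th (fun c => g * e c * g⁻¹) n = g * th e n * g⁻¹ :=
  (th_map (MulAut.conj g).toMonoidHom n).symm

theorem ev_conj (g : G) (w : List ℕ) : ev (fun c => g * e c * g⁻¹) w = g * ev e w * g⁻¹ :=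
  (map_ev (MulAut.conj g).toMonoidHom e w).symm

theorem Ok.QQ_conj (h : Ok e π T P) {g : G} (hg : g ∈ CC e) :
    QQ (fun c => g * e c * g⁻¹) = QQ e := by
  ext x
  rw [mem_QQ_conj]
  exact ⟨fun h1 => by simpa [mul_assoc] using h.nor hg h1, h.nor' hg⟩

theorem conj_z {g : G} (hg : g ∈ CC e) : g * e 8 * g⁻¹ = e 8 := by
  rw [(mem_CC.1 hg).eq, mul_inv_cancel_right]

theorem CC_congr {e' : ℕ → G} (h8 : e' 8 = e 8) : CC e' = CC e := by rw [CC, CC, h8]

/-- test for a new alphabet. -/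
noncomputable def chkW (T P : ℕ → ℕ) (wl : List (List ℕ)) (TL PL : List ℕ) : Bool :=
  and2 (allN wl.length fun c => lit (nth idT TL c) fun t => lit (nth idP PL c) fun p =>
      and2 (allN 8 fun j => Nat.beq (apW T (nth [] wl c) (Nat.pow 2 j)) (pk t 9 j))
        (allN 9 fun i => Nat.beq (ppW P (nth [] wl c) i) (pk p 4 i)))
    (and2 (allN 9 fun i => eqL (nth [] wl i) [i])
      (and2 (Nat.ble TL.length wl.length) (Nat.ble PL.length wl.length)))

theorem Ok.wE (h : Ok e π T P) {wl : List (List ℕ)} {TL PL : List ℕ}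
    (hc : chkW T P wl TL PL = true) : (∀ i < 9, H29.wE e wl i = e i) ∧
      Ok (H29.wE e wl) π (nth idT TL) (nth idP PL) := by
  simp only [chkW, and2_true, allN_true, lit_eq, H29.beq_true, ble_true] at hc
  obtain ⟨h1, h2, h3, h4⟩ := hc
  have h9 : ∀ i < 9, H29.wE e wl i = e i := fun i hi => by
    rw [H29.wE, eqL_true (h2 i hi)]; simp
  have hC : CC (H29.wE e wl) = CC e := CC_congr (h9 8 (by norm_num))
  have hQ : QQ (H29.wE e wl) = QQ e := gen_congr fun c hc => h9 c (List.mem_range.1 hc)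
  have hA : ∀ g t, Acts e g t → Acts (H29.wE e wl) g t := fun g t hg =>
    ⟨fun i hi => by rw [h9 i (by omega), th_congr h9, hg.bas i hi],
      by rw [h9 8 (by norm_num), hg.eight]⟩
  refine ⟨h9, ⟨fun i hi => by rw [h9 i hi, h.heis.sq i hi], fun i hi k hk hik => by
      rw [h9 i hi, h9 k (by omega), h.heis.comm i hi k hk hik], fun i hi => by
      rw [h9 i (by omega), h9 (i + 4) (by omega), h9 8 (by omega), h.heis.pair i hi]⟩,
    by rw [h9 8 (by omega)]; exact h.z1, by rw [hC]; exact h.mul, by rw [hC, hQ]; exact h.ker,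
    by rw [hC]; exact h.sgn, by rw [hC]; exact h.sur, fun g hg h5 => ?_, fun c => hA _ _ ?_,
    fun c i => ?_⟩
  · rw [hQ]
    exact h.cen g (hC ▸ hg) fun i hi => h9 i (by omega) ▸ h5 i hi
  · by_cases hc : c < wl.length
    · exact h.acts_ev (h1 c hc).1
    · rw [H29.wE, nth_default _ (by omega), nth_default _ (by omega)]
      exact acts_one
  · by_cases hc : c < wl.length
    · exact (h.ev_pi _ i).trans ((h1 c hc).2 i i.2)
    · rw [H29.wE, nth_default _ (by omega), nth_default _ (by omega), ev_nil, h.one]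
      exact (by decide : ∀ i : Fin 9, (i : ℕ) = pk idP 4 i) i

/-! ### Orbits and stabiliser chains -/

/-- one sweep over the codes in `U`. -/
noncomputable def swp (T : ℕ → ℕ) (L : List ℕ) (U : ℕ) : ℕ :=
  Nat.rec (motive := fun _ => ℕ) U (fun n V => lit V fun V =>
    Bool.rec (motive := fun _ => ℕ) V
      (List.rec (motive := fun _ => ℕ) V
        (fun c _ W => Nat.lor W (Nat.shiftLeft 1 (ap (T c) n))) L) (V.testBit n)) 512

/-- `r` sweeps. -/
noncomputable def clos (T : ℕ → ℕ) (L : List ℕ) (r U : ℕ) : ℕ :=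
  Nat.rec (motive := fun _ => ℕ) U (fun _ V => swp T L V) r

/-- all codes of `U` are conjugate to `b` under `K`. -/
def Cj (e : ℕ → G) (K : Subgroup G) (b U : ℕ) : Prop :=
  ∀ m, U.testBit m = true → m < 512 ∧ ∃ g ∈ K, g * th e b * g⁻¹ = th e m

theorem Cj.bit {K : Subgroup G} {b : ℕ} (hb : b < 512) : Cj e K b (bit b) := fun m hm => by
  rw [testBit_bit, decide_eq_true_eq] at hm
  exact ⟨hm ▸ hb, 1, K.one_mem, by simp [hm]⟩

theorem Ok.cj_swp (h : Ok e π T P) {K : Subgroup G} {L : List ℕ} (hL : ∀ c ∈ L, e c ∈ K)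
    {b U : ℕ} (hU : Cj e K b U) : Cj e K b (swp T L U) := by
  rw [swp]
  generalize 512 = N
  induction N with
  | zero => exact hU
  | succ n ih =>
    change Cj e K b (lit _ _)
    rw [lit_eq]
    generalize (Nat.rec (motive := fun _ => ℕ) U _ n : ℕ) = V at ih
    cases hn : V.testBit n with
    | false => exact ih
    | true =>
      change Cj e K b (List.rec (motive := fun _ => ℕ) V _ L)
      induction L with
      | nil => exact ih
      | cons c L ih2 =>
        intro m hm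
        change (Nat.lor _ _).testBit m = true at hm
        rw [lor_eq, Nat.testBit_or, Bool.or_eq_true] at hm
        rcases hm with hm | hm
        · exact ih2 (fun c hc => hL c (by simp [hc])) m hm
        · obtain ⟨-, g, hg, h1⟩ := ih n hn
          obtain rfl : ap (T c) n = m := by simpa using (testBit_bit _ _).symm.trans hm
          refine ⟨ap_lt _ _, e c * g, K.mul_mem (hL c (by simp)) hg, ?_⟩
          rw [eq_mul_inv_of_mul_eq (h.e_th c n).symm, ← h1]
          group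

theorem Ok.cj_clos (h : Ok e π T P) {K : Subgroup G} {L : List ℕ} (hL : ∀ c ∈ L, e c ∈ K)
    {b U : ℕ} (hU : Cj e K b U) (r : ℕ) : Cj e K b (clos T L r U) := by
  induction r with
  | zero => exact hU
  | succ r ih => exact h.cj_swp hL ih

theorem Ok.card_orbit [Finite G] (h : Ok e π T P) {K : Subgroup G} {b U : ℕ} (hU : Cj e K b U) :
    popc 9 U * Nat.card ↥(K ⊓ centralizer {th e b}) ≤ Nat.card K := by
  let _ : MulAction K G := MulAction.compHom G (MulAut.conj.comp K.subtype)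
  rw [← (MulAction.stabilizer K (th e b)).index_mul_card]
  refine Nat.mul_le_mul ?_ ?_
  · rw [MulAction.index_stabilizer, popc_eq, ← Set.ncard_coe_finset]
    generalize Finset.range (2 ^ 9) = s
    refine Set.ncard_le_ncard_of_injOn (th e) (fun m hm => ?_) (fun m hm k hk h1 => ?_)
      (Set.toFinite _)
    · obtain ⟨-, g, hg, h1⟩ := hU m (Finset.mem_filter.1 hm).2
      exact ⟨⟨g, hg⟩, h1⟩
    · exact h.inj (hU m (Finset.mem_filter.1 hm).2).1 (hU k (Finset.mem_filter.1 hk).2).1 h1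
  · rw [← Nat.card_congr (subgroupOfEquivOfLe (inf_le_left (a := K)
      (b := centralizer {th e b}))).toEquiv]
    refine card_le_of_le fun g hg => ?_
    have := mem_centralizer_singleton_iff.1 (mem_subgroupOf.1 hg).2
    change g.1 * th e b * g.1⁻¹ = th e b
    rw [this, mul_inv_cancel_right]

/-- the elements of the centraliser that fix the given codes. -/
def Fx (e : ℕ → G) : List ℕ → Subgroup G
  | [] => CC e
  | b :: bs => Fx e bs ⊓ centralizer {th e b}

theorem mem_Fx {g : G} : ∀ {bs : List ℕ}, g ∈ Fx e bs ↔ g ∈ CC e ∧ ∀ b ∈ bs, Commute g (th e b)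
  | [] => by simp [Fx]
  | b :: bs => by
    rw [Fx, mem_inf, mem_Fx, mem_centralizer_singleton_iff, List.forall_mem_cons, commute_iff_eq]
    tauto

/-- test of a stabiliser chain. -/
noncomputable def chkCh (T : ℕ → ℕ) (ch : List (ℕ × ℕ × ℕ × List ℕ)) : List ℕ → Bool :=
  List.rec (motive := fun _ => List ℕ → Bool) (fun _ => true) (fun a _ ih bs =>
    and2 (and2 (allL a.2.2.2 fun c => allL bs fun b => Nat.beq (ap (T c) b) b)
      (and2 (Nat.ble (Nat.succ a.1) 512)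
        (Nat.ble a.2.2.1 (popc 9 (clos T a.2.2.2 a.2.1 (bit a.1)))))) (ih (a.1 :: bs))) ch

theorem Ok.chain [Finite G] (h : Ok e π T P) : ∀ (ch : List (ℕ × ℕ × ℕ × List ℕ)) (bs : List ℕ),
    chkCh T ch bs = true → (ch.map fun a => a.2.2.1).prod *
      Nat.card (Fx e ((ch.map fun a => a.1).reverse ++ bs)) ≤ Nat.card (Fx e bs)
  | [], bs, _ => by simp
  | a :: ch, bs, hc => by
    rw [show chkCh T (a :: ch) bs = and2 (and2 (allL a.2.2.2 fun c => allL bs fun b =>
      Nat.beq (ap (T c) b) b) (and2 (Nat.ble (Nat.succ a.1) 512)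
        (Nat.ble a.2.2.1 (popc 9 (clos T a.2.2.2 a.2.1 (bit a.1)))))) (chkCh T ch (a.1 :: bs))
      from rfl] at hc
    simp only [and2_true, allL_true, H29.beq_true, ble_true] at hc
    obtain ⟨⟨h1, h2, h3⟩, h4⟩ := hc
    have ih := Ok.chain h ch _ h4
    have h5 := h.card_orbit (h.cj_clos (K := Fx e bs) (L := a.2.2.2)
      (fun c hc => mem_Fx.2 ⟨h.mem c, fun b hb => h.e_comm (h1 c hc b hb)⟩) (Cj.bit h2) a.2.1)
    rw [List.map_cons, List.map_cons, List.prod_cons, List.reverse_cons, List.append_assoc,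
      mul_assoc]
    exact (Nat.mul_le_mul h3 ih).trans h5

end H28.Th
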