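import Mathlib
import Cfsg.Agent.H28.ThQ
import Cfsg.Agent.H8.ThM2
import Cfsg.Agent.H8.ThM3

/-! The faithful 8-dimensional orthogonal F₂-modules of A₉. -/

set_option autoImplicit false

namespace H8.ThM

open H28.Th

/-- a product of two transpositions. -/
def dd (a b c d : Fin 9) (h1 : a ≠ b := by decide) (h2 : c ≠ d := by decide) :
    alternatingGroup (Fin 9) :=
  ⟨Equiv.swap a b * Equiv.swap c d, by
    rw [Equiv.Perm.mem_alternatingGroup, map_mul, Equiv.Perm.sign_swap h1, Equiv.Perm.sign_swap h2]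
    rfl⟩

/-- `(1 2 3)`. -/
def cy : alternatingGroup (Fin 9) := dd 1 3 1 2
/-- `(4 5 6)`. -/
def cz : alternatingGroup (Fin 9) := dd 4 6 4 5
/-- `(0 1 2)`. -/
def ca : alternatingGroup (Fin 9) := dd 0 2 0 1
/-- `(3 4 5)`. -/
def cb : alternatingGroup (Fin 9) := dd 3 5 3 4

theorem tri : Tri (rr 0) cy cz (dd 1 2 4 5) (dd 7 8 1 2) (dd 0 4 0 1 * dd 7 5 7 2 * dd 8 6 8 3) := by
  constructor <;> decide +kernel

theorem chain (P : Fin 7 → Prop) (h0 : P 0)
    (h : ∀ i j g, (g = ca ∧ i = 0 ∨ g = cy ∨ g = cb ∨ g = cz) → g * rr i = rr j * g → P i → P j) :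
    ∀ i, P i := by
  have h1 := h 0 1 ca (by simp) (by decide +kernel) h0
  have h2 := h 1 2 cy (by simp) (by decide +kernel) h1
  have h3 := h 2 3 cy (by simp) (by decide +kernel) h2
  have h4 := h 3 4 cb (by simp) (by decide +kernel) h3
  have h5 := h 4 5 cb (by simp) (by decide +kernel) h4
  have h6 := h 5 6 cz (by simp) (by decide +kernel) h5
  intro i; fin_cases i <;> assumption

theorem rr3 : ∀ i, rr i * rr i * rr i = 1 := by decide +kernel
theorem rr2 : ∀ i j, i ≠ j → rr i * rr j * (rr i * rr j) = 1 := by decide +kernel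

theorem main {V : Type*} [AddCommGroup V] [Finite V] [DistribMulAction (alternatingGroup (Fin 9)) V]
    (hV : Nat.card V = 256) (hne : ∃ (g : alternatingGroup (Fin 9)) (v : V), g • v ≠ v)
    {q : V → ZMod 2} {B : V →+ V →+ ZMod 2} (h : QF q B)
    (inv : ∀ (g : alternatingGroup (Fin 9)) v, q (g • v) = q v) :
    ∃ β : ℕ → V, (∀ v, ∃ n < 256, lin β n = v) ∧ (∀ n < 256, q (lin β n) = q0 n) ∧
      ((∀ i, ∀ j < 8, rr i • β j = lin β (Mnat i j)) ∨
       (∀ i, ∀ j < 8, rr i • β j = lin β (Mspin i j)) ∨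
       (∀ i, ∀ j < 8, (rr i)⁻¹ • β j = lin β (Mspin i j))) := by
  have h2 := h.two
  rcases tri.dich hV h2 with hd | hd
  · have hN := chain (fun i => ∀ v : V, v ∈ Nx V (rr i)) hd (fun i j g _ e hi v => by
      simpa using Nx_conj e (hi (g⁻¹ • v)))
    have hinv : ∀ i (v : V), (rr i)⁻¹ • v = v + rr i • v := fun i v => by
      rw [← Nx_sq h2 (hN i v), inv_smul_eq_iff, ← mul_smul, ← mul_smul, rr3, one_smul]
    let s : ℕ → AddMonoid.End V := fun i =>
      if hi : i < 7 then DistribSMul.toAddMonoidHom V (rr ⟨i, hi⟩) else 0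
    have hs : ∀ (i : Fin 7) v, s i v = rr i • v := fun i v => by
      rw [show s i = DistribSMul.toAddMonoidHom V (rr i) from dif_pos i.2]; rfl
    obtain ⟨β, h1, h3⟩ := spin_core hV h2 s (fun i hi => by
        ext v
        change s i (s i v) = s i v + v
        rw [hs ⟨i, hi⟩, hs ⟨i, hi⟩, Nx_sq h2 (hN _ v), add_comm])
      (fun i hi j hj hij => by
        ext v
        change s i (s j v) + s j (s i v) = s i v + s j v + v
        simp only [hs ⟨i, hi⟩, hs ⟨j, hj⟩]
        have e := eq_inv_of_mul_eq_one_left (rr2 ⟨i, hi⟩ ⟨j, hj⟩ (by simpa using hij))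
        rw [← mul_smul, e, mul_inv_rev, mul_smul, hinv, hinv, smul_add]
        calc _ = rr ⟨i, hi⟩ • v + rr ⟨j, hj⟩ • v + v +
            (rr ⟨j, hj⟩ • rr ⟨i, hi⟩ • v + rr ⟨j, hj⟩ • rr ⟨i, hi⟩ • v) := by abel
          _ = _ := by rw [h2, add_zero])
    obtain ⟨-, v, -⟩ := hne
    haveI : Nontrivial V := Finite.one_lt_card_iff_nontrivial.1 (by omega)
    obtain ⟨v1, hv1⟩ := exists_ne (0 : V)
    rcases h3 with h3 | h3
    · refine ⟨β, h1, spin_q h hv1 h1 fun i n => ?_, Or.inr (Or.inl fun i j hj => ?_)⟩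
      · rw [← (h3 i).lin h2, hs, inv]
      · rw [← h3 i j hj, hs]
    · have e : ∀ (i : Fin 7) v, (s i + 1) v = (rr i)⁻¹ • v := fun i v => by
        rw [hinv, ← hs, add_comm v]; rfl
      refine ⟨β, h1, spin_q h hv1 h1 fun i n => ?_, Or.inr (Or.inr fun i j hj => ?_)⟩
      · rw [← (h3 i).lin h2, e, inv]
      · rw [← h3 i j hj, e]
  · have D : ∀ g x y : alternatingGroup (Fin 9), g * rr 0 = x * g → g * cy = y * g →
        ∀ v ∈ Nx V x, v ∈ Fx V y := fun g x y e1 e2 v hv => by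
      have e3 : g⁻¹ * x = rr 0 * g⁻¹ := by rw [inv_mul_eq_iff_eq_mul, ← mul_assoc, e1]; group
      simpa using Fx_conj e2 (hd _ (Nx_conj e3 hv))
    have dz := D (dd 1 4 2 5 * dd 3 6 5 6) (rr 0) cz (by decide +kernel) (by decide +kernel)
    have db := D (dd 1 4 2 5) (rr 0) cb (by decide +kernel) (by decide +kernel)
    have d5 := D (dd 1 7 2 8 * dd 3 5 4 5) ca (rr 5) (by decide +kernel) (by decide +kernel)
    have d6 := D (dd 1 7 2 8 * dd 3 6 4 6) ca (rr 6) (by decide +kernel) (by decide +kernel)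
    obtain ⟨u, u0, -, hu⟩ : ∃ u : V, u ≠ 0 ∧ u ∈ (⊤ : AddSubgroup V) ∧ u ∈ Nx V (rr 0) := by
      by_contra hc
      have f0 : ∀ v : V, v ∈ Fx V (rr 0) := fun v => by
        by_contra e
        exact hc (split h2 (rr3 0) (inv_top _) trivial e)
      have hF := chain (fun i => ∀ v : V, v ∈ Fx V (rr i)) f0 (fun i j g _ e hi v => by
        simpa using Fx_conj e (hi (g⁻¹ • v)))
      obtain ⟨g, v, hg⟩ := hne
      have key : ∀ σ ∈ Subgroup.closure (H24.AltMult.c (8 : Fin 9) 7 ''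
          (Finset.univ.filter fun i => i ≠ 8 ∧ i ≠ 7 : Finset (Fin 9))),
          ∃ g : alternatingGroup (Fin 9), (g : Equiv.Perm (Fin 9)) = σ ∧ ∀ v : V, g • v = v := by
        intro σ hσ
        induction hσ using Subgroup.closure_induction with
        | mem x hx =>
          obtain ⟨i, hi, rfl⟩ := hx
          simp only [Finset.coe_filter, Finset.mem_univ, true_and, Set.mem_setOf_eq] at hi
          exact ⟨rr ⟨i, by omega⟩, rfl, hF _⟩
        | one => exact ⟨1, rfl, fun v => one_smul _ v⟩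
        | mul x y _ _ hx hy =>
          obtain ⟨a, rfl, ha⟩ := hx
          obtain ⟨b, rfl, hb⟩ := hy
          exact ⟨a * b, rfl, fun v => by rw [mul_smul, hb, ha]⟩
        | inv x _ hx =>
          obtain ⟨a, rfl, ha⟩ := hx
          exact ⟨a⁻¹, rfl, fun v => by rw [inv_smul_eq_iff, ha]⟩
      obtain ⟨g', e, hg'⟩ := key g (H24.AltMult.closure_c (by decide) _
        (Equiv.Perm.mem_alternatingGroup.1 g.2))
      exact hg (Subtype.ext e ▸ hg' v)
    have h4 := chain (fun i => Nat.card (Nx V (rr i)) = 4) (tri.four hV h2 hd dz u0 hu)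
      (fun i j g _ e hi => (card_conj e).symm.trans hi)
    obtain ⟨f, f0, f1, f2⟩ := exists_f h inv (x := rr 0) (y := ca) (t := (rr 5)⁻¹ * rr 6 * (rr 5)⁻¹)
      (by decide +kernel) (by decide +kernel) (by decide +kernel) (fun w hw => by
        rw [mul_smul, mul_smul, Fx_inv (d5 w hw), d6 w hw, Fx_inv (d5 w hw)]) u0 hu
    have hf := chain (fun i => f ∈ Nx V (rr i)) f1 (fun i j g hg e hi => by
      have : g • f = f := by
        rcases hg with ⟨rfl, -⟩ | rfl | rfl | rfl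
        exacts [f2, hd f f1, db f f1, dz f f1]
      exact this ▸ Nx_conj e hi)
    obtain ⟨β, h1, h3, h5⟩ := nat_core hV h inv rr rr3 rr2 h4 f0 hf
    exact ⟨β, h1, h3, Or.inl h5⟩

end H8.ThM

namespace H28.Th

theorem classify {V : Type*} [AddCommGroup V] [Finite V] (hV : Nat.card V = 256)
    (h2 : ∀ v : V, v + v = 0) (ρ : alternatingGroup (Fin 9) → V → V)
    (ρ1 : ∀ v, ρ 1 v = v) (ρmul : ∀ g h v, ρ (g * h) v = ρ g (ρ h v))
    (ρadd : ∀ g v w, ρ g (v + w) = ρ g v + ρ g w) (hne : ∃ g v, ρ g v ≠ v)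
    (q : V → ZMod 2) (B : V → V → ZMod 2) (hq : ∀ x y, q (x + y) = q x + q y + B x y)
    (hB : ∀ x y z, B (x + y) z = B x z + B y z) (nd : ∀ x, (∀ y, B x y = 0) → x = 0)
    (inv : ∀ g v, q (ρ g v) = q v) :
    ∃ β : ℕ → V, (∀ v, ∃ n < 256, lin β n = v) ∧ (∀ n < 256, q (lin β n) = q0 n) ∧
      ((∀ i, ∀ j < 8, ρ (rr i) (β j) = lin β (Mnat i j)) ∨
       (∀ i, ∀ j < 8, ρ (rr i) (β j) = lin β (Mspin i j)) ∨
       (∀ i, ∀ j < 8, ρ (rr i)⁻¹ (β j) = lin β (Mspin i j))) := by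
  letI : DistribMulAction (alternatingGroup (Fin 9)) V :=
    { smul := ρ
      one_smul := ρ1
      mul_smul := ρmul
      smul_zero := fun g => (AddMonoidHom.mk' (ρ g) (ρadd g)).map_zero
      smul_add := ρadd }
  have sy : ∀ x y, B x y = B y x := fun x y => by
    have h1 := hq x y
    rw [add_comm x y, hq y x, add_comm (q y)] at h1
    exact (add_left_cancel h1).symm
  let B' : V →+ V →+ ZMod 2 := AddMonoidHom.mk'
    (fun x => AddMonoidHom.mk' (B x) fun y z => by rw [sy, hB, sy y, sy z])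
    (fun x y => by ext z; exact hB x y z)
  exact H8.ThM.main hV hne (B := B') ⟨h2, hq, nd⟩ inv

end H28.Th
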