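import Mathlib
import Cfsg.Agent.H28.ThM
import Cfsg.Agent.H28.ThMod
import Cfsg.Agent.H14.HeCent

/-! Coordinates on a centraliser `2^(1+8).A₉`: the first alphabet. -/

set_option autoImplicit false
set_option maxRecDepth 100000

namespace H28.Th

open H29 H7.Cay Equiv Subgroup
open H14.He (ES bt bp bt_zero bt_conj bt_congr bt_symm)

/-- action on codes: even-weight module. -/
def TnL : List ℕ := [1181745686814697456641, 1181754676421766153217, 1186357355240938800129, 3542928910657334019073, 1181745669222511412481, 1181745669222511543297, 1181745669222578521089, 1181745669256871150593, 1181745669222511412225, 76039905160534851388, 4113426924901613268660, 75500561855174149406, 3836199649818541294742, 74941028779450172760, 4363809051709103408336, 74943065560459178363, 4668195569187272909043, 74942545145844650497, 4529844494060373262849, 75769053869316921345, 3974818696544969115649, 74004276138196599809, 4249741850591524553729]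

/-- action on codes: spin module. -/
def TsL : List ℕ := [1181745686814697456641, 1181754676421766153217, 1186357355240938800129, 3542928910657334019073, 1181745669222511412481, 1181745669222511543297, 1181745669222578521089, 1181745669256871150593, 1181745669222511412225, 55529858578217182689, 3603070455251829137888, 2430520961229424665953, 3612275637614681497952, 41712533725636666785, 3584641444380753994144, 2393492400423618970945, 3570626383591193542976, 2407453277514313671969, 3593801625519421301024, 2370442801151424497025, 1195625922188938346880, 23112913409075774913, 3566050831263581929920]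

/-- action on points. -/
def P1L : List ℕ := [36344967696, 36344967696, 36344967696, 36344967696, 36344967696, 36344967696, 36344967696, 36344967696, 36344967696, 2253664791, 30170952216, 6548632176, 30439387776, 10843600656, 30707824656, 15138583056, 30976279056, 19433730576, 31244956176, 23730598416, 31516275216, 28040245776, 31815119376]

/-- the letters `9 + 2 i`, `10 + 2 i` are lifts of order three of `(i 7 8)` and its inverse. -/
structure L1 {G : Type*} [Group G] (e : ℕ → G) : Prop where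
  cube : ∀ i < 7, e (9 + 2 * i) ^ 3 = 1
  inv : ∀ i < 7, e (10 + 2 * i) = (e (9 + 2 * i))⁻¹
  one : ∀ c, 23 ≤ c → e c = 1

/-- the tests on a table. -/
def TabOK (TL : List ℕ) (M : Fin 7 → ℕ → ℕ) : Prop :=
  TL.length = 23 ∧ (∀ c < 9, ∀ j < 8,
    mulQ (2 ^ c) (2 ^ j) = mulQ (pk (nth idT TL c) 9 j) (2 ^ c)) ∧
  (∀ i < 7, ∀ j < 8, ap (nth idT TL (9 + 2 * i)) (ap (nth idT TL (9 + 2 * i))
      (pk (nth idT TL (9 + 2 * i)) 9 j)) = 2 ^ j ∧
    ap (nth idT TL (9 + 2 * i)) (pk (nth idT TL (10 + 2 * i)) 9 j) = 2 ^ j) ∧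
  ∀ i : Fin 7, ∀ j < 8, ∀ k < 8,
    (M i j).testBit k = (pk (nth idT TL (9 + 2 * i)) 9 j).testBit k

theorem tabOK_n : TabOK TnL Mnat := by unfold TabOK; decide +kernel

theorem tabOK_s : TabOK TsL Mspin := by unfold TabOK; decide +kernel

variable {H : Type*} [Group H] {Q : Subgroup H} {t : H}

theorem build (h : ES Q t) (hc : Nat.card Q = 512) (π : H →* Perm (Fin 9))
    (ker : ∀ g, π g = 1 ↔ g ∈ Q) (sgn : ∀ g, Perm.sign (π g) = 1)
    (sur : ∀ σ, Perm.sign σ = 1 → ∃ g, π g = σ) (cen : centralizer (Q : Set H) ≤ Q)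
    {a : ℕ → H} (ha : Heis a) (hQ : ∀ i < 9, a i ∈ Q) (h8 : a 8 = t) {TL : List ℕ}
    {M : Fin 7 → ℕ → ℕ} (hT : TabOK TL M)
    (hg : ∀ i : Fin 7, ∃ g, π g = rp i ∧ ∀ j < 8,
      g * a j = th a (pk (nth idT TL (9 + 2 * i)) 9 j) * g ∨
      g * a j = th a (pk (nth idT TL (9 + 2 * i)) 9 j) * g * t) :
    ∃ e : ℕ → H, e 8 = t ∧ L1 e ∧ Ok e π (nth idT TL) (nth idP P1L) := by
  classical
  obtain ⟨t1, t2, t3, -⟩ := hT
  have z1 : a 8 ≠ 1 := h8 ▸ h.t1
  have hQQ : QQ a = Q := by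
    ext g
    rw [ha.mem_QQ]
    exact ⟨fun ⟨n, _, hn⟩ => hn ▸ th_mem hQ n, ha.th_surj z1 hQ hc⟩
  have cen' : ∀ g, (∀ i < 8, Commute g (a i)) → g ∈ Q := fun g hg => cen fun q hq => by
    have : QQ a ≤ centralizer {g} := gen_le.2 fun c hc => mem_centralizer_singleton_iff.2 (by
      have hc : c < 9 := List.mem_range.1 hc
      by_cases h1 : c = 8
      · rw [h1, h8, h.tc]
      · exact (hg c (by omega)).symm.eq)
    exact mem_centralizer_singleton_iff.1 (this (hQQ ▸ hq))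
  have h1 : ∀ i : Fin 7, ∃ g, π g = rp i ∧ Acts a g (nth idT TL (9 + 2 * i)) := fun i => by
    obtain ⟨g, g1, g2⟩ := hg i
    obtain ⟨m, hm⟩ := (by decide +kernel : ∀ δ : Fin 8 → Bool, ∃ m ∈
      [∑ j : Fin 8, if δ j then 0 else 2 ^ ((j.val + 4) % 8)], ∀ j : Fin 8,
        mulQ m (2 ^ j.val) = mulQ (mulQ (2 ^ j.val) m) (if δ j then 0 else 256))
      fun j => decide (g * a j = th a (pk (nth idT TL (9 + 2 * i)) 9 j) * g)
    refine ⟨g * th a m, by rw [map_mul, g1, (ker _).2 (th_mem hQ m), mul_one],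
      fun j hj => ?_, by rw [h8, h.tc]⟩
    have h2 := congrArg (th a) (hm.2 ⟨j, hj⟩)
    rw [← ha.th_mul, ← ha.th_mul, ← ha.th_mul, th_pow (by omega)] at h2
    rw [mul_assoc, h2]
    by_cases h3 : g * a j = th a (pk (nth idT TL (9 + 2 * i)) 9 j) * g
    · rw [if_pos (decide_eq_true h3), th_zero, mul_one, ← mul_assoc, h3, mul_assoc]
    · rw [if_neg (by simpa using h3), th_256, h8, ← mul_assoc, ← mul_assoc,
        (g2 j hj).resolve_left h3, mul_assoc _ t, ← h.tc, mul_assoc, mul_assoc, mul_assoc, h.t2,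
        mul_one]
  have h2 : ∀ i : ℕ, ∃ g, ∀ hi : i < 7, π g = rp ⟨i, hi⟩ ∧ g ^ 3 = 1 ∧
      Acts a g (nth idT TL (9 + 2 * i)) := fun i => by
    by_cases hi : i < 7
    swap
    · exact ⟨1, fun h => absurd h hi⟩
    obtain ⟨g, g1, g2⟩ := h1 ⟨i, hi⟩
    have g3 : ∀ j < 8, Commute (g * g * g) (a j) := fun j hj => by
      rw [commute_iff_eq, mul_assoc, g2.bas j hj, mul_assoc, ← mul_assoc g (th _ _), g2.th ha,
        ← mul_assoc, ← mul_assoc, g2.th ha, (t3 i hi j hj).1, th_pow (by omega)]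
      simp only [mul_assoc]
    have g4 : g * g * g * (g * g * g) = 1 := by
      rcases ha.cen_Q z1 (hQQ ▸ cen' _ g3) g3 with h4 | h4 <;> rw [h4]
      exacts [mul_one 1, ha.z2]
    refine ⟨g * (g * g * g), fun _ => ⟨?_, ?_, fun j hj => ?_, by rw [h8, h.tc]⟩⟩
    · simp only [map_mul, g1]
      exact (by decide : ∀ k, rp k * (rp k * rp k * rp k) = rp k) _
    · rw [show (g * (g * g * g)) ^ 3 = g * g * g * (g * g * g) * (g * g * g * (g * g * g)) by
        simp only [pow_succ, pow_zero, one_mul, mul_assoc], g4, mul_one]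
    · rw [mul_assoc, (g3 j hj).eq, ← mul_assoc, g2.bas j hj, mul_assoc]
  choose ρ hρ using h2
  let e : ℕ → H := fun c => if c < 9 then a c else if c < 23 then
    (if c % 2 = 1 then ρ ((c - 9) / 2) else (ρ ((c - 9) / 2))⁻¹) else 1
  have e1 : ∀ c < 9, e c = a c := fun c hc => if_pos hc
  have e2 : ∀ i < 7, e (9 + 2 * i) = ρ i := fun i hi => by
    simp only [e]
    rw [if_neg (by omega), if_pos (by omega), if_pos (by omega),
      show (9 + 2 * i - 9) / 2 = i by omega]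
  have e3 : ∀ i < 7, e (10 + 2 * i) = (ρ i)⁻¹ := fun i hi => by
    simp only [e]
    rw [if_neg (by omega), if_pos (by omega), if_neg (by omega),
      show (10 + 2 * i - 9) / 2 = i by omega]
  have e4 : ∀ c, 23 ≤ c → e c = 1 := fun c hc => by
    simp only [e]
    rw [if_neg (by omega), if_neg (by omega)]
  have cs : ∀ c, c < 9 ∨ (∃ i < 7, c = 9 + 2 * i) ∨ (∃ i < 7, c = 10 + 2 * i) ∨ 23 ≤ c :=
    fun c => by
      by_cases h1 : c < 9
      · exact Or.inl h1
      by_cases h2 : 23 ≤ c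
      · exact Or.inr (Or.inr (Or.inr h2))
      rcases Nat.mod_two_eq_zero_or_one c with h3 | h3
      · exact Or.inr (Or.inr (Or.inl ⟨(c - 9) / 2, by omega, by omega⟩))
      · exact Or.inr (Or.inl ⟨(c - 9) / 2, by omega, by omega⟩)
  have hQe : QQ e = Q := (gen_congr fun c hc => e1 c (List.mem_range.1 hc)).trans hQQ
  have e8 : e 8 = t := (e1 8 (by norm_num)).trans h8
  have hCe : ∀ g, g ∈ CC e := fun g => mem_CC.2 (by rw [e8]; exact h.tc g)
  have hA : ∀ g t, Acts a g t → Acts e g t := fun g t hg =>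
    ⟨fun i hi => by rw [e1 i (by omega), th_congr e1, hg.bas i hi],
      by rw [e1 8 (by norm_num), hg.eight]⟩
  obtain ⟨p1, p2⟩ : (∀ c < 9, ∀ i : Fin 9, (i : ℕ) = pk (nth idP P1L c) 4 i) ∧
      ∀ k : Fin 7, ∀ i : Fin 9, (rp k i : ℕ) = pk (nth idP P1L (9 + 2 * k)) 4 i ∧
        ((rp k)⁻¹ i : ℕ) = pk (nth idP P1L (10 + 2 * k)) 4 i := by decide +kernel
  refine ⟨e, e8, ⟨fun i hi => by rw [e2 i hi, (hρ i hi).2.1], fun i hi => by
      rw [e2 i hi, e3 i hi], e4⟩, ⟨fun i hi => by rw [e1 i hi, ha.sq i hi], fun i hi k hk hik => by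
      rw [e1 i hi, e1 k (by omega), ha.comm i hi k hk hik], fun i hi => by
      rw [e1 i (by omega), e1 (i + 4) (by omega), e1 8 (by omega), ha.pair i hi]⟩,
    e8 ▸ h.t1, fun g _ k _ => map_mul π g k, fun g _ => hQe ▸ ker g, fun g _ => sgn g,
    fun σ hσ => (sur σ hσ).imp fun g hg => ⟨hCe g, hg⟩,
    fun g _ hg => hQe ▸ cen' g fun i hi => e1 i (by omega) ▸ hg i hi, fun c => hA _ _ ?_,
    fun c i => ?_⟩
  · rcases cs c with hc | ⟨i, hi, rfl⟩ | ⟨i, hi, rfl⟩ | hc
    · refine ⟨fun j hj => ?_, by rw [h8, h.tc]⟩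
      rw [e1 c hc, ← th_pow (e := a) hc, ← th_pow (e := a) (show j < 9 by omega), ha.th_mul, ha.th_mul, t2 c hc j hj]
    · rw [e2 i hi]; exact (hρ i hi).2.2
    · rw [e3 i hi]; exact (hρ i hi).2.2.inv ha fun j hj => (t3 i hi j hj).2
    · rw [e4 c hc, nth_default _ (by omega)]; exact acts_one
  · rcases cs c with hc | ⟨k, hk, rfl⟩ | ⟨k, hk, rfl⟩ | hc
    · rw [e1 c hc, (ker _).2 (hQ c hc)]; exact p1 c hc i
    · rw [e2 k hk, (hρ k hk).1]; exact (p2 ⟨k, hk⟩ i).1
    · rw [e3 k hk, map_inv, (hρ k hk).1]; exact (p2 ⟨k, hk⟩ i).2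
    · rw [e4 c hc, nth_default _ (by simpa [P1L] using hc), map_one]
      exact (by decide : ∀ i : Fin 9, (i : ℕ) = pk idP 4 i) i

theorem lin_xor {V : Type*} [AddCommGroup V] (h2 : ∀ v : V, v + v = 0) (β : ℕ → V) (n m : ℕ) :
    lin β (n ^^^ m) = lin β n + lin β m := by
  rw [lin, lin, lin, ← Finset.sum_add_distrib]
  refine Finset.sum_congr rfl fun i _ => ?_
  rw [Nat.testBit_xor]
  cases n.testBit i <;> cases m.testBit i <;> simp [h2]

theorem lin_pow {V : Type*} [AddCommGroup V] (β : ℕ → V) {j : ℕ} (hj : j < 8) :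
    lin β (2 ^ j) = β j := by
  simp [lin, Nat.testBit_two_pow, hj]

theorem lin_congr {V : Type*} [AddCommGroup V] (β : ℕ → V) {n m : ℕ}
    (h : ∀ k < 8, n.testBit k = m.testBit k) : lin β n = lin β m :=
  Finset.sum_congr rfl fun i hi => by rw [h i (Finset.mem_range.1 hi)]

theorem exists_okH [Finite H] (h : ES Q t) (hx : Cfsg.IsExtraspecial 2 Q) (hc : Nat.card Q = 512)
    (π : H →* Perm (Fin 9)) (ker : ∀ g, π g = 1 ↔ g ∈ Q) (sgn : ∀ g, Perm.sign (π g) = 1)
    (sur : ∀ σ, Perm.sign σ = 1 → ∃ g, π g = σ) (cen : centralizer (Q : Set H) ≤ Q) :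
    ∃ (e : ℕ → H) (π' : H → Perm (Fin 9)), e 8 = t ∧ L1 e ∧
      (Ok e π' (nth idT TnL) (nth idP P1L) ∨ Ok e π' (nth idT TsL) (nth idP P1L)) := by
  classical
  have := h.nor
  let V := Additive (Abelianization Q)
  let ψ : H → V := fun a => if ha : a ∈ Q then Additive.ofMul (Abelianization.of ⟨a, ha⟩) else 0
  have ψ1 : ∀ a (ha : a ∈ Q), ψ a = Additive.ofMul (Abelianization.of ⟨a, ha⟩) :=
    fun a ha => dif_pos ha
  have ψmul : ∀ a ∈ Q, ∀ b ∈ Q, ψ (a * b) = ψ a + ψ b := fun a ha b hb => by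
    rw [ψ1 a ha, ψ1 b hb, ψ1 _ (Q.mul_mem ha hb), ← ofMul_mul, ← map_mul]; rfl
  have ψeq : ∀ a ∈ Q, ∀ b ∈ Q, ψ a = ψ b ↔ b = a ∨ b = a * t := fun a ha b hb => by
    rw [ψ1 a ha, ψ1 b hb, Additive.ofMul.apply_eq_iff_eq, ← inv_mul_eq_one, ← map_inv, ← map_mul,
      ← MonoidHom.mem_ker, Abelianization.ker_of, hx.1.2.2]
    constructor
    · intro h1
      exact (h.cen _ (Q.mul_mem (Q.inv_mem ha) hb) fun r hr =>
        (congrArg Subtype.val (mem_center_iff.1 h1 ⟨r, hr⟩)).symm).imp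
        (fun h2 => (inv_mul_eq_one.1 h2).symm) fun h2 => by rw [← h2]; group
    · rintro (rfl | rfl)
      · simp
      · exact mem_center_iff.2 fun r => Subtype.ext (by simpa using h.tc r)
  have ψsur : ∀ v : V, ∃ a ∈ Q, ψ a = v := fun v => by
    obtain ⟨a, ha⟩ := QuotientGroup.mk_surjective (s := commutator Q) (Additive.toMul v)
    exact ⟨a, a.2, by rw [ψ1 a a.2]; exact congrArg Additive.ofMul ha⟩
  have ψone : ψ 1 = 0 := by rw [ψ1 1 Q.one_mem]; rfl
  have ψt : ψ t = 0 := ψone ▸ ((ψeq 1 Q.one_mem t h.tQ).2 (Or.inr (one_mul t).symm)).symm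
  have hV : Nat.card V = 256 := by
    have := (commutator Q).index_mul_card
    rw [hc, hx.1.2.2, hx.2, ← hx.1.2.2] at this
    change (commutator Q).index = 256
    omega
  choose pre pre1 pre2 using ψsur
  have h2 : ∀ v : V, v + v = 0 := fun v => by
    rw [← pre2 v, ← ψmul _ (pre1 v) _ (pre1 v)]
    rcases h.sq (pre1 v) with h1 | h1 <;> rw [h1]
    exacts [ψone, ψt]
  have prψ : ∀ a ∈ Q, pre (ψ a) = a ∨ pre (ψ a) = a * t := fun a ha =>
    (ψeq a ha _ (pre1 _)).1 (pre2 _).symm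
  choose l hl using fun g : alternatingGroup (Fin 9) => sur g g.2
  have cj : ∀ x, ∀ a ∈ Q, x * a * x⁻¹ ∈ Q := fun x a ha => h.nor.conj_mem a ha x
  have cjt : ∀ x a : H, x * (a * t) * x⁻¹ = x * a * x⁻¹ * t := fun x a => by
    rw [mul_assoc _ x⁻¹ t, h.tc x⁻¹]; group
  let ρ : alternatingGroup (Fin 9) → V → V := fun g v => ψ (l g * pre v * (l g)⁻¹)
  have ρψ : ∀ (g : alternatingGroup (Fin 9)) x, π x = g → ∀ a ∈ Q, ρ g (ψ a) = ψ (x * a * x⁻¹) := by
    intro g x hx a ha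
    have hq : x⁻¹ * l g ∈ Q := (ker _).1 (by rw [map_mul, map_inv, hx, hl, inv_mul_cancel])
    have h3 : ψ (x⁻¹ * l g * pre (ψ a) * (x⁻¹ * l g)⁻¹) = ψ a := by
      rw [ψmul _ (Q.mul_mem hq (pre1 _)) _ (Q.inv_mem hq), ψmul _ hq _ (pre1 _), pre2,
        add_right_comm, ← ψmul _ hq _ (Q.inv_mem hq), mul_inv_cancel, ψone, zero_add]
    have h4 : l g * pre (ψ a) * (l g)⁻¹ =
        x * (x⁻¹ * l g * pre (ψ a) * (x⁻¹ * l g)⁻¹) * x⁻¹ := by group
    change ψ _ = _
    rw [h4, ψeq _ (cj _ _ (cj _ _ (pre1 _))) _ (cj _ _ ha)]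
    refine ((ψeq _ (cj _ _ (pre1 _)) _ ha).1 h3).imp (fun h5 => by rw [← h5]) fun h5 => ?_
    rw [← cjt, ← h5]
  let sq : H → ZMod 2 := fun a => if a * a = 1 then 0 else 1
  have sqt : ∀ a, sq (a * t) = sq a := fun a => by
    simp only [sq]
    rw [show a * t * (a * t) = a * a * (t * t) by rw [mul_assoc, ← mul_assoc t, ← h.tc]; group,
      h.t2, mul_one]
  have qψ : ∀ a ∈ Q, sq (pre (ψ a)) = sq a := fun a ha => by
    rcases prψ a ha with h1 | h1 <;> rw [h1]
    exact sqt a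
  have Bψ : ∀ a ∈ Q, ∀ b ∈ Q, bt (pre (ψ a)) (pre (ψ b)) = bt a b := fun a ha b hb => by
    have h1 : bt (pre (ψ a)) (pre (ψ b)) = bt a (pre (ψ b)) := by
      rcases prψ a ha with h1 | h1 <;> rw [h1]
      exact h.bt_t _ _
    rw [h1]
    rcases prψ b hb with h1 | h1 <;> rw [h1]
    rw [bt_symm, h.bt_t, bt_symm]
  have hsq : ∀ a ∈ Q, ∀ b ∈ Q, sq (a * b) = sq a + sq b + bt a b := fun a ha b hb => by
    have t1 := h.t1
    have e1 : a * b = b * a → a * b * (a * b) = a * a * (b * b) := fun h1 => by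
      rw [mul_assoc, ← mul_assoc b, ← h1]; group
    have e2 : a * b = b * a * t → a * b * (a * b) = a * a * (b * b) * t := fun h1 => by
      have : b * a = a * b * t := by rw [h1, mul_assoc, h.t2, mul_one]
      rw [mul_assoc, ← mul_assoc b, this, mul_assoc _ t, ← h.tc]; group
    simp only [sq]
    rcases h.com a ha b hb with h1 | h1
    · rw [e1 h1, bt_zero.2 h1]
      rcases h.sq ha with h3 | h3 <;> rcases h.sq hb with h4 | h4 <;>
        simp [h3, h4, t1, h.t2] <;> decide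
    · rw [e2 h1, (h.bt_one ha hb).2 h1]
      rcases h.sq ha with h3 | h3 <;> rcases h.sq hb with h4 | h4 <;>
        simp [h3, h4, t1, h.t2] <;> decide
  have ind : ∀ {p : V → Prop}, (∀ a ∈ Q, p (ψ a)) → ∀ v, p v := fun hp v =>
    pre2 v ▸ hp _ (pre1 v)
  obtain ⟨β, -, hβ2, hβ3⟩ := classify hV h2 ρ
    (ind fun a ha => by rw [ρψ 1 1 (map_one π) a ha]; simp)
    (fun g k => ind fun a ha => by
      rw [ρψ k _ (hl k) a ha, ρψ g _ (hl g) _ (cj _ _ ha),
        ρψ (g * k) (l g * l k) (by rw [map_mul, hl, hl]; rfl) a ha]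
      congr 1
      group)
    (fun g => ind fun a ha => ind fun b hb => by
      rw [← ψmul a ha b hb, ρψ g _ (hl g) a ha, ρψ g _ (hl g) b hb,
        ρψ g _ (hl g) _ (Q.mul_mem ha hb), ← ψmul _ (cj _ _ ha) _ (cj _ _ hb), conj_mul])
    (by
      by_contra! h1
      have h3 : ∀ a ∈ Q, l (rr 0) * a * (l (rr 0))⁻¹ = a ∨ l (rr 0) * a * (l (rr 0))⁻¹ = a * t :=
        fun a ha => (ψeq a ha _ (cj _ _ ha)).1 (by rw [← ρψ _ _ (hl _) a ha, h1])
      have h4 : l (rr 0) * l (rr 0) ∈ Q := cen fun a ha => by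
        have : l (rr 0) * (l (rr 0) * a * (l (rr 0))⁻¹) * (l (rr 0))⁻¹ = a := by
          rcases h3 a ha with h5 | h5
          · rw [h5, h5]
          · rw [h5, cjt, h5, mul_assoc, h.t2, mul_one]
        conv_lhs => rw [← this]
        group
      rw [← ker, map_mul, hl] at h4
      exact absurd h4 (by decide))
    (fun v => sq (pre v)) (fun v w => bt (pre v) (pre w))
    (ind fun a ha => ind fun b hb => by
      rw [← ψmul a ha b hb, qψ a ha, qψ b hb, qψ _ (Q.mul_mem ha hb), Bψ a ha b hb, hsq a ha b hb])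
    (ind fun a ha => ind fun b hb => ind fun c hc => by
      rw [← ψmul a ha b hb, Bψ a ha c hc, Bψ b hb c hc, Bψ _ (Q.mul_mem ha hb) c hc,
        h.bt_mul ha hb hc])
    (ind fun a ha h1 => by
      rcases h.cen a ha fun r hr => bt_zero.1 (by rw [← Bψ a ha r hr]; exact h1 _) with h3 | h3 <;>
        rw [h3]
      exacts [ψone, ψt])
    (fun g => ind fun a ha => by
      rw [ρψ g _ (hl g) a ha, qψ a ha, qψ _ (cj _ _ ha)]
      simp only [sq, conj_mul, conj_eq_one_iff])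
  let a : ℕ → H := fun j => if j < 8 then pre (β j) else t
  have a1 : ∀ j < 8, a j = pre (β j) := fun j hj => if_pos hj
  have a8 : a 8 = t := rfl
  have aQ : ∀ j, a j ∈ Q := fun j => by
    simp only [a]
    split_ifs
    exacts [pre1 _, h.tQ]
  have ab : ∀ i < 8, ∀ k < 8, bt (a i) (a k) = q0 (2 ^ i ^^^ 2 ^ k) + q0 (2 ^ i) + q0 (2 ^ k) :=
    fun i hi k hk => by
      have p : ∀ i < 8, 2 ^ i < 2 ^ 8 := fun i hi => Nat.pow_lt_pow_right (by norm_num) hi
      rw [← hβ2 _ (Nat.xor_lt_two_pow (p i hi) (p k hk)), ← hβ2 _ (p i hi), ← hβ2 _ (p k hk),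
        lin_xor h2, lin_pow β hi, lin_pow β hk, a1 i hi, a1 k hk]
      have := hsq _ (pre1 (β i)) _ (pre1 (β k))
      rw [← qψ _ (Q.mul_mem (pre1 _) (pre1 _)), ψmul _ (pre1 _) _ (pre1 _), pre2, pre2] at this
      simp only [this]
      generalize sq (pre (β i)) = x, sq (pre (β k)) = y, bt (pre (β i)) (pre (β k)) = z
      revert x y z
      decide
  have ha : Heis a := by
    refine ⟨fun i hi => ?_, fun i hi k hk hik => ?_, fun i hi => ?_⟩
    · by_cases h8 : i = 8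
      · rw [h8, a8, h.t2]
      · have h1 := hβ2 (2 ^ i) (Nat.pow_lt_pow_right (by norm_num) (show i < 8 by omega))
        rw [lin_pow β (by omega), ← a1 i (by omega),
          (by decide : ∀ i < 8, q0 (2 ^ i) = 0) i (by omega)] at h1
        by_contra h3
        simp [sq, h3] at h1
    · by_cases h8 : i = 8
      · rw [h8, a8, h.tc]
      · rw [← bt_zero, ab i (by omega) k (by omega)]
        exact (by decide : ∀ i < 8, ∀ k < i, (i = k + 4 → k = 4) →
          q0 (2 ^ i ^^^ 2 ^ k) + q0 (2 ^ i) + q0 (2 ^ k) = 0) i (by omega) k hk hik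
    · rw [← mul_assoc, a8, ← h.bt_one (aQ _) (aQ _), ab _ (by omega) _ (by omega)]
      exact (by decide : ∀ i < 4,
        q0 (2 ^ (i + 4) ^^^ 2 ^ i) + q0 (2 ^ (i + 4)) + q0 (2 ^ i) = 1) i hi
  have ψth : ∀ n, ψ (th a n) = lin β n := fun n => by
    have b1 : ∀ i b, bp (a i) b ∈ Q := fun i b => by
      cases b
      exacts [Q.one_mem, aQ i]
    have b2 : ∀ i < 8, ∀ r ∈ Q, ψ (bp (a i) (n.testBit i) * r) =
        (if n.testBit i then β i else 0) + ψ r := fun i hi r hr => by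
      rw [ψmul _ (b1 _ _) _ hr]
      cases n.testBit i
      · simp [bp, ψone]
      · simp [bp, a1 i hi, pre2]
    have b3 : ψ (bp (a 8) (n.testBit 8)) = 0 := by
      cases n.testBit 8
      exacts [ψone, ψt]
    simp (disch := (first | omega | repeat first | exact b1 _ _ | apply Q.mul_mem)) only
      [th, b2, b3, lin, Finset.sum_range_succ, Finset.sum_range_zero, zero_add, add_zero, add_assoc]
  have fin : ∀ (TL : List ℕ) (M : Fin 7 → ℕ → ℕ), TabOK TL M → ∀ (i : Fin 7) (g), (∀ j < 8,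
      ρ g (β j) = lin β (M i j)) → ∀ j < 8,
      l g * a j = th a (pk (nth idT TL (9 + 2 * i)) 9 j) * l g ∨
      l g * a j = th a (pk (nth idT TL (9 + 2 * i)) 9 j) * l g * t := fun TL M hT i g hg j hj => by
    have h1 := hg j hj
    rw [lin_congr β (hT.2.2.2 i j hj), ← ψth, ← pre2 (β j), ← a1 j hj, ρψ g _ (hl g) _ (aQ j),
      eq_comm, ψeq _ (th_mem (fun i _ => aQ i) _) _ (cj _ _ (aQ j))] at h1
    refine h1.imp (fun h3 => by rw [← h3]; group) fun h3 => ?_
    rw [mul_assoc, h.tc, ← mul_assoc, ← h3]; group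
  rcases hβ3 with h3 | h3 | h3
  · obtain ⟨e, e1, e2, e3⟩ := build h hc π ker sgn sur cen ha (fun i _ => aQ i) a8 tabOK_n
      fun i => ⟨_, hl (rr i), fin _ _ tabOK_n i _ (h3 i)⟩
    exact ⟨e, π, e1, e2, Or.inl e3⟩
  · obtain ⟨e, e1, e2, e3⟩ := build h hc π ker sgn sur cen ha (fun i _ => aQ i) a8 tabOK_s
      fun i => ⟨_, hl (rr i), fin _ _ tabOK_s i _ (h3 i)⟩
    exact ⟨e, π, e1, e2, Or.inr e3⟩
  · obtain ⟨e, e1, e2, e3⟩ := build h hc
      ((MulAut.conj (swap (7 : Fin 9) 8)).toMonoidHom.comp π)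
      (fun g => conj_eq_one_iff.trans (ker g)) (fun g => by simpa using sgn g)
      (fun σ hσ => by
        obtain ⟨g, hg⟩ := sur (swap 7 8 * σ * swap 7 8) (by simp [hσ])
        exact ⟨g, by simp [hg, ← mul_assoc]⟩) cen ha (fun i _ => aQ i) a8 tabOK_s
      fun i => ⟨_, by
        change swap 7 8 * π _ * _ = _
        rw [hl (rr i)⁻¹]
        exact (by decide : ∀ i, swap 7 8 * (rp i)⁻¹ * (swap 7 8)⁻¹ = rp i) i,
        fin _ _ tabOK_s i _ (h3 i)⟩
    exact ⟨e, _, e1, e2, Or.inr e3⟩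

theorem Ok.lift {G : Type*} [Group G] {C : Subgroup G} {e : ℕ → C} {π : C → Perm (Fin 9)}
    {T P : ℕ → ℕ} (h : Ok e π T P) (hC : C = centralizer {(e 8 : G)}) :
    ∃ π' : G → Perm (Fin 9), Ok (fun c => (e c : G)) π' T P := by
  classical
  have h1 : ∀ g, g ∈ CC (fun c => (e c : G)) ↔ g ∈ C := fun g => by rw [CC, ← hC]
  have h2 : ∀ g : C, g ∈ CC e := fun g => mem_CC.2 (Subtype.ext (mem_CC.1 ((h1 g).2 g.2)).eq)
  have h3 : ∀ g : C, g.1 ∈ QQ (fun c => (e c : G)) ↔ g ∈ QQ e := fun g => by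
    rw [QQ, QQ, ← show _ = gen (fun c => (e c : G)) (List.range 9) from map_gen C.subtype e _]
    exact mem_map_iff_mem C.subtype_injective
  refine ⟨fun g => if hg : g ∈ C then π ⟨g, hg⟩ else 1, h.heis.map C.subtype,
    fun h4 => h.z1 (Subtype.ext h4), fun a ha b hb => ?_, fun a ha => ?_, fun a ha => ?_,
    fun σ hσ => ?_, fun a ha h4 => ?_, fun c => (h.acts c).map C.subtype, fun c i => ?_⟩
  · rw [h1] at ha hb
    simp only [dif_pos ha, dif_pos hb, dif_pos (C.mul_mem ha hb)]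
    exact h.mul _ (h2 ⟨a, ha⟩) _ (h2 ⟨b, hb⟩)
  · rw [h1] at ha
    simp only [dif_pos ha]
    exact (h.ker _ (h2 ⟨a, ha⟩)).trans (h3 ⟨a, ha⟩).symm
  · rw [h1] at ha
    simp only [dif_pos ha]
    exact h.sgn _ (h2 ⟨a, ha⟩)
  · obtain ⟨g, -, hg⟩ := h.sur σ hσ
    exact ⟨g, (h1 g).2 g.2, by simpa using hg⟩
  · rw [h1] at ha
    exact (h3 ⟨a, ha⟩).2 (h.cen _ (h2 _) fun i hi => Subtype.ext (h4 i hi).eq)
  · simpa using h.pi c i

theorem exists_ok {G : Type*} [Group G] [Finite G] (t : G) (ht : orderOf t = 2)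
    (Q : Subgroup (centralizer ({t} : Set G))) [Q.Normal] (hQ : Cfsg.IsExtraspecial 2 Q)
    (hcard : Nat.card Q = 2 ^ 9)
    (h2c : centralizer (Q : Set (centralizer ({t} : Set G))) ≤ Q)
    (ε : (centralizer ({t} : Set G)) ⧸ Q ≃* alternatingGroup (Fin 9)) :
    ∃ (e : ℕ → G) (π : G → Perm (Fin 9)), e 8 = t ∧ L1 e ∧
      (Ok e π (nth idT TnL) (nth idP P1L) ∨ Ok e π (nth idT TsL) (nth idP P1L)) := by
  have t2 : t * t = 1 := by rw [← pow_two, ← ht, pow_orderOf_eq_one]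
  have t1 : t ≠ 1 := fun h => by rw [h, orderOf_one] at ht; omega
  have h := H14.He.es_of (t := ⟨t, mem_centralizer_singleton_iff.2 rfl⟩) hQ h2c
    (fun g => Subtype.ext (mem_centralizer_singleton_iff.1 g.2)) (Subtype.ext t2)
    fun h => t1 (congrArg Subtype.val h)
  obtain ⟨e, π, e1, e2, e3⟩ := exists_okH h hQ hcard
    ((alternatingGroup (Fin 9)).subtype.comp (ε.toMonoidHom.comp (QuotientGroup.mk' Q)))
    (fun g => by simp) (fun g => (ε g).2) (fun σ hσ => by
      obtain ⟨g, hg⟩ := QuotientGroup.mk_surjective (ε.symm ⟨σ, hσ⟩)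
      exact ⟨g, by simp [hg]⟩) h2c
  have hC : centralizer ({t} : Set G) = centralizer {(e 8 : G)} := by rw [e1]
  have hL : L1 fun c => (e c : G) := ⟨fun i hi => congrArg Subtype.val (e2.cube i hi),
    fun i hi => congrArg Subtype.val (e2.inv i hi), fun c hc => congrArg Subtype.val (e2.one c hc)⟩
  rcases e3 with e3 | e3 <;> obtain ⟨π', h'⟩ := e3.lift hC
  exacts [⟨_, π', congrArg Subtype.val e1, hL, Or.inl h'⟩,
    ⟨_, π', congrArg Subtype.val e1, hL, Or.inr h'⟩]

end H28.Th
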