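import Mathlib

/-! Small facts on permutations of nine points, and on Sylow subgroups. -/

set_option autoImplicit false
set_option maxRecDepth 100000

namespace H28.Th

open Equiv Equiv.Perm Subgroup

/-- an involution with four moved points. -/
def x2 : Perm (Fin 9) := swap 1 4 * swap 5 6

/-- an involution with eight moved points. -/
def x4 : Perm (Fin 9) := swap 0 7 * swap 1 5 * swap 2 3 * swap 4 6

/-- a seven-cycle. -/
def s7 : Perm (Fin 9) := swap 0 1 * swap 1 2 * swap 2 3 * swap 3 4 * swap 4 5 * swap 5 6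

/-- a product of two three-cycles. -/
def t3 : Perm (Fin 9) := swap 1 4 * swap 4 2 * swap 3 5 * swap 5 6

theorem cyc_prime {p : ℕ} (hp : p.Prime) {σ : Perm (Fin 9)} (h : σ ^ p = 1) {k : ℕ}
    (hk : σ.support.card = k * p) : σ.cycleType = Multiset.replicate k p := by
  have := Fact.mk hp
  have h1 := cycleType_of_pow_prime_eq_one h
  have h2 := sum_cycleType σ
  rw [h1, Multiset.sum_replicate, smul_eq_mul, hk] at h2
  rw [h1, Nat.eq_of_mul_eq_mul_right hp.pos h2]

theorem conj_even {σ τ : Perm (Fin 9)} (h : σ.cycleType = τ.cycleType) {a b : Fin 9} (hab : a ≠ b)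
    (hc : swap a b * σ * (swap a b)⁻¹ = σ) : ∃ κ, sign κ = 1 ∧ κ * σ * κ⁻¹ = τ := by
  obtain ⟨κ, hκ⟩ := isConj_iff.1 (isConj_iff_cycleType_eq.2 h)
  rcases Int.units_eq_one_or (sign κ) with h1 | h1
  · exact ⟨κ, h1, hκ⟩
  · refine ⟨κ * swap a b, by simp [h1, hab], ?_⟩
    rw [← hκ]
    conv_rhs => rw [← hc]
    group

theorem inv_A9 {σ : Perm (Fin 9)} (h2 : σ * σ = 1) (h1 : σ ≠ 1) (hs : sign σ = 1) :
    ∃ κ, sign κ = 1 ∧ (κ * x2 * κ⁻¹ = σ ∨ κ * x4 * κ⁻¹ = σ) := by
  have := Fact.mk Nat.prime_two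
  have h3 := cycleType_of_pow_prime_eq_one (p := 2) (σ := σ) (by rw [pow_two, h2])
  have h4 := σ.sum_cycleType_le
  have h5 := sign_of_cycleType σ
  have h6 : σ.cycleType.card ≠ 0 := by simpa using h1
  generalize σ.cycleType.card = k at h3 h6
  rw [h3, Multiset.sum_replicate, smul_eq_mul, Fintype.card_fin] at h4
  rw [h3, Multiset.sum_replicate, smul_eq_mul, hs] at h5
  have hk : k = 2 ∨ k = 4 := by
    have : k ≤ 4 := by omega
    rw [Multiset.card_replicate] at h5
    clear h3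
    interval_cases k
    exacts [absurd rfl h6, absurd h5 (by decide), Or.inl rfl, absurd h5 (by decide), Or.inr rfl]
  rcases hk with rfl | rfl
  · obtain ⟨κ, a, b⟩ := conj_even (σ := x2) (τ := σ) (a := 1) (b := 4)
      (by rw [h3]; exact cyc_prime Nat.prime_two (by decide) (by decide)) (by decide) (by decide)
    exact ⟨κ, a, Or.inl b⟩
  · obtain ⟨κ, a, b⟩ := conj_even (σ := x4) (τ := σ) (a := 0) (b := 7)
      (by rw [h3]; exact cyc_prime Nat.prime_two (by decide) (by decide)) (by decide) (by decide)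
    exact ⟨κ, a, Or.inr b⟩

theorem conj_into {H : Type*} [Group H] [Finite H] {p : ℕ} [Fact p.Prime] {K U : Subgroup H}
    (hU : U ≤ K) (hc : Nat.card U = p ^ (Nat.card K).factorization p) {x : H} (hx : x ∈ K)
    {n : ℕ} (hn : x ^ p ^ n = 1) : ∃ k ∈ K, k * x * k⁻¹ ∈ U := by
  let P : Sylow p K := Sylow.ofCard (U.subgroupOf K)
    (by rw [Nat.card_congr (subgroupOfEquivOfLe hU).toEquiv, hc])
  have h1 : IsPGroup p (zpowers (⟨x, hx⟩ : K)) := by
    rintro ⟨_, i, rfl⟩
    refine ⟨n, Subtype.ext (Subtype.ext ?_)⟩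
    simp only [SubgroupClass.coe_pow, SubgroupClass.coe_zpow, OneMemClass.coe_one]
    rw [← zpow_natCast, ← zpow_mul, mul_comm, zpow_mul, zpow_natCast, hn, one_zpow]
  obtain ⟨R, hR⟩ := h1.exists_le_sylow
  obtain ⟨k, hk⟩ := MulAction.exists_smul_eq K R P
  have h2 : k * ⟨x, hx⟩ * k⁻¹ ∈ (P : Subgroup K) := by
    rw [← hk]
    exact smul_mem_pointwise_smul _ (MulAut.conj k) _ (hR (mem_zpowers _))
  exact ⟨k, k.2, h2⟩

theorem card_A9 : Nat.card (alternatingGroup (Fin 9)) = 181440 := by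
  have h2 : 2 * Nat.card (alternatingGroup (Fin 9)) = Nat.card (Perm (Fin 9)) :=
    two_mul_nat_card_alternatingGroup
  rw [Nat.card_perm, Nat.card_fin] at h2
  simp only [Nat.factorial] at h2
  omega

theorem syl {U : Subgroup (Perm (Fin 9))} (hU : U ≤ alternatingGroup (Fin 9)) {τ : Perm (Fin 9)}
    (hτ : τ * τ = 1) (h : ∀ σ ∈ U, σ * σ = 1 ∨ σ * σ = τ) : Nat.card U ≤ 32 := by
  have := Fact.mk Nat.prime_two
  have h1 : IsPGroup 2 U := fun g => ⟨2, Subtype.ext (by
    change g.1 ^ 4 = 1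
    rw [show g.1 ^ 4 = g.1 * g.1 * (g.1 * g.1) by simp [pow_succ, mul_assoc]]
    rcases h g g.2 with h2 | h2 <;> simp [h2, hτ])⟩
  obtain ⟨k, hk⟩ := IsPGroup.iff_card.1 h1
  have h2 := card_dvd_of_le hU
  rw [card_A9, hk] at h2
  have h3 : k ≤ 6 := by
    by_contra h3
    exact absurd ((pow_dvd_pow 2 (show 7 ≤ k by omega)).trans h2) (by norm_num)
  by_cases h4 : k = 6
  · have h5 : Nat.card U = 2 ^ (Nat.card (alternatingGroup (Fin 9))).factorization 2 := by
      rw [hk, h4, card_A9]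
      congr 1
      exact (Nat.factorization_eq_of_coprime_left (a := 2 ^ 6) (b := 2835) (by norm_num)
        (by simp)).trans (Nat.factorization_pow_self Nat.prime_two) |>.symm
    have key : ∀ σ : Perm (Fin 9), sign σ = 1 → σ ^ 2 ^ 2 = 1 → σ * σ ≠ 1 →
        (σ * σ).support.card = τ.support.card := fun σ a b c => by
      obtain ⟨κ, -, h6⟩ := conj_into hU h5 (mem_alternatingGroup.2 a) b
      rcases h _ h6 with h7 | h7 <;> rw [conj_mul] at h7
      · exact absurd (conj_eq_one_iff.1 h7) c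
      · rw [← h7, card_support_conj]
    have a := key (swap 0 1 * swap 1 2 * swap 2 3 * swap 4 5) (by decide) (by decide) (by decide)
    have b := key (swap 0 1 * swap 1 2 * swap 2 3 * swap 4 5 * swap 5 6 * swap 6 7) (by decide)
      (by decide) (by decide)
    exact absurd (a.trans b.symm) (by decide)
  · rw [hk]
    exact Nat.pow_le_pow_right (n := 2) (by norm_num) (show k ≤ 5 by omega)

theorem cent7 {σ : Perm (Fin 9)} (hs : sign σ = 1) (h : σ * s7 = s7 * σ) :
    ∃ i < 7, σ = s7 ^ i := by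
  have h1 : s7 (σ 0) ≠ σ 0 := by
    rw [← Perm.mul_apply, ← h, Perm.mul_apply, σ.injective.ne_iff]
    decide
  obtain ⟨i, hi, h2⟩ := (by decide : ∀ j, s7 j ≠ j → ∃ i < 7, (s7 ^ i) 0 = j) _ h1
  refine ⟨i, hi, ?_⟩
  have h3 : Commute ((s7 ^ i)⁻¹ * σ) s7 :=
    ((Commute.refl s7).pow_left i).inv_left.mul_left h
  have h4 : ((s7 ^ i)⁻¹ * σ) 0 = 0 := by rw [Perm.mul_apply, ← h2]; simp
  have h5 : sign ((s7 ^ i)⁻¹ * σ) = 1 := by simp [hs, show sign s7 = 1 by decide]
  rw [eq_comm, ← inv_mul_eq_one]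
  generalize (s7 ^ i)⁻¹ * σ = τ at h3 h4 h5
  have h6 : τ.support ⊆ {7, 8} := fun j hj => by
    by_contra h7
    obtain ⟨k, -, rfl⟩ := (by decide : ∀ j, j ∉ ({7, 8} : Finset (Fin 9)) →
      ∃ i < 7, (s7 ^ i) 0 = j) j h7
    refine mem_support.1 hj ?_
    rw [← Perm.mul_apply, (h3.pow_right k).eq, Perm.mul_apply, h4]
  have h7 : τ.support.card ≤ 2 := Finset.card_le_card h6
  by_cases h8 : τ.support.card = 2
  · rw [(card_support_eq_two.1 h8).sign_eq] at h5
    exact absurd h5 (by decide)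
  · exact card_support_le_one.1 (by omega)

theorem card_cent_t3 : Nat.card (centralizer ({t3} : Set (Perm (Fin 9)))) = 108 := by
  rw [nat_card_centralizer, cyc_prime (k := 2) Nat.prime_three (by decide) (by decide)]
  decide

end H28.Th
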