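import Mathlib
import Cfsg.Agent.H29.Ext

set_option autoImplicit false
set_option maxRecDepth 100000
set_option Elab.async false
set_option linter.all false

namespace H28.ThT1

open H29

def ivl : List ℕ := [1, 0, 3, 2, 5, 4, 6]
def R0 : List (List ℕ) := [[0, 0, 0],
 [2, 2, 2],
 [4, 4, 4],
 [1, 6, 0, 6],
 [3, 6, 2, 6],
 [5, 6, 4, 6],
 [0, 2, 0, 2, 6],
 [4, 0, 4, 0],
 [2, 4, 2, 4]]
def w0 : List ℕ := [6]
def R1 : List (List ℕ) := R0 ++ [w0]
theorem hii : ∀ c, ivOf ivl (ivOf ivl c) = c := ivOf_ivOf (by decide +kernel)
noncomputable def pr0 : List (ℕ × ℕ) := [(200, (nat_lit 0x18200000700000100000900015200000700019a00015100019900000700000200013a00015a00013900014100000700000100005200014200005100006a00000700000200009100000100000a00003a00000700000000012100000700000200001a0000d900001900002100000700000200000a0000c90000090000070001620000c900016100000700002800000700002000015100000700014a00005a00014900000700001a0000a900001900000100000700004a00000700001800000100000700000800000100000700002000000700000200008200000100000a00002200003100000700000800001100000700000200000a00006a00000900000700007a00006a00007900000700002000007100000700006200000200006100000700001500000700000200004100000100000a00006100000700002000004900000700000200000900004200003900004100000700006a0000a900006900000700000200003a0000220000390000070000010000120000a900001100000700000200007a00000100000700000800004900000700003000004100000700000500000700003d00000700000800000100000700001000008100000700000200004200000100001200000700003000000100000700002800000900000700000200001a00000100000700001800000700002800005100000700002200004200000100004100000900000700004500000700002200000a00000200000900000700003500000700003000000700002200000100002100000700002d00000700000a00000100000900000700001d000007000030000001000007000000)),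
 (9, (nat_lit 0x700000200000700000200000700000100019a000007000001))]
theorem p0 : chkProg 3 (ivOf ivl) R0 pr0 [(0, w0)] = true := by decide +kernel
theorem der : Derives (ivOf ivl) R0 R1 := (Derives.refl _ _).prog hii p0

end H28.ThT1
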