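import Mathlib
import Cfsg.Agent.H29.Ext

set_option autoImplicit false
set_option maxRecDepth 100000
set_option Elab.async false
set_option linter.all false

namespace H28.ThT2

open H29

def ivl : List ℕ := [1, 0, 3, 2, 5, 4, 6]
def R0 : List (List ℕ) := [[0, 0, 0],
 [2, 2, 2],
 [4, 4, 4],
 [1, 6, 0, 6],
 [3, 6, 2, 6],
 [5, 6, 4, 6],
 [0, 2, 0, 2, 6],
 [4, 0, 4, 0],
 [2, 4, 2, 4, 6]]
def w0 : List ℕ := [6]
def R1 : List (List ℕ) := R0 ++ [w0]
theorem hii : ∀ c, ivOf ivl (ivOf ivl c) = c := ivOf_ivOf (by decide +kernel)
noncomputable def pr0 : List (ℕ × ℕ) := [(200, (nat_lit 0x19100014100000700001000018900000700000100000a0001a900000900000700013a0000fa00013900000700003000000100000700002800012900000700000100000a0000f100000900001900000700002a00000200013a00000100000700001800000100000700002800016100000700000200002200004a0000fa00004900000700000200001200011a00001100000700000100003200012100003100000700013200000700003000013900000700000100001a0000110000190000070000020000a200000100000700000800007100000700001d0000070000300000610000070000280000010000070000100000a900000700000200006200000100001200005200000700001800000100000700002000003900000700000200000a0000aa00000900001900002a00000700000a0000ca0000090000070000100000010000070000200000070000020000120000d100001100000700000a00008100000900000700000200001a00000100000700001800000700005200008200006a00008100000200000700000200000700001500000700000a00000200000900001200002100000700003500000700001800007100000700000100003200006a00004900006900000700005200005a00005100000700000a00000100000900000700003d00000700000000000700000200004200003a00004100000700000100002200001900002100000700000a00000200000900000700004500000700001800001100000700002500000700003000000100000700002800000700000d00000700002000000100000700001000000700000100000700002d)),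
 (93, (nat_lit 0x70000020000070000020000070000010002520000070000010001f20000070000020000070001a10000010000070000020000070000020001c100000100000a0000a200012100019100000700000000007100000700000200017900000100000a0000520000070000100000f900000700000100000900003a0000f20001c90000f10000070000720001ea0000710000070000020000ca00015a0000c900000700000200001a0001b200001900000700000200000a00015a00000900000700000a0000b900000900000700003000000700003000017100000700009100009a0001d100009900000700000200001900003200018100003100000700000200016100013a00000a000129000009000007000192000089))]
theorem p0 : chkProg 3 (ivOf ivl) R0 pr0 [(0, w0)] = true := by decide +kernel
theorem der : Derives (ivOf ivl) R0 R1 := (Derives.refl _ _).prog hii p0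

end H28.ThT2
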