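import Mathlib
import Cfsg.Agent.H28.ThL
import Cfsg.Agent.H28.ThP
import Cfsg.Agent.H28.ThX
import Cfsg.Agent.H28.ThT1
import Cfsg.Agent.H28.ThT2
import Cfsg.Agent.H24.Carmichael
import Cfsg.Agent.H29.Quo2

/-! The centraliser `2^(1+8).A₉` on the spin module is one of two explicit groups. -/

set_option autoImplicit false
set_option maxRecDepth 100000
set_option synthInstance.maxSize 2000

namespace H28.Th

open H29 H7.Cay Equiv Subgroup
open H14.He (bp)

theorem derives_fin {G : Type*} [Group G] [Finite G] {iv : ℕ → ℕ} {R R' : List (List ℕ)}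
    (hd : Derives iv R R') {e : ℕ → G} (hi : IvOK e iv) (h : ∀ r ∈ R, ev e r = 1) :
    ∀ r ∈ R', ev e r = 1 := by
  let f : Shrink.{0} G ≃* G := Shrink.mulEquiv
  intro r hr
  have := hd (Shrink.{0} G) (fun c => f.symm.toMonoidHom (e c)) (fun c => by simp [hi c])
    (fun r hr => by rw [← map_ev, h r hr, map_one]) r hr
  rw [← map_ev] at this
  simpa using this

/-- an alphabet from a list. -/
def lst {G : Type*} [Group G] (l : List G) (c : ℕ) : G := l.getD c 1

theorem lst_one {G : Type*} [Group G] {l : List G} {c : ℕ} (h : l.length ≤ c) : lst l c = 1 :=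
  List.getD_eq_default _ _ h

theorem lst_mem {G : Type*} [Group G] {l : List G} {K : Subgroup G} (h : ∀ g ∈ l, g ∈ K) (c : ℕ) :
    lst l c ∈ K := by
  by_cases hc : c < l.length
  · rw [lst, List.getD_eq_getElem _ _ hc]; exact h _ (List.getElem_mem hc)
  · rw [lst_one (by omega)]; exact K.one_mem

section
variable {H : Type*} [Group H] [Finite H] {A : Subgroup H}

theorem quot_der {e : ℕ → H} (hn : ∀ c, e c ∈ normalizer (A : Set H)) {iv : ℕ → ℕ}
    {R R' : List (List ℕ)} (hd : Derives iv R R') (hi : IvOK e iv) (h : ∀ r ∈ R, ev e r ∈ A) :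
    ∀ r ∈ R', ev e r ∈ A := by
  let e' : ℕ → normalizer (A : Set H) := fun c => ⟨e c, hn c⟩
  let φ := QuotientGroup.mk' (A.subgroupOf (normalizer (A : Set H)))
  have key : ∀ r, ev (fun c => φ (e' c)) r = 1 ↔ ev e r ∈ A := fun r => by
    rw [← map_ev, QuotientGroup.mk'_apply, QuotientGroup.eq_one_iff, mem_subgroupOf]
    exact iff_of_eq (congrArg (· ∈ A) (map_ev (normalizer (A : Set H)).subtype e' r))
  intro r hr
  exact (key r).1 (derives_fin hd (fun c => by
    rw [← map_inv]; exact congrArg φ (Subtype.ext (hi c))) (fun r hr => (key r).2 (h r hr)) r hr)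

theorem quot_carm {x : Fin 7 → H} (hn : ∀ i, x i ∈ normalizer (A : Set H)) (h3 : ∀ i, x i ^ 3 = 1)
    (h2 : ∀ i j, i ≠ j → (x i * x j) ^ 2 ∈ A) :
    ∃ Γ : Subgroup H, A ≤ Γ ∧ (∀ i, x i ∈ Γ) ∧ Nat.card Γ ≤ 181440 * Nat.card A := by
  let N := normalizer (A : Set H)
  let φ := QuotientGroup.mk' (A.subgroupOf N)
  let y : Fin 7 → N ⧸ A.subgroupOf N := fun i => φ ⟨x i, hn i⟩
  have h1 := H24.carmichael y Finset.univ
    (fun i _ => by rw [← map_pow]; exact (congrArg φ (Subtype.ext (h3 i))).trans φ.map_one)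
    fun i _ j _ hij => by
      rw [← map_mul, ← map_pow]
      exact (QuotientGroup.eq_one_iff _).2 (h2 i j hij)
  generalize hK : closure (y '' (Finset.univ : Finset (Fin 7))) = K at h1
  refine ⟨(K.comap φ).map N.subtype, fun a ha => ⟨⟨a, le_normalizer ha⟩, ?_, rfl⟩,
    fun i => ⟨⟨x i, hn i⟩, hK ▸ subset_closure ⟨i, by simp, rfl⟩, rfl⟩, ?_⟩
  · change φ _ ∈ K
    rw [show φ ⟨a, le_normalizer ha⟩ = 1 from (QuotientGroup.eq_one_iff _).2 ha]
    exact K.one_mem
  · rw [card_map_of_injective N.subtype_injective]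
    have a := (K.comap φ).index_mul_card
    have b := K.index_mul_card
    have c := (A.subgroupOf N).index_mul_card
    rw [index_comap_of_surjective _ (QuotientGroup.mk'_surjective _)] at a
    rw [Nat.card_congr (subgroupOfEquivOfLe le_normalizer).toEquiv, index_eq_card, ← b, ← a,
      mul_assoc] at c
    rw [← Nat.eq_of_mul_eq_mul_left (Nat.pos_of_ne_zero index_ne_zero_of_finite) c]
    simp only [Finset.card_univ, Fintype.card_fin, Nat.factorial] at h1
    exact Nat.mul_le_mul_right _ (by omega)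

end

variable {G : Type*} [Group G] {e : ℕ → G} {π : G → Perm (Fin 9)} {T P : ℕ → ℕ}

theorem Ok.le_of (h : Ok e π T P) {K : Subgroup G} (hQ : QQ e ≤ K)
    (hr : ∀ i : Fin 7, ∃ k ∈ K, k ∈ CC e ∧ π k = rp i) : CC e ≤ K := fun g hg => by
  have h1 := H24.AltMult.closure_c (a := (8 : Fin 9)) (b := 7) (by decide) _ (h.sgn g hg)
  obtain ⟨k, hk, h2⟩ := (closure_le ((K.subgroupOf (CC e)).map h.ph)).2 (by
    rintro _ ⟨i, hi, rfl⟩
    obtain ⟨j, rfl⟩ := (by decide : ∀ i : Fin 9, i ≠ 8 ∧ i ≠ 7 → ∃ j : Fin 7,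
      j.castLE (Nat.le_add_right 7 2) = i) i (by simpa using hi)
    obtain ⟨k, a, b, c⟩ := hr j
    exact ⟨⟨k, b⟩, a, c⟩) h1
  obtain ⟨n, -, rfl⟩ := h.of_eq hg k.2 h2.symm
  exact K.mul_mem (hQ (th_mem_QQ n)) hk

/-- the word of a code. -/
def qw (n : ℕ) : List ℕ := (List.range 9).filter fun i => n.testBit i

theorem ev_qw (n : ℕ) : ev e (qw n) = th e n := by
  have : ∀ l : List ℕ, ev e (l.filter fun i => n.testBit i) =
      (l.map fun i => bp (e i) (n.testBit i)).prod := fun l => by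
    induction l with
    | nil => rfl
    | cons a l ih => rw [List.filter_cons]; cases h : n.testBit a <;> simp [ih, bp, h]
  rw [qw, this]
  simp [th, List.range_succ]

/-- a model of the covering group. -/
structure Mod {X : Type*} [Group X] (S : ℕ → X) (T : ℕ → ℕ) (M : ℕ → ℕ → ℕ) : Prop where
  heis : Heis S
  acts : ∀ i < 7, Acts S (S (9 + 2 * i)) (T (9 + 2 * i))
  cube : ∀ i < 7, S (9 + 2 * i) ^ 3 = 1
  inv : ∀ i < 7, S (10 + 2 * i) = (S (9 + 2 * i))⁻¹
  one : ∀ c, 24 ≤ c → S c = 1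
  i2 : S 23 * S 23 = 1
  ic : ∀ c < 23, S 23 * S c = S c * S 23
  rel : ∀ i < 7, ∀ j < 7, i ≠ j → (S (9 + 2 * i) * S (9 + 2 * j)) ^ 2 = th S (M i j) * S 23
  i1 : S 23 ≠ 1
  z1 : S 8 ≠ 1
  zi : S 8 * S 23 ≠ 1

theorem Mod.pull {X Y : Type*} [Group X] [Group Y] {S : ℕ → X} {M : ℕ → ℕ → ℕ} (f : X →* Y)
    (hf : Function.Injective f) (h : Mod (fun c => f (S c)) T M) : Mod S T M where
  heis := ⟨fun i hi => hf (by simpa using h.heis.sq i hi),
    fun i hi k hk hik => hf (by simpa using h.heis.comm i hi k hk hik),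
    fun i hi => hf (by simpa using h.heis.pair i hi)⟩
  acts i hi := ⟨fun j hj => hf (by simpa [th_map] using (h.acts i hi).bas j hj),
    hf (by simpa using (h.acts i hi).eight)⟩
  cube i hi := hf (by simpa using h.cube i hi)
  inv i hi := hf (by simpa using h.inv i hi)
  one c hc := hf (by simpa using h.one c hc)
  i2 := hf (by simpa using h.i2)
  ic c hc := hf (by simpa using h.ic c hc)
  rel i hi j hj hij := hf (by simpa [th_map] using h.rel i hi j hj hij)
  i1 h1 := h.i1 (by simp [h1])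
  z1 h1 := h.z1 (by simp [h1])
  zi h1 := h.zi (by rw [← map_mul, h1, map_one])

/-- the extraspecial group times a central involution. -/
def AA (h : Heis e) {ω : G} (h2 : ω * ω = 1) (hc : ∀ n, Commute ω (th e n)) : Subgroup G where
  carrier := {g | ∃ n < 512, g = th e n ∨ g = th e n * ω}
  one_mem' := ⟨0, by norm_num, Or.inl th_zero.symm⟩
  mul_mem' := by
    rintro _ _ ⟨n, hn, h3⟩ ⟨m, hm, h4⟩
    refine ⟨_, mulQ_lt hn hm, ?_⟩
    rw [← h.th_mul]
    rcases h3 with rfl | rfl <;> rcases h4 with rfl | rfl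
    · exact Or.inl rfl
    · exact Or.inr (mul_assoc _ _ _).symm
    · exact Or.inr (by rw [mul_assoc, (hc m).eq, mul_assoc])
    · exact Or.inl (by rw [mul_assoc, ← mul_assoc ω, (hc m).eq, mul_assoc, h2, mul_one])
  inv_mem' := by
    rintro _ ⟨n, hn, h3⟩
    refine ⟨_, invQ_lt hn, ?_⟩
    rw [h.th_inv hn]
    rcases h3 with rfl | rfl
    · exact Or.inl rfl
    · exact Or.inr (by rw [mul_inv_rev, inv_eq_of_mul_eq_one_left h2, (hc n).inv_right.eq])

theorem card_AA (h : Heis e) {ω : G} (h2 : ω * ω = 1) (hc : ∀ n, Commute ω (th e n)) :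
    Nat.card (AA h h2 hc) ≤ 1024 := by
  have := Nat.card_le_card_of_surjective (fun p : Fin 512 × Bool =>
    (⟨th e p.1 * bp ω p.2, p.1, p.1.2, by cases p.2 <;> simp [bp]⟩ : AA h h2 hc)) (by
      rintro ⟨_, n, hn, rfl | rfl⟩
      · exact ⟨(⟨n, hn⟩, false), Subtype.ext (by simp [bp])⟩
      · exact ⟨(⟨n, hn⟩, true), Subtype.ext (by simp [bp])⟩)
  simpa using this

theorem nor_AA [Finite G] (h : Heis e) {ω : G} (h2 : ω * ω = 1) (hc : ∀ n, Commute ω (th e n))
    {g : G} {t : ℕ} (hg : Acts e g t) (hω : Commute ω g) :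
    g ∈ normalizer (AA h h2 hc : Set G) := mem_normalizer_fintype (by
  rintro _ ⟨n, -, rfl | rfl⟩
  · exact ⟨_, ap_lt t n, Or.inl (by rw [hg.th h, mul_inv_cancel_right])⟩
  · exact ⟨_, ap_lt t n, Or.inr (by rw [← mul_assoc, hg.th h, mul_assoc _ g, ← hω.eq]; group)⟩)

section Pair

variable [Finite G] {X : Type*} [Group X] [Finite X] {S : ℕ → X} {M : ℕ → ℕ → ℕ}

omit [Finite G] [Finite X] in
theorem th_pair (n : ℕ) : th (fun c => (e c, S c)) n = (th e n, th S n) :=
  Prod.ext (th_map (e := fun c => (e c, S c)) (MonoidHom.fst G X) n)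
    (th_map (e := fun c => (e c, S c)) (MonoidHom.snd G X) n)

omit [Finite G] [Finite X] in
theorem heis_pair (h : Heis e) (h' : Heis S) : Heis fun c => (e c, S c) :=
  ⟨fun i hi => Prod.ext (h.sq i hi) (h'.sq i hi),
    fun i hi k hk hik => Prod.ext (h.comm i hi k hk hik) (h'.comm i hi k hk hik),
    fun i hi => Prod.ext (h.pair i hi) (h'.pair i hi)⟩

omit [Finite G] [Finite X] in
theorem acts_pair {g : G} {x : X} {t : ℕ} (h : Acts e g t) (h' : Acts S x t) :
    Acts (fun c => (e c, S c)) (g, x) t :=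
  ⟨fun i hi => by rw [th_pair]; exact Prod.ext (h.bas i hi) (h'.bas i hi),
    Prod.ext h.eight h'.eight⟩

omit [Finite G] [Finite X] in
theorem Mod.hc (hM : Mod S T M) (n : ℕ) :
    Commute ((1, S 23) : G × X) (th (fun c => (e c, S c)) n) := by
  rw [th_pair]
  refine Prod.ext (by simp) ?_
  exact (mem_centralizer_singleton_iff.1 (th_mem (Q := centralizer {S 23})
    (fun i hi => mem_centralizer_singleton_iff.2 (hM.ic i (by omega)).symm) n)).symm

theorem Ok.eps (h : Ok e π T P) (hL : L1 e) (hM : Mod S T M) (hlt : ∀ i < 7, ∀ j < 7, M i j < 512)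
    (hr : ∀ i < 7, ∀ j < 7, i ≠ j → (e (9 + 2 * i) * e (9 + 2 * j)) ^ 2 = th e (M i j) ∨
      (e (9 + 2 * i) * e (9 + 2 * j)) ^ 2 = th e (M i j) * e 8) :
    (∀ i < 7, ∀ j < 7, i ≠ j → (e (9 + 2 * i) * e (9 + 2 * j)) ^ 2 = th e (M i j)) ∨
    (∀ i < 7, ∀ j < 7, i ≠ j → (e (9 + 2 * i) * e (9 + 2 * j)) ^ 2 = th e (M i j) * e 8) := by
  have h2 : ((1, S 23) : G × X) * (1, S 23) = 1 := Prod.ext (by simp) hM.i2
  let A := AA (heis_pair h.heis hM.heis) h2 hM.hc
  let x : ℕ → G × X := fun i => (e (9 + 2 * i), S (9 + 2 * i))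
  let ζ : G × X := (e 8, 1)
  have ζ2 : ζ⁻¹ = ζ := inv_eq_of_mul_eq_one_left (Prod.ext h.heis.z2 (by simp [ζ]))
  have xn : ∀ i < 7, x i ∈ normalizer (A : Set (G × X)) := fun i hi =>
    nor_AA _ _ _ (acts_pair (h.acts _) (hM.acts i hi)) (Prod.ext (by simp [x]) (hM.ic _ (by omega)))
  have ζn : ζ ∈ normalizer (A : Set (G × X)) :=
    nor_AA _ _ _ (t := idT) ⟨fun i hi => by
      rw [show pk idT 9 i = 2 ^ i from (by decide : ∀ i < 8, pk idT 9 i = 2 ^ i) i hi,
        th_pow (by omega)]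
      exact Prod.ext (mem_CC.1 (h.mem i)).symm (by simp [ζ]), Prod.ext rfl (by simp [ζ])⟩
      (Prod.ext (by simp [ζ]) (by simp [ζ]))
  have x3 : ∀ i < 7, x i * (x i * x i) = 1 := fun i hi => by
    rw [← pow_three]; exact Prod.ext (hL.cube i hi) (hM.cube i hi)
  have xζ : ∀ i, (x i)⁻¹ * (ζ * (x i * ζ)) = 1 := fun i => by
    rw [← show ζ * x i = x i * ζ from Prod.ext (mem_CC.1 (h.mem _)).symm (by simp [ζ]), ← mul_assoc ζ,
      ← ζ2, ζ2, show ζ * ζ = 1 by rw [← mul_inv_cancel ζ, ζ2], one_mul, inv_mul_cancel]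
  have f1 : ∀ i < 7, ∀ j < 7, i ≠ j → (e (9 + 2 * i) * e (9 + 2 * j)) ^ 2 = th e (M i j) →
      x i * (x j * (x i * x j)) ∈ A := fun i hi j hj hij h1 => ⟨_, hlt i hi j hj, Or.inr (by
    rw [th_pair, ← mul_assoc, ← pow_two]
    exact Prod.ext (by simpa using h1) (hM.rel i hi j hj hij))⟩
  have f2 : ∀ i < 7, ∀ j < 7, i ≠ j → (e (9 + 2 * i) * e (9 + 2 * j)) ^ 2 = th e (M i j) * e 8 →
      x i * (x j * (x i * (x j * ζ))) ∈ A := fun i hi j hj hij h1 => ⟨_, hlt i hi j hj, Or.inr (by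
    rw [th_pair, ← mul_assoc, ← mul_assoc, ← mul_assoc, mul_assoc (x i * x j), ← pow_two]
    refine Prod.ext ?_ (by simpa [ζ] using hM.rel i hi j hj hij)
    change (e _ * e _) ^ 2 * e 8 = _
    rw [h1, mul_assoc, h.heis.z2]; rfl)⟩
  have tri : ∀ i < 7, ∀ j < 7, ∀ k < 7, i ≠ j → k ≠ i → j ≠ k →
      (e (9 + 2 * k) * e (9 + 2 * i)) ^ 2 = th e (M k i) →
      (e (9 + 2 * i) * e (9 + 2 * j)) ^ 2 = th e (M i j) := fun i hi j hj k hk a b c h1 => by
    refine (hr i hi j hj a).resolve_right fun h3 => ?_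
    let l := lst [x i, (x i)⁻¹, x j, (x j)⁻¹, x k, (x k)⁻¹, ζ]
    have l1 : ∀ c, l c ∈ normalizer (A : Set (G × X)) := lst_mem (by
      simp [xn i hi, xn j hj, xn k hk, ζn])
    have l2 : IvOK l (ivOf ThT1.ivl) := fun c => by
      by_cases hc : c < 7
      · interval_cases c
        exacts [rfl, (inv_inv _).symm, rfl, (inv_inv _).symm, rfl, (inv_inv _).symm, ζ2.symm]
      · rw [ivOf, nth_default _ (by simpa [ThT1.ivl] using hc),
          show l c = 1 from lst_one (by simpa using hc), inv_one]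
    have l3 : ζ ∈ A := by
      have a1 := f2 i hi j hj a h3
      have a2 := f1 k hk i hi b h1
      rcases hr j hj k hk c with h4 | h4
      · have a3 := f1 j hj k hk c h4
        have := quot_der l1 ThT1.der l2 (by
          simp [ThT1.R0, l, lst, x3, xζ, hi, hj, hk, a1, a2, a3]) [6] (by decide)
        rwa [ev_cons, ev_nil, mul_one] at this
      · have a3 := f2 j hj k hk c h4
        have := quot_der l1 ThT2.der l2 (by
          simp [ThT2.R0, l, lst, x3, xζ, hi, hj, hk, a1, a2, a3]) [6] (by decide)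
        rwa [ev_cons, ev_nil, mul_one] at this
    obtain ⟨n, hn, h4⟩ := l3
    rw [th_pair] at h4
    have h5 : n = 256 := h.inj hn (by norm_num) (by
      rw [th_256]; rcases h4 with h4 | h4 <;> simpa [ζ] using (congrArg Prod.fst h4).symm)
    rw [h5, th_256, th_256] at h4
    rcases h4 with h4 | h4
    exacts [hM.z1 (congrArg Prod.snd h4).symm, hM.zi (congrArg Prod.snd h4).symm]
  by_cases h0 : ∃ a < 7, ∃ b < 7, a ≠ b ∧ (e (9 + 2 * a) * e (9 + 2 * b)) ^ 2 = th e (M a b)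
  · obtain ⟨a, ha, b, hb, hab, h1⟩ := h0
    refine Or.inl fun c hc d hd hcd => ?_
    obtain ⟨u, hu, v, hv, h3⟩ := (by decide +kernel : ∀ a < 7, ∀ b < 7, ∀ c < 7, ∀ d < 7,
      ∃ u < 7, ∃ v < 7, u ≠ a ∧ b ≠ u ∧ c ≠ u ∧ v ≠ b ∧ u ≠ v ∧ v ≠ c ∧ d ≠ v) a ha b hb c hc d hd
    obtain ⟨p1, p2, p3, p4, p5, p6, p7⟩ := h3
    exact tri c hc d hd v hv hcd p6 p7 (tri v hv c hc u hu p6 p5 p3
      (tri u hu v hv b hb p5 p2 p4 (tri b hb u hu a ha p2 hab p1 h1)))
  · exact Or.inr fun i hi j hj hij => (hr i hi j hj hij).resolve_left fun h1 =>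
      h0 ⟨i, hi, j, hj, hij, h1⟩

/-- equal words are equal in the model up to the last letter. -/
def Sg (e : ℕ → G) (S : ℕ → X) : Prop :=
  ∀ u v, ev e u = ev e v → ev S u = ev S v ∨ ev S u = ev S v * S 23

theorem Ok.graph (h : Ok e π T (nth idP P1L)) (hL : L1 e) (hM : Mod S T M)
    (hr : ∀ i < 7, ∀ j < 7, i ≠ j → ∃ n < 512, (e (9 + 2 * i) * e (9 + 2 * j)) ^ 2 = th e n ∧
      (S (9 + 2 * i) * S (9 + 2 * j)) ^ 2 = th S n * S 23) : Sg e S := by
  have h2 : ((1, S 23) : G × X) * (1, S 23) = 1 := Prod.ext (by simp) hM.i2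
  obtain ⟨Γ, g1, g2, g3⟩ := quot_carm (A := AA (heis_pair h.heis hM.heis) h2 hM.hc)
    (x := fun i => (e (9 + 2 * i), S (9 + 2 * i)))
    (fun i => nor_AA _ _ _ (acts_pair (h.acts _) (hM.acts i i.2))
      (Prod.ext (by simp) (hM.ic _ (by omega))))
    (fun i => Prod.ext (hL.cube i i.2) (hM.cube i i.2)) fun i j hij => by
      obtain ⟨n, hn, a, b⟩ := hr i i.2 j j.2 (Fin.val_ne_of_ne hij)
      exact ⟨n, hn, Or.inr (by rw [th_pair]; exact Prod.ext (by simpa using a) b)⟩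
  have g4 := card_AA (heis_pair h.heis hM.heis) h2 hM.hc
  have g5 : ((1, S 23) : G × X) ∈ Γ := g1 ⟨0, by norm_num, Or.inr (by simp [th_zero])⟩
  have g6 : ∀ c, (e c, S c) ∈ Γ := fun c => by
    have : c < 9 ∨ (∃ i < 7, c = 9 + 2 * i) ∨ (∃ i < 7, c = 10 + 2 * i) ∨ c = 23 ∨ 24 ≤ c := by
      by_cases hc : c < 24
      · revert c; decide
      · omega
    rcases this with hc | ⟨i, hi, rfl⟩ | ⟨i, hi, rfl⟩ | rfl | hc
    · exact g1 ⟨2 ^ c, Nat.pow_lt_pow_right (by norm_num) hc,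
        Or.inl (th_pow (e := fun c => (e c, S c)) hc).symm⟩
    · exact g2 ⟨i, hi⟩
    · rw [hL.inv i hi, hM.inv i hi]; exact Γ.inv_mem (g2 ⟨i, hi⟩)
    · rw [hL.one 23 le_rfl]; exact g5
    · rw [hL.one c (by omega), hM.one c hc]; exact Γ.one_mem
  let f : Γ →* G := (MonoidHom.fst G X).comp Γ.subtype
  have g7 : CC e ≤ f.range := h.le_of (gen_le.2 fun c _ => ⟨⟨_, g6 c⟩, rfl⟩) fun i =>
    ⟨e (9 + 2 * i), ⟨⟨_, g6 _⟩, rfl⟩, h.mem _, h.pi_eq
      ((by decide +kernel : ∀ k : Fin 7, ∀ i : Fin 9, pk (nth idP P1L (9 + 2 * k)) 4 i = rp k i) i)⟩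
  have g8 : Nat.card f.ker ≤ 2 := by
    have a := f.ker.index_mul_card
    have b := card_le_of_le g7
    rw [index_ker] at a
    rw [h.card_C] at b
    nlinarith
  intro u v huv
  have g9 : ∀ w, (ev e w, ev S w) ∈ Γ := fun w => by
    have := ev_mem (w := w) fun c _ => g6 c
    rwa [show ev (fun c => (e c, S c)) w = (ev e w, ev S w) from
      Prod.ext (map_ev (MonoidHom.fst G X) _ w) (map_ev (MonoidHom.snd G X) _ w)] at this
  by_contra! h3
  have := Nat.card_le_card_of_injective (β := f.ker)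
    (![1, ⟨⟨_, g5⟩, rfl⟩, ⟨⟨_, Γ.mul_mem (Γ.inv_mem (g9 v)) (g9 u)⟩, by
      change (ev e v)⁻¹ * ev e u = 1
      rw [huv, inv_mul_cancel]⟩] : Fin 3 → f.ker) (by
      have a1 := hM.i1
      have a2 : (ev S v)⁻¹ * ev S u ≠ 1 := fun h4 => h3.1 (inv_mul_eq_one.1 h4).symm
      have a3 : (ev S v)⁻¹ * ev S u ≠ S 23 := fun h4 => h3.2 (by rw [← h4]; group)
      intro i j hij
      have := congrArg (fun g : f.ker => g.1.1.2) hij
      fin_cases i <;> fin_cases j
      exacts [rfl, absurd this.symm a1, absurd this.symm a2, absurd this a1, rfl,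
        absurd this.symm a3, absurd this a2, absurd this a3, rfl])
  rw [Nat.card_fin] at this
  omega

omit [Finite G] [Finite X] in
theorem Sg.map {Y : Type*} [Group Y] (f : X →* Y) (h : Sg e S) : Sg e fun c => f (S c) :=
  fun u v huv => by
    simp only [← map_ev, ← map_mul]
    exact (h u v huv).imp (congrArg f) (congrArg f)

omit [Finite G] [Finite X] in
theorem ev_wE (wl : List (List ℕ)) (w : List ℕ) :
    ev (wE e wl) w = ev e (w.flatMap (nth [] wl)) := by
  induction w with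
  | nil => rfl
  | cons c w ih => rw [ev_cons, ih, List.flatMap_cons, ev_append, wE]

omit [Finite G] [Finite X] in
theorem Sg.wE (h : Sg e S) {wl : List (List ℕ)} (h1 : nth [] wl 23 = [23]) :
    Sg (wE e wl) (wE S wl) := fun u v huv => by
  rw [ev_wE, ev_wE] at huv
  rw [ev_wE, ev_wE, H29.wE, h1]
  simpa using h _ _ huv

end Pair

/-- the test for the equality of two words. -/
noncomputable def chkS (T : ℕ → ℕ) (nets : ℕ → Net) (u v : List ℕ) : Bool :=
  and2 (allN 8 fun j => Nat.beq (apW T u (Nat.pow 2 j)) (apW T v (Nat.pow 2 j)))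
    (lit (pullW nets u (Nat.succ (bit 288))) fun a => lit (pullW nets v (Nat.succ (bit 288))) fun b =>
      and2 (!(Nat.beq a (pullW nets [8] b))) (!(Nat.beq a (pullW nets [8, 23] b))))

theorem Ok.eqw (h : Ok e π T P) {K : ℕ} {nets : ℕ → Net} (hn : NetsOK K nets)
    (hs : Sg e (sg nets)) {u v : List ℕ} (hc : chkS T nets u v = true) : ev e u = ev e v := by
  simp only [chkS, and2_true, allN_true, lit_eq, H29.beq_true, Bool.not_eq_true',
    ← Bool.not_eq_true] at hc
  refine (h.ev_eq_or hc.1).resolve_right fun h1 => ?_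
  rcases hs u (v ++ [8]) (by simpa using h1) with h2 | h2
  · exact hc.2.1 (Nat.eq_of_testBit_eq fun i => by
      simp [testBit_pullW hn, h2])
  · exact hc.2.2 (Nat.eq_of_testBit_eq fun i => by
      simp [testBit_pullW hn, h2])

/-- the squares of the products of two three-cycles. -/
def MM (b : Bool) (i j : ℕ) : ℕ :=
  Nat.xor (cond b 0 256) ((([[0, 415, 341, 292, 473, 430, 360], [420, 0, 475, 307, 386, 501, 330], [296, 322, 0, 505, 413, 460, 371], [445, 388, 300, 0, 373, 471, 486], [366, 343, 450, 390, 0, 435, 511], [379, 426, 319, 492, 462, 0, 349], [311, 441, 328, 411, 358, 490, 0]] : List (List ℕ)).getD i []).getD j 0)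

/-- the networks of the two models. -/
noncomputable def nx (b : Bool) : ℕ → Net := nth Net.nil (ThX.nl b)

theorem hnx (b : Bool) : NetsOK 528 (nx b) := ThX.hn b

/-- equality of words in the model. -/
noncomputable def eqX (b : Bool) (u v : List ℕ) : Bool := allN 10 (chkEq 528 10 (nx b) u v)

theorem eqX_true {b : Bool} {u v : List ℕ} (h : eqX b u v = true) :
    ev (sg (nx b)) u = ev (sg (nx b)) v :=
  ev_eq_of_planeEq (k := 10) (hnx b) (by norm_num) fun j hj =>
    chkEq_sound (hnx b) (by norm_num) (allN_true.1 h j hj)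

theorem modX (b : Bool) : Mod (sg (nx b)) (nth idT TsL) (MM b) where
  heis := ⟨fun i hi => by
      simpa using eqX_true ((by decide +kernel : ∀ b, ∀ i < 9, eqX b [i, i] [] = true) b i hi),
    fun i hi k hk hik => by
      simpa using eqX_true ((by decide +kernel : ∀ b, ∀ i < 9, ∀ k < i, (i = k + 4 → k = 4) →
        eqX b [i, k] [k, i] = true) b i hi k hk hik),
    fun i hi => by
      simpa using eqX_true ((by decide +kernel : ∀ b, ∀ i < 4,
        eqX b [i + 4, i] [i, i + 4, 8] = true) b i hi)⟩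
  acts i hi := ⟨fun j hj => by
      simpa [ev_qw] using eqX_true ((by decide +kernel : ∀ b, ∀ i < 7, ∀ j < 8, eqX b [9 + 2 * i, j]
        (qw (pk (nth idT TsL (9 + 2 * i)) 9 j) ++ [9 + 2 * i]) = true) b i hi j hj),
    by simpa using eqX_true ((by decide +kernel : ∀ b, ∀ i < 7,
        eqX b [9 + 2 * i, 8] [8, 9 + 2 * i] = true) b i hi)⟩
  cube i hi := by
    simpa [pow_three] using eqX_true ((by decide +kernel : ∀ b, ∀ i < 7,
      eqX b [9 + 2 * i, 9 + 2 * i, 9 + 2 * i] [] = true) b i hi)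
  inv i hi := eq_inv_of_mul_eq_one_right (by
    simpa using eqX_true ((by decide +kernel : ∀ b, ∀ i < 7,
      eqX b [9 + 2 * i, 10 + 2 * i] [] = true) b i hi))
  one c hc := by rw [sg, nx, nth_default _ (by simpa [ThX.nl] using hc)]; rfl
  i2 := by simpa using eqX_true ((by decide +kernel : ∀ b, eqX b [23, 23] [] = true) b)
  ic c hc := by
    simpa using eqX_true ((by decide +kernel : ∀ b, ∀ c < 23, eqX b [23, c] [c, 23] = true) b c hc)
  rel i hi j hj hij := by
    simpa [ev_qw, pow_two, mul_assoc] using eqX_true ((by decide +kernel : ∀ b, ∀ i < 7, ∀ j < 7,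
      i ≠ j → eqX b [9 + 2 * i, 9 + 2 * j, 9 + 2 * i, 9 + 2 * j] (qw (MM b i j) ++ [23]) = true)
      b i hi j hj hij)
  i1 := by
    obtain ⟨q, hq, h1, h2⟩ := (by decide +kernel : ∀ b, ∃ q < 528,
      chkPt (nx b) [23] 288 q = true ∧ q ≠ 288) b
    simpa using sg_ne_one (hnx b) h1 h2
  z1 := by
    obtain ⟨q, hq, h1, h2⟩ := (by decide +kernel : ∀ b, ∃ q < 528,
      chkPt (nx b) [8] 0 q = true ∧ q ≠ 0) b
    simpa using sg_ne_one (hnx b) h1 h2
  zi := by
    obtain ⟨q, hq, h1, h2⟩ := (by decide +kernel : ∀ b, ∃ q < 528,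
      chkPt (nx b) [8, 23] 288 q = true ∧ q ≠ 288) b
    simpa using sg_ne_one (hnx b) h1 h2

theorem Ok.sign [Finite G] (h : Ok e π (nth idT TsL) (nth idP P1L)) (hL : L1 e) :
    ∃ b, Sg e (sg (nx b)) := by
  have mem : ∀ b c, sg (nx b) c ∈ gen (sg (nx b)) (List.range 24) := fun b c => by
    by_cases hc : c < 24
    · exact mem_gen (List.mem_range.2 hc)
    · rw [(modX b).one c (by omega)]; exact one_mem _
  have hM : ∀ b, Mod (fun c => (⟨_, mem b c⟩ : gen (sg (nx b)) (List.range 24))) (nth idT TsL)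
    (MM b) := fun b => Mod.pull (Subgroup.subtype _) (subtype_injective _) (modX b)
  have fin := fun b => finite_gen_sg (hnx b) (List.range 24)
  have hlt : ∀ b, ∀ i < 7, ∀ j < 7, MM b i j < 512 := by decide +kernel
  have key : ∀ b, (∀ i < 7, ∀ j < 7, i ≠ j →
      (e (9 + 2 * i) * e (9 + 2 * j)) ^ 2 = th e (MM b i j)) → Sg e (sg (nx b)) := fun b hb => by
    have := fin b
    exact (h.graph hL (hM b) fun i hi j hj hij =>
      ⟨_, hlt b i hi j hj, hb i hi j hj hij, (hM b).rel i hi j hj hij⟩).map (Subgroup.subtype _)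
  have := fin false
  rcases h.eps hL (hM false) (hlt false) fun i hi j hj hij => by
    simpa [ev_qw, pow_two, mul_assoc] using h.ev_eq_or ((by decide +kernel : ∀ i < 7, ∀ j < 7,
      i ≠ j → ∀ k < 8, apW (nth idT TsL) [9 + 2 * i, 9 + 2 * j, 9 + 2 * i, 9 + 2 * j] (2 ^ k) =
        apW (nth idT TsL) (qw (MM false i j)) (2 ^ k)) i hi j hj hij) with h1 | h1
  · exact ⟨false, key false h1⟩
  · refine ⟨true, key true fun i hi j hj hij => ?_⟩
    rw [h1 i hi j hj hij, h.heis.th_z, (by decide +kernel : ∀ i < 7, ∀ j < 7,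
      mulQ (MM false i j) 256 = MM true i j) i hi j hj]

end H28.Th
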