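import Mathlib
import Cfsg.Agent.H28.ThS

/-! Fusion in groups with a centraliser `2^(1+8).A₉`: general lemmas. -/

set_option autoImplicit false
set_option maxRecDepth 100000
set_option synthInstance.maxSize 2000
set_option linter.unusedSectionVars false

namespace H28.Th

open H29 H7.Cay Equiv Subgroup

variable {G : Type*} [Group G] [Finite G] {e e' : ℕ → G} {π π' : G → Perm (Fin 9)} {T P : ℕ → ℕ}

theorem ncard_le_list {s : Set G} {l : List G} (h : ∀ g ∈ s, g ∈ l) : s.ncard ≤ l.length := by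
  classical
  refine (Set.ncard_le_ncard (t := l.toFinset) fun g hg => by simpa using h g hg).trans ?_
  rw [Set.ncard_coe_finset]
  exact List.toFinset_card_le l

theorem card_le_list {E : Subgroup G} (l : List G) (h : ∀ g ∈ E, g ∈ l) : Nat.card E ≤ l.length :=
  (Nat.card_coe_set_eq (E : Set G)).trans_le (ncard_le_list fun g hg => h g hg)

theorem card_le_orb {Y : Subgroup G} {v : G} (l : List G) (h : ∀ g ∈ Y, g * v * g⁻¹ ∈ l) :
    Nat.card Y ≤ l.length * Nat.card ↥(Y ⊓ centralizer {v}) := by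
  let _ : MulAction Y G := MulAction.compHom G (MulAut.conj.comp Y.subtype)
  rw [← (MulAction.stabilizer Y v).index_mul_card]
  refine Nat.mul_le_mul ?_ ?_
  · rw [MulAction.index_stabilizer]
    exact ncard_le_list (by rintro _ ⟨g, rfl⟩; exact h g g.2)
  · rw [← Nat.card_congr (subgroupOfEquivOfLe (inf_le_left (a := Y)
      (b := centralizer {v}))).toEquiv]
    refine card_le_of_le fun g hg => mem_subgroupOf.2 ⟨g.2, mem_centralizer_singleton_iff.2 ?_⟩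
    exact mul_inv_eq_iff_eq_mul.1 (show g.1 * v * g.1⁻¹ = v from hg)

theorem card_le_two_mul {Y : Subgroup G} {v c : G}
    (h : ∀ g ∈ Y, g * v = v * g ∨ g * v = v * c * g) :
    Nat.card Y ≤ 2 * Nat.card ↥(Y ⊓ centralizer {v}) :=
  card_le_orb [v, v * c] fun g hg => by rcases h g hg with h1 | h1 <;> simp [h1]

omit [Finite G] in
theorem rel_mul (Q D : Subgroup G) : Q.relIndex D * Nat.card ↥(D ⊓ Q) = Nat.card D := by
  rw [← (Q.subgroupOf D).index_mul_card, ← inf_subgroupOf_left,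
    Nat.card_congr (subgroupOfEquivOfLe inf_le_left).toEquiv, inf_subgroupOf_left]
  rfl

theorem card_mul_le {D F R Q : Subgroup G} (hD : D ≤ F) (hR : R ≤ F ⊓ Q) :
    Nat.card D * Nat.card R ≤ Nat.card F * Nat.card ↥(D ⊓ Q) := by
  have a := relIndex_le_of_le_right (H := Q) hD (by
    rw [relIndex]; exact index_ne_zero_of_finite)
  have b := card_le_of_le hR
  rw [← rel_mul Q D, ← rel_mul Q F, mul_right_comm]
  gcongr

theorem Ok.card_syl (h : Ok e π T P) {D : Subgroup G} (hD : D ≤ CC e) {y : G} (hy : y ∈ CC e)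
    (y2 : y * y = 1) (hs : ∀ g ∈ D, g * g ∈ QQ e ∨ g * g = y) :
    Nat.card D ≤ 32 * Nat.card ↥(D ⊓ QQ e) := by
  have h1 := h.card_dvd hD (K := (D.subgroupOf (CC e)).map h.ph) fun g hg => ⟨⟨g, hD hg⟩, hg, rfl⟩
  have h2 := syl (U := (D.subgroupOf (CC e)).map h.ph) (τ := π y)
    (by rintro _ ⟨g, -, rfl⟩; exact h.sgn g g.2) (by rw [← h.mul y hy y hy, y2, h.one]) (by
      rintro _ ⟨g, hg, rfl⟩
      change π g * π g = 1 ∨ π g * π g = _
      rw [← h.mul g g.2 g g.2]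
      exact (hs g hg).imp h.pQ fun h3 => by rw [h3])
  refine (Nat.le_of_dvd (Nat.mul_pos Nat.card_pos Nat.card_pos) h1).trans ?_
  rw [mul_comm]
  gcongr

omit [Finite G] in
theorem Heis.conj_or (h : Heis e) {a b : G} (ha : a ∈ QQ e) (hb : b ∈ QQ e) :
    a * b = b * a ∨ a * b = b * e 8 * a :=
  (h.comm_or ha hb).imp_right fun h1 => by
    rw [h1, mul_assoc, mul_assoc, (mem_CC.1 (h.QQ_le ha)).eq]

omit [Finite G] in
theorem Ok.z_mem (h : Ok e π T P) : e 8 ∈ CC e := h.mem 8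

omit [Finite G] in
theorem zQ : e 8 ∈ QQ e := e_mem_QQ (by norm_num)

/-- classification of the elements whose image is an involution. -/
theorem Ok.inv_class (h : Ok e π T P) (h2 : π (e 24) = x2) (h4 : π (e 25) = x4) {y : G}
    (hy : y ∈ CC e) (hQ : y ∉ QQ e) (y2 : y * y = 1) :
    ∃ k ∈ CC e, ∃ n < 512, y = k * (th e n * e 24) * k⁻¹ ∨ y = k * (th e n * e 25) * k⁻¹ := by
  obtain ⟨κ, a, b⟩ := inv_A9 (σ := π y) (by rw [← h.mul y hy y hy, y2, h.one])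
    (fun h1 => hQ ((h.ker y hy).1 h1)) (h.sgn y hy)
  obtain ⟨k, hk, rfl⟩ := h.sur κ a
  have h3 : k⁻¹ * y * k ∈ CC e := mul_mem (mul_mem (inv_mem hk) hy) hk
  have h5 : π (k⁻¹ * y * k) = (π k)⁻¹ * π y * π k := by
    rw [h.mul _ (mul_mem (inv_mem hk) hy) _ hk, h.mul _ (inv_mem hk) _ hy, h.inv hk]
  rcases b with b | b
  · obtain ⟨n, hn, h6⟩ := h.of_eq h3 (h.mem 24) (by rw [h5, h2, ← b]; group)
    exact ⟨k, hk, n, hn, Or.inl (by rw [← h6]; group)⟩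
  · obtain ⟨n, hn, h6⟩ := h.of_eq h3 (h.mem 25) (by rw [h5, h4, ← b]; group)
    exact ⟨k, hk, n, hn, Or.inr (by rw [← h6]; group)⟩

omit [Finite G] in
theorem Ok.sq_code (h : Ok e π T P) {c n : ℕ} (hn : n < 512)
    (hc : ∀ j < 8, apW T [c, c] (2 ^ j) = apW T [] (2 ^ j))
    (y2 : th e n * e c * (th e n * e c) = 1) : mulQ n (ap (T c) n) % 256 = 0 := by
  have h1 := h.ev_eq_or hc
  simp only [ev_cons, ev_nil, mul_one, one_mul] at h1
  rw [mul_assoc, ← mul_assoc (e c), h.e_th, ← mul_assoc, ← mul_assoc, h.heis.th_mul,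
    mul_assoc] at y2
  have h2 := mulQ_lt hn (ap_lt (T c) n)
  rcases h1 with h1 | h1 <;> rw [h1] at y2
  · rw [h.inj h2 (by norm_num) ((mul_one _).symm.trans (y2.trans th_zero.symm))]
  · rw [h.inj h2 (by norm_num) ((eq_inv_of_mul_eq_one_left y2).trans
      ((inv_eq_of_mul_eq_one_left h.heis.z2).trans th_256.symm))]

omit [Finite G] in
theorem Acts.conj_th (h : Heis e) {y : G} {t : ℕ} (hy : Acts e y t) {m : ℕ} (hm : m < 512) :
    Th.th e m * y * (Th.th e m)⁻¹ = Th.th e (mulQ m (ap t (invQ m))) * y := by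
  rw [← h.th_inv hm, mul_assoc, hy.th h, ← mul_assoc, h.th_mul]

/-- normal form of the involutions over a letter that acts freely. -/
theorem Ok.norm4 (h : Ok e π T P) {c n : ℕ} (hn : n < 512)
    (hc : ∀ j < 8, apW T [c, c] (2 ^ j) = apW T [] (2 ^ j))
    (hm : ∀ n < 512, mulQ n (ap (T c) n) % 256 = 0 → ∃ m < 256,
      n = mulQ m (ap (T c) (invQ m)) ∨ n = mulQ (mulQ m (ap (T c) (invQ m))) 256)
    (y2 : th e n * e c * (th e n * e c) = 1) :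
    ∃ k ∈ CC e, th e n * e c = k * e c * k⁻¹ ∨ th e n * e c = k * (e c * e 8) * k⁻¹ := by
  obtain ⟨m, hm, h1⟩ := hm n hn (h.sq_code hn hc y2)
  have h2 := (h.acts c).conj_th h.heis (show m < 512 by omega)
  refine ⟨th e m, h.heis.th_C m, h1.imp (fun h3 => by rw [h2, ← h3]) fun h3 => ?_⟩
  rw [h3, ← h.heis.th_z, ← mul_assoc, mul_assoc _ (e 8), ← (h.acts c).eight, mul_assoc _ (e 8),
    ← (mem_CC.1 (inv_mem (h.heis.th_C m))).eq, ← mul_assoc, ← mul_assoc, h2]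

omit [Finite G] in
theorem Acts.mul_z (h : Heis e) {y : G} {t : ℕ} (hy : Acts e y t) : Acts e (y * e 8) t :=
  ⟨fun i hi => by
    rw [mul_assoc, ← (mem_CC.1 (h.QQ_le (e_mem_QQ (show i < 9 by omega)))).eq, ← mul_assoc,
      hy.bas i hi, mul_assoc], by rw [hy.eight, mul_assoc, hy.eight]⟩

/-- what is known on the centraliser of `z` in the extraspecial group of `y`. -/
structure Hy (Q C : Subgroup G) (z y : G) (D : Subgroup G) : Prop where
  le : D ≤ C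
  yD : y ∈ D
  zD : z ∉ D
  sq : ∀ g ∈ D, g * g = 1 ∨ g * g = y
  com : ∀ g ∈ D, ∀ k ∈ D, g * k = k * g ∨ g * k = k * g * y
  cy : ∀ g ∈ D, Commute g y
  nor : ∀ w, Commute w y → w ∈ C → ∀ g ∈ D, w * g * w⁻¹ ∈ D
  cj : ∀ k, k * y * k⁻¹ ∈ D → k * y * k⁻¹ = y
  yQ : y ∉ Q

/-- the centraliser of `y` in `Q` is larger than every such group. -/
def LT (Q C : Subgroup G) (z y : G) : Prop :=
  ∀ D, Hy Q C z y D → Nat.card D < Nat.card ↥(Q ⊓ centralizer {y})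

namespace Hy

variable {y : G} {D : Subgroup G} (d : Hy (QQ e) (CC e) (e 8) y D) (h : Ok e π T P)
include d h

omit [Finite G]

theorem i_sq {i : G} (hi : i ∈ D) (hq : i ∈ QQ e) : i * i = 1 :=
  (d.sq i hi).resolve_right fun h1 => d.yQ (h1 ▸ mul_mem hq hq)

theorem i_w {i w : G} (hi : i ∈ D) (hq : i ∈ QQ e) (hw : w ∈ QQ e) (hc : Commute w y) :
    Commute w i := (h.heis.conj_or hw hq).resolve_right fun h1 => d.zD (by
  have := d.nor w hc (h.heis.QQ_le hw) i hi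
  rw [h1, mul_inv_cancel_right] at this
  exact (D.mul_mem_cancel_left hi).1 this)

theorem i_g {i g : G} (hi : i ∈ D) (hq : i ∈ QQ e) (hg : g ∈ D) : Commute g i :=
  (d.com g hg i hi).resolve_right fun h1 => d.yQ (by
    have := mul_mem (h.nor' (d.le hg) (inv_mem hq)) hq
    rwa [show g⁻¹ * i⁻¹ * g * i = (i * g)⁻¹ * (g * i) by group, h1, inv_mul_cancel_left] at this)

theorem g_w {g w : G} (hg : g ∈ D) (hw : w ∈ QQ e) (hc : Commute w y) :
    ∃ i ∈ D, i ∈ QQ e ∧ g * w = w * i * g := by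
  refine ⟨w⁻¹ * g * w * g⁻¹, D.mul_mem ?_ (D.inv_mem hg), ?_, by group⟩
  · simpa using d.nor w⁻¹ hc.inv_left (inv_mem (h.heis.QQ_le hw)) g hg
  · rw [mul_assoc, mul_assoc, ← mul_assoc g]
    exact mul_mem (inv_mem hw) (h.nor (d.le hg) hw)

theorem i_one {i k : G} (hi : i ∈ D) (hk : k * y * k⁻¹ = i * y) : i = 1 := by
  have := d.cj k (hk ▸ D.mul_mem hi d.yD)
  rwa [hk, mul_eq_right] at this

end Hy

omit [Finite G] in
theorem Acts.comm_iff (h : Ok e π T P) {y : G} {t : ℕ} (hy : Acts e y t) {n : ℕ} (hn : n < 512) :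
    Commute (Th.th e n) y ↔ ap t n = n := by
  rw [commute_iff_eq, eq_comm, hy.th h.heis, mul_left_inj]
  exact ⟨h.inj (ap_lt _ _) hn, fun h1 => by rw [h1]⟩

omit [Finite G] in
theorem Acts.card_W (h : Ok e π T P) {y : G} {t : ℕ} (hy : Acts e y t) :
    Nat.card ↥(QQ e ⊓ centralizer {y}) = ((Finset.range 512).filter fun n => ap t n = n).card :=
  h.heis.card_codes h.z1 _ _ fun g => by
    rw [mem_inf, h.heis.mem_QQ, mem_centralizer_singleton_iff]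
    exact ⟨fun ⟨⟨n, hn, h1⟩, h2⟩ => ⟨n, hn, (hy.comm_iff h hn).1 (h1 ▸ h2), h1⟩,
      fun ⟨n, hn, h1, h2⟩ => ⟨⟨n, hn, h2⟩, h2 ▸ (hy.comm_iff h hn).2 h1⟩⟩

omit [Finite G] in
theorem Ok.card_R (h : Ok e π T P) {bs : List ℕ} (hb : ∀ b ∈ bs, b < 512) :
    Nat.card ↥(Fx e bs ⊓ QQ e) =
      ((Finset.range 512).filter fun n => ∀ b ∈ bs, mulQ n b = mulQ b n).card :=
  h.heis.card_codes h.z1 _ _ fun g => by
    rw [mem_inf, h.heis.mem_QQ, mem_Fx]
    exact ⟨fun ⟨⟨_, h2⟩, n, hn, h1⟩ => ⟨n, hn, fun b hb' =>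
      (h.heis.th_comm h.z1 hn (hb b hb')).1 (h1 ▸ h2 b hb'), h1⟩,
      fun ⟨n, hn, h1, h2⟩ => ⟨⟨h2 ▸ h.heis.th_C n, fun b hb' =>
        h2 ▸ (h.heis.th_comm h.z1 hn (hb b hb')).2 (h1 b hb')⟩, n, hn, h2⟩⟩

theorem Ok.card_Fx (h : Ok e π T P) {ch : List (ℕ × ℕ × ℕ × List ℕ)} (hc : chkCh T ch [] = true)
    {bs : List ℕ} (hb : (ch.map fun a => a.1).reverse = bs) {n : ℕ}
    (hn : 92897280 < (ch.map fun a => a.2.2.1).prod * (n + 1)) : Nat.card (Fx e bs) ≤ n := by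
  have := h.chain ch [] hc
  rw [List.append_nil, hb, show Fx e [] = CC e from rfl, h.card_C] at this
  exact Nat.le_of_lt_succ (Nat.lt_of_mul_lt_mul_left (this.trans_lt hn))

theorem Ok.lt4 (h : Ok e π T P) {y : G} {t : ℕ} (hy : Acts e y t) {bs : List ℕ}
    (hF : Nat.card (Fx e bs) ≤ 512) (hb : ∀ b ∈ bs, b < 512 ∧ ap t b = b)
    (h16 : ((Finset.range 512).filter fun n => ap t n = n).card = 16)
    (hK : ∀ n < 512, ap t n = n → ∃ m < 512, mulQ m (ap t (invQ m)) = n)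
    (hR : ((Finset.range 512).filter fun n => ∀ b ∈ bs, mulQ n b = mulQ b n).card = 64) :
    LT (QQ e) (CC e) (e 8) y := fun D d => by
  have h1 : ∀ i ∈ D, i ∈ QQ e → i = 1 := fun i hi hq => by
    obtain ⟨n, hn, rfl⟩ := h.heis.mem_QQ.1 hq
    obtain ⟨m, hm, rfl⟩ := hK n hn ((hy.comm_iff h hn).1 (d.cy _ hi))
    exact d.i_one h hi (hy.conj_th h.heis hm)
  have h2 : D ≤ Fx e bs := fun g hg => mem_Fx.2 ⟨d.le hg, fun b hb' => by
    obtain ⟨i, a1, a2, a3⟩ := d.g_w h hg (th_mem_QQ b) ((hy.comm_iff h (hb b hb').1).2 (hb b hb').2)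
    rwa [h1 i a1 a2, mul_one] at a3⟩
  have h3 := card_mul_le (Q := QQ e) h2 le_rfl
  have h4 := card_le_list (E := D ⊓ QQ e) [1] fun g hg => by simpa using h1 g hg.1 hg.2
  rw [h.card_R fun b hb' => (hb b hb').1, hR] at h3
  rw [hy.card_W h, h16]
  have := h3.trans (Nat.mul_le_mul hF h4)
  simp only [List.length_singleton] at this
  omega

theorem Ok.lta (h : Ok e π T P) {y : G} {t : ℕ} (hy : Acts e y t) {bs W K : List ℕ}
    (hF : Nat.card (Fx e bs) ≤ 128) (hb : ∀ b ∈ bs, b ∈ W)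
    (h32 : ((Finset.range 512).filter fun n => ap t n = n).card = 32)
    (hR : ((Finset.range 512).filter fun n => ∀ b ∈ bs, mulQ n b = mulQ b n).card = 32)
    (hW : ∀ n < 512, ap t n = n → n ∈ W) (hW' : ∀ n ∈ W, n < 512 ∧ ap t n = n)
    (hK : ∀ n ∈ K, ∃ m < 512, mulQ m (ap t (invQ m)) = n)
    (hK' : ∀ m < 512, mulQ m (ap t (invQ m)) ∈ K)
    (hz : ∀ n ∈ W, n ∈ K ↔ mulQ n 256 ∉ K) (hm : ∀ n ∈ W, ∀ m ∈ W, mulQ n m ∈ W)
    (c1 : ∀ i ∈ W, i ∉ K → ∀ j ∈ W, j ∉ K → mulQ i j ∉ K → ∀ k ∈ W, k ∉ K → mulQ i k ∉ K →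
      mulQ j k ∉ K → mulQ (mulQ i j) k ∈ K)
    (c2 : ∀ i ∈ W, i ∉ K → ∀ j ∈ W, j ∉ K → mulQ i j ∉ K → ∀ w ∈ W, (mulQ w i ∈ K ↔ w ∈ K) →
      ¬ (mulQ (mulQ w j) i ∈ K ↔ mulQ w j ∈ K))
    (c3 : ∀ i ∈ W, i ∉ K → i ≠ 256 → ∃ v ∈ W, ∀ w ∈ W, (mulQ w i ∈ K ↔ w ∈ K) →
      ¬ (mulQ (mulQ w v) i ∈ K ↔ mulQ w v ∈ K)) (h1 : 257 ∈ W ∧ 257 ∉ K) :
    LT (QQ e) (CC e) (e 8) y := fun D d => by
  have cw : ∀ n ∈ W, Commute (th e n) y := fun n hn => (hy.comm_iff h (hW' n hn).1).2 (hW' n hn).2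
  have iI : ∀ i ∈ D, i ∈ QQ e → i ≠ 1 → ∃ n ∈ W, n ∉ K ∧ th e n = i := fun i hi hq i1 => by
    obtain ⟨n, hn, rfl⟩ := h.heis.mem_QQ.1 hq
    refine ⟨n, hW n hn ((hy.comm_iff h hn).1 (d.cy _ hi)), fun h2 => i1 ?_, rfl⟩
    obtain ⟨m, hm, rfl⟩ := hK n h2
    exact d.i_one h hi (hy.conj_th h.heis hm)
  have iK : ∀ n, th e n ∈ D → n ∈ K → th e n = 1 := fun n hn h2 => by
    obtain ⟨m, hm, rfl⟩ := hK n h2
    exact d.i_one h hn (hy.conj_th h.heis hm)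
  have pK : ∀ g ∈ D, ∀ a < 512, ∀ b < 512, g * th e a = th e b * g → a ∈ K → b ∈ K :=
    fun g hg a ha b hb h2 h3 => by
      obtain ⟨m, hm, rfl⟩ := hK a h3
      obtain ⟨k, hk, h4⟩ := h.heis.mem_QQ.1 (h.nor (d.le hg) (th_mem_QQ m))
      have h5 := hy.conj_th h.heis hk
      have h6 : th e k * y * (th e k)⁻¹ = g * (th e m * y * (th e m)⁻¹) * g⁻¹ := by
        rw [h4]
        calc _ = g * th e m * (g⁻¹ * y * g) * (th e m)⁻¹ * g⁻¹ := by group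
          _ = _ := by rw [mul_assoc g⁻¹, ← (d.cy g hg).eq]; group
      rw [h6, hy.conj_th h.heis hm, ← mul_assoc, h2, mul_assoc _ g, (d.cy g hg).eq, ← mul_assoc,
        mul_inv_cancel_right, mul_left_inj] at h5
      rw [h.inj hb (mulQ_lt hk (ap_lt _ _)) h5]
      exact hK' k hk
  have pK' : ∀ g ∈ D, ∀ a ∈ W, ∀ b ∈ W, g * th e a = th e b * g → (b ∈ K ↔ a ∈ K) :=
    fun g hg a ha b hb h2 => ⟨fun h3 => by
      by_contra h4
      refine (hz b hb).1 h3 (pK g hg _ (mulQ_lt (hW' a ha).1 (by norm_num)) _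
        (mulQ_lt (hW' b hb).1 (by norm_num)) ?_ (by_contra fun h5 => h4 ((hz a ha).2 h5)))
      rw [← h.heis.th_z, ← h.heis.th_z, ← mul_assoc, h2, mul_assoc, (mem_CC.1 (d.le hg)).eq,
        mul_assoc], pK g hg a (hW' a ha).1 b (hW' b hb).1 h2⟩
  have two : ∀ g ∈ D, ∀ w ∈ W, ∀ v ∈ W, ∀ i ∈ W, g * th e w = th e w * th e i * g →
      th e i ∈ D → Commute g (th e v) → (mulQ w i ∈ K ↔ w ∈ K) ∧
        (mulQ (mulQ w v) i ∈ K ↔ mulQ w v ∈ K) := fun g hg w hw v hv i hi h2 h3 h4 =>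
    ⟨pK' g hg w hw _ (hm w hw i hi) (by rw [h2, h.heis.th_mul]),
      pK' g hg _ (hm w hw v hv) _ (hm _ (hm w hw v hv) i hi) (by
        rw [← h.heis.th_mul (mulQ w v), ← h.heis.th_mul, ← mul_assoc, h2, mul_assoc _ g, h4.eq,
          mul_assoc (th e w) (th e v), (d.i_w h h3 (th_mem_QQ i) (th_mem_QQ v) (cw v hv)).eq]
        group)⟩
  have fin : ∀ D0 ≤ D, (∀ g ∈ D0, ∀ w ∈ W, Commute g (th e w)) →
      Nat.card D0 ≤ 4 * Nat.card ↥(D ⊓ QQ e) := fun D0 h2 h3 => by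
    have h4 := card_mul_le (Q := QQ e) (F := Fx e bs) (D := D0)
      (fun g hg => mem_Fx.2 ⟨d.le (h2 hg), fun b hb' => h3 g hg b (hb b hb')⟩) le_rfl
    rw [h.card_R fun b hb' => (hW' b (hb b hb')).1, hR] at h4
    have := h4.trans (Nat.mul_le_mul hF (card_le_of_le (inf_le_inf_right (QQ e) h2)))
    omega
  rw [hy.card_W h, h32]
  by_cases hA : ∃ i ∈ D ⊓ QQ e, ∃ j ∈ D ⊓ QQ e, i ≠ 1 ∧ j ≠ 1 ∧ i ≠ j
  · obtain ⟨_, hi, _, hj, i1, j1, ij⟩ := hA
    obtain ⟨i, iW, iK', rfl⟩ := iI _ hi.1 hi.2 i1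
    obtain ⟨j, jW, jK', rfl⟩ := iI _ hj.1 hj.2 j1
    have nK : ∀ a b, th e a ∈ D → th e b ∈ D → th e a ≠ th e b → mulQ a b ∉ K :=
      fun a b ha hb hab h2 => hab (by
        have := iK _ (h.heis.th_mul a b ▸ D.mul_mem ha hb) h2
        rw [← h.heis.th_mul, ← d.i_sq h hb (th_mem_QQ b)] at this
        exact mul_right_cancel this)
    have h2 := card_le_list (E := D ⊓ QQ e) [1, th e i, th e j, th e i * th e j] fun g hg => by
      by_contra h3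
      simp only [List.mem_cons, List.not_mem_nil, or_false, not_or] at h3
      obtain ⟨k, kW, kK, rfl⟩ := iI _ hg.1 hg.2 h3.1
      refine nK _ k (h.heis.th_mul i j ▸ D.mul_mem hi.1 hj.1) hg.1
        (h.heis.th_mul i j ▸ Ne.symm h3.2.2.2) (c1 i iW iK' j jW jK' (nK i j hi.1 hj.1 ij) k kW kK
          (nK i k hi.1 hg.1 (Ne.symm h3.2.1)) (nK j k hj.1 hg.1 (Ne.symm h3.2.2.1)))
    have h3 := fin D le_rfl fun g hg w hw => by
      obtain ⟨k, a1, a2, a3⟩ := d.g_w h hg (th_mem_QQ w) (cw w hw)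
      by_cases k1 : k = 1
      · rwa [k1, mul_one] at a3
      obtain ⟨k, kW, kK, rfl⟩ := iI _ a1 a2 k1
      obtain ⟨l, lW, lK, l1, l2⟩ : ∃ l ∈ W, l ∉ K ∧ th e l ∈ D ∧ th e k ≠ th e l := by
        by_cases h4 : th e k = th e i
        exacts [⟨j, jW, jK', hj.1, h4 ▸ ij⟩, ⟨i, iW, iK', hi.1, h4⟩]
      have := two g hg w hw l lW k kW a3 a1 (d.i_g h l1 (th_mem_QQ l) hg)
      exact absurd this.2 (c2 k kW kK l lW lK (nK k l a1 l1 l2) w hw this.1)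
    simp only [List.length_cons, List.length_nil] at h2
    omega
  · obtain ⟨i, iW, iK', i2, h2⟩ : ∃ i ∈ W, i ∉ K ∧ i ≠ 256 ∧ ∀ g ∈ D ⊓ QQ e, g ∈ [1, th e i] := by
      by_cases h2 : ∃ i ∈ D ⊓ QQ e, i ≠ 1
      · obtain ⟨_, hi, i1⟩ := h2
        obtain ⟨i, iW, iK', rfl⟩ := iI _ hi.1 hi.2 i1
        refine ⟨i, iW, iK', fun h3 => d.zD (by simpa [h3, th_256] using hi.1), fun g hg => ?_⟩
        by_contra h3
        simp only [List.mem_cons, List.not_mem_nil, or_false, not_or] at h3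
        exact hA ⟨g, hg, _, hi, h3.1, i1, h3.2⟩
      · exact ⟨257, h1.1, h1.2, by norm_num, fun g hg => by
          simp [by_contra fun h3 => h2 ⟨g, hg, h3⟩]⟩
    obtain ⟨v, vW, hv⟩ := c3 i iW iK' i2
    have h3 := card_le_list _ h2
    have h4 := card_le_two_mul (Y := D) (v := th e v) (c := th e i) fun g hg => by
      obtain ⟨k, a1, a2, a3⟩ := d.g_w h hg (th_mem_QQ v) (cw v vW)
      rcases List.mem_pair.1 (h2 k ⟨a1, a2⟩) with rfl | rfl
      exacts [Or.inl (by simpa using a3), Or.inr a3]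
    have h5 := fin (D ⊓ centralizer {th e v}) inf_le_left fun g hg w hw => by
      obtain ⟨k, a1, a2, a3⟩ := d.g_w h hg.1 (th_mem_QQ w) (cw w hw)
      rcases List.mem_pair.1 (h2 k ⟨a1, a2⟩) with rfl | rfl
      · rwa [mul_one] at a3
      · have := two g hg.1 w hw v vW i iW a3 a1 (mem_centralizer_singleton_iff.1 hg.2)
        exact absurd this.2 (hv w hw this.1)
    simp only [List.length_cons, List.length_nil] at h3
    omega

theorem Ok.lt2 (h : Ok e π T P) {y : G} (hy : y ∈ CC e) (y2 : y * y = 1) {f : ℕ → ℕ}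
    (hf : ∀ m < 512, f m < 512 ∧ y * th e m = th e (f m) * y)
    (h64 : 64 ≤ ((Finset.range 512).filter fun n => f n = n).card)
    (hK : ∀ i < 512, f i = i → mulQ i i = 0 → (∀ w < 512, f w = w → mulQ w i = mulQ i w) →
      i = 256 ∨ ∃ m < 512, mulQ m (f (invQ m)) = i) :
    LT (QQ e) (CC e) (e 8) y := fun D d => by
  have h0 : ∀ n < 512, Commute (th e n) y ↔ f n = n := fun n hn => by
    rw [commute_iff_eq, eq_comm, (hf n hn).2, mul_left_inj]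
    exact ⟨h.inj (hf n hn).1 hn, fun h1 => by rw [h1]⟩
  have h1 : ∀ i ∈ D ⊓ QQ e, i ∈ [1] := fun i ⟨hi, hq⟩ => by
    obtain ⟨n, hn, rfl⟩ := h.heis.mem_QQ.1 hq
    rcases hK n hn ((h0 n hn).1 (d.cy _ hi)) (h.inj (mulQ_lt hn hn) (by norm_num) (by
      rw [← h.heis.th_mul, d.i_sq h hi hq, th_zero])) fun w hw h2 =>
        (h.heis.th_comm h.z1 hw hn).1 (d.i_w h hi hq (th_mem_QQ w) ((h0 w hw).2 h2)) with
      rfl | ⟨m, hm, rfl⟩
    · exact absurd (th_256 (e := e) ▸ hi) d.zD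
    · refine List.mem_singleton.2 (d.i_one h hi (k := th e m) ?_)
      rw [← h.heis.th_inv hm, mul_assoc, (hf _ (invQ_lt hm)).2, ← mul_assoc, h.heis.th_mul]
  have h2 := card_le_list _ h1
  have h3 := h.card_syl d.le hy y2 fun g hg => (d.sq g hg).imp_left fun h4 => by rw [h4]; exact one_mem _
  rw [h.heis.card_codes h.z1 (QQ e ⊓ centralizer {y}) (fun n => f n = n) fun g => by
    rw [mem_inf, h.heis.mem_QQ, mem_centralizer_singleton_iff]
    exact ⟨fun ⟨⟨n, hn, h1⟩, h2⟩ => ⟨n, hn, (h0 n hn).1 (h1 ▸ h2), h1⟩,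
      fun ⟨n, hn, h1, h2⟩ => ⟨⟨n, hn, h2⟩, h2 ▸ (h0 n hn).2 h1⟩⟩]
  simp only [List.length_singleton] at h2
  omega

theorem LT.conj (h : Ok e π T P) {k y : G} (hk : k ∈ CC e)
    (h1 : LT (QQ fun c => k * e c * k⁻¹) (CC fun c => k * e c * k⁻¹) (k * e 8 * k⁻¹) y) :
    LT (QQ e) (CC e) (e 8) y := by
  rwa [h.QQ_conj hk, CC_congr (conj_z hk), conj_z hk] at h1

omit [Finite G] in
theorem Ok.hy (h' : Ok e' π' T P) (hQ : e' 8 ∉ QQ e) (hc : e' 8 ∈ CC e) (hz : e 8 ∉ QQ e')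
    (hb : ∀ k, k * e' 8 * k⁻¹ ∈ QQ e' → k * e' 8 * k⁻¹ = e' 8) :
    Hy (QQ e) (CC e) (e 8) (e' 8) (QQ e' ⊓ centralizer {e 8}) where
  le := inf_le_right
  yD := ⟨zQ, hc⟩
  zD := fun h1 => hz h1.1
  sq _ hg := h'.heis.sq_or hg.1
  com _ hg _ hk := h'.heis.comm_or hg.1 hk.1
  cy _ hg := mem_CC.1 (h'.heis.QQ_le hg.1)
  nor _ h1 h2 _ hg := ⟨h'.nor (mem_CC.2 h1) hg.1,
    (CC e).mul_mem ((CC e).mul_mem h2 hg.2) ((CC e).inv_mem h2)⟩
  cj k hk := hb k hk.1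
  yQ := hQ

/-- some conjugate of the central involution lies in the extraspecial group. -/
theorem Ok.caseA (h : Ok e π T P)
    (hLT : ∀ (e : ℕ → G) π, Ok e π T P → ∀ y ∈ CC e, y ∉ QQ e → y * y = 1 →
      LT (QQ e) (CC e) (e 8) y) {g : G} (h1 : g * e 8 * g⁻¹ ∈ CC e) (h2 : g * e 8 * g⁻¹ ≠ e 8) :
    ∃ k, k * e 8 * k⁻¹ ∈ QQ e ∧ k * e 8 * k⁻¹ ≠ e 8 := by
  by_contra! hb
  have h' := h.conj_ok g
  have a1 : g * e 8 * g⁻¹ ∉ QQ e := fun h3 => h2 (hb g h3)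
  have a2 : e 8 ∉ QQ fun c => g * e c * g⁻¹ := fun h3 => h2 (by
    have := hb g⁻¹ (by simpa using (mem_QQ_conj g _).1 h3)
    conv_lhs => rw [← this]
    group)
  have a3 : e 8 ∈ CC fun c => g * e c * g⁻¹ := mem_CC.2 (mem_CC.1 h1).symm
  have b1 := hLT e π h _ h1 a1 h'.heis.z2 _ (h'.hy a1 h1 a2 fun k hk => by
    have := hb (g⁻¹ * k * g) (by simpa [mul_assoc] using (mem_QQ_conj g _).1 hk)
    conv_rhs => rw [← this]
    group)
  have b2 := hLT _ _ h' _ a3 a2 h.heis.z2 _ (h.hy a2 a3 a1 hb)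
  exact lt_asymm b1 b2

theorem Ok.z_mem_conj (h : Ok e π T P) (h' : Ok e' π' T P) (hc : e' 8 ∈ QQ e) : e 8 ∈ QQ e' := by
  by_contra hz
  have h1 := card_le_two_mul (Y := QQ e) (v := e' 8) fun g hg => h.heis.conj_or hg hc
  have h2 := h'.card_syl (D := QQ e ⊓ centralizer {e' 8}) inf_le_right
    (mem_CC.2 (mem_CC.1 (h.heis.QQ_le hc)).symm) h.heis.z2 fun g hg =>
      (h.heis.sq_or hg.1).imp_left fun h3 => by rw [h3]; exact one_mem _
  have h3 := H6.xs_card_mul (h.heis.xs h.z1) (R := QQ e ⊓ centralizer {e' 8}) inf_le_left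
    ⟨zQ, mem_CC.2 (mem_CC.1 (h.heis.QQ_le hc)).symm⟩
  have h4 : Nat.card ↥(QQ e ⊓ centralizer {e' 8} ⊓ QQ e') ≤ _ := card_le_of_le
    (K := QQ e ⊓ centralizer ((QQ e ⊓ centralizer {e' 8} : Subgroup G) : Set G))
    fun i hi => ⟨hi.1.1, fun w hw => (h.heis.conj_or hw.1 hi.1.1).resolve_right fun h5 => hz (by
      have := h'.nor hw.2 hi.2
      rw [h5, mul_inv_cancel_right] at this
      exact ((QQ e').mul_mem_cancel_left hi.2).1 this)⟩
  rw [h.heis.card_QQ h.z1] at h1 h3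
  nlinarith

theorem Ok.card_B (h' : Ok e' π' T P) (hz : e 8 ∈ QQ e') :
    256 ≤ Nat.card ↥(QQ e' ⊓ CC e) := by
  have h1 := card_le_two_mul (Y := QQ e') (v := e 8) fun g hg => h'.heis.conj_or hg hz
  rw [h'.heis.card_QQ h'.z1] at h1
  change _ ≤ 2 * Nat.card ↥(QQ e' ⊓ CC e) at h1
  omega

omit [Finite G] in
theorem Ok.E_prop (h : Ok e π T P) (h' : Ok e' π' T P) {m : ℕ} (hm : m < 512) (hc : th e m = e' 8)
    (h1 : m ≠ 256) {n : ℕ} (hn : n < 512) (hE : th e n ∈ QQ e') :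
    mulQ n n = 0 ∧ mulQ n m = mulQ m n ∧ ∀ c, ap (T c) m = m →
      mulQ (ap (T c) n) n = mulQ n (ap (T c) n) := by
  have h2 : e' 8 ≠ e 8 := fun h2 => h1 (h.inj hm (by norm_num) (by rw [hc, h2, th_256]))
  have h3 : ∀ k < 512, th e k ∈ QQ e' → mulQ k n = mulQ n k := fun k hk h4 => by
    rw [← h.heis.th_comm h.z1 hk hn]
    by_contra h5
    exact h2 (mul_left_cancel (((h'.heis.comm_or h4 hE).resolve_left h5).symm.trans
      ((h.heis.comm_or (th_mem_QQ k) (th_mem_QQ n)).resolve_left h5)))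
  refine ⟨h.inj (mulQ_lt hn hn) (by norm_num) ?_, (h3 m hm (hc ▸ zQ)).symm, fun c h4 =>
    h3 _ (ap_lt _ _) ?_⟩
  · rw [← h.heis.th_mul, th_zero]
    by_contra h5
    exact h2 (((h'.heis.sq_or hE).resolve_left h5).symm.trans
      ((h.heis.sq_or (th_mem_QQ n)).resolve_left h5))
  · rw [eq_mul_inv_of_mul_eq (h.e_th c n).symm]
    exact h'.nor (mem_CC.2 (hc ▸ h.e_comm h4)) hE

theorem Ok.exE (h : Ok e π T P) (h' : Ok e' π' T P) {m : ℕ} (hc : th e m = e' 8) :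
    ∃ n < 512, th e n ∈ QQ e' ∧ n ∉ [0, 256, m, mulQ m 256] := by
  have hz := h.z_mem_conj h' (hc ▸ th_mem_QQ m)
  have h1 := h'.card_B hz
  have h2 := h.card_syl (D := QQ e' ⊓ CC e) inf_le_right (one_mem _) (mul_one _) fun g hg =>
    Or.inl (by
      rcases h'.heis.sq_or hg.1 with h3 | h3 <;> rw [h3]
      exacts [one_mem _, hc ▸ th_mem_QQ m])
  by_contra! h3
  have h4 := card_le_list (E := QQ e' ⊓ CC e ⊓ QQ e) ([0, 256, m, mulQ m 256].map (th e))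
    fun g hg => by
      obtain ⟨n, hn, rfl⟩ := h.heis.mem_QQ.1 hg.2
      exact List.mem_map_of_mem (h3 n hn hg.1.1)
  simp only [List.length_map, List.length_cons, List.length_nil] at h4
  omega

omit [Finite G] in
theorem Ok.inv_code (h : Ok e π T P) {w : G} (hw : w ∈ QQ e) (w2 : w * w = 1) (w1 : w ≠ 1)
    (wz : w ≠ e 8) : ∃ n < 512, th e n = w ∧ mulQ n n = 0 ∧ n ≠ 0 ∧ n ≠ 256 := by
  obtain ⟨n, hn, rfl⟩ := h.heis.mem_QQ.1 hw
  exact ⟨n, hn, rfl, h.inj (mulQ_lt hn hn) (by norm_num) (by rw [← h.heis.th_mul, w2, th_zero]),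
    fun h1 => w1 (h1 ▸ th_zero), fun h1 => wz (h1 ▸ th_256)⟩

end H28.Th
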