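import Mathlib
import Cfsg.Agent.H28.ThF1
import Cfsg.Agent.H28.ThD2

/-! Fusion in groups with a centraliser `2^(1+8).A₉`: the two modules. -/

set_option autoImplicit false
set_option maxRecDepth 100000
set_option synthInstance.maxSize 2000
set_option linter.unusedSectionVars false

namespace H28.Th

open H29 H7.Cay Equiv Subgroup

variable {G : Type*} [Group G] [Finite G] {e e' : ℕ → G} {π π' : G → Perm (Fin 9)} {T P : ℕ → ℕ}

/-- the tables of the second alphabets. -/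
noncomputable abbrev OkN (e : ℕ → G) (π : G → Perm (Fin 9)) : Prop :=
  Ok e π (nth idT TN) (nth idP PN)

/-- the tables of the second alphabets. -/
noncomputable abbrev OkS (e : ℕ → G) (π : G → Perm (Fin 9)) : Prop :=
  Ok e π (nth idT TS) (nth idP PS)

theorem lt_all (h2 : ∀ i : Fin 9, pk (P 24) 4 i = x2 i) (h4 : ∀ i : Fin 9, pk (P 25) 4 i = x4 i)
    (hA : ∀ c, c = 24 ∨ c = 25 → ∀ (e : ℕ → G) π, Ok e π T P → ∀ n < 512,
      th e n * e c * (th e n * e c) = 1 → LT (QQ e) (CC e) (e 8) (th e n * e c))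
    (e : ℕ → G) (π : G → Perm (Fin 9)) (h : Ok e π T P) (y : G) (hy : y ∈ CC e) (hQ : y ∉ QQ e)
    (y2 : y * y = 1) : LT (QQ e) (CC e) (e 8) y := by
  obtain ⟨k, hk, n, hn, h1⟩ := h.inv_class (h.pi_eq h2) (h.pi_eq h4) hy hQ y2
  obtain ⟨c, hc, rfl⟩ : ∃ c, (c = 24 ∨ c = 25) ∧ y = k * (th e n * e c) * k⁻¹ :=
    h1.elim (fun h1 => ⟨_, Or.inl rfl, h1⟩) fun h1 => ⟨_, Or.inr rfl, h1⟩
  refine LT.conj h hk ?_
  rw [← conj_mul, ← th_conj] at y2 ⊢
  exact hA c hc _ _ (h.conj_ok k) n hn y2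

theorem lt_norm {c : ℕ} (hc : ∀ j < 8, apW T [c, c] (2 ^ j) = apW T [] (2 ^ j))
    (hm : ∀ n < 512, mulQ n (ap (T c) n) % 256 = 0 → ∃ m < 256,
      n = mulQ m (ap (T c) (invQ m)) ∨ n = mulQ (mulQ m (ap (T c) (invQ m))) 256)
    (hA : ∀ (e : ℕ → G) π, Ok e π T P → ∀ y, Acts e y (T c) → LT (QQ e) (CC e) (e 8) y)
    (e : ℕ → G) (π : G → Perm (Fin 9)) (h : Ok e π T P) (n : ℕ) (hn : n < 512)
    (y2 : th e n * e c * (th e n * e c) = 1) : LT (QQ e) (CC e) (e 8) (th e n * e c) := by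
  obtain ⟨k, hk, h1⟩ := h.norm4 hn hc hm y2
  have h' := h.conj_ok k
  refine LT.conj h hk (hA _ _ h' _ ?_)
  rcases h1 with h1 | h1 <;> rw [h1]
  · exact h'.acts c
  · rw [← conj_mul]
    exact (h'.acts c).mul_z h'.heis

theorem aN_chk : ∀ n < 512, mulQ n (pk aN 9 n) % 256 = 0 →
    64 ≤ ((Finset.range 512).filter fun m => mulQ n (mulQ (pk aN 9 m) (invQ n)) = m).card ∧
    ∀ i < 512, mulQ n (mulQ (pk aN 9 i) (invQ n)) = i → mulQ i i = 0 →
      (∀ w ∈ [6, 100, 8, 106, 35, 65, 128, 226],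
        mulQ n (mulQ (pk aN 9 w) (invQ n)) = w → mulQ w i = mulQ i w) →
      i = 256 ∨ ∃ m ∈ [0, 2, 96], mulQ m (mulQ n (mulQ (pk aN 9 (invQ m)) (invQ n))) = i := by
  decide +kernel

theorem ltN (e : ℕ → G) (π : G → Perm (Fin 9)) (h : OkN e π) (y : G) (hy : y ∈ CC e)
    (hQ : y ∉ QQ e) (y2 : y * y = 1) : LT (QQ e) (CC e) (e 8) y := by
  refine lt_all (by decide +kernel) (by decide +kernel) ?_ e π h y hy hQ y2
  rintro _ (rfl | rfl)
  · intro e π h n hn y2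
    have h1 := aN_chk n hn (aN_eq n hn ▸ h.sq_code hn (by decide +kernel) y2)
    refine h.lt2 (mul_mem (h.heis.th_C n) (h.mem _)) y2
      (f := fun m => mulQ n (mulQ (pk aN 9 m) (invQ n))) (fun m hm =>
        ⟨mulQ_lt hn (mulQ_lt (pk_lt _ 9 _) (invQ_lt hn)), ?_⟩) h1.1 fun i hi a b c =>
        (h1.2 i hi a b fun w hw => c w (by revert w; decide)).imp_right
          fun ⟨m, hm, h2⟩ => ⟨m, by clear h2; revert m; decide, h2⟩
    rw [mul_assoc, h.e_th, aN_eq m hm, ← h.heis.th_mul, ← h.heis.th_mul, h.heis.th_inv hn]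
    group
  · exact lt_norm (by decide +kernel) (by decide +kernel) fun e π h y hy =>
      h.lt4 hy (bs := [18, 8, 4]) (h.card_Fx (ch := [(4, 5, 252, [13, 25, 17, 24]),
        (8, 3, 10, [26, 0]), (18, 5, 72, [27, 28])]) (by decide +kernel) rfl (by decide))
        (by decide +kernel) (by decide +kernel) (by decide +kernel) (by decide +kernel)

theorem ch1 (h : OkS e π) : Nat.card (Fx e [10, 6, 1]) ≤ 512 ∧
    Nat.card (Fx e [2, 10, 6, 1]) ≤ 32 := by
  have h1 : chkCh (nth idT TS) [(1, 8, 270, [9, 27]), (6, 4, 28, [27, 33]),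
    (10, 2, 24, [34, 35, 36])] [] = true := by decide +kernel
  have h2 := h.card_Fx h1 (bs := [10, 6, 1]) rfl (n := 512) (by decide)
  have h3 := h.chain [(2, 2, 16, [25, 37, 38, 39])] [10, 6, 1] (by decide +kernel)
  change 16 * 1 * Nat.card (Fx e [2, 10, 6, 1]) ≤ _ at h3
  exact ⟨h2, by omega⟩

theorem ltS (e : ℕ → G) (π : G → Perm (Fin 9)) (h : OkS e π) (y : G) (hy : y ∈ CC e)
    (hQ : y ∉ QQ e) (y2 : y * y = 1) : LT (QQ e) (CC e) (e 8) y := by
  refine lt_all (by decide +kernel) (by decide +kernel) ?_ e π h y hy hQ y2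
  rintro _ (rfl | rfl)
  · exact lt_norm (by decide +kernel) (by decide +kernel) fun e π h y hy =>
      h.lta hy (bs := [160, 64, 10, 1]) (W := [0, 1, 10, 11, 64, 65, 74, 75, 160, 161, 170, 171,
        224, 225, 234, 235, 256, 257, 266, 267, 320, 321, 330, 331, 416, 417, 426, 427, 480, 481,
        490, 491]) (K := [0, 1, 10, 11, 64, 65, 160, 171, 224, 234, 330, 331, 417, 426, 481, 491])
        (h.card_Fx (ch := [(1, 8, 270, [9, 27]), (10, 4, 28, [27, 33]), (64, 4, 48, [38, 40]),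
          (160, 1, 2, [1])]) (by decide +kernel) rfl (by decide))
        (by decide +kernel) (by decide +kernel) (by decide +kernel) (by decide +kernel)
        (by decide +kernel) (by decide +kernel) (by decide +kernel) (by decide +kernel)
        (by decide +kernel) (by decide +kernel) (by decide +kernel) (by decide +kernel)
        (by decide +kernel)
  · exact lt_norm (by decide +kernel) (by decide +kernel) fun e π h y hy =>
      h.lt4 hy (ch1 h).1 (by decide +kernel) (by decide +kernel) (by decide +kernel)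
        (by decide +kernel)

/-- all codes with a property lie in a mask. -/
noncomputable def cov (U : ℕ) (p : ℕ → Prop) [DecidablePred p] : Bool :=
  lit U fun V => allN 512 fun n => decide (p n → V.testBit n = true)

theorem cov_true {U : ℕ} {p : ℕ → Prop} [DecidablePred p] (h : cov U p = true) {n : ℕ}
    (hn : n < 512) (hp : p n) : U.testBit n = true :=
  of_decide_eq_true (allN_true.1 (show allN 512 (fun n => decide (p n → U.testBit n = true)) = true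
    from h) n hn) hp

theorem Ok.conj_code (h : Ok e π T P) {g : G} (h1 : g * e 8 * g⁻¹ ∈ QQ e)
    (h2 : g * e 8 * g⁻¹ ≠ e 8) {p : ℕ → Prop}
    (hp : ∀ n < 512, mulQ n n = 0 → n ≠ 0 → n ≠ 256 → ∃ m, p m ∧ ∃ k, k * th e m * k⁻¹ = th e n) :
    ∃ m, p m ∧ ∃ k, k * e 8 * k⁻¹ = th e m := by
  obtain ⟨n, hn, a, b, c, d⟩ := h.inv_code h1 (by rw [conj_mul, h.heis.z2]; simp)
    (fun h3 => h.z1 (conj_eq_one_iff.1 h3)) h2
  obtain ⟨m, hm, k, hk⟩ := hp n hn b c d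
  refine ⟨m, hm, k⁻¹ * g, ?_⟩
  calc _ = k⁻¹ * (g * e 8 * g⁻¹) * k := by group
    _ = _ := by rw [← a, ← hk]; group

theorem notN (h : OkN e π) {g : G} (h1 : g * e 8 * g⁻¹ ∈ CC e) (h2 : g * e 8 * g⁻¹ ≠ e 8) :
    False := by
  obtain ⟨g, h1, h2⟩ := h.caseA ltN h1 h2
  have a := fun b (hb : b < 512) => h.cj_clos (K := ⊤) (L := [0, 11, 24, 27])
    (fun _ _ => trivial) (Cj.bit hb) 4
  obtain ⟨m, hm, k, hk⟩ := h.conj_code h1 h2 (p := fun m => m = 1 ∨ m = 8) fun n hn b c d => by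
    have := cov_true (U := Nat.lor (clos (nth idT TN) [0, 11, 24, 27] 4 (bit 1))
      (clos (nth idT TN) [0, 11, 24, 27] 4 (bit 8))) (p := fun n => mulQ n n = 0 ∧ n ≠ 0 ∧ n ≠ 256)
      (by decide +kernel) hn ⟨b, c, d⟩
    rw [lor_eq, Nat.testBit_or, Bool.or_eq_true] at this
    rcases this with h3 | h3
    · obtain ⟨-, k, -, hk⟩ := a 1 (by norm_num) n h3
      exact ⟨1, Or.inl rfl, k, hk⟩
    · obtain ⟨-, k, -, hk⟩ := a 8 (by norm_num) n h3
      exact ⟨8, Or.inr rfl, k, hk⟩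
  obtain ⟨n, hn, h3, h4⟩ := h.exE (h.conj_ok k) hk.symm
  rcases hm with rfl | rfl
  · obtain ⟨b, c, d⟩ := h.E_prop (h.conj_ok k) (by norm_num) hk.symm (by norm_num) hn h3
    exact (by decide +kernel : ∀ n < 512, mulQ n n = 0 → mulQ n 1 = mulQ 1 n →
      n ∉ [0, 256, 1, mulQ 1 256] → ¬ ∀ c ∈ [29, 30],
        mulQ (ap (nth idT TN c) n) n = mulQ n (ap (nth idT TN c) n)) n hn b c h4
      fun c hc => d c ((by decide +kernel : ∀ c ∈ [29, 30], ap (nth idT TN c) 1 = 1) c hc)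
  · obtain ⟨b, c, d⟩ := h.E_prop (h.conj_ok k) (by norm_num) hk.symm (by norm_num) hn h3
    exact (by decide +kernel : ∀ n < 512, mulQ n n = 0 → mulQ n 8 = mulQ 8 n →
      n ∉ [0, 256, 8, mulQ 8 256] → ¬ ∀ c ∈ [30, 27],
        mulQ (ap (nth idT TN c) n) n = mulQ n (ap (nth idT TN c) n)) n hn b c h4
      fun c hc => d c ((by decide +kernel : ∀ c ∈ [30, 27], ap (nth idT TN c) 8 = 8) c hc)

/-- `y` lies in the extraspecial group that belongs to the conjugate `x` of the centre. -/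
def InQ (e : ℕ → G) (x y : G) : Prop := ∃ g, g * e 8 * g⁻¹ = x ∧ g⁻¹ * y * g ∈ QQ e

theorem Ok.orb270 (h : OkS e π) {K : Subgroup G} (h9 : e 9 ∈ K) (h27 : e 27 ∈ K) {n : ℕ}
    (hn : n < 512) (a : mulQ n n = 0) (b : n ≠ 0) (c : n ≠ 256) :
    ∃ k ∈ K, k * e 0 * k⁻¹ = th e n := by
  have := (h.cj_clos (K := K) (L := [9, 27]) (by simp [h9, h27]) (Cj.bit (b := 1) (by norm_num)) 8
    n (cov_true (p := fun n => mulQ n n = 0 ∧ n ≠ 0 ∧ n ≠ 256) (by decide +kernel) hn ⟨a, b, c⟩)).2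
  rwa [show th e 1 = e 0 from th_pow (i := 0) (by norm_num)] at this

/-- the elements that centralise `c` and act trivially on `v` modulo `c`. -/
def St (c v : G) (h : c * c = 1) : Subgroup G where
  carrier := {g | g * c = c * g ∧ (g * v = v * g ∨ g * v = v * c * g)}
  one_mem' := by simp
  mul_mem' := by
    rintro a b ⟨a1, a2⟩ ⟨b1, b2⟩
    refine ⟨by rw [mul_assoc, b1, ← mul_assoc, a1, mul_assoc], ?_⟩
    rw [mul_assoc]
    rcases b2 with b2 | b2 <;> rw [b2] <;> rcases a2 with a2 | a2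
    · exact Or.inl (by rw [← mul_assoc, a2, mul_assoc])
    · exact Or.inr (by rw [← mul_assoc, a2, mul_assoc])
    · exact Or.inr (by rw [← mul_assoc, ← mul_assoc, a2, mul_assoc v, a1]; group)
    · exact Or.inl (by
        rw [← mul_assoc, ← mul_assoc, a2, mul_assoc _ a, a1, ← mul_assoc, mul_assoc v, h]; group)
  inv_mem' := by
    rintro a ⟨a1, a2⟩
    have a3 : a⁻¹ * c = c * a⁻¹ := (Commute.inv_left a1 : Commute a⁻¹ c)
    refine ⟨a3, a2.imp (fun a2 => (Commute.inv_left a2 : Commute a⁻¹ v)) fun a2 => ?_⟩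
    calc a⁻¹ * v = a⁻¹ * (v * c * a) * (a⁻¹ * c) := by
          rw [mul_assoc a⁻¹, mul_assoc _ a, mul_inv_cancel_left, mul_assoc v, h, mul_one]
      _ = _ := by rw [← a2, a3]; group

theorem fusS (h : OkS e π) {g : G} (h1 : g * e 8 * g⁻¹ ∈ CC e) (h2 : g * e 8 * g⁻¹ ≠ e 8) :
    ∃ k, k * e 8 * k⁻¹ = e 0 ∧ e 8 ∈ QQ (fun c => k * e c * k⁻¹) ∧
      (∀ n < 512, n &&& 240 = 0 → th e n ∈ QQ fun c => k * e c * k⁻¹) ∧
      ev e [4, 25, 4] ∈ QQ fun c => k * e c * k⁻¹ := by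
  obtain ⟨g, h1, h2⟩ := h.caseA ltS h1 h2
  have t1 : th e 1 = e 0 := th_pow (i := 0) (by norm_num)
  obtain ⟨_, rfl, k, hk⟩ := h.conj_code h1 h2 (p := fun m => m = 1) fun n hn b c d => by
    obtain ⟨k, -, hk⟩ := h.orb270 (K := ⊤) trivial trivial hn b c d
    exact ⟨1, rfl, k, t1 ▸ hk⟩
  have h' := h.conj_ok k
  have hz := h.z_mem_conj h' (hk ▸ th_mem_QQ 1)
  have hc : th e 1 ∈ QQ fun c => k * e c * k⁻¹ := hk ▸ zQ
  have hE : ∀ n < 512, n &&& 240 = 0 → th e n ∈ QQ fun c => k * e c * k⁻¹ := by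
    obtain ⟨n, hn, h3, h4⟩ := h.exE h' hk.symm
    obtain ⟨b, c, d⟩ := h.E_prop h' (by norm_num) hk.symm (by norm_num) hn h3
    have h5 : n &&& 240 = 0 := (by decide +kernel : ∀ n < 512, mulQ n n = 0 → mulQ n 1 = mulQ 1 n →
      (∀ c ∈ [34, 38, 39], mulQ (ap (nth idT TS c) n) n = mulQ n (ap (nth idT TS c) n)) →
        n &&& 240 = 0) n hn b c
      fun c hc => d c ((by decide +kernel : ∀ c ∈ [34, 38, 39], ap (nth idT TS c) 1 = 1) c hc)
    have h6 : ∀ n < 512, n &&& 240 = 0 → n ∉ [0, 256, 1, mulQ 1 256] →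
        ∃ g ∈ CC fun c => k * e c * k⁻¹, g * th e 2 * g⁻¹ = th e n := fun n hn a b =>
      (h.cj_clos (L := [27, 33]) (fun c hc => mem_CC.2 (hk ▸ h.e_comm
        ((by decide +kernel : ∀ c ∈ [27, 33], ap (nth idT TS c) 1 = 1) c hc)))
        (Cj.bit (b := 2) (by norm_num)) 3 n (cov_true
          (p := fun n => n &&& 240 = 0 ∧ n ∉ [0, 256, 1, mulQ 1 256]) (by decide +kernel) hn
          ⟨a, b⟩)).2
    obtain ⟨g, hg, h7⟩ := h6 n hn h5 h4
    have h8 : th e 2 ∈ QQ fun c => k * e c * k⁻¹ := by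
      simpa [← h7, mul_assoc] using h'.nor' hg h3
    intro m hm a
    by_cases b : m ∈ [0, 256, 1, mulQ 1 256]
    · simp only [List.mem_cons, List.not_mem_nil, or_false] at b
      rcases b with rfl | rfl | rfl | rfl
      exacts [th_zero (e := e) ▸ one_mem _, th_256 (e := e) ▸ hz, hc,
        h.heis.th_z 1 ▸ mul_mem hc hz]
    · obtain ⟨g, hg, h9⟩ := h6 m hm a b
      exact h9 ▸ h'.nor hg h8
  refine ⟨k, hk.trans t1, hz, hE, ?_⟩
  have c2 : th e 1 * th e 1 = 1 := hk ▸ h'.heis.z2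
  let Y := CC e ⊓ (St _ (th e 6) c2 ⊓ (St _ (th e 10) c2 ⊓ St _ (th e 2) c2))
  have y1 : QQ (fun c => k * e c * k⁻¹) ⊓ CC e ≤ Y := fun g hg => by
    have : ∀ n < 512, n &&& 240 = 0 → g ∈ St _ (th e n) c2 := fun n hn a =>
      ⟨hk ▸ mem_CC.1 (h'.heis.QQ_le hg.1), hk ▸ h'.heis.conj_or hg.1 (hE n hn a)⟩
    exact ⟨hg.2, this 6 (by norm_num) rfl, this 10 (by norm_num) rfl, this 2 (by norm_num) rfl⟩
  have y2 : ev e [4, 25, 4] ∈ Y := by
    have : ∀ n, apW (nth idT TS) [4, 25, 4] n = n ∨ apW (nth idT TS) [4, 25, 4] n = mulQ n 1 →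
        ev e [4, 25, 4] ∈ St _ (th e n) c2 := fun n a =>
      ⟨h.ev_comm (by decide +kernel), by
        rw [h.ev_th, h.heis.th_mul]; exact a.imp (fun a => by rw [a]) fun a => by rw [a]⟩
    exact ⟨h.ev_C _, this 6 (by decide +kernel), this 10 (by decide +kernel),
      this 2 (by decide +kernel)⟩
  have y3 := card_le_two_mul (Y := Y) fun g hg => hg.2.1.2
  have y4 := card_le_two_mul (Y := Y ⊓ centralizer {th e 6}) fun g hg => hg.1.2.2.1.2
  have y5 := card_le_two_mul (Y := Y ⊓ centralizer {th e 6} ⊓ centralizer {th e 10})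
    fun g hg => hg.1.1.2.2.2.2
  have y6 := card_le_of_le (K := Fx e [2, 10, 6, 1]) (H := Y ⊓ centralizer {th e 6} ⊓
    centralizer {th e 10} ⊓ centralizer {th e 2}) fun g hg =>
    ⟨⟨⟨⟨hg.1.1.1.1, mem_centralizer_singleton_iff.2 hg.1.1.1.2.1.1⟩, hg.1.1.2⟩, hg.1.2⟩, hg.2⟩
  have y7 := (ch1 h).2
  have y8 := h'.card_B hz
  rw [← eq_of_le_of_card_ge y1 (by omega)] at y2
  exact y2.1

theorem no_z (h : OkS e π) {y v : G} (hy : y ∈ CC e) (hQ : y ∉ QQ e) (y2 : y * y = 1)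
    (hv : v ∈ QQ e) (v2 : v * v = 1) : y * v ≠ v * e 8 * y := fun h1 => by
  obtain ⟨k, hk, n, hn, h2⟩ := h.inv_class (h.pi_eq (by decide +kernel))
    (h.pi_eq (by decide +kernel)) hy hQ y2
  obtain ⟨c, hc, rfl⟩ : ∃ c ∈ [24, 25], y = k * (th e n * e c) * k⁻¹ :=
    h2.elim (fun h1 => ⟨_, by simp, h1⟩) fun h1 => ⟨_, by simp, h1⟩
  rw [conj_mul, conj_eq_one_iff] at y2
  obtain ⟨l, hl, h3⟩ := h.norm4 hn ((by decide +kernel : ∀ c ∈ [24, 25], ∀ j < 8,
    apW (nth idT TS) [c, c] (2 ^ j) = apW (nth idT TS) [] (2 ^ j)) c hc)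
    ((by decide +kernel : ∀ c ∈ [24, 25], ∀ n < 512, mulQ n (ap (nth idT TS c) n) % 256 = 0 →
      ∃ m < 256, n = mulQ m (ap (nth idT TS c) (invQ m)) ∨
        n = mulQ (mulQ m (ap (nth idT TS c) (invQ m))) 256) c hc) y2
  obtain ⟨x, hx, h4⟩ : ∃ x, Acts e x (nth idT TS c) ∧ th e n * e c = l * x * l⁻¹ :=
    h3.elim (fun a => ⟨_, h.acts c, a⟩) fun a => ⟨_, (h.acts c).mul_z h.heis, a⟩
  obtain ⟨m, hm, h5⟩ := h.heis.mem_QQ.1 (h.nor' (mul_mem hk hl) hv)
  obtain rfl : v = k * l * th e m * (k * l)⁻¹ := by rw [h5]; group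
  rw [conj_mul, conj_eq_one_iff, h.heis.th_mul] at v2
  rw [h4, show k * (l * x * l⁻¹) * k⁻¹ = k * l * x * (k * l)⁻¹ by group,
    ← conj_z (mul_mem hk hl), conj_mul, conj_mul, conj_mul, mul_left_inj, mul_right_inj,
    hx.th h.heis, mul_left_inj, h.heis.th_z] at h1
  exact (by decide +kernel : ∀ c ∈ [24, 25], ∀ m < 512, mulQ m m = 0 →
    ap (nth idT TS c) m ≠ mulQ m 256) c hc m hm
    (h.inj (mulQ_lt hm hm) (by norm_num) (v2.trans th_zero.symm))
    (h.inj (ap_lt _ _) (mulQ_lt hm (by norm_num)) h1)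

theorem not_wrong (h : OkS e π) (hs : Sg e (sg (wNets (nx false) wS))) {k : G}
    (hk : k * e 8 * k⁻¹ = e 0)
    (hE : ∀ n < 512, n &&& 240 = 0 → th e n ∈ QQ fun c => k * e c * k⁻¹) : False := by
  have h' := h.conj_ok k
  have t1 : th e 1 = e 0 := th_pow (i := 0) (by norm_num)
  have y2 := h.eqw ((hnx false).wNets wS) hs (u := [1, 31] ++ [1, 31]) (v := [])
    (by decide +kernel)
  rw [ev_append, ev_nil] at y2
  by_cases hQ : ev e [1, 31] ∈ QQ fun c => k * e c * k⁻¹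
  · have := h'.heis.conj_or hQ (hE 4 (by norm_num) rfl)
    rw [h.ev_th, hk, ← t1, h.heis.th_mul, mul_left_inj, mul_left_inj] at this
    exact (by decide +kernel : ¬ (apW (nth idT TS) [1, 31] 4 = 4 ∨
      apW (nth idT TS) [1, 31] 4 = mulQ 4 1)) (this.imp (h.inj (apW_lt _ _ (by norm_num))
        (by norm_num)) (h.inj (apW_lt _ _ (by norm_num)) (by decide)))
  · refine no_z h' (mem_CC.2 (by rw [hk, ← t1]; exact h.ev_comm (by decide +kernel))) hQ y2
      (hE 2 (by norm_num) rfl) (by rw [h.heis.th_mul]; exact th_zero) ?_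
    rw [h.ev_th, hk, ← t1, h.heis.th_mul,
      show apW (nth idT TS) [1, 31] 2 = mulQ 2 1 by decide +kernel]

end H28.Th
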