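import Mathlib
import Cfsg.Agent.H28.ThF2

/-! The centraliser of Thompson type: elements of order seven and three. -/

set_option autoImplicit false
set_option maxRecDepth 100000
set_option synthInstance.maxSize 2000
set_option linter.unusedSectionVars false

namespace H28.Th

open H29 H7.Cay Equiv Subgroup

variable {G : Type*} [Group G] [Finite G] {e : ℕ → G} {π : G → Perm (Fin 9)}

/-- the test for an equality in the centraliser. -/
noncomputable def ck (u v : List ℕ) : Bool := chkS (nth idT TS) (wNets (nx true) wS) u v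

/-- the centraliser with the right signs. -/
structure Rt (e : ℕ → G) (π : G → Perm (Fin 9)) : Prop where
  ok : OkS e π
  sg : Sg e (sg (wNets (nx true) wS))

/-- the relation between an involution and the element of order seven. -/
def Rl (s y : G) : Prop := y * (s⁻¹ * y * s) * (s⁻¹ * (s⁻¹ * (s⁻¹ * y * s) * s) * s) = 1

theorem Rl.conj {s y θ : G} (h : Rl s y) (hc : Commute θ s) : Rl s (θ * y * θ⁻¹) := by
  have : ∀ x, s⁻¹ * (θ * x * θ⁻¹) * s = θ * (s⁻¹ * x * s) * θ⁻¹ := fun x => by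
    calc _ = s⁻¹ * θ * x * (θ⁻¹ * s) := by group
      _ = _ := by rw [← hc.inv_right.eq, hc.inv_left.eq]; group
  rw [Rl, this, this, this, conj_mul, conj_mul, h]
  simp

theorem InQ.conj {x y : G} (h : InQ e x y) (k : G) : InQ e (k * x * k⁻¹) (k * y * k⁻¹) := by
  obtain ⟨g, rfl, h1⟩ := h
  exact ⟨k * g, by group, by simpa [mul_assoc] using h1⟩

theorem th1 : th e 1 = e 0 := th_pow (i := 0) (by norm_num)

theorem th2 : th e 2 = e 1 := th_pow (i := 1) (by norm_num)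

theorem th16 : th e 16 = e 4 := th_pow (i := 4) (by norm_num)

theorem three_mul_dvd {X : Type*} [Group X] {Z : Subgroup G} {t : G} (f : X →* G)
    (hf : Function.Injective f) (hX : ∀ x, f x ∈ Z) (ht : t ∈ Z) (hc : ∀ x, Commute (f x) t)
    (o : orderOf t = 3) (hn : ∀ x, f x ≠ t) : Nat.card X * 3 ∣ Nat.card Z := by
  have h1 := card_dvd_of_injective (MonoidHom.noncommCoprod (f.codRestrict Z hX)
    (inclusion ((zpowers_le_of_mem ht))) fun x y => Subtype.ext (by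
      obtain ⟨_, i, rfl⟩ := y
      exact ((hc x).zpow_right i).eq)) ((injective_iff_map_eq_one _).2 fun ⟨x, y, hy⟩ h2 => by
    have h3 : f x * y = 1 := congrArg Subtype.val h2
    classical
    obtain ⟨i, hi, rfl⟩ := Finset.mem_image.1 (mem_zpowers_iff_mem_range_orderOf.1 hy)
    rw [o, Finset.mem_range] at hi
    interval_cases i
    · simp only [pow_zero, mul_one] at h3
      exact Prod.ext (hf (h3.trans f.map_one.symm)) (Subtype.ext (pow_zero t))
    · exact absurd (by rw [map_inv, inv_eq_of_mul_eq_one_right h3, pow_one]) (hn x⁻¹)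
    · refine absurd (mul_right_cancel (h3.trans ?_)) (hn x)
      rw [← pow_succ']
      exact (o ▸ pow_orderOf_eq_one t).symm)
  rwa [Nat.card_prod, Nat.card_zpowers, o] at h1

namespace Rt

variable (h : Rt e π)
include h

theorem eq (u v : List ℕ) (hc : ck u v = true) : ev e u = ev e v :=
  h.ok.eqw ((hnx true).wNets wS) h.sg hc

theorem sS : (e 27)⁻¹ = e 28 := inv_eq_of_mul_eq_one_right (by
  simpa using h.eq [27, 28] [] (by decide +kernel))

theorem tT : (e 29)⁻¹ = e 30 := inv_eq_of_mul_eq_one_right (by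
  simpa using h.eq [29, 30] [] (by decide +kernel))

theorem uU : (e 31)⁻¹ = e 32 := inv_eq_of_mul_eq_one_right (by
  simpa using h.eq [31, 32] [] (by decide +kernel))

theorem d2 : e 26 * e 26 = 1 := by simpa using h.eq [26, 26] [] (by decide +kernel)

theorem e2 : e 25 * e 25 = 1 := by simpa using h.eq [25, 25] [] (by decide +kernel)

theorem s7' : e 27 ^ 7 = 1 := by
  simpa [pow_succ, mul_assoc] using h.eq [27, 27, 27, 27, 27, 27, 27] [] (by decide +kernel)

theorem t3' : e 29 * (e 29 * e 29) = 1 := by simpa using h.eq [29, 29, 29] [] (by decide +kernel)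

theorem ps : π (e 27) = s7 := h.ok.pi_eq (by decide +kernel)

theorem pt : π (e 29) = t3 := h.ok.pi_eq (by decide +kernel)

theorem ct (w : List ℕ) (hc : ck (w ++ [29]) (29 :: w) = true) : Commute (ev e w) (e 29) := by
  simpa [commute_iff_eq] using h.eq _ _ hc

theorem cs (w : List ℕ) (hc : ck (w ++ [27]) (27 :: w) = true) : Commute (ev e w) (e 27) := by
  simpa [commute_iff_eq] using h.eq _ _ hc

theorem any {x y g : G} (h1 : InQ e x y) (hg : g * e 8 * g⁻¹ = x) : g⁻¹ * y * g ∈ QQ e := by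
  obtain ⟨k, rfl, h2⟩ := h1
  have := h.ok.nor' (g := k⁻¹ * g) (mem_CC.2 (by
    rw [commute_iff_eq]
    calc _ = k⁻¹ * (g * e 8 * g⁻¹) * g := by group
      _ = _ := by rw [hg]; group)) h2
  simpa [mul_assoc] using this

theorem cen_s {g : G} (hg : g ∈ CC e) (hs : Commute g (e 27)) :
    ∃ n ∈ [0, 1, 16, 17, 256, 257, 272, 273], ∃ i < 7, g = th e n * e 27 ^ i := by
  obtain ⟨i, hi, h1⟩ := cent7 (h.ok.sgn g hg) (by
    rw [← h.ps, ← h.ok.mul _ hg _ (h.ok.mem _), hs.eq, h.ok.mul _ (h.ok.mem _) _ hg])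
  obtain ⟨n, hn, rfl⟩ := h.ok.of_eq hg (pow_mem (h.ok.mem 27) i)
    (by rw [h1, h.ok.pow (h.ok.mem _), h.ps])
  refine ⟨n, (by decide +kernel : ∀ n < 512, ap (nth idT TS 27) n = n →
    n ∈ [0, 1, 16, 17, 256, 257, 272, 273]) n hn (((h.ok.acts 27).comm_iff h.ok hn).1 ?_),
    i, hi, rfl⟩
  simpa using hs.mul_left ((Commute.refl _).pow_left i).inv_left

theorem cen_s2 {g : G} (hg : g ∈ CC e) (hs : Commute g (e 27)) (g2 : g * g = 1) :
    ∃ n ∈ [0, 1, 16, 256, 257, 272], g = th e n := by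
  obtain ⟨n, hn, i, hi, rfl⟩ := h.cen_s hg hs
  have h1 := congrArg π g2
  rw [h.ok.mul _ hg _ hg, h.ok.mul _ (h.ok.heis.th_C n) _ (pow_mem (h.ok.mem 27) i),
    h.ok.pQ (th_mem_QQ n), h.ok.pow (h.ok.mem _), h.ps, h.ok.one, one_mul] at h1
  obtain rfl := (by decide : ∀ i < 7, s7 ^ i * s7 ^ i = 1 → i = 0) i hi h1
  rw [pow_zero, mul_one] at g2 ⊢
  rw [h.ok.heis.th_mul, ← th_zero (e := e)] at g2
  have h2 : ∀ n ∈ [0, 1, 16, 17, 256, 257, 272, 273], mulQ n n < 512 ∧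
    (mulQ n n = 0 → n ∈ [0, 1, 16, 256, 257, 272]) := by decide +kernel
  exact ⟨n, (h2 n hn).2 (h.ok.inj (h2 n hn).1 (by norm_num) g2), rfl⟩

theorem cen_st {g : G} (hg : g ∈ CC e) (hs : Commute g (e 27)) (ht : Commute g (e 29)) :
    ∃ n ∈ [0, 1, 16, 17, 256, 257, 272, 273], g = th e n := by
  obtain ⟨n, hn, i, hi, rfl⟩ := h.cen_s hg hs
  have h1 := congrArg π ht.eq
  rw [h.ok.mul _ hg _ (h.ok.mem _), h.ok.mul _ (h.ok.mem _) _ hg,
    h.ok.mul _ (h.ok.heis.th_C n) _ (pow_mem (h.ok.mem 27) i),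
    h.ok.pQ (th_mem_QQ n), h.ok.pow (h.ok.mem _), h.ps, h.pt, one_mul] at h1
  obtain rfl := (by decide : ∀ i < 7, s7 ^ i * t3 = t3 * s7 ^ i → i = 0) i hi h1
  exact ⟨n, hn, by simp⟩

theorem s1 : e 27 ≠ 1 := fun h1 => absurd (h.ps.symm.trans (h1 ▸ h.ok.one)) (by decide)

theorem adj {k : G} (hk : k * e 8 * k⁻¹ = e 0) :
    ∃ k : G, k * e 8 * k⁻¹ = e 0 ∧ Commute k (e 27) := by
  have := Fact.mk (by norm_num : Nat.Prime 7)
  have o := orderOf_eq_prime h.s7' h.s1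
  have h1 : k⁻¹ * e 27 * k ∈ CC e := (mem_CC_conj k _).1 (mem_CC.2 (by
    rw [hk, ← th1 (e := e)]; exact h.ok.e_comm (by decide +kernel)))
  obtain ⟨l, hl, h2⟩ := conj_into (p := 7) (zpowers_le_of_mem (h.ok.mem 27)) (by
    rw [Nat.card_zpowers, o, h.ok.card_C]
    exact (congrArg (7 ^ ·) ((Nat.factorization_eq_of_coprime_left (a := 7 ^ 1) (b := 13271040)
      (by norm_num) (by simp)).trans (Nat.factorization_pow_self this.out))).symm) h1 (n := 1)
    (by rw [pow_one, ← inv_inv k, inv_inv k⁻¹, conj_pow, h.s7']; simp)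
  classical
  obtain ⟨j, hj, h3⟩ := Finset.mem_image.1 (mem_zpowers_iff_mem_range_orderOf.1 h2)
  rw [o, Finset.mem_range] at hj
  obtain ⟨w, -, hw⟩ := (by decide +kernel : ∀ j < 7, j ≠ 0 →
    ∃ w ∈ [[], [29], [29, 29], [26], [29, 26], [29, 29, 26]],
      ck (w ++ List.replicate j 27) (27 :: w) = true) j hj fun h4 => h.s1 (by
    rw [h4, pow_zero, eq_comm, conj_eq_one_iff] at h3
    simpa [mul_assoc] using (conj_eq_one_iff (a := k⁻¹) (b := e 27)).1 (by simpa using h3))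
  have h4 := h.eq _ _ hw
  rw [ev_append, ev_replicate, h3, ev_cons] at h4
  refine ⟨k * (ev e w * l)⁻¹, ?_, ?_⟩
  · rw [← hk]
    conv_rhs => rw [← conj_z (inv_mem (mul_mem (h.ok.ev_C w) hl))]
    group
  · rw [commute_iff_eq]
    calc _ = k * l⁻¹ * (ev e w)⁻¹ * (e 27 * ev e w) * (ev e w)⁻¹ := by group
      _ = _ := by rw [← h4]; group

theorem ac : e 8 ≠ e 0 := fun h1 =>
  absurd (h.ok.inj (n := 256) (m := 1) (by norm_num) (by norm_num) (by rw [th_256, th1, h1]))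
    (by norm_num)

theorem cz : Commute (e 0) (e 8) := mem_CC.1 (h.ok.mem 0)

theorem ex_delta {k : G} (hk : k * e 8 * k⁻¹ = e 0) : ∃ δ : G, δ * δ = 1 ∧
    δ * e 8 = e 8 * e 0 * δ ∧ Commute δ (e 0) ∧ Commute δ (e 27) ∧ Commute δ (e 29) := by
  obtain ⟨k, hk, ks⟩ := h.adj hk
  have cC : ∀ x, Commute x (e 0) → k⁻¹ * x * k ∈ CC e := fun x hx =>
    (mem_CC_conj k _).1 (mem_CC.2 (hk ▸ hx))
  have cs : ∀ x, Commute x (e 27) → Commute (k⁻¹ * x * k) (e 27) := fun x hx =>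
    (ks.inv_left.mul_left hx).mul_left ks
  obtain ⟨n, hn, h1⟩ := h.cen_s2 (cC _ h.cz.symm) (cs _ (mem_CC.1 (h.ok.mem 27)).symm) (by
    rw [← inv_inv k, inv_inv k⁻¹, conj_mul, h.ok.heis.z2]; simp)
  obtain ⟨r, hr, a1, a2, a3, a4⟩ := (by decide +kernel : ∀ n ∈ [0, 1, 16, 256, 257, 272],
    n ≠ 0 → n ≠ 256 → ∃ r ∈ [1, 16], mulQ r r = 0 ∧ mulQ r n = mulQ (mulQ n 256) r ∧
      ap (nth idT TS 27) r = r ∧ ∀ m ∈ [0, 1, 16, 256, 257, 272], n < 512 ∧ m < 512 ∧
        (mulQ m n = mulQ (mulQ n 256) m → m = r ∨ m = mulQ r 256)) n hn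
    (fun h2 => h.ok.z1 (by
      rw [h2, th_zero] at h1
      exact (conj_eq_one_iff (a := k⁻¹)).1 (by simpa using h1)))
    fun h2 => h.ac (by rw [← hk]; nth_rewrite 2 [← th_256 (e := e)]; rw [← h2, ← h1]; group)
  have b1 : th e r * th e r = 1 := by rw [h.ok.heis.th_mul, a1, th_zero]
  have b2 : th e r * th e n = th e n * e 8 * th e r := by
    rw [h.ok.heis.th_z, h.ok.heis.th_mul, h.ok.heis.th_mul, a2]
  have b3 : Commute (th e r) (e 27) := (h.ok.e_comm a3).symm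
  have b4 : Commute (k⁻¹ * e 29 * k) (th e r) := by
    have c1 := cC (e 29) (th1 (e := e) ▸ h.ok.e_comm (by decide +kernel))
    have c2 : Commute (k⁻¹ * e 29 * k) (th e n) := by
      simpa [← h1] using (mem_CC.1 (h.ok.mem 29)).conj k⁻¹
    have c3 : e 27 * (k⁻¹ * e 29 * k) = k⁻¹ * e 29 * k * (e 27 * e 27) := by
      have := h.eq [27, 29] [29, 27, 27] (by decide +kernel)
      simp only [ev_cons, ev_nil, mul_one] at this
      rw [← mul_assoc, ← mul_assoc, ← ks.inv_left.eq, mul_assoc _ (e 27), this, mul_assoc _ k,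
        (ks.mul_right ks).eq]
      group
    have c4 : k⁻¹ * e 29 * k * (k⁻¹ * e 29 * k * (k⁻¹ * e 29 * k)) = 1 := by
      calc _ = k⁻¹ * (e 29 * (e 29 * e 29)) * k := by group
        _ = 1 := by rw [h.t3']; simp
    generalize k⁻¹ * e 29 * k = t at c1 c2 c3 c4
    obtain ⟨m, hm, h2⟩ := h.cen_s2 (g := t * th e r * t⁻¹)
      (mul_mem (mul_mem c1 (h.ok.heis.th_C r)) (inv_mem c1)) (by
        rw [commute_iff_eq]
        calc _ = t * th e r * (t⁻¹ * (e 27 * t)) * t⁻¹ := by group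
          _ = t * (e 27 * e 27) * th e r * t⁻¹ := by
            rw [c3, inv_mul_cancel_left, mul_assoc t, (b3.mul_right b3).eq]; group
          _ = _ := by rw [← c3]; group) (by rw [conj_mul, b1]; simp)
    have c5 := congrArg (fun x => t * x * t⁻¹) b2
    simp only [← conj_mul, conj_z c1, h2, c2.eq, mul_inv_cancel_right] at c5
    rw [h.ok.heis.th_z, h.ok.heis.th_mul, h.ok.heis.th_mul] at c5
    obtain ⟨d1, d2, d3⟩ := a4 m hm
    rcases d3 (h.ok.inj (mulQ_lt d2 d1) (mulQ_lt (mulQ_lt d1 (by norm_num)) d2) c5) with rfl | rfl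
    · exact mul_inv_eq_iff_eq_mul.1 h2
    · rw [← h.ok.heis.th_z] at h2
      have c6 : t * (t * (t * th e r * t⁻¹) * t⁻¹) * t⁻¹ = th e r * e 8 := by
        rw [h2, ← conj_mul (a := th e r), h2, conj_z c1, mul_assoc (th e r), h.ok.heis.z2, mul_one, h2]
      rw [show t * (t * (t * th e r * t⁻¹) * t⁻¹) * t⁻¹ =
        t * (t * t) * th e r * (t * (t * t))⁻¹ by group, c4] at c6
      exact absurd (by simpa using c6) h.ok.z1
  refine ⟨k * th e r * k⁻¹, by rw [conj_mul, b1]; simp, ?_, ?_,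
    (ks.mul_left b3).mul_left ks.inv_left, by simpa [mul_assoc] using b4.symm.conj k⟩
  · rw [← hk]
    calc _ = k * (th e r * (k⁻¹ * e 8 * k)) * k⁻¹ := by group
      _ = _ := by rw [h1, b2, ← h1]; group
  · exact hk ▸ (mem_CC.1 (h.ok.heis.th_C r)).conj k

theorem rl_code {σ y : G} {c : ℕ} (hc : σ⁻¹ = e c) (hy : y ∈ QQ e) (ht : Commute y (e 29))
    (hr : Rl σ y) : ∃ n < 512, y = th e n ∧ ap (nth idT TS 29) n = n ∧ mulQ (mulQ n
      (ap (nth idT TS c) n)) (ap (nth idT TS c) (ap (nth idT TS c) (ap (nth idT TS c) n))) = 0 := by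
  obtain ⟨n, hn, rfl⟩ := h.ok.heis.mem_QQ.1 hy
  have h1 : ∀ m, σ⁻¹ * th e m * σ = th e (ap (nth idT TS c) m) := fun m => by
    rw [hc, h.ok.e_th, ← hc, inv_mul_cancel_right]
  rw [Rl, h1, h1, h1, h.ok.heis.th_mul, h.ok.heis.th_mul, ← th_zero (e := e)] at hr
  exact ⟨n, hn, rfl, ((h.ok.acts 29).comm_iff h.ok hn).1 ht,
    h.ok.inj (mulQ_lt (mulQ_lt hn (ap_lt _ _)) (ap_lt _ _)) (by norm_num) hr⟩

theorem uniq {x y θ : G} (h1 : InQ e x y) (hθ : θ * e 8 * θ⁻¹ = x) (θs : Commute θ (e 27))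
    (θt : Commute θ (e 29)) (ht : Commute y (e 29)) (y1 : y ≠ 1) :
    (Rl (e 27) y → θ⁻¹ * y * θ = th e 224) ∧ (Rl (e 27)⁻¹ y → θ⁻¹ * y * θ = e 1) := by
  have a := h.any h1 hθ
  have b : Commute (θ⁻¹ * y * θ) (e 29) := (θt.inv_left.mul_left ht).mul_left θt
  have c : θ⁻¹ * y * θ ≠ th e 0 := fun h2 => y1 ((conj_eq_one_iff (a := θ⁻¹)).1
    (by simpa [th_zero] using h2))
  refine ⟨fun hr => ?_, fun hr => ?_⟩
  · obtain ⟨n, hn, h2, h3, h4⟩ := h.rl_code h.sS a b (by simpa using hr.conj θs.inv_left)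
    rw [h2] at c ⊢
    rw [((by decide +kernel : ∀ n < 512, ap (nth idT TS 29) n = n → mulQ (mulQ n
      (ap (nth idT TS 28) n)) (ap (nth idT TS 28) (ap (nth idT TS 28) (ap (nth idT TS 28) n))) = 0 →
      n = 0 ∨ n = 224) n hn h3 h4).resolve_left fun h5 => c (by rw [h5])]
  · obtain ⟨n, hn, h2, h3, h4⟩ := h.rl_code (inv_inv _) a b
      (by simpa using hr.conj θs.inv_left.inv_right)
    rw [h2] at c ⊢
    rw [((by decide +kernel : ∀ n < 512, ap (nth idT TS 29) n = n → mulQ (mulQ n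
      (ap (nth idT TS 27) n)) (ap (nth idT TS 27) (ap (nth idT TS 27) (ap (nth idT TS 27) n))) = 0 →
      n = 0 ∨ n = 2) n hn h3 h4).resolve_left fun h5 => c (by rw [h5]), th2]

theorem cenE {g : G} (hg : g ∈ Fx e [2, 10, 6, 1]) : g ∈ QQ e := by
  have h1 := h.ok.card_R (bs := [2, 10, 6, 1]) (by decide)
  rw [show ((Finset.range 512).filter fun n => ∀ b ∈ ([2, 10, 6, 1] : List ℕ),
    mulQ n b = mulQ b n).card = 32 by decide +kernel] at h1
  have h2 := (ch1 h.ok).2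
  exact ((eq_of_le_of_card_ge inf_le_left (h2.trans h1.ge)).ge hg).2

end Rt

end H28.Th
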