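import Mathlib
import Cfsg.Agent.S0213
import Cfsg.Agent.H8.ThK2

/-! `PGL₂(7)` from `C(a) = D₁₆`. -/

set_option autoImplicit false

namespace H8.ThK

open DihedralGroup

variable {H : Type*} [Group H] [Finite H] {K : Subgroup H} {φ : DihedralGroup 8 →* H}

theorem Cx.not_normal (h : Cx K φ) {y : H} (hy : Odd (orderOf y)) (hy1 : y ≠ 1)
    (hn : ∀ g ∈ K, g * y * g⁻¹ ∈ Subgroup.zpowers y) : False := by
  have c2 : φ (sr 0) * φ (sr 0) = 1 := by rw [← map_mul, ← φ.map_one]; congr 1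
  have c1 : φ (sr 0) ≠ 1 := fun e => by
    rw [← φ.map_one] at e; exact absurd (h.inj e) (by decide)
  have cK : φ (sr 0) ∈ K := (h.par _).2 rfl
  refine no_klein (a := φ (r 4)) (c := φ (sr 0)) Cx.a2 c2 (by rw [← map_mul, ← map_mul, d_a])
    (fun g hg => (h.cent_pow Cx.a2 h.a1 h.aK hg).1) (fun g hg => (h.cent_pow c2 c1 cK hg).1)
    (fun g hg => (h.cent_pow ?_ ?_ (K.mul_mem h.aK cK) hg).1) hy hy1 (hn _ h.aK) (hn _ cK)
  · rw [← map_mul, ← map_mul, ← φ.map_one]; congr 1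
  · intro e
    rw [← map_mul, ← φ.map_one] at e; exact absurd (h.inj e) (by decide)

/-- The Sylow count inside `K`. -/
theorem Cx.sylowK (h : Cx K φ) {p : ℕ} [Fact p.Prime] (hp : Odd p) {y : H} (yK : y ∈ K)
    (hy : orderOf y = p) (h2 : ¬ p ^ 2 ∣ Nat.card K) :
    ∃ n m, n ≡ 1 [MOD p] ∧ n ≠ 1 ∧ n * m = Nat.card K ∧
      ∀ b ∈ K, b * b = 1 → b ≠ 1 → b * y * b⁻¹ = y⁻¹ → 2 ∣ m := by
  obtain ⟨n, h3, h4⟩ := sylow_prime (p := p) (⟨y, yK⟩ : K)
    (by rw [← hy]; exact (Subgroup.orderOf_coe _).symm) h2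
  refine ⟨n, _, h3, ?_, h4, ?_⟩
  · rintro rfl
    rw [one_mul] at h4
    have ht := Subgroup.eq_top_of_card_eq _ h4
    refine h.not_normal (y := y) (hy ▸ hp) (fun e => ?_) (fun g hg => ?_)
    · rw [e, orderOf_one] at hy; exact (Fact.out : p.Prime).one_lt.ne hy
    · have : (⟨g, hg⟩ : K) ∈ Subgroup.normalizer (Subgroup.zpowers (⟨y, yK⟩ : K) : Set K) :=
        ht ▸ Subgroup.mem_top _
      obtain ⟨k, hk⟩ := (Subgroup.mem_normalizer_iff.1 this ⟨y, yK⟩).1 (Subgroup.mem_zpowers _)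
      exact ⟨k, by simpa using congrArg Subtype.val hk⟩
  · intro b bK b2 b1 hb
    have hm : (⟨b, bK⟩ : K) ∈ Subgroup.normalizer (Subgroup.zpowers (⟨y, yK⟩ : K) : Set K) := by
      apply Subgroup.mem_normalizer_fintype
      rintro _ ⟨k, rfl⟩
      refine ⟨-k, Subtype.ext ?_⟩
      simp only [Subgroup.coe_mul, SubgroupClass.coe_zpow, Subgroup.coe_inv]
      rw [← conj_zpow, hb, inv_zpow']
    have := Subgroup.orderOf_dvd_natCard _ hm
    rwa [H6.orderOf_eq_two_of (x := (⟨b, bK⟩ : K)) (Subtype.ext b2)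
      (fun e => b1 (congrArg Subtype.val e))] at this

theorem Cx.main (h : Cx K φ) (h3 : 3 ∣ Nat.card K) (hX : ∃ k, Nat.card (XX K φ) ∣ 2 ^ k * 9) :
    ∃ b ∈ K, b * b = 1 ∧ b * φ (sr 1) = φ (sr 1) * b ∧ (φ (r 4) * b) ^ 3 = 1 ∧
      ((b * φ (sr 0)) ^ 3 = 1 ∨ (b * (φ (r 4) * φ (sr 0))) ^ 3 = 1) := by
  have c2 : φ (sr 0) * φ (sr 0) = 1 := by rw [← map_mul, ← φ.map_one]; congr 1
  have cK : φ (sr 0) ∈ K := (h.par _).2 rfl
  have hac : φ (r 4) * φ (sr 0) = φ (sr 0) * φ (r 4) := by rw [← map_mul, ← map_mul, d_a]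
  have hK := h.card_K
  have hm : (II K φ).ncard ∣ 3 ^ 2 := by
    obtain ⟨k, hk⟩ := hX
    rw [h.card_X] at hk
    exact ((Nat.coprime_two_right.2 h.odd_m).pow_right k).dvd_of_dvd_mul_left
      ((Dvd.intro_left _ rfl).trans hk)
  obtain ⟨j, hj, hm⟩ := (Nat.dvd_prime_pow Nat.prime_three).1 hm
  have hm3 : (II K φ).ncard = 3 := by
    interval_cases j
    · rw [hK, hm] at h3; omega
    · exact hm
    · exfalso
      rw [hm] at hK
      haveI : Fact (Nat.Prime 13) := ⟨by norm_num⟩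
      obtain ⟨y, hy⟩ := exists_prime_orderOf_dvd_card' (G := K) 13 (by rw [hK]; norm_num)
      obtain ⟨n, m, h1, h2, h4, h5⟩ := h.sylowK (p := 13) (by decide) y.2
        ((Subgroup.orderOf_coe y).trans hy) (by rw [hK]; norm_num)
      rw [hK] at h4
      have h6 : n ∣ 13 * 72 := Dvd.intro _ h4
      have h7 : n ∣ 72 := Nat.Coprime.dvd_of_dvd_mul_left (by
        rw [Nat.coprime_comm, Nat.Prime.coprime_iff_not_dvd (by norm_num)]
        unfold Nat.ModEq at h1; omega) h6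
      have h8 := Nat.le_of_dvd (by norm_num) h7
      unfold Nat.ModEq at h1
      interval_cases n <;> omega
  rw [hm3] at hK
  obtain ⟨b, hb, hba⟩ : ∃ b ∈ II K φ, b ≠ φ (r 4) := by
    by_contra hc
    push Not at hc
    have : (II K φ).ncard ≤ 1 := (Set.ncard_le_one (Set.toFinite _)).2
      fun u hu v hv => (hc u hu).trans (hc v hv).symm
    omega
  obtain ⟨bK, bd⟩ := mem_XX.1 hb.1
  have hab : (φ (r 4) * b) ^ 3 = 1 := by
    have h1 := Subgroup.orderOf_dvd_natCard _ ((XX K φ).mul_mem h.aI.1 hb.1)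
    rw [h.card_X, hm3] at h1
    exact orderOf_dvd_iff_pow_eq_one.1
      ((Nat.coprime_two_right.2 (h.odd_a hb)).dvd_of_dvd_mul_left h1)
  have hab1 : φ (r 4) * b ≠ 1 := fun e =>
    hba (by rw [eq_inv_of_mul_eq_one_right e, H6.inv_eq_of_mul_self Cx.a2])
  have three : ∀ {t g : H}, t * t = 1 → t ≠ 1 → t ∈ K → g * t = t * g → g ^ 3 = 1 → g = 1 := by
    intro t g t2 t1 tK hg g3
    have h8 := (h.cent_pow t2 t1 tK hg).1
    calc g = (g ^ 3) ^ 3 * (g ^ 8)⁻¹ := by group
      _ = 1 := by rw [g3, h8]; group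
  refine ⟨b, bK, hb.2.1, bd, hab, ?_⟩
  set a := φ (r 4) with ha
  set c := φ (sr 0) with hc
  rcases Nat.even_or_odd (orderOf (b * c)) with he | ho
  · right
    obtain ⟨h1, h2, h4⟩ := H6.central_involution hb.2.1 c2 he
    have h5 : (b * c) ^ 4 = 1 := (h.cent_pow (H6.mul_self_of_orderOf_two h1)
      (H6.ne_one_of_orderOf_two h1) (K.pow_mem (K.mul_mem bK cK) _)
      (h2.mul_right h4).symm).2 (K.mul_mem bK cK)
    have h6 := coxB3 Cx.a2 hb.2.1 c2 hab h5 hac
    rw [← ha] at h6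
    have h7 : (a * b * c) ^ 3 = 1 := by
      by_contra h7
      have h8 : (a * b * c) ^ 2 = 1 := three h6 h7
        (K.pow_mem (K.mul_mem (K.mul_mem h.aK bK) cK) _) (by group) (by rw [← h6]; group)
      have aa : a * a = 1 := Cx.a2
      have ai : a⁻¹ = a := H6.inv_eq_of_mul_self aa
      have bi : b⁻¹ = b := H6.inv_eq_of_mul_self hb.2.1
      have ci : c⁻¹ = c := H6.inv_eq_of_mul_self c2
      have h9 : c * (a * b) * c = b * a := by
        have : a * b * (c * (a * b) * c) = 1 := by rw [← h8, pow_two]; group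
        rw [eq_inv_of_mul_eq_one_right this, mul_inv_rev, ai, bi]
      refine hab1 (three (t := a * c) ?_ ?_ (K.mul_mem h.aK cK) ?_ hab)
      · calc a * c * (a * c) = a * (c * a) * c := by group
          _ = a * a * (c * c) := by rw [← hac]; group
          _ = 1 := by rw [aa, c2, one_mul]
      · intro e
        rw [ha, hc, ← map_mul, ← φ.map_one] at e; exact absurd (h.inj e) (by decide)
      · calc a * b * (a * c) = a * (b * a) * c := by group
          _ = a * c * (a * b) * (c * c) := by rw [← h9]; group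
          _ = _ := by rw [c2, mul_one]
    calc (b * (a * c)) ^ 3 = (a⁻¹ * (a * b * c) * a⁻¹⁻¹) ^ 3 := by rw [hac]; group
      _ = 1 := by rw [conj_pow, h7]; group
  · left
    have h1 := Subgroup.orderOf_dvd_natCard _ (K.mul_mem bK cK)
    rw [hK] at h1
    have h2 : orderOf (b * c) ∣ 7 * 3 :=
      ((Nat.coprime_two_right.2 ho).pow_right 3).dvd_of_dvd_mul_left h1
    by_cases h7 : 7 ∣ orderOf (b * c)
    · exfalso
      haveI : Fact (Nat.Prime 7) := ⟨by norm_num⟩
      obtain ⟨n, m, h4, h5, h6, h8⟩ := h.sylowK (p := 7) (by decide)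
        (K.pow_mem (K.mul_mem bK cK) (orderOf (b * c) / 7))
        (orderOf_pow_orderOf_div (orderOf_pos _).ne' h7) (by rw [hK]; norm_num)
      have h9 := h8 b bK hb.2.1 hb.2.2 (by
        rw [← conj_pow, H6.conj_mul_left hb.2.1 c2, inv_pow])
      rw [hK] at h6
      have h10 : n ∣ 7 * 24 := Dvd.intro _ h6
      have h11 : n ∣ 24 := Nat.Coprime.dvd_of_dvd_mul_left (by
        rw [Nat.coprime_comm, Nat.Prime.coprime_iff_not_dvd (by norm_num)]
        unfold Nat.ModEq at h4; omega) h10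
      have h12 := Nat.le_of_dvd (by norm_num) h11
      unfold Nat.ModEq at h4
      interval_cases n <;> omega
    · exact orderOf_dvd_iff_pow_eq_one.1 (Nat.Coprime.dvd_of_dvd_mul_left
        (((Nat.Prime.coprime_iff_not_dvd (by norm_num)).2 h7).symm) h2)

end H8.ThK

namespace H28.Th

open DihedralGroup

theorem exists_b {H : Type*} [Group H] [Finite H] (K : Subgroup H) (hK : K.index = 2)
    {a c d x : H} (hc : c ∈ K) (hd : d ∉ K) (hx : x ∈ K) (c2 : c * c = 1) (d2 : d * d = 1)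
    (hcd : (c * d) ^ 4 = a) (a1 : a ≠ 1) (a2 : a * a = 1)
    (hC : ∀ g : H, g * a = a * g → g ∈ Subgroup.closure ({c, d} : Set H))
    (hx1 : x * a = c * x) (hx2 : x * c = a * c * x)
    (hX : ∃ k, Nat.card ↥(K ⊓ Subgroup.centralizer ({d} : Set H)) ∣ 2 ^ k * 9) :
    ∃ b ∈ K, b * b = 1 ∧ b * d = d * b ∧ (a * b) ^ 3 = 1 ∧
      ((b * c) ^ 3 = 1 ∨ (b * (a * c)) ^ 3 = 1) := by
  have h8 : (c * d) ^ 8 = 1 := by rw [← a2, ← hcd]; group
  have ho : orderOf (c * d) = 8 := by
    have := orderOf_eq_prime_pow (p := 2) (n := 2) (x := c * d) (by rw [← hcd] at a1; exact a1) h8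
    exact this
  have hi := H6.conj_mul_left c2 d2
  have c1 : c ≠ 1 := by
    rintro rfl
    apply a1; rw [← hcd, one_mul, show d ^ 4 = (d * d) * (d * d) by simp only [pow_succ, pow_zero, one_mul, mul_assoc], d2, one_mul]
  have d1 : d ≠ 1 := fun e => hd (e ▸ K.one_mem)
  set φ := H7.dihedralHom 8 (c * d) c h8 c2 hi with hφ
  have hr : ∀ k : ℤ, φ (r k) = (c * d) ^ k := H7.dihedralHom_r 8 _ _ h8 c2 hi
  have hs : ∀ k : ℤ, φ (sr k) = c * (c * d) ^ k := H7.dihedralHom_sr 8 _ _ h8 c2 hi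
  have ea : φ (r 4) = a := by rw [← hcd]; simpa using hr 4
  have ec : φ (sr 0) = c := by simpa using hs 0
  have ed : φ (sr 1) = d := by
    have := hs 1
    rw [zpow_one, ← mul_assoc, c2, one_mul] at this
    simpa using this
  have hp : ∀ n : ℕ, (c * d) ^ n ∈ K ↔ n % 2 = 0 := by
    intro n
    induction n with
    | zero => simp
    | succ n ih =>
      rw [pow_succ, Subgroup.mul_mem_iff_of_index_two hK, ih, K.mul_mem_cancel_left hc]
      simp only [hd, iff_false]; omega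
  have h : H8.ThK.Cx K φ := by
    refine ⟨hK, H7.dihedralHom_injective 8 _ _ h8 c2 hi ho (H6.left_not_mem_zpowers c2 d2 c1 d1),
      fun g hg => ?_, ?_, ?_⟩
    · rw [ea] at hg
      obtain ⟨k, rfl | rfl⟩ := (H6.mem_closure_pair_iff c2 d2).1 (hC g hg)
      · exact ⟨_, hr k⟩
      · exact ⟨_, hs k⟩
    · rintro (i | i)
      · have := hr (i.val : ℕ)
        rw [Int.cast_natCast, ZMod.natCast_zmod_val, zpow_natCast] at this
        rw [this, hp]; simp [H8.ThK.ev]
      · have := hs (i.val : ℕ)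
        rw [Int.cast_natCast, ZMod.natCast_zmod_val, zpow_natCast] at this
        rw [this, K.mul_mem_cancel_left hc, hp]; simp [H8.ThK.ev]
    · rw [ea, ec]; exact isConj_iff.2 ⟨x, by rw [hx1]; group⟩
  have hac : a * c = c * a := by rw [← ea, ← ec, ← map_mul, ← map_mul, H8.ThK.d_a]
  have h3 : 3 ∣ Nat.card K := by
    refine Dvd.dvd.trans ?_ (Subgroup.orderOf_dvd_natCard _ hx)
    by_contra h3
    have h4 : x ^ 3 * a = a * x ^ 3 := by
      calc x ^ 3 * a = x * x * (x * a) := by simp only [pow_succ, pow_zero, one_mul, mul_assoc]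
        _ = x * (x * c) * x := by rw [hx1]; group
        _ = (x * a) * c * x * x := by rw [hx2]; group
        _ = c * (x * c) * x * x := by rw [hx1]; group
        _ = (c * a) * c * (x * x * x) := by rw [hx2]; group
        _ = a * (c * c) * (x * x * x) := by rw [← hac]; group
        _ = a * x ^ 3 := by rw [c2]; simp only [pow_succ, pow_zero, one_mul, mul_one, mul_assoc]
    obtain ⟨m, hm⟩ := exists_pow_eq_self_of_coprime (x := x) (n := 3)
      ((Nat.Prime.coprime_iff_not_dvd Nat.prime_three).2 h3)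
    have h5 : Commute x a := by rw [← hm]; exact Commute.pow_left h4 m
    have h6 : a = c := mul_right_cancel (h5.eq.symm.trans hx1)
    rw [← ea, ← ec] at h6
    exact absurd (h.inj h6) (by decide)
  have := h.main h3 (by rw [H8.ThK.XX, ed]; exact hX)
  rwa [ea, ec, ed] at this

end H28.Th
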