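import Mathlib
import Cfsg.Agent.H28.ThB1
import Cfsg.Agent.H28.ThK0

/-! The centraliser of Thompson type: the missing generator. -/

set_option autoImplicit false
set_option maxRecDepth 100000
set_option synthInstance.maxSize 2000
set_option linter.unusedSectionVars false

namespace H28.Th

open H29 H7.Cay Equiv Subgroup

variable {G : Type*} [Group G] [Finite G] {e : ℕ → G} {π : G → Perm (Fin 9)}

/-- the centraliser with the right signs and its fusion. -/
structure Fu (e : ℕ → G) (π : G → Perm (Fin 9)) : Prop extends Rt e π where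
  qg : InQ e (e 0) (e 1)
  qc : InQ e (e 0) (ev e [4, 25, 4])

/-- the elements that centralise `t` and centralise or invert `s`. -/
def H0 (s t : G) : Subgroup G where
  carrier := {g | Commute g t ∧ (g * s = s * g ∨ g * s = s⁻¹ * g)}
  one_mem' := by simp
  mul_mem' := by
    rintro a b ⟨a1, a2⟩ ⟨b1, b2⟩
    refine ⟨a1.mul_left b1, ?_⟩
    have a3 : a * s = s⁻¹ * a → a * s⁻¹ = s * a := fun h => by
      calc _ = s * (s⁻¹ * a) * s⁻¹ := by group
        _ = _ := by rw [← h]; group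
    rw [mul_assoc]
    rcases b2 with b2 | b2 <;> rw [b2, ← mul_assoc] <;> rcases a2 with a2 | a2
    · exact Or.inl (by rw [a2, mul_assoc])
    · exact Or.inr (by rw [a2, mul_assoc])
    · exact Or.inr (by rw [(Commute.inv_right a2 : Commute a s⁻¹).eq, mul_assoc])
    · exact Or.inl (by rw [a3 a2, mul_assoc])
  inv_mem' := by
    rintro a ⟨a1, a2⟩
    refine ⟨a1.inv_left, a2.imp (fun a2 => (Commute.inv_left a2 : Commute a⁻¹ s)) fun a2 => ?_⟩
    calc _ = (s⁻¹ * a)⁻¹ := by group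
      _ = _ := by rw [← a2]; group

theorem conj_mul'' {a b c : G} : b⁻¹ * a * b * (b⁻¹ * c * b) = b⁻¹ * (a * c) * b := by group

theorem braid_of {a b : G} (a2 : a * a = 1) (b2 : b * b = 1) (ab : (a * b) ^ 3 = 1) :
    b * (a * b) = a * (b * a) := by
  rw [← inv_inj, eq_comm, inv_eq_iff_mul_eq_one, mul_inv_rev, mul_inv_rev,
    inv_eq_of_mul_eq_one_left a2, inv_eq_of_mul_eq_one_left b2, ← ab, pow_three]
  group

theorem swap_of_braid {a b c : G} (a2 : a * a = 1) (b2 : b * b = 1) (c2 : c * c = 1)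
    (ab : (a * b) ^ 3 = 1) (bc : (b * c) ^ 3 = 1) (ac : a * c = c * a) :
    b * (a * c) * b * a = c * (b * (a * c) * b) := by
  calc _ = b * c * (a * (b * a)) := by rw [ac]; group
    _ = b * (c * b) * (a * b) := by rw [← braid_of a2 b2 ab]; group
    _ = c * (b * (c * a) * b) := by rw [← braid_of b2 c2 bc]; group
    _ = _ := by rw [ac]

namespace Rt

variable (h : Rt e π)
include h

theorem rlw (w : List ℕ)
    (hc : ck (w ++ [28] ++ w ++ [27, 28, 28, 28] ++ w ++ [27, 27, 27]) [] = true) :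
    Rl (e 27) (ev e w) := by
  simpa [Rl, h.sS, mul_assoc] using h.eq _ _ hc

theorem rlg : Rl (e 27)⁻¹ (e 1) := by
  simpa [Rl, ← h.sS, mul_assoc] using h.eq [1, 27, 1, 28, 27, 27, 27, 1, 28, 28, 28] []
    (by decide +kernel)

theorem notQ (w : List ℕ) {i : Fin 9} (hc : ppW (nth idP PS) w i ≠ i) : ev e w ∉ QQ e :=
  fun h1 => hc (by rw [← h.ok.ev_pi, h.ok.pQ h1]; rfl)

theorem ec1 : ev e [4, 25, 4] ≠ 1 := fun h1 =>
  h.notQ [4, 25, 4] (i := 0) (by decide +kernel) (h1 ▸ one_mem _)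

theorem c2 : e 0 * e 0 = 1 := h.ok.heis.sq 0 (by norm_num)

theorem p2 : (e 4)⁻¹ = e 4 := inv_eq_of_mul_eq_one_left (h.ok.heis.sq 4 (by norm_num))

theorem pc : e 4 * e 0 = e 8 * e 0 * e 4 := by
  simpa [mul_assoc] using h.eq [4, 0] [8, 0, 4] (by decide +kernel)

theorem one_c (c : ℕ) (w : List ℕ) (hc : ck [c] w = true) : e c = ev e w := by
  simpa using h.eq _ _ hc

end Rt

namespace Fu

variable (h : Fu e π)
include h

theorem phi {f : G} (hf : f * e 8 * f⁻¹ = e 0) (fs : Commute f (e 27)) (ft : Commute f (e 29)) :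
    f⁻¹ * ev e [4, 25, 4] * f = th e 224 ∧ Commute f (e 1) := by
  refine ⟨(h.uniq h.qc hf fs ft (h.ct _ (by decide +kernel)) h.ec1).1 (h.rlw _ (by decide +kernel)),
    ?_⟩
  have := (h.uniq h.qg hf fs ft (by simpa using h.ct [1] (by decide +kernel)) fun h1 => absurd
    (h.ok.inj (n := 2) (m := 0) (by norm_num) (by norm_num) (by rw [th2, h1, th_zero]))
    (by norm_num)).2 h.rlg
  rw [commute_iff_eq]
  conv_lhs => rw [← this]
  group

theorem ex_x : ∃ x : G, x * e 8 = e 0 * x ∧ x * e 0 = e 8 * e 0 * x ∧ Commute x (e 27) ∧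
    Commute x (e 29) ∧ ∃ θ : G, Commute θ (e 29) ∧ θ * e 26 * θ⁻¹ = e 8 := by
  obtain ⟨k, hk, -⟩ := h.qc
  obtain ⟨δ, d1, d2, d3, d4, d5⟩ := h.ex_delta hk
  have p1 : e 4 * e 8 = e 8 * e 4 := mem_CC.1 (h.ok.mem 4)
  have p3 : Commute (e 4) (e 27) := by simpa using h.cs [4] (by decide +kernel)
  have p4 : Commute (e 4) (e 29) := by simpa using h.ct [4] (by decide +kernel)
  have x1 : e 4 * δ * e 8 = e 0 * (e 4 * δ) := by
    rw [mul_assoc, d2, ← mul_assoc, ← mul_assoc, p1, mul_assoc _ (e 4), h.pc, ← mul_assoc,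
      ← mul_assoc, h.ok.heis.z2, one_mul, mul_assoc]
  have x2 : e 4 * δ * e 0 = e 8 * e 0 * (e 4 * δ) := by
    rw [mul_assoc, d3.eq, ← mul_assoc, h.pc, mul_assoc]
  refine ⟨_, x1, x2, p3.mul_left d4, p4.mul_left d5, ?_⟩
  have f1 : e 4 * δ * e 8 * (e 4 * δ)⁻¹ = e 0 := by rw [x1, mul_inv_cancel_right]
  have f2 := (h.phi f1 (p3.mul_left d4) (p4.mul_left d5)).1
  have ft := p4.mul_left d5
  generalize e 4 * δ = f at f1 f2 ft
  have w1 : ev e [4, 26, 25] * e 26 = ev e [4, 25, 4] * ev e [4, 26, 25] := by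
    simpa [mul_assoc] using h.eq [4, 26, 25, 26] [4, 25, 4, 4, 26, 25] (by decide +kernel)
  have w2 := h.ok.ev_th [26, 31, 26, 32, 26] 224
  rw [show apW (nth idT TS) [26, 31, 26, 32, 26] 224 = 1 by decide +kernel, th1, ← f2, ← f1] at w2
  refine ⟨f⁻¹ * ev e [26, 31, 26, 32, 26] * f⁻¹ * ev e [4, 26, 25],
    ((ft.inv_left.mul_left (h.ct _ (by decide +kernel))).mul_left ft.inv_left).mul_left
      (h.ct _ (by decide +kernel)), ?_⟩
  rw [mul_assoc _ _ (e 26), w1]
  generalize ev e [26, 31, 26, 32, 26] = w at w2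
  calc _ = f⁻¹ * (w * (f⁻¹ * ev e [4, 25, 4] * f)) * w⁻¹ * f := by group
    _ = _ := by rw [w2]; group

theorem ex_b {x θ : G} (x1 : x * e 8 = e 0 * x) (x2 : x * e 0 = e 8 * e 0 * x)
    (xs : Commute x (e 27)) (xt : Commute x (e 29)) (θt : Commute θ (e 29))
    (θd : θ * e 26 * θ⁻¹ = e 8) : ∃ b : G, b * b = 1 ∧ Commute b (e 27) ∧ Commute b (e 29) ∧
      Commute b (e 26) ∧ (e 8 * b) ^ 3 = 1 ∧ ((b * e 0) ^ 3 = 1 ∨ (b * (e 8 * e 0)) ^ 3 = 1) := by
  have m : ∀ {g}, Commute g (e 27) → Commute g (e 29) → g ∈ H0 (e 27) (e 29) :=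
    fun a b => ⟨b, Or.inl a⟩
  have ds : e 26 * e 27 = (e 27)⁻¹ * e 26 := by
    simpa [h.sS] using h.eq [26, 27] [28, 26] (by decide +kernel)
  have dt : Commute (e 26) (e 29) := by simpa using h.ct [26] (by decide +kernel)
  have ss : e 27 ≠ (e 27)⁻¹ := fun h1 => by
    have := congrArg π h1
    rw [h.ok.inv (h.ok.mem _), h.ps] at this
    exact absurd this (by decide)
  have cs : Commute (e 0) (e 27) := by simpa using h.cs [0] (by decide +kernel)
  have ct : Commute (e 0) (e 29) := by simpa using h.ct [0] (by decide +kernel)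
  have sw : ∀ g, g * e 27 = (e 27)⁻¹ * g → Commute (g * e 26) (e 27) := fun g hg => by
    rw [commute_iff_eq, mul_assoc, ds, ← mul_assoc]
    calc _ = e 27 * ((e 27)⁻¹ * g) * (e 27)⁻¹ * e 26 := by group
      _ = _ := by rw [← hg]; group
  let K := (centralizer {e 27}).subgroupOf (H0 (e 27) (e 29))
  have mK : ∀ g, g ∈ K ↔ Commute g.1 (e 27) := fun g => mem_centralizer_singleton_iff
  obtain ⟨b, b1, b2, b3, b4, b5⟩ := exists_b K (index_eq_two_iff.2 ⟨⟨_, dt, Or.inr ds⟩, fun g => by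
      rw [mK, mK]
      rcases g.2.2 with h1 | h1
      · refine Or.inr ⟨h1, fun h2 => ss ?_⟩
        have := (Commute.inv_left h1 : Commute g.1⁻¹ _).mul_left h2
        rw [Subgroup.coe_mul, inv_mul_cancel_left] at this
        exact mul_right_cancel (this.eq.symm.trans ds)
      · exact Or.inl ⟨sw _ h1, fun h2 => ss (mul_right_cancel (h2.eq.symm.trans h1))⟩⟩)
    (a := ⟨e 8, m (mem_CC.1 (h.ok.mem _)).symm (mem_CC.1 (h.ok.mem _)).symm⟩) (c := ⟨e 0, m cs ct⟩)
    (d := ⟨_, dt, Or.inr ds⟩) (x := ⟨x, m xs xt⟩) ((mK _).2 cs)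
    (fun h1 => ss (mul_right_cancel (((mK _).1 h1).eq.symm.trans ds))) ((mK _).2 xs)
    (Subtype.ext h.c2) (Subtype.ext h.d2) (Subtype.ext (by
      simpa [pow_succ, mul_assoc] using h.eq [0, 26, 0, 26, 0, 26, 0, 26] [8] (by decide +kernel)))
    (fun h1 => h.ok.z1 (congrArg Subtype.val h1)) (Subtype.ext h.ok.heis.z2) (fun g hg => by
      rw [← mem_map_iff_mem (subtype_injective _), MonoidHom.map_closure, Set.image_pair]
      have key : ∀ g ∈ CC e, Commute g (e 27) → Commute g (e 29) → g ∈ closure {e 0, e 26} :=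
        fun g a b c => by
          obtain ⟨n, hn, rfl⟩ := h.cen_st a b c
          obtain ⟨w, hw, h1⟩ := (by decide +kernel : ∀ n ∈ [0, 1, 16, 17, 256, 257, 272, 273],
            ∃ w ∈ [[], [0], [26, 0, 26], [0, 26, 0, 26], [0, 26, 0, 26, 0, 26, 0, 26],
              [26, 0, 26, 0, 26, 0, 26], [0, 26, 0, 26, 0], [26, 0, 26, 0]],
              ck (qw n) w = true ∧ ∀ c ∈ w, c = 0 ∨ c = 26) n hn
          rw [← ev_qw, h.eq _ _ h1.1]
          exact ev_mem fun c hc => subset_closure (by rcases h1.2 c hc with rfl | rfl <;> simp)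
      have h1 : g.1 ∈ CC e := mem_CC.2 (congrArg Subtype.val hg)
      rcases g.2.2 with h2 | h2
      · exact key _ h1 h2 g.2.1
      · exact (Subgroup.mul_mem_cancel_right _ (subset_closure (by simp))).1
          (key _ (mul_mem h1 (h.ok.mem 26)) (sw _ h2) (g.2.1.mul_left dt)))
    (Subtype.ext x1) (Subtype.ext x2) ⟨11, by
      have h1 := three_mul_dvd (Z := CC e ⊓ centralizer {e 29}) (t := e 29)
        ((MulAut.conj θ).toMonoidHom.comp ((H0 (e 27) (e 29)).subtype.comp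
          (K ⊓ centralizer {⟨_, dt, Or.inr ds⟩}).subtype))
        ((MulAut.conj θ).injective.comp (Subtype.val_injective.comp Subtype.val_injective))
        (fun g => ⟨mem_CC.2 (θd ▸ Commute.conj (congrArg Subtype.val
          (mem_centralizer_singleton_iff.1 g.2.2)) θ), mem_centralizer_singleton_iff.2
            ((θt.mul_left g.1.2.1).mul_left θt.inv_left)⟩)
        ⟨h.ok.mem _, mem_centralizer_singleton_iff.2 rfl⟩
        (fun g => (θt.mul_left g.1.2.1).mul_left θt.inv_left)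
        (by
          have := Fact.mk Nat.prime_three
          exact orderOf_eq_prime (by rw [pow_three, h.t3']) fun h1 =>
            absurd (h.pt.symm.trans (h1 ▸ h.ok.one)) (by decide))
        fun g hg => by
          have h1 : g.1.1 = e 29 := by
            have : θ * g.1.1 * θ⁻¹ = θ * e 29 * θ⁻¹ := hg.trans (by rw [θt.eq]; simp)
            simpa using this
          have h2 := congrArg π (h1 ▸ ((mK _).1 g.2.1).eq)
          rw [h.ok.mul _ (h.ok.mem _) _ (h.ok.mem _), h.ok.mul _ (h.ok.mem _) _ (h.ok.mem _),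
            h.ps, h.pt] at h2
          exact absurd h2 (by decide)
      have h2 := h.ok.card_dvd (D := CC e ⊓ centralizer {e 29}) inf_le_left
        (K := centralizer {t3}) fun g hg => mem_centralizer_singleton_iff.2 (by
          rw [← h.pt, ← h.ok.mul _ hg.1 _ (h.ok.mem _), mem_centralizer_singleton_iff.1 hg.2,
            h.ok.mul _ (h.ok.mem _) _ hg.1])
      have h3 := card_dvd_of_le (inf_le_right (a := CC e ⊓ centralizer {e 29}) (b := QQ e))
      rw [h.ok.heis.card_QQ h.ok.z1] at h3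
      rw [card_cent_t3] at h2
      exact Nat.dvd_of_mul_dvd_mul_right (k := 3) (by norm_num)
        (h1.trans (h2.trans (Nat.mul_dvd_mul_right h3 108)))⟩
  exact ⟨b, congrArg Subtype.val b2, (mK _).1 b1, b.2.1, congrArg Subtype.val b3,
    congrArg Subtype.val b4, b5.imp (congrArg Subtype.val) (congrArg Subtype.val)⟩

theorem b_cent {b c y θ : G} (b2 : b * b = 1) (bs : Commute b (e 27)) (bt : Commute b (e 29))
    (ab : (e 8 * b) ^ 3 = 1) (bc : (b * c) ^ 3 = 1) {l : ℕ} (hl : l ∈ [1, 257]) (hc : c = th e l)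
    (θa : θ * e 8 * θ⁻¹ = e 8 * c) (θs : Commute θ (e 27)) (θt : Commute θ (e 29))
    {m : ℕ} (hm : m ∈ [1, 257]) (θm : θ⁻¹ * e 8 * θ = th e m) (hy : InQ e (e 8 * c) y)
    (yt : Commute y (e 29)) (y1 : y ≠ 1) (yr : Rl (e 27) y) : Commute b y := by
  obtain ⟨l1, l2, l3, l4⟩ := (by decide +kernel : ∀ l ∈ [1, 257], mulQ l l = 0 ∧
    ap (nth idT TS 27) l = l ∧ l < 512 ∧ l ≠ 256) l hl
  have c2 : c * c = 1 := by rw [hc, h.ok.heis.th_mul, l1, th_zero]
  have ac : e 8 * c = c * e 8 := hc ▸ h.ok.heis.th_eight l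
  have bi := inv_eq_of_mul_eq_one_left b2
  have f1 := swap_of_braid h.ok.heis.z2 b2 c2 ab bc ac
  have f2 := swap_of_braid c2 b2 h.ok.heis.z2 (by
    rw [← conj_eq_one_iff (a := b), ← conj_pow, ← mul_assoc, mul_inv_cancel_right, bc]) (by
    rw [← conj_eq_one_iff (a := b), ← conj_pow, mul_assoc, mul_assoc, bi, ← mul_assoc, b2, one_mul,
      ab]) ac.symm
  have f3 : b * (e 8 * c) * b * (b * (e 8 * c) * b) = 1 := by
    nth_rewrite 2 4 [← bi]
    rw [conj_mul, mul_assoc (e 8), ← mul_assoc c, ← ac, mul_assoc (e 8) c, c2, mul_one,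
      h.ok.heis.z2]
    simp
  have f4 : Commute (b * (e 8 * c) * b) (e 27) := (bs.mul_left
    ((mem_CC.1 (h.ok.mem _)).symm.mul_left (hc ▸ (h.ok.e_comm l2).symm))).mul_left bs
  have f5 : b * (b * (e 8 * c) * b) * b⁻¹ = e 8 * c := by
    rw [← mul_assoc, ← mul_assoc, b2]; group
  rw [← ac] at f2
  generalize b * (e 8 * c) * b = f at f1 f2 f3 f4 f5
  obtain ⟨n, hn, h1⟩ := h.cen_s2 (g := θ⁻¹ * f * θ) ((mem_CC_conj θ _).1 (mem_CC.2 (by
      rw [θa, commute_iff_eq, ← mul_assoc, f1, mul_assoc c, f2, ac, mul_assoc])))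
    ((θs.inv_left.mul_left f4).mul_left θs) (by rw [conj_mul'', f3]; simp)
  have h2 : InQ e (th e n) (th e 224) := by
    have a1 : InQ e (th e 16) (th e 224) := by
      have := h.qg.conj (e 26)
      rwa [← th1 (e := e), ← th2 (e := e), h.ok.e_th, h.ok.e_th, mul_inv_cancel_right, mul_inv_cancel_right,
        show ap (nth idT TS 26) 1 = 16 by decide +kernel,
        show ap (nth idT TS 26) 2 = 224 by decide +kernel] at this
    rcases (by decide +kernel : ∀ n ∈ [0, 1, 16, 256, 257, 272], ∀ m ∈ [1, 257],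
      mulQ n m = mulQ m n ∨ n = 16 ∨ n = 272) n hn m hm with h3 | rfl | rfl
    · have h4 := congrArg (th e) h3
      rw [← h.ok.heis.th_mul, ← h.ok.heis.th_mul, ← h1, ← θm, conj_mul'', conj_mul'', f1,
        mul_left_inj, mul_right_inj, mul_left_inj, hc, ← th_256 (e := e)] at h4
      exact absurd (h.ok.inj l3 (by norm_num) h4) l4
    · exact a1
    · have := a1.conj (e 0)
      rwa [h.ok.e_th, h.ok.e_th, mul_inv_cancel_right, mul_inv_cancel_right,
        show ap (nth idT TS 0) 16 = 272 by decide +kernel,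
        show ap (nth idT TS 0) 224 = 224 by decide +kernel] at this
  have h3 := (h.uniq hy θa θs θt yt y1).1 yr
  have h4 := (h2.conj θ).conj b
  rw [← h1, ← h3, show θ * (θ⁻¹ * f * θ) * θ⁻¹ = f by group,
    show θ * (θ⁻¹ * y * θ) * θ⁻¹ = y by group, f5] at h4
  have h5 := (h.uniq h4 θa θs θt ((bt.mul_left yt).mul_left bt.inv_left)
    (fun h5 => y1 (conj_eq_one_iff.1 h5))).1 (yr.conj bs)
  rw [← h3, mul_left_inj, mul_right_inj] at h5
  exact mul_inv_eq_iff_eq_mul.1 h5

theorem ex_b' : ∃ b : G, b * b = 1 ∧ Commute b (e 27) ∧ Commute b (e 29) ∧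
    Commute b (e 26) ∧ (e 8 * b) ^ 3 = 1 ∧ (b * e 0) ^ 3 = 1 ∧ Commute b (e 25) := by
  obtain ⟨x, x1, x2, xs, xt, θ, θt, θd⟩ := h.ex_x
  obtain ⟨b, b2, bs, bt, bd, ab, bc⟩ := h.ex_b x1 x2 xs xt θt θd
  have t257 : th e 257 = e 8 * e 0 := by
    rw [← th1 (e := e), ← th_256 (e := e), h.ok.heis.th_mul]; rfl
  have x3 : x * (e 8 * e 0) = e 8 * x := by
    rw [← mul_assoc, x1, mul_assoc, x2, ← mul_assoc, ← mul_assoc, h.cz.eq, mul_assoc (e 8), h.c2,
      mul_one]
  have x4 : x⁻¹ * e 8 * x = e 8 * e 0 := by rw [mul_assoc, ← x3]; simp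
  have aa : e 8 * (e 8 * e 0) = e 0 := by rw [← mul_assoc, h.ok.heis.z2, one_mul]
  rcases bc with bc | bc
  · refine ⟨b, b2, bs, bt, bd, ab, bc, h.b_cent b2 bs bt ab bc (l := 1) (by simp) th1.symm
      (θ := x⁻¹) (by simpa using x4) xs.inv_left xt.inv_left (m := 1) (by simp)
      (by rw [inv_inv, x1, th1]; simp) ?_ (by simpa using h.ct [25] (by decide +kernel))
      (fun h1 => h.notQ [25] (i := 0) (by decide +kernel) (by simp [h1]))
      (by simpa using h.rlw [25] (by decide +kernel))⟩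
    have := h.qc.conj (e 4)
    rw [h.pc, mul_inv_cancel_right, h.p2] at this
    convert this using 1
    simpa [mul_assoc] using h.eq [25] [4, 4, 25, 4, 4] (by decide +kernel)
  · have h1 := h.b_cent b2 bs bt ab bc (l := 257) (by simp) t257.symm (θ := x)
      (by rw [aa, x1]; simp) xs xt (m := 257) (by simp) (x4.trans t257.symm) (aa.symm ▸ h.qc)
      (h.ct _ (by decide +kernel)) h.ec1 (h.rlw _ (by decide +kernel))
    have h2 : Commute b (e 8) := by
      rw [show e 8 = (e 26 * ev e [4, 25, 4]) ^ 3 by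
        simpa [pow_succ, mul_assoc] using h.eq [8] [26, 4, 25, 4, 26, 4, 25, 4, 26, 4, 25, 4]
          (by decide +kernel)]
      exact (bd.mul_right h1).pow_right 3
    rw [h2.symm.mul_pow, pow_three, pow_three, h.ok.heis.z2, b2, mul_one, mul_one] at ab
    rw [← mul_assoc, h2.eq, ab, one_mul, pow_three, h.c2, mul_one] at bc
    exact absurd (h.ok.inj (n := 1) (m := 0) (by norm_num) (by norm_num)
      (by rw [th1, bc, th_zero])) (by norm_num)

end Fu

end H28.Th
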