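import Mathlib
import Cfsg.Agent.H29.Ext

set_option autoImplicit false
set_option maxRecDepth 100000
set_option Elab.async false
set_option linter.all false

namespace H28.ThG1

open H29

def ivl : List ℕ := []
def R0 : List (List ℕ) := [[0, 1, 0, 1, 0, 1],
 [1, 2, 1, 2, 1, 2],
 [1, 3, 1, 3],
 [2, 3, 2, 3, 2, 3, 2, 3, 0]]
def w0 : List ℕ := [1, 0, 2, 1, 3, 2, 3, 1, 0, 2, 1, 3, 2, 3, 1, 0, 2, 1, 3, 2, 3]
def R1 : List (List ℕ) := R0 ++ [w0]
theorem hii : ∀ c, ivOf ivl (ivOf ivl c) = c := ivOf_ivOf (by decide +kernel)
noncomputable def pr0 : List (ℕ × ℕ) := [(171, (nat_lit 0x70000020000070000020000070000010000070000020000070000020000090000070000b20001110000b100000700000100000700008a0001010000890000020000f10000070000020000120000390000410000690000820001010000810000070000020001220000720001210000070001320000e90001310000070000020000e10000010000110000070000100000010000070000180000b90000070000020001120000d10001110000070000c100000700009a0000390000990000070000020000b100000100001100000700001000000100000700001800007900000700000200005a0000a100005900000700006200009100006100000700000200003200000900003100000700004200008100004100000700001d00000700001800000100000700001000000100000700001800000100000700001000000100000700000000000100000700000800000100000700001800000100000700001000000100000700001800000100000700000800000100000700001000000100000700000000000100000700000800000700000200001a00001100001900000700002200000100002100000700001500000700000d000007000010000001000007000018000001000007000008000001000007000000000001000007000010000001000007000008000001000007000018000001000007000010000001000007000018))]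
theorem p0 : chkProg 2 (ivOf ivl) R0 pr0 [(0, w0)] = true := by decide +kernel
theorem der : Derives (ivOf ivl) R0 R1 := (Derives.refl _ _).prog hii p0

end H28.ThG1
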