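import Mathlib
import Cfsg.Agent.H28.ThB2
import Cfsg.Agent.H28.ThG1
import Cfsg.Agent.H28.ThG2
import Cfsg.Agent.H28.ThDa
import Cfsg.Agent.H28.ThDc
import Cfsg.Agent.H28.ThDac
import Cfsg.Agent.H28.ThDg
import Cfsg.Agent.H28.ThDag
import Cfsg.Agent.H28.ThDcg
import Cfsg.Agent.H28.ThDacg
import Cfsg.Agent.H29.Tau

/-! The centraliser of Thompson type: the relators that contain the missing generator. -/

set_option autoImplicit false
set_option maxRecDepth 100000
set_option synthInstance.maxSize 2000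
set_option linter.unusedSectionVars false

namespace H28.Th

open H29 H7.Cay Equiv Subgroup

variable {G : Type*} [Group G] [Finite G] {e : ℕ → G} {π : G → Perm (Fin 9)} {b : G}

/-- the centraliser with the missing generator. -/
structure Gb (e : ℕ → G) (π : G → Perm (Fin 9)) (b : G) : Prop extends Fu e π where
  b2 : b * b = 1
  bs : Commute b (e 27)
  bt : Commute b (e 29)
  bd : Commute b (e 26)
  ab : (e 8 * b) ^ 3 = 1
  bc : (b * e 0) ^ 3 = 1
  be : Commute b (e 25)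

/-- the involution that interchanges `a` and `c`. -/
def ff (e : ℕ → G) (b : G) : G := b * (e 8 * e 0) * b

/-- generators of a normal subgroup of the centraliser of `a` and `c`. -/
def gw : List (List ℕ) := [[8], [0], [1], [27, 1, 28], [27, 27, 1, 28, 28], [5, 6, 7],
  [27, 5, 6, 7, 28], [27, 27, 5, 6, 7, 28, 28], [4, 25, 4], [27, 4, 25, 4, 28],
  [27, 27, 4, 25, 4, 28, 28]]

/-- their permutation by the involution. -/
def gs : List ℕ := [1, 0, 2, 3, 4, 8, 9, 10, 5, 6, 7]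

/-- their conjugates by `u`. -/
def gu : List (List ℕ) := [[0], [1], [1, 2], [4], [3], [0, 5], [0, 5, 6, 7], [0, 7], [0, 1, 8],
  [0, 3, 8, 9, 10], [5, 10, 5]]

/-- the action of the involution on the elementary abelian group of order 32. -/
def pE (n : ℕ) : ℕ := (n &&& 14) ||| ((n &&& 1) <<< 8) ||| (n >>> 8)

/-- action on the elementary abelian group of order 32. -/
def AE (e : ℕ → G) (x : G) (F : ℕ → ℕ) : Prop :=
  ∀ n < 512, n &&& 240 = 0 → F n < 512 ∧ F n &&& 240 = 0 ∧ x * th e n = th e (F n) * x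

theorem AE.mul {x y : G} {F F' : ℕ → ℕ} (h : AE e x F) (h' : AE e y F') :
    AE e (x * y) fun n => F (F' n) := fun n a b => by
  obtain ⟨c, d, f⟩ := h' n a b
  obtain ⟨c', d', f'⟩ := h _ c d
  exact ⟨c', d', by rw [mul_assoc, f, ← mul_assoc, f', mul_assoc]⟩

theorem Rt.ae (h : Rt e π) (w : List ℕ)
    (hc : ∀ n < 512, n &&& 240 = 0 → apW (nth idT TS) w n &&& 240 = 0) :
    AE e (ev e w) (apW (nth idT TS) w) := fun n a b => ⟨apW_lt _ _ a, hc n a b, h.ok.ev_th w n⟩

theorem ivOK_lst {l : List G} {ivl : List ℕ} (h1 : ivl.length ≤ l.length)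
    (h : ∀ c < l.length, lst l c * lst l (ivOf ivl c) = 1) : IvOK (lst l) (ivOf ivl) := fun c => by
  by_cases hc : c < l.length
  · exact eq_inv_of_mul_eq_one_right (h c hc)
  · rw [ivOf, nth_default _ (by omega), lst_one (by omega), inv_one]

namespace Gb

variable (h : Gb e π b)
include h

theorem fa : ff e b * e 8 = e 0 * ff e b :=
  swap_of_braid h.ok.heis.z2 h.b2 h.c2 h.ab h.bc h.cz.symm

theorem bi : b⁻¹ = b := inv_eq_of_mul_eq_one_left h.b2

theorem f2 : ff e b * ff e b = 1 := by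
  rw [ff]
  nth_rewrite 2 4 [← h.bi]
  rw [conj_mul, mul_assoc (e 8), ← mul_assoc (e 0), h.cz.eq, mul_assoc (e 8) (e 0), h.c2, mul_one,
    h.ok.heis.z2]
  simp

theorem fi : (ff e b)⁻¹ = ff e b := inv_eq_of_mul_eq_one_left h.f2

theorem fa' : ff e b * e 8 * (ff e b)⁻¹ = e 0 := by rw [h.fa, mul_inv_cancel_right]

theorem fc' : ff e b * e 0 * (ff e b)⁻¹ = e 8 := by
  rw [← h.fa', ← mul_assoc, ← mul_assoc, h.f2, one_mul, mul_assoc, h.fi, h.f2, mul_one]

theorem fcom {c : ℕ} (h1 : Commute b (e c)) (h2 : ap (nth idT TS c) 1 = 1) :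
    Commute (ff e b) (e c) :=
  (h1.mul_left ((mem_CC.1 (h.ok.mem c)).symm.mul_left
    (th1 (e := e) ▸ (h.ok.e_comm h2).symm))).mul_left h1

theorem fs : Commute (ff e b) (e 27) := h.fcom h.bs (by decide +kernel)

theorem ft : Commute (ff e b) (e 29) := h.fcom h.bt (by decide +kernel)

theorem fe : Commute (ff e b) (e 25) := h.fcom h.be (by decide +kernel)

theorem fg : Commute (ff e b) (e 1) := (h.phi h.fa' h.fs h.ft).2

theorem fec : ff e b * ev e [4, 25, 4] * (ff e b)⁻¹ = ev e [5, 6, 7] := by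
  have := (h.phi h.fa' h.fs h.ft).1
  rw [h.fi, ← ev_qw] at this
  rw [h.fi]
  exact this

theorem fh : ff e b * ev e [5, 6, 7] * (ff e b)⁻¹ = ev e [4, 25, 4] := by
  rw [← h.fec, ← mul_assoc, ← mul_assoc, h.f2, one_mul, mul_assoc, h.fi, h.f2, mul_one]

theorem fgw : ∀ c < 11, ff e b * wE e gw c * (ff e b)⁻¹ = wE e gw (nth 0 gs c) := by
  have key : ∀ u v, ff e b * ev e u * (ff e b)⁻¹ = ev e v →
      ff e b * ev e (27 :: u ++ [28]) * (ff e b)⁻¹ = ev e (27 :: v ++ [28]) := fun u v h1 => by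
    simp only [ev_append, ev_cons, ev_nil, mul_one, ← h.sS]
    rw [← h1, ← mul_assoc, ← mul_assoc, h.fs.eq, mul_assoc _ (e 27)⁻¹, h.fs.inv_inv.symm.eq]
    group
  have a : ff e b * ev e [1] * (ff e b)⁻¹ = ev e [1] := by simp [h.fg.eq]
  intro c hc
  interval_cases c
  exacts [by simpa [wE, gw, gs, nth_eq] using h.fa', by simpa [wE, gw, gs, nth_eq] using h.fc', a, key _ _ a, key _ _ (key _ _ a), h.fh,
    key _ _ h.fh, key _ _ (key _ _ h.fh), h.fec, key _ _ h.fec, key _ _ (key _ _ h.fec)]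

theorem fu : ff e b * e 31 * (ff e b)⁻¹ = e 31 * e 25 := by
  have key : ∀ k ∈ [0, 1, 2, 3, 4, 8, 9, 10], ∀ n, wE e gw (nth 0 gs k) = th e n →
      Commute ((e 31 * e 25)⁻¹ * (ff e b * e 31 * (ff e b)⁻¹)) (th e n) := fun k hk n hn => by
    obtain ⟨a1, a2, a3, a4⟩ := (by decide +kernel : ∀ k ∈ [0, 1, 2, 3, 4, 8, 9, 10], k < 11 ∧
      (∀ c ∈ nth [] gu k, c < 11) ∧
      ck (31 :: nth [] gw k) ((nth [] gu k).flatMap (nth [] gw) ++ [31]) = true ∧
      ck (31 :: 25 :: nth [] gw (nth 0 gs k))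
        (((nth [] gu k).map (nth 0 gs)).flatMap (nth [] gw) ++ [31, 25]) = true) k hk
    have b1 := congrArg (fun x => ff e b * x * (ff e b)⁻¹) (h.eq _ _ a3)
    have b2 := h.eq _ _ a4
    simp only [ev_append, ev_cons, ev_nil, mul_one, ← ev_wE] at b1 b2
    rw [← conj_mul, ← conj_mul, conj_ev fun c hc => h.fgw c (a2 c hc), ← wE, h.fgw k a1, hn] at b1
    rw [← wE, hn, ← mul_assoc] at b2
    rw [commute_iff_eq, mul_assoc, b1, eq_mul_inv_of_mul_eq b2.symm]
    group
  have q : ∀ k n, ck (nth [] gw (nth 0 gs k)) (qw n) = true → wE e gw (nth 0 gs k) = th e n :=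
    fun k n hc => (h.eq _ _ hc).trans (ev_qw n)
  have a1 := key 0 (by simp) 1 (q _ _ (by decide +kernel))
  have a2 := key 1 (by simp) 256 (q _ _ (by decide +kernel))
  have a3 := key 2 (by simp) 2 (q _ _ (by decide +kernel))
  have a4 := key 3 (by simp) 12 (q _ _ (by decide +kernel))
  have a5 := key 4 (by simp) 6 (q _ _ (by decide +kernel))
  have a6 := key 8 (by simp) 224 (q _ _ (by decide +kernel))
  have a7 := key 9 (by simp) 96 (q _ _ (by decide +kernel))
  have a8 := key 10 (by simp) 160 (q _ _ (by decide +kernel))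
  obtain ⟨n, hn, h1⟩ := h.ok.heis.mem_QQ.1 (h.cenE (mem_Fx.2 ⟨mem_CC.2 (th_256 (e := e) ▸ a2), by
    have := a4.mul_right a5
    rw [h.ok.heis.th_mul] at this
    simp only [List.mem_cons, List.not_mem_nil, or_false, forall_eq_or_imp, forall_eq]
    exact ⟨a3, this, a5, a1⟩⟩))
  simp only [← h1, h.ok.heis.th_comm h.ok.z1 hn, Nat.reduceLT] at a1 a3 a4 a5 a6 a7 a8
  rcases (by decide +kernel : ∀ n < 512, (∀ m ∈ [2, 1, 12, 6, 224, 96, 160], mulQ n m = mulQ m n) →
    n = 0 ∨ ∃ r ∈ [0, 1, 256], r < 512 ∧ r ≠ 257 ∧ ck (31 :: 25 :: qw n ++ 27 :: 31 :: 25 ::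
      qw n ++ 27 :: 31 :: 25 :: qw n ++ [27]) (qw r) = true) n hn
      (by simp [a3, a1, a4, a5, a6, a7, a8]) with rfl | ⟨r, -, hr, r1, r2⟩
  · exact (inv_mul_eq_one.1 (h1.symm.trans th_zero)).symm
  · have b1 := congrArg (fun x => ff e b * x * (ff e b)⁻¹)
      (h.eq [31, 27, 31, 27, 31, 27] [8, 0] (by decide +kernel))
    have b2 := h.eq _ _ r2
    simp only [ev_append, ev_cons, ev_nil, mul_one, ev_qw, mul_assoc] at b2
    simp only [ev_cons, ev_nil, mul_one, ← conj_mul, h.fa', h.fc', h.fs.eq,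
      mul_inv_cancel_right] at b1
    rw [inv_mul_eq_iff_eq_mul.1 h1.symm, ← th1 (e := e), h.ok.heis.th_z] at b1
    simp only [mul_assoc] at b1
    exact absurd (h.ok.inj hr (by decide) (b2.symm.trans b1)) r1

theorem fp : (ff e b * e 4) ^ 3 = 1 := by
  have := derives_fin ThG1.der (e := lst [e 8, b, e 0, e 26]) (ivOK_lst (Nat.zero_le _) fun c hc => by
      change c < 4 at hc
      interval_cases c
      exacts [h.ok.heis.z2, h.b2, h.c2, h.d2]) (by
      have a1 := h.ab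
      have a2 := h.bc
      have a3 : b * (e 26 * (b * e 26)) = 1 := by
        rw [← mul_assoc (e 26), ← h.bd.eq, mul_assoc, h.d2, mul_one, h.b2]
      have a4 := h.eq [0, 26, 0, 26, 0, 26, 0, 26, 8] [] (by decide +kernel)
      simp only [pow_three, mul_assoc, ev_cons, ev_nil, mul_one] at a1 a2 a4
      simp [ThG1.R0, lst, a1, a2, a3, a4]) ThG1.w0 (by decide)
  rw [h.one_c 4 [26, 0, 26] (by decide +kernel)]
  simpa [ThG1.w0, lst, ff, pow_three, mul_assoc] using this

theorem ae_f : AE e (ff e b) pE := fun n a c => by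
  obtain ⟨a1, a2, m, hm, k, hk, a3, a4⟩ := (by decide +kernel : ∀ n < 512, n &&& 240 = 0 →
    pE n < 512 ∧ pE n &&& 240 = 0 ∧ ∃ m ∈ [0, 2, 12, 6, 14, 10, 8, 4], ∃ k ∈ [0, 1, 256, 257],
      n = mulQ m k ∧ pE n = mulQ m (pE k)) n a c
  refine ⟨a1, a2, ?_⟩
  have b1 : ∀ m, Commute (ff e b) (th e m) → Commute (ff e b) (th e (ap (nth idT TS 27) m)) :=
    fun m hm => by
      rw [eq_mul_inv_of_mul_eq (h.ok.e_th 27 m).symm]
      exact (h.fs.mul_right hm).mul_right h.fs.inv_right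
  have b2 : Commute (ff e b) (th e m) := by
    obtain ⟨i, -, rfl⟩ | rfl := (by decide +kernel : ∀ m ∈ [0, 2, 12, 6, 14, 10, 8, 4],
      (∃ i < 7, (ap (nth idT TS 27))^[i] 2 = m) ∨ m = 0) m hm
    · exact Function.Iterate.rec (fun m => Commute (ff e b) (th e m)) (th2 (e := e) ▸ h.fg) b1 i
    · rw [th_zero]; exact Commute.one_right _
  have b3 : ff e b * th e k = th e (pE k) * ff e b := by
    have c1 : ff e b * th e 1 = th e 256 * ff e b := by
      rw [th1, th_256, ← h.fc', inv_mul_cancel_right]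
    have c2 : ff e b * th e 256 = th e 1 * ff e b := by rw [th1, th_256, h.fa]
    simp only [List.mem_cons, List.not_mem_nil, or_false] at hk
    rcases hk with rfl | rfl | rfl | rfl
    · change _ = th e 0 * _
      simp [th_zero]
    · exact c1
    · exact c2
    · change ff e b * th e (mulQ 1 256) = th e (mulQ 256 1) * _
      rw [← h.ok.heis.th_mul, ← h.ok.heis.th_mul, ← mul_assoc, c1, mul_assoc, c2, mul_assoc]
  rw [a4, ← h.ok.heis.th_mul]
  nth_rewrite 1 [a3]
  rw [← h.ok.heis.th_mul, ← mul_assoc, b2.eq, mul_assoc, b3, mul_assoc]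

theorem relD : ev e [26, 32, 26] * (ff e b * (ev e [26, 31, 26] * (ff e b *
    (ev e [0, 25, 26, 32, 26] * (ff e b * ev e [25, 32]))))) = 1 := by
  have a1 := (h.ae [26, 32, 26] (by decide +kernel)).mul (h.ae_f.mul ((h.ae [26, 31, 26]
    (by decide +kernel)).mul (h.ae_f.mul ((h.ae [0, 25, 26, 32, 26] (by decide +kernel)).mul
      (h.ae_f.mul (h.ae [25, 32] (by decide +kernel)))))))
  have a2 : Commute (ev e [26, 32, 26] * (ff e b * (ev e [26, 31, 26] * (ff e b *
      (ev e [0, 25, 26, 32, 26] * (ff e b * ev e [25, 32])))))) (e 29) := by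
    have c1 := h.eq ([26, 32, 26] ++ [30]) (29 :: [26, 32, 26]) (by decide +kernel)
    have c2 := h.eq ([26, 31, 26] ++ [29]) (30 :: [26, 31, 26]) (by decide +kernel)
    have c3 := h.eq ([0, 25, 26, 32, 26] ++ [30]) (29 :: [0, 25, 26, 32, 26]) (by decide +kernel)
    have c4 := h.eq ([25, 32] ++ [29]) (30 :: [25, 32]) (by decide +kernel)
    have c5 : ff e b * e 30 = e 30 * ff e b := h.tT ▸ h.ft.inv_right.eq
    rw [ev_append, ev_cons _ _ [], ev_nil, mul_one, ev_cons _ 29] at c1 c3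
    rw [ev_append, ev_cons _ _ [], ev_nil, mul_one, ev_cons _ 30] at c2 c4
    have s : ∀ {x y p q r : G}, x * q = p * x → y * r = q * y → x * y * r = p * (x * y) :=
      fun a b => by rw [mul_assoc, b, ← mul_assoc, a, mul_assoc]
    exact s c1 (s c5 (s c2 (s h.ft.eq (s c3 (s c5 c4)))))
  generalize hR : ev e [26, 32, 26] * (ff e b * (ev e [26, 31, 26] * (ff e b *
      (ev e [0, 25, 26, 32, 26] * (ff e b * ev e [25, 32]))))) = R at a1 a2
  have a3 : ∀ n ∈ [256, 2, 10, 6, 1], Commute R (th e n) := fun n hn => by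
    obtain ⟨c1, c2, c3⟩ := (by decide +kernel : ∀ n ∈ [256, 2, 10, 6, 1], n < 512 ∧ n &&& 240 = 0 ∧
      apW (nth idT TS) [26, 32, 26] (pE (apW (nth idT TS) [26, 31, 26] (pE (apW (nth idT TS)
        [0, 25, 26, 32, 26] (pE (apW (nth idT TS) [25, 32] n)))))) = n) n hn
    have := (a1 n c1 c2).2.2
    beta_reduce at this
    rwa [c3] at this
  obtain ⟨n, hn, rfl⟩ := h.ok.heis.mem_QQ.1 (h.cenE (mem_Fx.2 ⟨mem_CC.2
    (th_256 (e := e) ▸ a3 256 (by simp)), fun n hn => a3 n (List.mem_cons_of_mem _ hn)⟩))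
  have a4 := (by decide +kernel : ∀ n < 512, ap (nth idT TS 29) n = n →
    (∀ m ∈ [2, 10, 6, 1], m < 512 → mulQ n m = mulQ m n) →
      n ∈ [0, 256, 1, 257, 2, 258, 3, 259]) n hn (((h.ok.acts 29).comm_iff h.ok hn).1 a2)
    fun m hm c => (h.ok.heis.th_comm h.ok.z1 hn c).1 (a3 m (List.mem_cons_of_mem _ hm))
  let wl : List (List ℕ) := [[8], [0], [1], [25], [5, 6, 7], [4], [], [31], [32], [26, 31, 26],
    [26, 32, 26]]
  let l := lst [e 8, e 0, e 1, e 25, ev e [5, 6, 7], e 4, ff e b, e 31, e 32, ev e [26, 31, 26],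
    ev e [26, 32, 26]]
  have l1 : ∀ w : List ℕ, (∀ c ∈ w, c < 11 ∧ c ≠ 6) → ev l w = ev e (w.flatMap (nth [] wl)) :=
    fun w hw => by
      rw [← ev_wE]
      refine ev_congr fun c hc => ?_
      obtain ⟨c1, c2⟩ := hw c hc
      interval_cases c <;> first | rfl | exact (mul_one _).symm | exact absurd rfl c2
  have l2 : IvOK l (ivOf ThDa.ivl) := ivOK_lst le_rfl fun c hc => by
    by_cases c6 : c = 6
    · rw [c6]; exact h.f2
    · obtain ⟨c1, c2⟩ := (by decide +kernel : ∀ c < 11, c ≠ 6 →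
        (∀ x ∈ [c, ivOf ThDa.ivl c], x < 11 ∧ x ≠ 6) ∧
        ck ([c, ivOf ThDa.ivl c].flatMap (nth [] wl)) [] = true) c hc c6
      simpa [l] using (l1 _ c1).trans (h.eq _ _ c2)
  have l3 : ∀ r ∈ ThDa.R0.take 15, ev l r = 1 := fun r hr => by
    rcases (by decide +kernel : ∀ r ∈ ThDa.R0.take 15, ((∀ c ∈ r, c < 11 ∧ c ≠ 6) ∧
      ck (r.flatMap (nth [] wl)) [] = true) ∨ r ∈ [[6, 0, 6, 1], [6, 2, 6, 2], [6, 3, 6, 3],
        [6, 4, 6, 5, 3, 5], [6, 7, 6, 3, 8], [6, 5, 6, 5, 6, 5]]) r hr with ⟨c1, c2⟩ | c1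
    · exact (l1 _ c1).trans (h.eq _ _ c2)
    · have key : ∀ (x y : G), ff e b * x * (ff e b)⁻¹ = y⁻¹ → ff e b * (x * (ff e b * y)) = 1 :=
        fun x y c => by rw [← mul_assoc, ← mul_assoc]; nth_rewrite 2 [← h.fi]; rw [c]; simp
      simp only [List.mem_cons, List.not_mem_nil, or_false] at c1
      rcases c1 with rfl | rfl | rfl | rfl | rfl | rfl
      · exact key _ _ (h.fa'.trans (by simpa [l, lst] using eq_inv_of_mul_eq_one_left h.c2))
      · exact key _ _ (by
          simpa [h.fg.eq, l, lst] using eq_inv_of_mul_eq_one_left (h.ok.heis.sq 1 (by norm_num)))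
      · exact key _ _ (by simpa [h.fe.eq, l, lst] using eq_inv_of_mul_eq_one_left h.e2)
      · exact key _ _ (h.fh.trans (eq_inv_of_mul_eq_one_left (by
          simpa [l, lst, mul_assoc] using h.eq [4, 25, 4, 4, 25, 4] [] (by decide +kernel))))
      · exact key _ _ (h.fu.trans (eq_inv_of_mul_eq_one_left (by
          simpa [l, lst, mul_assoc] using h.eq [31, 25, 25, 32] [] (by decide +kernel))))
      · simpa [l, lst, pow_three, mul_assoc] using h.fp
  have l4 : ev l [10, 6, 9, 6, 1, 3, 10, 6, 3, 8] = th e n := by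
    rw [← hR]
    simp [l, lst, mul_assoc]
  have fin : ∀ (R0 R1 : List (List ℕ)) (w : List ℕ), Derives (ivOf ThDa.ivl) R0 R1 → [0] ∈ R1 →
      R0 = ThDa.R0.take 15 ++ [[10, 6, 9, 6, 1, 3, 10, 6, 3, 8] ++ w] →
      (∀ c ∈ w, c < 11 ∧ c ≠ 6) → ck (qw n ++ w.flatMap (nth [] wl)) [] = true → False :=
    fun R0 R1 w d1 d2 d3 d4 d5 => h.ok.z1 (by
      have := derives_fin d1 l2 (d3 ▸ rels_append l3 fun r hr => by
        rw [List.mem_singleton.1 hr, ev_append, l4, l1 w d4, ← ev_qw, ← ev_append, h.eq _ _ d5,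
          ev_nil]) [0] d2
      rwa [ev_cons, ev_nil, mul_one] at this)
  simp only [List.mem_cons, List.not_mem_nil, or_false] at a4
  rcases a4 with rfl | rfl | rfl | rfl | rfl | rfl | rfl | rfl
  · exact th_zero
  · exact (fin _ _ [0] ThDa.der (by decide) rfl (by decide) (by decide +kernel)).elim
  · exact (fin _ _ [1] ThDc.der (by decide) rfl (by decide) (by decide +kernel)).elim
  · exact (fin _ _ [0, 1] ThDac.der (by decide) rfl (by decide) (by decide +kernel)).elim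
  · exact (fin _ _ [2] ThDg.der (by decide) rfl (by decide) (by decide +kernel)).elim
  · exact (fin _ _ [0, 2] ThDag.der (by decide) rfl (by decide) (by decide +kernel)).elim
  · exact (fin _ _ [1, 2] ThDcg.der (by decide) rfl (by decide) (by decide +kernel)).elim
  · exact (fin _ _ [0, 1, 2] ThDacg.der (by decide) rfl (by decide) (by decide +kernel)).elim

theorem rel8 : ev (lst [e 8, b, e 0, e 26, e 25, e 1]) ThG2.w0 = 1 := by
  refine derives_fin ThG2.der (ivOK_lst (Nat.zero_le _) fun c hc => ?_) ?_ _ (by decide)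
  · change c < 6 at hc
    interval_cases c
    exacts [h.ok.heis.z2, h.b2, h.c2, h.d2, h.e2, h.ok.heis.sq 1 (by norm_num)]
  · have a1 := h.ab
    have a2 := h.bc
    have a3 : ∀ x, Commute b x → x * x = 1 → b * (x * (b * x)) = 1 := fun x c d => by
      rw [← mul_assoc x, ← c.eq, mul_assoc, d, mul_one, h.b2]
    have a4 := h.eq [0, 26, 0, 26, 0, 26, 0, 26, 8] [] (by decide +kernel)
    have a5 := h.eq [8, 25, 8, 25] [] (by decide +kernel)
    have a6 := h.eq [0, 25, 0, 25] [] (by decide +kernel)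
    have a7 := h.eq [26, 25, 26, 25, 26, 25] [] (by decide +kernel)
    have a8 := h.eq [8, 0, 25, 1, 25, 1] [] (by decide +kernel)
    have a9 := h.eq [0, 26, 1, 26, 25, 26, 1, 26, 25] [] (by decide +kernel)
    have a10 := congrArg (· * ev e [26, 0, 26, 25, 26, 0, 26]) h.fh
    rw [h.eq [5, 6, 7] [26, 1, 26] (by decide +kernel), h.fi, ← ev_append,
      h.eq ([4, 25, 4] ++ [26, 0, 26, 25, 26, 0, 26]) [] (by decide +kernel)] at a10
    simp only [pow_three, mul_assoc, ev_cons, ev_nil, mul_one, ff] at a1 a2 a4 a5 a6 a7 a8 a9 a10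
    simp [ThG2.R0, lst, a1, a2, a3 _ h.bd h.d2, a3 _ h.be h.e2, a4, a5, a6, a7, a8, a9, a10]

end Gb

end H28.Th
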