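import Mathlib
import Cfsg.Agent.H28.ThB3
import Cfsg.Agent.H5.LySE
import Cfsg.Agent.H19.Th.P
import Cfsg.Agent.S1700

/-! Recognition of the Thompson group by the centraliser of an involution. -/

set_option autoImplicit false
set_option maxRecDepth 100000
set_option synthInstance.maxSize 2000
set_option linter.unusedSectionVars false

namespace H28.Th

open H29 H7.Cay Equiv Subgroup

variable {G : Type*} [Group G] [Finite G] {e : ℕ → G} {π : G → Perm (Fin 9)} {b : G}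

namespace Gb

variable (h : Gb e π b)
include h

theorem hom : ∃ ρ : Cfsg.Spor.Th →* G, b ∈ ρ.range ∧
    ∀ c ∈ [8, 0, 26, 25, 27, 28, 29, 30, 31], e c ∈ ρ.range := by
  let l := lst [e 8, b, e 0, e 26, e 25, e 27, e 28, e 29, e 30, e 31, e 32]
  let m := nth 0 [8, 0, 0, 26, 25, 27, 28, 29, 30, 31, 32]
  have l1 : ∀ w : List ℕ, (∀ c ∈ w, c < 11 ∧ c ≠ 1) → ev l w = ev e (w.map m) := fun w hw => by
    rw [ev, ev, List.map_map]
    refine congrArg _ (List.map_congr_left fun c hc => ?_)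
    obtain ⟨c1, c2⟩ := hw c hc
    interval_cases c <;> first | rfl | exact absurd rfl c2
  have l2 : IvOK l (ivOf H19.Th.ivl) := ivOK_lst le_rfl fun c hc => by
    by_cases c1 : c = 1
    · rw [c1]; exact h.b2
    · obtain ⟨c1, c2⟩ := (by decide +kernel : ∀ c < 11, c ≠ 1 →
        (∀ x ∈ [c, ivOf H19.Th.ivl c], x < 11 ∧ x ≠ 1) ∧
        ck ([c, ivOf H19.Th.ivl c].map m) [] = true) c hc c1
      simpa [l] using (l1 _ c1).trans (h.eq _ _ c2)
  obtain ⟨ρ, hρ⟩ := PData.exists_hom H19.Th.coh H19.Th.hg l2 (H19.Th.relL ▸ fun r hr => by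
    rcases (by decide +kernel : ∀ r ∈ H19.Th.R, ((∀ c ∈ r, c < 11 ∧ c ≠ 1) ∧
      ck (r.map m) [] = true) ∨ r ∈ [[1, 1], [0, 1, 0, 1, 0, 1], [1, 2, 1, 2, 1, 2], [1, 3, 1, 3],
        [1, 4, 1, 4], ThG2.w0, [6, 1, 5, 1], [8, 1, 7, 1], [10, 1, 2, 0, 1, 9, 1, 0, 2, 1, 4],
        [3, 10, 3, 1, 2, 0, 1, 3, 9, 3, 1, 0, 2, 1, 2, 4, 3, 10, 3, 1, 2, 0, 1, 4, 10]]) r hr with
      ⟨c1, c2⟩ | c1
    · exact (l1 _ c1).trans (h.eq _ _ c2)
    · have a3 : ∀ x, Commute b x → x * x = 1 → b * (x * (b * x)) = 1 := fun x c d => by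
        rw [← mul_assoc x, ← c.eq, mul_assoc, d, mul_one, h.b2]
      have a4 : ∀ x, Commute b x → x⁻¹ * (b * (x * b)) = 1 := fun x c => by
        rw [← c.eq, ← mul_assoc b, h.b2, one_mul, inv_mul_cancel]
      have a5 : ∀ x, e 0 * (e 8 * x) = e 8 * (e 0 * x) := fun x => by
        rw [← mul_assoc, h.cz.eq, mul_assoc]
      simp only [List.mem_cons, List.not_mem_nil, or_false] at c1
      rcases c1 with rfl | rfl | rfl | rfl | rfl | rfl | rfl | rfl | rfl | rfl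
      · simpa [l, lst] using h.b2
      · simpa [l, lst, pow_three, mul_assoc] using h.ab
      · simpa [l, lst, pow_three, mul_assoc] using h.bc
      · simpa [l, lst] using a3 _ h.bd h.d2
      · simpa [l, lst] using a3 _ h.be h.e2
      · simpa [l, lst, ThG2.w0] using h.rel8
      · simpa [l, lst, h.sS] using a4 _ h.bs
      · simpa [l, lst, h.tT] using a4 _ h.bt
      · have := congrArg (fun x => e 32 * x * e 25) h.fu
        simp only [h.fi] at this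
        rw [mul_assoc (e 32) (e 31 * _), mul_assoc (e 31), h.e2, mul_one, ← h.uU,
          inv_mul_cancel, h.uU] at this
        simpa [l, lst, ff, a5, mul_assoc] using this
      · simpa [l, lst, ff, a5, mul_assoc] using h.relD)
  refine ⟨ρ, ⟨_, hρ 1 (by decide)⟩, fun c hc => ?_⟩
  simp only [List.mem_cons, List.not_mem_nil, or_false] at hc
  rcases hc with rfl | rfl | rfl | rfl | rfl | rfl | rfl | rfl | rfl
  exacts [⟨_, hρ 0 (by decide)⟩, ⟨_, hρ 2 (by decide)⟩, ⟨_, hρ 3 (by decide)⟩,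
    ⟨_, hρ 4 (by decide)⟩, ⟨_, hρ 5 (by decide)⟩, ⟨_, hρ 6 (by decide)⟩, ⟨_, hρ 7 (by decide)⟩,
    ⟨_, hρ 8 (by decide)⟩, ⟨_, hρ 9 (by decide)⟩]

theorem C_le {K : Subgroup G} (hK : ∀ c ∈ [8, 0, 26, 25, 27, 28, 29, 30, 31], e c ∈ K) :
    CC e ≤ K := by
  refine h.ok.le_of (gen_le.2 fun c hc => ?_) fun i => ?_
  · rw [List.mem_range] at hc
    by_cases c8 : c = 8
    · exact hK c (by simp [c8])
    · obtain ⟨-, k, hk, h1⟩ := h.ok.cj_clos (K := K) (L := [26, 27, 31])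
        (fun c hc => hK c (by revert c; decide)) (Cj.bit (b := 1) (by norm_num)) 4 (2 ^ c)
        (cov_true (p := fun n => ∃ c : ℕ, c < 8 ∧ 2 ^ c = n) (by decide +kernel)
          (Nat.pow_lt_pow_right (by norm_num) hc) ⟨c, by omega, rfl⟩)
      rw [← th_pow (e := e) hc, ← h1, th1]
      exact mul_mem (mul_mem hk (hK 0 (by simp))) (inv_mem hk)
  · obtain ⟨w, -, h1, h2⟩ := (by decide +kernel : ∀ i : Fin 7, ∃ w ∈ [[25, 26, 31, 26, 31, 26],
      [26, 28, 25, 31, 26, 25, 31, 28], [26, 28, 28, 25, 31, 26, 25, 31, 28, 28],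
      [26, 29, 27, 25, 31, 26, 25, 31, 27, 30], [26, 29, 28, 25, 31, 26, 25, 31, 28, 30],
      [26, 27, 27, 25, 31, 26, 25, 31, 27, 27], [26, 27, 25, 31, 26, 25, 31, 27]],
      (∀ c ∈ w, c ∈ [8, 0, 26, 25, 27, 28, 29, 30, 31]) ∧
        ∀ j : Fin 9, ppW (nth idP PS) w j = rp i j) i
    exact ⟨ev e w, ev_mem fun c hc => hK c (h1 c hc), h.ok.ev_C w, h.ok.ev_pi_eq h2⟩

theorem fuse {K : Subgroup G} (hK : CC e ≤ K) (hb : b ∈ K) {w : G} (w2 : w * w = 1) (w1 : w ≠ 1)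
    (hw : w ∈ CC e) : ∃ k ∈ K, k * e 8 * k⁻¹ = w := by
  have fK : ff e b ∈ K := mul_mem (mul_mem hb (hK (mul_mem (h.ok.mem _) (h.ok.mem _)))) hb
  have tr : ∀ {x : G} {l : G}, l ∈ K → (∃ k ∈ K, k * e 8 * k⁻¹ = x) →
      ∃ k ∈ K, k * e 8 * k⁻¹ = l * x * l⁻¹ := fun hl ⟨k, hk, h1⟩ =>
    ⟨_, mul_mem hl hk, by rw [← h1]; group⟩
  have h1 : ∀ w ∈ QQ e, w * w = 1 → w ≠ 1 → ∃ k ∈ K, k * e 8 * k⁻¹ = w := fun w a b c => by
    by_cases wz : w = e 8
    · exact ⟨1, one_mem _, by simp [wz]⟩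
    · obtain ⟨n, hn, rfl, a1, a2, a3⟩ := h.ok.inv_code a b c wz
      obtain ⟨k, hk, h2⟩ := h.ok.orb270 (hK (h.ok.mem 9)) (hK (h.ok.mem 27)) hn a1 a2 a3
      exact h2 ▸ tr hk ⟨_, fK, h.fa'⟩
  have h2 : ∃ k ∈ K, k * e 8 * k⁻¹ = e 25 := by
    have := tr (hK (h.ok.mem 4)) (h.fh ▸ tr fK (h1 (ev e [5, 6, 7]) (ev_mem_gen (by decide))
      (by simpa [mul_assoc] using h.eq [5, 6, 7, 5, 6, 7] [] (by decide +kernel))
      fun a => h.ec1 (by rw [← h.fh, a]; simp)))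
    rw [h.p2] at this
    convert this using 4
    simpa [mul_assoc] using h.eq [25] [4, 4, 25, 4, 4] (by decide +kernel)
  by_cases hQ : w ∈ QQ e
  · exact h1 w hQ w2 w1
  obtain ⟨k, hk, n, hn, rfl | rfl⟩ := h.ok.inv_class (h.ok.pi_eq (by decide +kernel))
    (h.ok.pi_eq (by decide +kernel)) hw hQ w2
  · rw [conj_mul, conj_eq_one_iff, mul_assoc, ← mul_assoc (e 24), h.ok.e_th, mul_assoc,
      show e 24 * e 24 = e 8 by simpa using h.eq [24, 24] [8] (by decide +kernel), ← mul_assoc,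
      h.ok.heis.th_mul, h.ok.heis.th_z, ← th_zero (e := e)] at w2
    exact absurd (h.ok.inj (mulQ_lt (mulQ_lt hn (ap_lt _ _)) (by norm_num)) (by norm_num) w2)
      ((by decide +kernel : ∀ n < 512, mulQ (mulQ n (ap (nth idT TS 24) n)) 256 ≠ 0) n hn)
  · rw [conj_mul, conj_eq_one_iff] at w2
    obtain ⟨l, hl, h3⟩ := h.ok.norm4 hn (by decide +kernel) (by decide +kernel) w2
    refine tr (hK hk) ?_
    rcases h3 with h3 | h3 <;> rw [h3]
    · exact tr (hK hl) h2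
    · refine tr (hK hl) ?_
      have := tr (hK (h.ok.heis.th_C 226)) h2
      rwa [(h.ok.acts 25).conj_th h.ok.heis (by norm_num),
        show mulQ 226 (ap (nth idT TS 25) (invQ 226)) = 256 by decide +kernel, th_256,
        ← (h.ok.acts 25).eight] at this

theorem iso : Cfsg.Spor.IsoTh G ∧ ∀ w : G, w * w = 1 → w ≠ 1 → ∃ k, k * e 8 * k⁻¹ = w := by
  obtain ⟨ρ, hb, hK⟩ := h.hom
  have hC := h.C_le hK
  have h1 : ρ.range = ⊤ := H5.Ly.se_top (hK 8 (by simp)) h.ok.heis.z2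
    (fun g hg => hC (mem_CC.2 hg)) (fun w _ a c d => h.fuse hC hb a c (mem_CC.2 d))
    (hC (h.ok.mem 0)) (hC (h.ok.mem 4)) h.c2 (h.ok.heis.sq 4 (by norm_num))
    (fun h1 => h.ok.z1 (by
      rw [← h1]; simpa [pow_two, mul_assoc] using h.eq [8] [0, 4, 0, 4] (by decide +kernel)))
    (by simpa [pow_succ, mul_assoc] using h.eq [0, 4, 0, 4, 0, 4, 0, 4] [] (by decide +kernel))
  have := Cfsg.Agent.S1700.result.1
  refine ⟨⟨(MulEquiv.ofBijective ρ ⟨?_, MonoidHom.range_eq_top.1 h1⟩).symm⟩, fun w a c => ?_⟩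
  · rw [← MonoidHom.ker_eq_bot_iff]
    refine (IsSimpleGroup.eq_bot_or_eq_top_of_normal _ inferInstance).resolve_right fun h2 => ?_
    obtain ⟨g, hg⟩ := hK 8 (by simp)
    exact h.ok.z1 (hg.symm.trans (MonoidHom.mem_ker.1 (h2 ▸ mem_top g)))
  · obtain ⟨k, -, hk⟩ := H5.Ly.one_class (H := ⊤) trivial h.ok.heis.z2
      (fun w _ a c d => h.fuse le_top trivial a c (mem_CC.2 d)) trivial a c
    exact ⟨k, hk⟩

end Gb

theorem Ok.not_isolated [IsSimpleGroup G] {T P : ℕ → ℕ} (h : Ok e π T P) :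
    ∃ g, g * e 8 * g⁻¹ ∈ CC e ∧ g * e 8 * g⁻¹ ≠ e 8 := by
  by_contra! h0
  have := Fact.mk Nat.prime_two
  have hz : orderOf (e 8) = 2 := orderOf_eq_prime (by rw [pow_two, h.heis.z2]) h.z1
  have hO : Cfsg.pPrimeCore 2 G = ⊥ := by
    refine (IsSimpleGroup.eq_bot_or_eq_top_of_normal _ inferInstance).resolve_right fun h1 => ?_
    have h2 := H17.odd_card_pPrimeCore (G := G)
    rw [h1, card_top] at h2
    exact (Nat.not_even_iff_odd.2 h2) (even_iff_two_dvd.2 (hz ▸ orderOf_dvd_natCard _))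
  have hc : e 8 ∈ center G := mem_center_iff.2 fun g =>
    (H17.zstar_central hO ⟨hz, fun g hg => h0 g (mem_CC.2 hg.symm)⟩ g).symm
  have h1 : center G = ⊤ := (IsSimpleGroup.eq_bot_or_eq_top_of_normal _ inferInstance).resolve_left
    fun h1 => h.z1 (by rwa [h1, mem_bot] at hc)
  have h2 := h.heis.pair 0 (by norm_num)
  rw [mem_center_iff.1 (h1 ▸ mem_top (e 0)) (e (0 + 4)), mul_right_inj, left_eq_mul] at h2
  exact h.z1 h2

theorem recog [IsSimpleGroup G] (t : G) (ht : orderOf t = 2)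
    (Q : Subgroup (centralizer ({t} : Set G))) [Q.Normal] (hQ : Cfsg.IsExtraspecial 2 Q)
    (hcard : Nat.card Q = 2 ^ 9) (h2c : centralizer (Q : Set (centralizer ({t} : Set G))) ≤ Q)
    (ε : (centralizer ({t} : Set G)) ⧸ Q ≃* alternatingGroup (Fin 9)) :
    Cfsg.Spor.IsoTh G ∧ ∀ w : G, w * w = 1 → w ≠ 1 → ∃ k, k * t * k⁻¹ = w := by
  obtain ⟨e, π, rfl, hL, h | h⟩ := exists_ok t ht Q hQ hcard h2c ε
  · obtain ⟨g, h1, h2⟩ := (h.wE chkN).2.not_isolated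
    exact (notN (h.wE chkN).2 h1 h2).elim
  obtain ⟨h9, h'⟩ := h.wE chkS'
  obtain ⟨g, h1, h2⟩ := h'.not_isolated
  obtain ⟨k, k1, -, k2, k3⟩ := fusS h' h1 h2
  obtain ⟨β, hs⟩ := h.sign hL
  have hs' := hs.wE (wl := wS) rfl
  rw [← sg_wNets] at hs'
  cases β
  · exact (not_wrong h' hs' k1 k2).elim
  have hF : Fu (wE e wS) π := ⟨⟨h', hs'⟩,
    ⟨k, k1, (mem_QQ_conj k _).1 (th2 (e := wE e wS) ▸ k2 2 (by norm_num) rfl)⟩,
    ⟨k, k1, (mem_QQ_conj k _).1 k3⟩⟩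
  obtain ⟨b, b1, b2, b3, b4, b5, b6, b7⟩ := hF.ex_b'
  rw [← h9 8 (by norm_num)]
  exact Gb.iso ⟨hF, b1, b2, b3, b4, b5, b6, b7⟩

end H28.Th
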