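import Mathlib
import Cfsg.Agent.H4.C2Def

/-! The spin module of `Sp₆(2)`. -/

set_option autoImplicit false

namespace H28.C2A

open H28.Th (lin q0)
open H8.ThM H4.C2

variable {V : Type*} [AddCommGroup V]

/-- the diagram of type `E₇`. -/
def adj (i j : ℕ) : Bool := (tb [4, 8, 9, 22, 40, 80, 32] i).testBit j
def aG (i j : ℕ) : ℕ := if adj i j then 128 else 0
def aM (n m : ℕ) : ℕ := apM (fun i => apM (aG i) m) n
def bD : ℕ → ℕ := tb [129, 130, 18, 132, 9, 160, 82, 128]
def cD : ℕ → ℕ := tb [129, 130, 136, 145, 134, 160, 68]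
def Mc (t : ℕ) : ℕ → ℕ := if t < 3 then ME t else if t < 6 then MF (t - 3) else fun j => 2 ^ j
def Pt : ℕ → ℕ := tb [2, 3, 8, 13, 230, 175, 50, 33]
def Pti : ℕ → ℕ := tb [3, 1, 15, 4, 194, 131, 55, 170]
def hS (n : ℕ) : ℕ := (125896167318105262752762993177232939190248164089082517393989404234021764894784358603432086744446384425714885921228528558093542203037282936518879888750048533780349609931423035144625811571262974704438572361417872113687521080108994368237103621637035597023935259862259926770465473651873942615661812568460902146304 >>> (4 * n)) % 16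

theorem spin_q {q : V → ZMod 2} {B : V →+ V →+ ZMod 2} (h : QF q B) {β : ℕ → V} {v : V} (hv : v ≠ 0)
    (hs : ∀ v, ∃ n < 256, lin β n = v)
    (hi : ∀ i < 7, ∀ n, q (lin β (apM (Msp i) n)) = q (lin β n)) :
    ∀ n < 256, q (lin β n) = q0 n := by
  have chk : ∀ n < 256, n = 0 ∨ n = 1 ∨ n = 17 ∨ ∃ i < 7, apM (Msp i) n < 256 ∧
      apM (Msp i) n ≠ 0 ∧ hS (apM (Msp i) n) < hS n ∧ q0 (apM (Msp i) n) = q0 n := by
    decide +kernel
  have h1 : ∀ k n, hS n = k → n < 256 → n ≠ 0 →
      q (lin β n) = if q0 n = 0 then q (lin β 1) else q (lin β 17) := by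
    intro k
    induction k using Nat.strong_induction_on with
    | _ k ih =>
      intro n hk hn h0
      rcases chk n hn with rfl | rfl | rfl | ⟨i, il, a1, a2, a3, a4⟩
      · exact absurd rfl h0
      · rw [if_pos (by decide)]
      · rw [if_neg (by decide)]
      · rw [← hi i il n, ih _ (hk ▸ a3) _ rfl a1 a2, a4]
  have h2 : ∀ n < 8, n ≠ 0 → q (lin β n) = q (lin β 1) := fun n hn h0 => by
    rw [h1 _ n rfl (by omega) h0, if_pos (by revert n; decide)]
  have h3 : q (lin β 1) = 0 := by
    have e3 := h2 3 (by norm_num) (by norm_num)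
    have e5 := h2 5 (by norm_num) (by norm_num)
    have e6 := h2 6 (by norm_num) (by norm_num)
    have e7 := h2 7 (by norm_num) (by norm_num)
    have e2 := h2 2 (by norm_num) (by norm_num)
    have e4 := h2 4 (by norm_num) (by norm_num)
    rw [show 3 = 1 ^^^ 2 from rfl, lin_xor h.two, h.add, e2] at e3
    rw [show 5 = 1 ^^^ 4 from rfl, lin_xor h.two, h.add, e4] at e5
    rw [show 6 = 2 ^^^ 4 from rfl, lin_xor h.two, h.add, e2, e4] at e6
    rw [show 7 = (1 ^^^ 2) ^^^ 4 from rfl, lin_xor h.two, lin_xor h.two, h.add, h.add, e2, e4, map_add,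
      AddMonoidHom.add_apply] at e7
    revert e3 e5 e6 e7
    generalize q (lin β 1) = a, B (lin β 1) (lin β 2) = b, B (lin β 1) (lin β 4) = c,
      B (lin β 2) (lin β 4) = d
    revert a b c d; decide
  have h4 : q (lin β 17) = 1 := by
    by_contra hc
    have hc' : q (lin β 17) = 0 := by revert hc; generalize q (lin β 17) = a; revert a; decide
    have hq : ∀ x, q x = 0 := fun x => by
      obtain ⟨n, hn, rfl⟩ := hs x
      by_cases e : n = 0
      · rw [e, lin_zero, h.zero]
      · rw [h1 _ n rfl hn e, h3, hc', ite_self]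
    exact hv (h.nd v fun y => by simpa [hq] using (h.add v y).symm)
  intro n hn
  by_cases e : n = 0
  · rw [e, lin_zero, h.zero]; rfl
  · rw [h1 _ n rfl hn e, h3, h4]
    generalize q0 n = a; revert a; decide

theorem spin_core [Finite V] (hV : Nat.card V = 256) (h2 : ∀ v : V, v + v = 0)
    (s : ℕ → AddMonoid.End V) (hs : ∀ i < 7, s i * s i = 1)
    (hac : ∀ i < 7, ∀ j < 7, s i * s j + s j * s i = if adj i j then 1 else 0) :
    ∃ β : ℕ → V, (∀ v, ∃ n < 256, lin β n = v) ∧ ∀ i < 7, Acts β (s i) (Msp i) := by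
  have e2 := end_two h2
  set a : ℕ → AddMonoid.End V := fun i => if i = 7 then 1 else s i with ha
  have la : ∀ i < 7, lin a (2 ^ i) = s i := fun i hi => by
    rw [lin_pow a (by omega), ha]; simp only; rw [if_neg (by omega)]
  have l7 : lin a 128 = 1 := lin_pow a (j := 7) (by norm_num)
  let Bf : AddMonoid.End V →+ AddMonoid.End V →+ AddMonoid.End V :=
    AddMonoidHom.mul + AddMonoidHom.mul.flip
  have hBf : ∀ x y, Bf x y = x * y + y * x := fun _ _ => rfl
  have hG : ∀ i < 8, ∀ j < 8, Bf (a i) (a j) = lin a (aG i j) := by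
    intro i hi j hj
    rw [hBf, aG, apply_ite (lin a), l7, lin_zero]
    by_cases e : i = 7 ∨ j = 7
    · rw [if_neg (by revert i j; decide)]
      rcases e with rfl | rfl <;> simp [ha, e2]
    · rw [ha]
      simp only
      rw [if_neg (by omega), if_neg (by omega), hac i (by omega) j (by omega)]
  have hA : ∀ n m, lin a n * lin a m + lin a m * lin a n = lin a (aM n m) := fun n m =>
    lin_ap e2 (Bf.flip (lin a m)) a a _ (fun i hi => lin_ap e2 (Bf (a i)) a a _ (hG i hi) m) n
  have hS : ∀ n, lin a n * lin a n = lin a (qK (fun _ => 128) aG n 8) := fun n =>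
    quadK e2 (fun x => x * x) Bf (by simp) (fun x y => by rw [hBf]; noncomm_ring) a a _ aG
      (fun i hi => by
        rw [l7, ha]; simp only
        split_ifs with e
        exacts [one_mul _, hs i (by omega)]) hG n 8 le_rfl
  set b : ℕ → AddMonoid.End V := fun t => lin a (bD t) with hb
  have sq0 : ∀ t < 6, b t * b t = 0 := fun t ht => by
    rw [hb, hS, show qK (fun _ => 128) aG (bD t) 8 = 0 by revert t; decide +kernel, lin_zero]
  have cm : ∀ t u, aM (bD t) (bD u) = 0 → b t * b u = b u * b t := fun t u e => by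
    have := hA (bD t) (bD u)
    rw [e, lin_zero] at this
    exact add_right_cancel (this.trans (e2 _).symm)
  have cv : ∀ t u, aM (bD t) (bD u) = 0 → ∀ v, b t (b u v) = b u (b t v) := fun t u e v =>
    DFunLike.congr_fun (cm t u e) v
  have sv : ∀ t < 6, ∀ v, b t (b t v) = 0 := fun t ht v => DFunLike.congr_fun (sq0 t ht) v
  haveI : Nontrivial V := Finite.one_lt_card_iff_nontrivial.1 (by omega)
  obtain ⟨v1, hv1⟩ := exists_ne (0 : V)
  obtain ⟨v0, hv0, k0, k1, k2⟩ := exists_v0 (sq0 0 (by norm_num)) (sq0 1 (by norm_num))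
    (sq0 2 (by norm_num)) (cm 0 1 (by decide +kernel)) (cm 0 2 (by decide +kernel))
    (cm 1 2 (by decide +kernel)) hv1
  set w : ℕ → V := fun j => (if j.testBit 2 then b 5 else 1)
    ((if j.testBit 1 then b 4 else 1) ((if j.testBit 0 then b 3 else 1) v0)) with hw
  have w0 : w 0 = v0 := rfl
  have hwF : ∀ k < 3, ∀ j < 2 ^ k, w (j + 2 ^ k) = b (3 + k) (w j) := by
    intro k hk j hj
    interval_cases k <;> simp only [Nat.reducePow] at hj <;> interval_cases j <;> rfl
  have c34 := cv 3 4 (by decide +kernel)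
  have c35 := cv 3 5 (by decide +kernel)
  have c45 := cv 4 5 (by decide +kernel)
  have aF : ∀ k < 3, Acts w (b (3 + k)) (MF k) := by
    intro k hk j hj
    rw [MF]
    split_ifs with e
    · rw [lin_zero]
      interval_cases k <;> interval_cases j <;> first
        | exact absurd e (by decide)
        | simp [hw, Nat.testBit, c34, c35, c45, sv]
    · have : j + 2 ^ k < 8 := by revert j k; decide
      rw [lin_pow w this]
      interval_cases k <;> interval_cases j <;> first
        | exact absurd (by decide) e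
        | simp [hw, Nat.testBit, c34, c35, c45, sv]
  have aE : ∀ t < 3, Acts w (b t) (ME t) := by
    intro t ht
    refine acts_of_comm h2 (C := fun k => if k = t then 1 else 0)
      (MC := fun k j => if k = t then 2 ^ j else 0) hwF aF (fun k _ => ?_) (fun k hk => ?_) ?_ ?_
    · split_ifs
      · exact acts_one w
      · exact fun j _ => (lin_zero w).symm
    · rw [hb, hA, show aM (bD t) (bD (3 + k)) = if k = t then 128 else 0 by
        revert k t; decide +kernel]
      split_ifs
      · exact l7
      · exact lin_zero a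
    · rw [w0, show ME t 0 = 0 by simp [ME], lin_zero]
      interval_cases t <;> assumption
    · revert t; decide +kernel
  have inj : ∀ n < 256, lin w n = 0 → n = 0 := by
    intro n hn e
    have chk : ∀ n < 256, n = 0 ∨ ∃ i j k : Bool, (if i then apM (ME 0) else id)
        ((if j then apM (ME 1) else id) ((if k then apM (ME 2) else id) n)) = 1 := by
      decide +kernel
    have st : ∀ (i : Bool) (t : ℕ), t < 3 → ∀ m, lin w m = 0 →
        lin w ((if i then apM (ME t) else id) m) = 0 := fun i t ht m hm => by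
      cases i
      · exact hm
      · simp only [if_true]; rw [← (aE t ht).lin h2, hm, map_zero]
    rcases chk n hn with h | ⟨i, j, k, h⟩
    · exact h
    · have := st i 0 (by norm_num) _ (st j 1 (by norm_num) _ (st k 2 (by norm_num) _ e))
      rw [h, show 1 = 2 ^ 0 from rfl, lin_pow w (by norm_num)] at this
      exact absurd this hv0
  have sur := lin_surj hV h2 w inj
  have h6 : b 6 (w 0) = lin w (2 ^ 0) := by
    obtain ⟨n, hn, e⟩ := sur (b 6 (w 0))
    have chk : ∀ n < 256, (∀ t < 3, apM (ME t) n < 256) ∧ ((∀ t < 3, apM (ME t) n = 0) → n = 0 ∨ n = 1) := by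
      decide +kernel
    rcases (chk n hn).2 fun t ht => inj _ ((chk n hn).1 t ht) (by
      rw [← (aE t ht).lin h2, e, cv t 6 (by revert t; decide +kernel), aE t ht 0 (by norm_num),
        show ME t 0 = 0 by simp [ME], lin_zero, map_zero]) with rfl | rfl
    · have := DFunLike.congr_fun (hS (bD 6)) (w 0)
      rw [show qK (fun _ => 128) aG (bD 6) 8 = 128 by decide +kernel, l7] at this
      change b 6 (b 6 (w 0)) = w 0 at this
      rw [← e, lin_zero, map_zero] at this
      exact absurd this.symm hv0
    · exact e.symm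
  have a6 : Acts w (b 6) fun j => 2 ^ j :=
    acts_of_comm h2 (C := fun _ => 0) (MC := fun _ _ => 0) hwF aF (fun k _ j _ => (lin_zero w).symm)
      (fun k hk => by rw [cm 6 (3 + k) (by revert k; decide +kernel), e2]) h6 (by decide +kernel)
  have ab : ∀ t < 8, Acts w (b t) (Mc t) := by
    intro t ht
    rw [Mc]
    split_ifs with e1 e3
    · exact aE t e1
    · have := aF (t - 3) (by omega)
      rwa [show 3 + (t - 3) = t by omega] at this
    · obtain rfl | rfl : t = 6 ∨ t = 7 := by omega
      · exact a6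
      · rw [show b 7 = 1 from l7]; exact acts_one w
  have as : ∀ i < 7, Acts w (s i) (fun j => apM (fun t => Mc t j) (cD i)) := fun i hi => by
    have := acts_lin h2 ab (cD i)
    rwa [hb, lin_lin e2, (by decide +kernel : ∀ i < 7, apM bD (cD i) = 2 ^ i) i hi, la i hi] at this
  refine ⟨fun j => lin w (Pt j), fun v => ?_, fun i hi j hj => ?_⟩
  · obtain ⟨n, hn, rfl⟩ := sur v
    have chk : ∀ n < 256, apM Pti n < 256 ∧ apM Pt (apM Pti n) = n := by decide +kernel
    exact ⟨_, (chk n hn).1, by rw [lin_lin h2, (chk n hn).2]⟩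
  · simp only
    rw [(as i hi).lin h2, lin_lin h2]
    congr 1
    revert i j; decide +kernel

end H28.C2A
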