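import Mathlib
import Cfsg.Agent.H28.C2A

/-! The orthogonal modules of `Sp₆(2)` with a fixed vector. -/

set_option autoImplicit false
set_option synthInstance.maxSize 2000

namespace H28.C2A

open H28.Th (lin q0)
open H8.ThM

variable {G V : Type*} [Group G] [AddCommGroup V] [DistribMulAction G V]
variable {q : V → ZMod 2} {B : V →+ V →+ ZMod 2}

/-- the transvection -/
def tv (B : V →+ V →+ ZMod 2) (v y : V) : V := if B y v = 1 then y + v else y

theorem z01 : ∀ a : ZMod 2, a = 0 ∨ a = 1 := by decide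

theorem tv0 {v y : V} (e : B y v = 0) : tv B v y = y := if_neg (by rw [e]; decide)
theorem tv1 {v y : V} (e : B y v = 1) : tv B v y = y + v := if_pos e

theorem tv_add (h : QF q B) (v y z : V) : tv B v (y + z) = tv B v y + tv B v z := by
  have e : B (y + z) v = B y v + B z v := by rw [map_add]; rfl
  rcases z01 (B y v) with a | a <;> rcases z01 (B z v) with b | b <;> rw [a, b] at e
  · rw [tv0 a, tv0 b, tv0 e]
  · rw [tv0 a, tv1 b, tv1 e, add_assoc]
  · rw [tv1 a, tv0 b, tv1 e, add_right_comm]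
  · rw [tv1 a, tv1 b, tv0 e, add_add_add_comm, h.two, add_zero]

theorem tv_tv (h : QF q B) (v y : V) : tv B v (tv B v y) = y := by
  rcases z01 (B y v) with a | a
  · rw [tv0 a, tv0 a]
  · rw [tv1 a, tv_add h, tv1 a, tv0 (h.self v), add_assoc, h.two, add_zero]

theorem tv_B (h : QF q B) (v y z : V) : B (tv B v y) (tv B v z) = B y z := by
  rcases z01 (B y v) with a | a <;> rcases z01 (B z v) with b | b
  · rw [tv0 a, tv0 b]
  · rw [tv0 a, tv1 b, map_add, a, add_zero]
  · rw [tv1 a, tv0 b, h.symm, map_add, b, add_zero, h.symm]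
  · rw [tv1 a, tv1 b, map_add, map_add, AddMonoidHom.add_apply, AddMonoidHom.add_apply, a, h.self,
      h.symm v, b, add_zero, add_assoc, zmod2_add, add_zero]

theorem map_tv (T : V →+ V) (hT : ∀ y z, B (T y) (T z) = B y z) (v y : V) :
    T (tv B v y) = tv B (T v) (T y) := by
  rw [tv, tv, hT]; split_ifs
  exacts [map_add _ _ _, rfl]

theorem smul_tv (h : QF q B) (inv : ∀ (g : G) v, q (g • v) = q v) (g : G) (v y : V) :
    g • tv B v y = tv B (g • v) (g • y) := map_tv (DistribSMul.toAddMonoidHom V g) (B_smul h inv g) v y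

theorem triv [Finite V] (h2 : ∀ v : V, v + v = 0) {b y : G} (c : b * y = y * b) (b2 : b * b = 1)
    (h4 : Nat.card (Nx V y) = 4) {n : V} (hn : n ∈ Nx V y) : b • n = n := by
  by_cases n0 : n = 0
  · rw [n0, smul_zero]
  have cc : ∀ v : V, b • y • v = y • b • v := fun v => by rw [← mul_smul, c, mul_smul]
  have bb : b • b • n = n := by rw [← mul_smul, b2, one_smul]
  rcases mem_four h2 h4 n0 hn (Nx_conj c hn) with e | e | e | e
  · exact absurd e (smul_ne n0)
  · exact e
  · rw [e, cc, e, Nx_sq h2 hn] at bb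
    exact absurd (by simpa using bb) (smul_ne (g := y) n0)
  · rw [e, smul_add, cc, e, smul_add, Nx_sq h2 hn, add_comm (y • n), add_assoc n, add_assoc n, h2, add_zero,
      add_comm n, add_assoc, h2, add_zero] at bb
    exact absurd (Fx_Nx h2 bb hn) n0

/-- the vector of `b` inside `[V, b a]` -/
structure Vx (b a : G) (v : V) : Prop where
  ne : v ≠ 0
  im : ∃ p, v = b • p + p
  mem : v ∈ Nx V (b * a)

theorem Vx.fix {b a : G} {v : V} (k : Vx b a v) (b2 : b * b = 1) : b • v = v := by
  obtain ⟨p, rfl⟩ := k.im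
  rw [smul_add, ← mul_smul, b2, one_smul, add_comm]

theorem inv_ba {b a : G} (b2 : b * b = 1) (a2 : a * a = 1) : b * (b * a) = (b * a)⁻¹ * b := by
  rw [← mul_assoc, b2, one_mul, mul_inv_rev, inv_mul_cancel_right, inv_eq_of_mul_eq_one_right a2]

theorem exists_vx [Finite V] (h2 : ∀ v : V, v + v = 0) {b a : G} (b2 : b * b = 1) (a2 : a * a = 1)
    (h4 : Nat.card (Nx V (b * a)) = 4) : ∃ v : V, Vx b a v := by
  have : Nontrivial (Nx V (b * a)) := Finite.one_lt_card_iff_nontrivial.1 (by omega)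
  obtain ⟨⟨u, hu⟩, u0⟩ := exists_ne (0 : Nx V (b * a))
  replace u0 : u ≠ 0 := fun e => u0 (Subtype.ext e)
  have ht := inv_ba b2 a2
  generalize hx : b * a = x at *
  obtain ⟨p, hp, hp'⟩ : ∃ p ∈ Nx V x, b • p ≠ p := by
    by_contra hc
    push Not at hc
    have e1 := hc _ (Nx_conj rfl hu)
    rw [← mul_smul, ht, mul_smul, hc u hu, inv_smul_eq_iff, Nx_sq h2 hu] at e1
    exact smul_ne (g := x) u0 (by simpa using e1)
  exact ⟨b • p + p, fun e => hp' (eq_of_add h2 e), ⟨p, rfl⟩,
    hx ▸ (Nx V x).add_mem (by simpa using Nx_inv (Nx_conj ht hp)) hp⟩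

theorem Vx.path [Finite V] (h : QF q B) (inv : ∀ (g : G) v, q (g • v) = q v) {b a c y : G} {v : V}
    (k : Vx b a v) (b2 : b * b = 1) (y3 : y * y * y = 1) (h4 : Nat.card (Nx V y) = 4)
    (cm : b * y = y * b) (e : b * y * (b * a) = b * c * (b * y)) : Vx b c v := by
  have yv : y • v = v := fix_of_perp h inv y3 fun n hn => by
    obtain ⟨p, rfl⟩ := k.im
    rw [map_add, AddMonoidHom.add_apply]
    conv_lhs => rw [← triv h.two cm b2 h4 hn, B_smul h inv, triv h.two cm b2 h4 hn]
    exact zmod2_add _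
  have := Nx_conj e k.mem
  rw [mul_smul, yv, k.fix b2] at this
  exact ⟨k.ne, k.im, this⟩

theorem Vx.edge [Finite V] (h : QF q B) (inv : ∀ (g : G) v, q (g • v) = q v) {b a : G} {v u : V}
    (k : Vx b a v) (l : Vx a b u) (b2 : b * b = 1) (a2 : a * a = 1)
    (x3 : b * a * (b * a) * (b * a) = 1) (h4 : Nat.card (Nx V (b * a)) = 4) :
    q v = 1 ∧ q u = 1 ∧ B v u = 1 ∧ ∀ y : V, tv B v (b • y) = tv B u (a • y) := by
  have h2 := h.two
  have bi : b⁻¹ = b := inv_eq_of_mul_eq_one_right b2
  have ai : a⁻¹ = a := inv_eq_of_mul_eq_one_right a2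
  have um : u ∈ Nx V (b * a) := by simpa [ai, bi] using Nx_inv l.mem
  have bv := k.fix b2
  have au := l.fix a2
  have bb : ∀ y : V, b • b • y = y := fun y => by rw [← mul_smul, b2, one_smul]
  have n3 := Nx_sq h2 um
  have bu : b • u = (b * a) • u := by rw [mul_smul, au]
  have e1 : v = u + (b * a) • u := by
    rcases mem_four h2 h4 l.ne um k.mem with e | e | e | e
    · exact absurd e k.ne
    · exact absurd (Fx_Nx h2 (x := b * a) (by rw [mem_Fx, ← bu, ← e, bv]) um) l.ne
    · refine absurd (Fx_Nx h2 (x := b * a) ?_ um) l.ne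
      rw [mem_Fx, ← e, ← bv, e, ← bu, bb]
    · exact e
  have bu' : b • u = u + v := by rw [e1, ← add_assoc, h2, zero_add, bu]
  have av : a • v = v + u := by
    rw [← (smul_left_cancel_iff b), ← mul_smul, smul_add, bv, bu', add_comm u, ← add_assoc, h2, zero_add, e1,
      smul_add, n3, add_comm u, ← add_assoc, h2, zero_add]
  have b1 : B u v = 1 := (z01 _).resolve_left fun e =>
    l.ne (Fx_Nx h2 (fix_of_perp h inv x3 fun w hw => by
      rcases mem_four h2 h4 l.ne um hw with rfl | rfl | rfl | rfl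
      · exact map_zero _
      · exact h.self _
      · rw [← bu, bu', map_add, h.self, e, add_zero]
      · rw [← e1, e]) um)
  have qv : q v = q u := by rw [e1, ← n3, inv, inv]
  have qu : q u = 1 := by
    have := h.add u v
    rwa [← bu', inv, qv, zmod2_add, zero_add, b1] at this
  have b1' : B v u = 1 := by rw [h.symm, b1]
  have ku : tv B v (b • u) = tv B u (a • u) := by
    rw [bu', au, tv_add h, tv1 b1, tv0 (h.self _), tv0 (h.self _), add_assoc, h2, add_zero]
  have kv : tv B v (b • v) = tv B u (a • v) := by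
    rw [bv, av, tv_add h, tv1 b1', tv0 (h.self _), tv0 (h.self _), add_assoc, h2, add_zero]
  have ad : ∀ y z : V, tv B v (b • y) = tv B u (a • y) → tv B v (b • z) = tv B u (a • z) →
      tv B v (b • (y + z)) = tv B u (a • (y + z)) := fun y z e1 e2 => by
    rw [smul_add, smul_add, tv_add h, tv_add h, e1, e2]
  refine ⟨qv.trans qu, qu, b1', fun y => ?_⟩
  have f1 := e_mem (V := V) x3 y
  have f2 := n_mem h2 x3 y
  generalize (b * a) • y + (b * a) • (b * a) • y = n at f1 f2
  rw [show y = y + n + n by rw [add_assoc, h2, add_zero]]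
  refine ad _ _ ?_ ?_
  · generalize y + n = f at f1
    have e : a • f = b • f := by rw [← bb (a • f), ← mul_smul b a, f1]
    have f3 : b • f ∈ Fx V (b * a) := by simpa using Fx_inv (Fx_conj (inv_ba b2 a2) f1)
    rw [e, tv0 (perp_of_fix h inv f3 k.mem), tv0 (perp_of_fix h inv f3 um)]
  · rcases mem_four h2 h4 l.ne um f2 with e | e | e | e
    · rw [e, smul_zero, smul_zero, tv0 (by simp), tv0 (by simp)]
    · rw [e, ku]
    · rw [e, ← bu, bu']; exact ad _ _ ku kv
    · rw [e, ← e1, kv]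

def gG (i j : ℕ) : ℕ := if adj i j then 1 else 0
def bM (n m : ℕ) : ℕ := apM (fun i => apM (gG i) m) n
def qM (n : ℕ) : ℕ := qK (fun i => if i = 7 then 0 else 1) gG n 8
def Mt (i j : ℕ) : ℕ := 2 ^ j ^^^ if adj j i then 2 ^ i else 0
def pr (l m : ℕ) : ℕ := apM (fun k => if l.testBit k then 1 else 0) m
def RL : List ℕ := [1, 2, 4, 5, 8, 10, 12, 13, 14, 15, 16, 19, 22, 23, 24, 26, 28, 29, 30, 31, 32, 35, 38, 39, 41, 43, 48, 51, 54, 55, 56, 58, 60, 61, 62, 63, 64, 67, 70, 71, 73, 75, 81, 84, 85, 89, 91, 96, 99, 102, 103, 105, 107, 112, 115, 118, 119, 120, 122, 124, 125, 126, 127]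
def hN (n : ℕ) : ℕ := (878448752411884729313123719318752263112885499036092930685842952959821742784105586313496303233748640676423778095369091691592269898593153220599786911191683267411031840718969850528594166395437056 >>> (5 * n)) % 32

theorem finN : ∀ n < 256, n % 128 ≠ 0 ∧ qM n ≠ 1 → ∀ l < 128, pr l n ≠ 1 →
    (∀ k < 8, pr l (2 ^ k) = 0) ∨ (∀ k < 8, pr l (2 ^ k) = bM (2 ^ k) n) ∨
    (∃ m ∈ RL, pr l m = 1 ∧ bM n m = 0) ∧ ∃ m ∈ RL, pr l m = 0 ∧ bM n m = 0 := by decide +kernel

def Ed : List (ℕ × ℕ) := [(0, 2), (2, 3), (3, 1), (3, 4), (4, 5), (5, 6)]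

theorem nat_core [Finite V] (hV : Nat.card V = 256) (h : QF q B) (inv : ∀ (g : G) v, q (g • v) = q v)
    (r : ℕ → G) (v : ℕ → V) (v7 : v 7 = 0) (r2 : ∀ i < 7, r i * r i = 1)
    (cm : ∀ i < 7, ∀ j < 7, adj i j = false → r i * r j = r j * r i) (fx : ∀ i < 7, r i • v i = v i)
    (ed : ∀ p ∈ Ed, q (v p.1) = 1 ∧ q (v p.2) = 1 ∧ B (v p.1) (v p.2) = 1 ∧
      ∀ y : V, tv B (v p.1) (r p.1 • y) = tv B (v p.2) (r p.2 • y)) :
    ∃ w : V, q w = 1 ∧ (∀ i < 7, r i • w = w) ∧ ∀ a x : V, a ≠ 0 → q a = 0 → B a w = 0 →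
      q x = 0 → B a x = 0 → x ≠ 0 → x ≠ a → ∃ g : G, g • a = a ∧ B x (g • x) = 1 := by
  have h2 := h.two
  let θ : V →+ V := AddMonoidHom.mk' (fun y => tv B (v 0) (r 0 • y)) fun y z => by
    rw [smul_add, tv_add h]
  have e0 := ed (0, 2) (by decide)
  have e1 := ed (2, 3) (by decide)
  have e2 := ed (3, 1) (by decide)
  have e3 := ed (3, 4) (by decide)
  have e4 := ed (4, 5) (by decide)
  have e5 := ed (5, 6) (by decide)
  have hθ : ∀ i < 7, ∀ y, tv B (v i) (r i • y) = θ y := fun i hi y => by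
    have t2 := (e0.2.2.2 y).symm
    have t3 := (e1.2.2.2 y).symm.trans t2
    have t4 := (e3.2.2.2 y).symm.trans t3
    have t5 := (e4.2.2.2 y).symm.trans t4
    interval_cases i
    exacts [rfl, (e2.2.2.2 y).symm.trans t3, t2, t3, t4, t5, (e5.2.2.2 y).symm.trans t5]
  have qv : ∀ i < 7, q (v i) = 1 := fun i hi => by
    interval_cases i
    exacts [e0.1, e2.2.1, e1.1, e2.1, e4.1, e5.1, e5.2.1]
  have hr : ∀ i < 7, ∀ y, r i • y = tv B (v i) (θ y) := fun i hi y => by rw [← hθ i hi, tv_tv h]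
  have θv : ∀ i < 8, θ (v i) = v i := fun i hi => by
    by_cases e : i = 7
    · rw [e, v7, map_zero]
    · rw [← hθ i (by omega), fx i (by omega), tv0 (h.self _)]
  have θB : ∀ y z, B (θ y) (θ z) = B y z := fun y z => (tv_B h _ _ _).trans (B_smul h inv _ _ _)
  have θl : ∀ n, θ (lin v n) = lin v n := fun n =>
    (lin_ap h2 θ v v _ (fun j hj => (θv j hj).trans (lin_pow v hj).symm) n).trans
      (lin_ap h2 (AddMonoidHom.id V) v v _ (fun j hj => (lin_pow v hj).symm) n).symm
  have rr : ∀ i < 7, ∀ y : V, r i • r i • y = y := fun i hi y => by rw [← mul_smul, r2 i hi, one_smul]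
  have rθ : ∀ i < 7, ∀ y, r i • θ y = θ (r i • y) := fun i hi y => by
    rw [← hθ i hi, ← hθ i hi, smul_tv h inv, fx i hi]
  have θθ : ∀ y, θ (θ y) = y := fun y => by
    rw [← hθ 0 (by norm_num) (θ y), rθ 0 (by norm_num), ← hθ 0 (by norm_num), rr 0 (by norm_num), tv_tv h]
  have hG : ∀ i < 8, ∀ j < 8, B (v i) (v j) = lin one2 (gG i j) := by
    intro i hi j hj
    rw [gG, apply_ite (lin one2), lin_one2_one, lin_zero]
    split_ifs with e
    · have : (i, j) ∈ Ed ∨ (j, i) ∈ Ed := by revert i j; decide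
      exact this.elim (fun k => (ed _ k).2.2.1) fun k => (h.symm _ _).trans (ed _ k).2.2.1
    by_cases i7 : i = 7
    · rw [i7, v7, map_zero, AddMonoidHom.zero_apply]
    by_cases j7 : j = 7
    · rw [j7, v7, map_zero]
    refine (z01 _).resolve_right fun b => ?_
    have c := congrArg (· • v i) (cm i (by omega) j (by omega) (by simpa using e))
    simp only [mul_smul] at c
    rw [fx i (by omega), hr j (by omega), θv i hi, tv1 b, smul_add, fx i (by omega), hr i (by omega),
      θv j hj, tv1 ((h.symm _ _).trans b), add_right_inj, add_eq_left] at c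
    have := qv i (by omega)
    rw [c, h.zero] at this
    exact absurd this (by decide)
  have hB : ∀ n m, B (lin v n) (lin v m) = lin one2 (bM n m) := fun n m =>
    lin_ap zmod2_add (B.flip (lin v m)) v one2 _ (fun i hi => lin_ap zmod2_add (B (v i)) v one2 _ (hG i hi) m) n
  have hq : ∀ n, q (lin v n) = lin one2 (qM n) := fun n =>
    quadK zmod2_add q B h.zero h.add v one2 _ gG (fun i hi => by
      split_ifs with e
      · rw [e, v7, h.zero, lin_zero]
      · rw [qv i (by omega), lin_one2_one]) hG n 8 le_rfl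
  have hM : ∀ i < 7, ∀ n, r i • lin v n = lin v (apM (Mt i) n) := fun i hi =>
    lin_ap h2 (DistribSMul.toAddMonoidHom V (r i)) v v _ fun j hj => by
      change r i • v j = _
      rw [hr i hi, θv j hj, Mt, lin_xor h2, lin_pow v hj, tv, hG j hj i (by omega), gG]
      cases adj j i
      · simp [lin_zero]
      · simp [lin_one2_one, lin_pow v (show i < 8 by omega)]
  have P : ∀ k, ∀ n ∈ RL, hN n = k → ∃ s : G, ∀ y, s • y = tv B (lin v n) (θ y) := by
    have chk : ∀ n ∈ RL, (∃ i < 7, n = 2 ^ i) ∨ ∃ i < 7, apM (Mt i) n ∈ RL ∧ hN (apM (Mt i) n) < hN n ∧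
        apM (Mt i) (apM (Mt i) n) = n := by decide +kernel
    intro k
    induction k using Nat.strong_induction_on with
    | _ k ih =>
      intro n hn hk
      rcases chk n hn with ⟨i, hi, rfl⟩ | ⟨i, hi, a1, a2, a3⟩
      · exact ⟨r i, fun y => by rw [lin_pow v (by omega), hr i hi]⟩
      · obtain ⟨s, hs⟩ := ih _ (hk ▸ a2) _ a1 rfl
        exact ⟨r i * s * r i, fun y => by
          rw [mul_smul, mul_smul, hs, smul_tv h inv, hM i hi, a3, rθ i hi, rr i hi]⟩
  have qw : q (lin v 82) = 1 := by rw [hq, show qM 82 = 1 by decide +kernel, lin_one2_one]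
  have w0 : lin v 82 ≠ 0 := fun e => by rw [e, h.zero] at qw; exact absurd qw (by decide)
  have wp : ∀ n < 256, B (lin v 82) (lin v n) = 0 := fun n hn => by
    rw [hB, show bM 82 n = 0 by revert n; decide +kernel, lin_zero]
  obtain ⟨y0, hy0⟩ : ∃ y, B (lin v 82) y = 1 := by
    by_contra hc
    exact w0 (h.nd _ fun y => (z01 _).resolve_right fun e => hc ⟨y, e⟩)
  have lb : ∀ n, lin (fun k => if k = 7 then y0 else v k) n = lin v n + if n.testBit 7 then y0 else 0 :=
    fun n => by simp [lin, Finset.sum_range_succ, v7]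
  have dec : ∀ y, ∃ n < 256, y = lin v n ∨ y = lin v n + y0 := fun y => by
    obtain ⟨n, hn, e⟩ := lin_surj hV h2 (fun k => if k = 7 then y0 else v k) (fun n hn e => by
      rw [lb] at e
      have chk : ∀ n < 256, n.testBit 7 = true ∨ n = 0 ∨ n = 82 ∨ ∃ k < 7, bM n (2 ^ k) = 1 := by
        decide +kernel
      split_ifs at e with t
      · have := congrArg (B (lin v 82)) e
        rw [map_add, wp n hn, hy0, map_zero] at this
        exact absurd this (by decide)
      rw [add_zero] at e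
      rcases chk n hn with k | k | k | ⟨k, -, hk⟩
      · exact absurd k t
      · exact k
      · exact absurd (k ▸ e) w0
      · have := hB n (2 ^ k)
        rw [e, hk, lin_one2_one, map_zero] at this
        exact absurd this (by simp)) y
    rw [lb] at e
    refine ⟨n, hn, ?_⟩
    split_ifs at e
    exacts [.inr e.symm, .inl (by rw [← e, add_zero])]
  have perp : ∀ y, (∀ k < 8, B (v k) y = 0) → y = 0 ∨ y = lin v 82 := fun y hy => by
    have key : ∀ y, (∀ k < 8, B (v k) y = 0) → B y y0 = 0 → y = 0 := fun y hy e => h.nd y fun z => by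
      have : ∀ n, B y (lin v n) = 0 := fun n => by
        rw [lin, map_sum]
        refine Finset.sum_eq_zero fun k hk => ?_
        split_ifs
        exacts [(h.symm _ _).trans (hy k (Finset.mem_range.1 hk)), map_zero _]
      obtain ⟨n, -, rfl | rfl⟩ := dec z
      exacts [this n, by rw [map_add, this, e, add_zero]]
    refine (z01 (B y y0)).imp (key y hy) fun e => eq_of_add h2 (key _ (fun k hk => ?_) ?_)
    · rw [map_add, hy k hk, ← lin_pow v hk, h.symm, wp _ (by revert k; decide), add_zero]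
    · rw [map_add, AddMonoidHom.add_apply, e, hy0]; rfl
  refine ⟨lin v 82, qw, fun i hi => by rw [hM i hi, show apM (Mt i) 82 = 82 by revert i; decide +kernel],
    fun a x a0 qa aw qx ax x0 xa => ?_⟩
  obtain ⟨n, hn, rfl | rfl⟩ := dec a
  swap
  · rw [h.symm, map_add, wp n hn, hy0] at aw; exact absurd aw (by decide)
  obtain ⟨l, hl, e⟩ : ∃ l < 128, ∀ k < 8, B (v k) x = lin one2 (if l.testBit k then 1 else 0) := by
    refine ⟨Nat.ofBits fun k : Fin 7 => decide (B (v k) x = 1), Nat.ofBits_lt_two_pow _, fun k hk => ?_⟩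
    rw [Nat.testBit_ofBits, apply_ite (lin one2), lin_one2_one, lin_zero]
    by_cases k7 : k < 7
    · rcases z01 (B (v k) x) with a | a <;> simp [k7, a]
    · rw [dif_neg k7, show k = 7 by omega, v7]; simp
  have hp : ∀ m, B (lin v m) x = lin one2 (pr l m) := lin_ap zmod2_add (B.flip x) v one2 _ e
  have ne : ∀ {t}, lin one2 t = 0 → t ≠ 1 := fun e k => by
    rw [k, lin_one2_one] at e; exact absurd e (by decide)
  rcases finN n hn ⟨fun k => a0 (by
      obtain rfl | rfl : n = 0 ∨ n = 2 ^ 7 := by omega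
      exacts [lin_zero v, (lin_pow v (by norm_num)).trans v7]), ne (hq n ▸ qa)⟩ l hl (ne (hp n ▸ ax)) with
    k | k | ⟨⟨m, hm, m1, m2⟩, m', hm', m3, m4⟩
  · rcases perp x fun j hj => by rw [← lin_pow v hj, hp, k j hj, lin_zero] with e | e
    · exact absurd e x0
    · rw [e, qw] at qx; exact absurd qx (by decide)
  · rcases perp (lin v n + x) fun j hj => by
      rw [map_add, ← lin_pow v hj, hp, hB, k j hj, zmod2_add] with e | e
    · exact absurd (eq_of_add h2 e).symm xa
    · rw [← e, h.add, qa, qx, ax] at qw; exact absurd qw (by decide)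
  obtain ⟨s, hs⟩ := P _ m hm rfl
  obtain ⟨t, ht⟩ := P _ m' hm' rfl
  have st : ∀ y, (s * t) • y = tv B (lin v m) (tv B (lin v m') y) := fun y => by
    rw [mul_smul, hs, ht, map_tv θ θB, θl, θθ]
  refine ⟨s * t, ?_, ?_⟩
  · rw [st, tv0 (y := lin v n) (by rw [hB, m4, lin_zero]), tv0 (by rw [hB, m2, lin_zero])]
  · have b1 : B x (lin v m) = 1 := by rw [h.symm, hp, m1, lin_one2_one]
    rw [st, tv0 (y := x) (by rw [h.symm, hp, m3, lin_zero]), tv1 b1, map_add, h.self, b1, zero_add]

end H28.C2A
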