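import Mathlib
import Cfsg.Agent.H4.C2X

/-! The normal elementary abelian subgroup of order `32` of the centraliser of a `2B` involution. -/

set_option autoImplicit false
set_option linter.unusedSectionVars false
set_option maxRecDepth 100000
set_option exponentiation.threshold 20000
set_option synthInstance.maxSize 4000

open Subgroup H24 H29 H9.MX H15.XP H15.KM H11 H4.C2
open H28.Th (mulQ invQ mulQ_lt invQ_lt)

namespace H28.C2Z

/-- words of the basis -/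
noncomputable def zb (j : ℕ) : List ℕ := nth [] [[12], [0], [76], [77], [3, 8, 5, 7]] j
/-- the word of a code -/
noncomputable def zw (n : ℕ) : List ℕ := (mw [0, 1, 2, 3, 4] n).flatMap zb
/-- `w` maps `n` to `m` -/
noncomputable def cz (w : List ℕ) (n m : ℕ) : Bool := eqW runC (app w (zw n)) (app (zw m) w)
/-- `w` fixes `s` and normalises the subgroup -/
noncomputable def okZ (w : List ℕ) : Bool := frc w fun w => and2 (cz w 1 1) (allN 5 fun j =>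
  lit (runC (app w (app (zb j) (invW iv0 w)))) fun r => not1 (allN 32 fun m => lit m fun m =>
    not1 (Nat.beq r (runC (zw m)))))
def LM : List ℕ := [75, 3, 8, 5, 76, 77, 78, 79, 7, 12, 13, 14, 15, 17, 18, 19, 0]
def WL : List (ℕ × List ℕ) := [(6, []), (5, [17]), (10, [27, 4]), (9, [27, 4, 17]), (18, [52, 6]),
  (17, [52, 6, 17]), (14, [70, 26]), (13, [70, 26, 17]), (30, [41, 30]), (29, [41, 30, 17]), (26, [65, 39]),
  (25, [65, 39, 17]), (22, [58, 50]), (21, [58, 50, 17])]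
def tq (r n : ℕ) : ℕ := if r &&& n / 4 ∈ [1, 2, 4, 7] then 3 else 0
def cd (m : ℕ) : ℕ := 4 * (m % 16) + m / 256

theorem k1 : ∀ c ∈ LM, okZ [c] = true := by decide +kernel
theorem k2 : (allN 2835 fun i => lit i fun i => frc (wd i) fun w =>
    or2 (not1 (Nat.beq (Nat.mod (act w 1) 256) 1)) (or2 (okZ w) (okZ (16 :: w)))) = true := by decide +kernel
theorem k3 : ∀ m < 512, mulQ m 1 = mulQ 1 m → ∀ c ∈ qw m, c ∈ LM := by decide +kernel
theorem k4 : ∀ p ∈ WL, okZ p.2 = true ∧ cz p.2 6 p.1 = true := by decide +kernel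
theorem k5 : ∀ r < 8, ∀ n < 32, cz (mw [17, 18, 15] r) n (n ^^^ tq r n) = true := by decide +kernel
theorem k6 : ∀ m < 512, m % 256 < 16 → eqW runC (qw m) (mw lE (cd m)) = true := by decide +kernel
theorem k7 : ∀ m < 512, mulQ m m = 0 → m % 256 ≠ 0 → cjq [7] m = m →
    m % 256 < 16 ∧ f2 (2 ^^^ cd m) ≠ f2 4 := by decide +kernel
theorem k8 : ∀ m < 512, mulQ m m = 0 → m % 256 ≠ 0 → (∀ κ ∈ [[1, 79], [3, 79]],
    mulQ m (cjq κ m) = mulQ (cjq κ m) m) → cjq [0, 76] m = m → m % 256 < 16 ∧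
      (f2 (65 ^^^ cd m) = f2 4 → ∃ c ∈ [[], [1], [20]], cjq c m = 1) := by decide +kernel

variable {G : Type} [Group G] [Finite G]

/-- the basis -/
noncomputable def ez (e : ℕ → G) (j : ℕ) : G := ev e (zb j)
/-- the element with a given code -/
noncomputable def ζ (e : ℕ → G) (n : ℕ) : G := ev (ez e) (mw [0, 1, 2, 3, 4] n)
/-- the subgroup -/
noncomputable def ZZ (e : ℕ → G) : Subgroup G := gen (ez e) [0, 1, 2, 3, 4]

variable {e : ℕ → G} {π : C{e 0} →* C3S.S}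

theorem ev_zw (n : ℕ) : ev e (zw n) = ζ e n := by
  rw [zw, ζ]
  induction mw [0, 1, 2, 3, 4] n with
  | nil => rfl
  | cons c w ih => rw [List.flatMap_cons, ev_append, ih, ev_cons, ez]

theorem ζ_mem (n : ℕ) : ζ e n ∈ ZZ e := ev_mem_gen (mem_mw _ _)
theorem ζ0 : ζ e 0 = 1 := rfl
theorem ζ1 : ζ e 1 = e 12 := by rw [← ev_zw, show zw 1 = [12] by decide +kernel]; simp
theorem ζ2 : ζ e 2 = e 0 := by rw [← ev_zw, show zw 2 = [0] by decide +kernel]; simp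
theorem ζ6 : ζ e 6 = ε e 65 := by rw [← ev_zw, show zw 6 = mw lE 65 by decide +kernel, ε]
theorem θ1 : θ e 1 = e 12 := θ_pow (j := 0) (by norm_num)

section

variable (h : Let e 1)
include h

theorem ζ_mul (n m : ℕ) : ζ e n * ζ e m = ζ e (n ^^^ m) :=
  ev_mw_xor (fun c hc => by
    simpa [ez] using h.iso.eqW.1 ((by decide +kernel : ∀ c ∈ [0, 1, 2, 3, 4],
      eqW runC (zb c ++ zb c) [] = true) c hc)) (fun c hc d hd => by
    simpa [ez] using h.iso.eqW.1 ((by decide +kernel : ∀ c ∈ [0, 1, 2, 3, 4], ∀ d ∈ [0, 1, 2, 3, 4],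
      eqW runC (zb c ++ zb d) (zb d ++ zb c) = true) c hc d hd)) n m

theorem ζ_sq (n : ℕ) : ζ e n * ζ e n = 1 := by rw [ζ_mul h, Nat.xor_self, ζ0]

theorem mem_Z {g : G} (hg : g ∈ ZZ e) : ∃ n < 32, ζ e n = g := by
  induction hg using Subgroup.closure_induction with
  | mem x hx =>
    obtain ⟨c, hc, rfl⟩ := hx
    obtain ⟨h1, h2⟩ := (by decide +kernel : ∀ c ∈ [0, 1, 2, 3, 4], 2 ^ c < 32 ∧
      mw [0, 1, 2, 3, 4] (2 ^ c) = [c]) c hc
    exact ⟨_, h1, by rw [ζ, h2]; simp⟩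
  | one => exact ⟨0, by norm_num, ζ0⟩
  | mul x y _ _ hx hy =>
    obtain ⟨n, hn, rfl⟩ := hx
    obtain ⟨m, hm, rfl⟩ := hy
    exact ⟨_, Nat.xor_lt_two_pow (n := 5) hn hm, (ζ_mul h n m).symm⟩
  | inv x _ hx =>
    obtain ⟨n, hn, rfl⟩ := hx
    exact ⟨n, hn, eq_inv_of_mul_eq_one_right (ζ_sq h n)⟩

theorem Z_sq {g : G} (hg : g ∈ ZZ e) : g * g = 1 := by
  obtain ⟨n, -, rfl⟩ := mem_Z h hg; exact ζ_sq h n

theorem Z_le (n : ℕ) : ZZ e ≤ C{ζ e n} := fun g hg => by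
  obtain ⟨m, -, rfl⟩ := mem_Z h hg
  rw [mem_C1, ζ_mul h, ζ_mul h, Nat.xor_comm]

theorem cz_spec {w : List ℕ} {n m : ℕ} (a : cz w n m = true) : ev e w * ζ e n * (ev e w)⁻¹ = ζ e m := by
  rw [cz, h.iso.eqW, app_eq, app_eq, ev_append, ev_append, ev_zw, ev_zw] at a
  rw [a, mul_inv_cancel_right]

theorem ok_spec {w : List ℕ} (a : okZ w = true) : ev e w ∈ C{e 12} ⊓ N[ZZ e] := by
  simp only [okZ, frc_eq, and2_true, allN_true, lit_eq, not1_true, H29.beq_true, h.iso _ _, app_eq,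
    ev_append, ev_invW h.iv, ev_zw, not_forall, not_not] at a
  refine ⟨mem_C1_iff_conj.2 (by simpa only [ζ1] using cz_spec h a.1),
    mem_N_of_finite fun x hx => conj_mem_gen (fun d hd => ?_) hx⟩
  obtain ⟨m, -, b⟩ := a.2 d (by revert d; decide)
  rw [ez, mul_assoc, b]; exact ζ_mem m

theorem LM_spec {w : List ℕ} (a : ∀ c ∈ w, c ∈ LM) : ev e w ∈ C{e 12} ⊓ N[ZZ e] :=
  ev_mem fun c hc => by simpa using ok_spec h (k1 c (a c hc))

theorem QN {m : ℕ} (hm : m < 512) (a : θ e m ∈ C{e 12}) : θ e m ∈ N[ZZ e] := by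
  rw [← θ1 (e := e), mem_C1, h.θ_mul, h.θ_mul] at a
  rw [← ev_qw]
  exact (LM_spec h (k3 m hm (h.θ_inj (mulQ_lt hm (by norm_num)) (mulQ_lt (by norm_num) hm) a))).2

theorem θ_cd {m : ℕ} (hm : m < 512) (a : m % 256 < 16) : θ e m = ε e (cd m) := by
  rw [← ev_qw]; exact h.iso.eqW.1 (k6 m hm a)

end

theorem cd_lt {m : ℕ} (hm : m < 512) : cd m < 1024 := by unfold cd; omega

theorem MN (h : En e π 1) {g : G} (h1 : g ∈ C{e 0}) (h2 : g ∈ C{e 12}) : g ∈ N[ZZ e] := by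
  obtain ⟨i, a1, k, -, n, a3, rfl⟩ := h.cover h1
  have b1 := LM_spec h.toLet (w := mw lT k) fun c hc =>
    (by decide : ∀ c ∈ lT, c ∈ LM) c (mem_mw _ _ c hc)
  rw [ev_append, ← mul_assoc] at h2 ⊢
  refine mul_mem ?_ b1.2
  rw [mul_mem_cancel_right (mem_inf.1 b1).1] at h2
  obtain ⟨m, c1, c2, c3⟩ := h.conjm n a3 (wd i) (m := 1) (by norm_num)
  rw [θ1, mem_C1_iff_conj.1 h2, ← θ1 (e := e)] at c2
  rw [← h.θ_inj (by norm_num) c1 c2] at c3
  have hp := allN_true.1 k2 i a1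
  simp only [lit_eq, frc_eq, or2_true, not1_true, H29.beq_true] at hp
  obtain ⟨q, hq, d⟩ : ∃ q ∈ gen e lQ, q * ev e (wd i) ∈ C{e 12} ⊓ N[ZZ e] :=
    (hp.resolve_left fun a => a c3.symm).elim (fun a => ⟨1, one_mem _, by simpa using ok_spec h.toLet a⟩)
      fun a => ⟨e 16, mem_gen (by decide), ok_spec h.toLet a⟩
  obtain ⟨r, d1, d2⟩ := h.mem_Q.1 (mul_mem (h.θ_mem n) (inv_mem hq))
  rw [show θ e n * ev e (wd i) = θ e r * (q * ev e (wd i)) by rw [d2]; group] at h2 ⊢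
  exact mul_mem (QN h.toLet d1 ((mul_mem_cancel_right (mem_inf.1 d).1).1 h2)) d.2

/-- the conjugates of `t` under `C(s)` which commute with `t` -/
theorem D_le (h : Ft e π) {k : G} (hk : k ∈ C{e 12}) (hy : k * e 0 * k⁻¹ ∈ C{e 0}) :
    k * e 0 * k⁻¹ ∈ ZZ e := by
  obtain ⟨c, c1, z, hz, c2⟩ := h.DC hy ⟨k, rfl⟩
  have sQ : e 12 ∈ gen e lQ := mem_gen (by decide)
  obtain ⟨m, m1, m2⟩ := h.mem_Q.1 (conj_mem (h.lx.norm c1) sQ)
  have L := h.lx.cj (c * k)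
  have sL : θ e m ∈ cj (c * k) (gen e lQ) := by
    rw [m2, ← mem_C1_iff_conj.1 hk, show c * (k * e 12 * k⁻¹) * c⁻¹ = c * k * e 12 * (c * k)⁻¹ by group]
    exact conj_mem_cj _ sQ
  rw [show c * k * e 0 * (c * k)⁻¹ = ε e z by rw [← c2]; group] at L
  have b1 : mulQ m m = 0 := h.θ_inj (mulQ_lt m1 m1) (by norm_num) (by
    rw [← h.θ_mul, m2, conj_mul, h.sq, θ_zero]; simp)
  have b2 : m % 256 ≠ 0 := fun a => by
    have h3 : θ e m ∈ C[gen e lQ] := by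
      obtain rfl | rfl : m = 0 ∨ m = 256 := by omega
      exacts [θ_zero (e := e) ▸ one_mem _, θ_256 (e := e) ▸ mem_C_iff_le_C1.2 h.lx.le]
    rcases h.lx.eq_or h3 with a | a <;> rw [m2] at a
    · exact h.iso.ne (u := [12]) (v := []) (by decide +kernel) (by simpa using conj_eq_one_iff'.1 a)
    · rw [← mem_C1_iff_conj.1 c1, mul_left_inj, mul_right_inj] at a
      exact h.iso.ne (u := [12]) (v := [0]) (by decide +kernel) (by simpa using a)
  have b3 : ∀ w, ev e w = ε e z → cjq w m = m := fun w a => h.θ_inj (cjq_lt _ m1) m1 (by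
    rw [← h.conj w m1, a, ← mem_C1.1 (L.le sL), mul_inv_cancel_right])
  have b4 : z < 1024 → m % 256 < 16 → f2 (z ^^^ cd m) = f2 4 := fun z1 a =>
    (h.FE (g := c * k * e 16) (by norm_num) (xor_lt z1 (cd_lt m1)) (by
      have := h.conj [16] (n := 1) (by norm_num)
      rw [show cjq [16] 1 = mulQ 256 1 by decide +kernel, ← h.θ_mul, θ_256, θ1, ev_cons, ev_nil, mul_one] at this
      rw [← h.ε_mul, ← θ_cd h.toLet m1 a, m2, ← c2, ε_four, show c * k * e 16 * e 12 * (c * k * e 16)⁻¹ =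
        c * k * (e 16 * e 12 * (e 16)⁻¹) * (c * k)⁻¹ by group, this]
      nth_rw 2 [← mem_C1_iff_conj.1 hk]
      group)).symm
  simp only [List.mem_cons, List.not_mem_nil, or_false] at hz
  rcases hz with rfl | rfl | rfl
  · rw [ε_one, ← mem_C1_iff_conj.1 c1] at c2
    nth_rw 1 [mem_C1_iff_conj.1 c1] at c2
    rw [mul_left_inj, mul_right_inj] at c2
    rw [c2, ← ζ2 (e := e)]; exact ζ_mem 2
  · have := k7 m m1 b1 b2 (b3 _ (by simp [ε_two]))
    exact absurd (b4 (by norm_num) this.1) this.2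
  have e65 : ev e [0, 76] = ε e 65 := by rw [ε, show mw lE 65 = [0, 76] by decide +kernel]
  have cc : ∀ w ∈ [[], [1], [20], [1, 79], [3, 79]], ev e w ∈ C{ε e 65} := fun w hw => by
    rw [mem_C1, ← e65, ← ev_append, ← ev_append, ← h.iso.eqW]
    revert w; decide +kernel
  obtain ⟨d1, d2⟩ := k8 m m1 b1 b2 (fun κ hκ => h.θ_inj (mulQ_lt m1 (cjq_lt _ m1)) (mulQ_lt (cjq_lt _ m1) m1) (by
    rw [← h.θ_mul, ← h.θ_mul, ← mem_C1]
    by_contra n
    have a1 := h.lx.conj_eq (h.θ_mem m) (h.θ_mem _) n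
    rw [L.conj_eq sL (h.conj κ m1 ▸ conj_mem (L.norm (cc κ (List.mem_append_right [[], [1], [20]] hκ))) sL) n, mul_left_inj,
      ← ε_one (e := e)] at a1
    exact absurd (h.ε_inj (by norm_num) (by norm_num) a1) (by norm_num))) (b3 _ e65)
  obtain ⟨w, hw, d3⟩ := d2 (b4 (by norm_num) d1)
  have d4 := MN h.toEn (mul_mem (h.ev_C w) c1) (mem_C1_iff_conj.2 (by
    rw [show ev e w * c * e 12 * (ev e w * c)⁻¹ = ev e w * (c * e 12 * c⁻¹) * (ev e w)⁻¹ by group, ← m2,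
      h.conj w m1, d3, θ1]))
  rw [← conj_mem_iff d4, show ∀ y, ev e w * c * y * (ev e w * c)⁻¹ = ev e w * (c * y * c⁻¹) * (ev e w)⁻¹ from
    fun y => by group, c2, mem_C1_iff_conj.1 (cc w (List.mem_append_left [[1, 79], [3, 79]] hw)), ← ζ6]
  exact ζ_mem 6

theorem exists_h (h : Ft e π) : ∃ g ∈ C{e 12} ⊓ N[ZZ e], g * e 0 * g⁻¹ = ζ e 6 := by
  obtain ⟨g, g1, g2⟩ : ∃ g ∈ C{e 12}, g * e 0 * g⁻¹ = ζ e 6 := by
    obtain ⟨k, a1, a2⟩ := h.trans ((h.D_iff (n := 65) (by norm_num)).2 (by decide +kernel))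
    obtain ⟨m, b1, b2⟩ := h.mem_E.1 (conj_mem' a1 (ε_mem 4))
    have b3 : k * ε e m * k⁻¹ = ε e 4 := by rw [b2]; group
    have c1 := h.FE b1 (by norm_num) b3
    have c2 := h.FE (g := k) (xor_lt b1 (m := 1) (by norm_num)) (m := 4 ^^^ 65) (by decide) (by
      rw [← h.ε_mul, ← h.ε_mul, ← conj_mul, b3, a2])
    obtain ⟨c, d1, -, d3⟩ := h.EO b1
    rw [(by decide +kernel : ∀ m < 1024, f2 m = f2 4 → f2 (m ^^^ 1) = f2 (4 ^^^ 65) → H4.C2.rep (lab m) = 4)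
      m b1 c1 c2] at d3
    refine ⟨k * c⁻¹, mem_C1_iff_conj.2 (by rw [← ε_four (e := e), ← d3]; nth_rw 2 [d3]; rw [← b3]; group), ?_⟩
    rw [ζ6, ← a2, ε_one]
    nth_rw 1 [← mem_C1_iff_conj.1 d1]
    group
  have k : ∀ u ∈ C{e 12}, u * e 0 * u⁻¹ ∈ ZZ e → u * e 0 * u⁻¹ ∈ cj g (ZZ e) := fun u a b => by
    have := D_le h (mul_mem (inv_mem g1) a) (by
      have := cjC g⁻¹ (Z_le h.toLet 6 b)
      rw [← g2] at this
      simpa [mul_assoc] using this)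
    simpa [mem_cj, mul_assoc] using this
  have k0 : ∀ n ∈ 0 :: 2 :: WL.map Prod.fst, ζ e n ∈ cj g (ZZ e) := fun n hn => by
    simp only [List.mem_cons (l := _ :: _), List.mem_cons (l := List.map _ _), List.mem_map] at hn
    rcases hn with rfl | rfl | ⟨p, hp, rfl⟩
    · exact one_mem _
    · simpa [ζ2] using k 1 (one_mem _) (by simpa [ζ2] using ζ_mem (e := e) 2)
    · have a1 := cz_spec h.toLet (k4 p hp).2
      rw [← g2, show ∀ u, u * (g * e 0 * g⁻¹) * u⁻¹ = u * g * e 0 * (u * g)⁻¹ from fun u => by group] at a1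
      rw [← a1]
      exact k _ (mul_mem (ok_spec h.toLet (k4 p hp).1).1 g1) (a1 ▸ ζ_mem _)
  refine ⟨g, ⟨g1, mem_N_iff_cj.2 (eq_of_card_ge (fun x hx => ?_) (by simp)).symm⟩, g2⟩
  obtain ⟨n, hn, rfl⟩ := mem_Z h.toLet hx
  obtain ⟨a, ha, b, hb, c, hc, rfl⟩ := (by decide +kernel : ∀ n < 32, ∃ a ∈ 0 :: 2 :: WL.map Prod.fst,
    ∃ b ∈ 0 :: 2 :: WL.map Prod.fst, ∃ c ∈ 0 :: 2 :: WL.map Prod.fst, n = a ^^^ b ^^^ c) n hn
  rw [← ζ_mul h.toLet, ← ζ_mul h.toLet]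
  exact mul_mem (mul_mem (k0 a ha) (k0 b hb)) (k0 c hc)

end H28.C2Z
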