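import Mathlib
import Cfsg.Agent.H26.GMain

/-! A strongly closed elementary abelian subgroup with a doubly transitive normaliser. -/

set_option autoImplicit false

open Cfsg H24 H26 H26.Gold Subgroup
open scoped commutatorElement

namespace H28.C2Z

theorem gold {X : Type} [Group X] [Finite X] {S A : Subgroup X} {t c h : X} (hS : Syl 2 ⊤ S) (hE : EA A)
    (AS : A ≤ S) (tA : t ∈ A) (t1 : t ≠ 1) (hN : h ∈ N[A]) (hc : h * t * h⁻¹ = c)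
    (hb : ∀ b ∈ A, b ≠ 1 → b ≠ t → ∃ n ∈ N[A], n * t * n⁻¹ = t ∧ n * c * n⁻¹ = b)
    (tv : ∀ x ∈ A, ∀ y ∈ A, ∃ q ∈ N[A], q * x * q⁻¹ = x ∧ q * y * q⁻¹ = y ∧ q * t * q⁻¹ = t ∧
      (∀ a ∈ A, q * a * q⁻¹ = a ∨ q * a * q⁻¹ = a * t) ∧ ∃ a ∈ A, q * a * q⁻¹ = a * t)
    (sc : ∀ g, g * t * g⁻¹ ∈ S → g * t * g⁻¹ ∈ A) : (⊤ : Subgroup X) ≤ Od[⊤] ⊔ N[A] := by
  have tr : ∀ a ∈ A, a ≠ 1 → ∃ n ∈ N[A], n * t * n⁻¹ = a := fun a ha a1 => by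
    by_cases k : a = t
    · exact ⟨1, one_mem _, by simp [k]⟩
    obtain ⟨n, h1, -, h2⟩ := hb a ha a1 k
    exact ⟨n * h, mul_mem h1 hN, by rw [← h2, ← hc]; group⟩
  have tr2 : ∀ a ∈ A, ∀ b ∈ A, ∀ d ∈ A, a ≠ 1 → b ≠ 1 → d ≠ 1 → b ≠ a → d ≠ a →
      ∃ n ∈ N[A], n * a * n⁻¹ = a ∧ n * b * n⁻¹ = d := fun a ha b h1 d h2 a1 b1 d1 ba da => by
    obtain ⟨k, hk, rfl⟩ := tr a ha a1
    have key : ∀ b ∈ A, b ≠ 1 → b ≠ k * t * k⁻¹ → ∃ n ∈ N[A], n * t * n⁻¹ = t ∧ n * c * n⁻¹ = k⁻¹ * b * k :=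
      fun b h1 b1 ba => hb _ (conj_mem' hk h1) (fun e => b1 (by simpa [mul_assoc] using congrArg (k * · * k⁻¹) e))
        fun e => ba (by rw [← e]; group)
    obtain ⟨n, n1, n2, n3⟩ := key b h1 b1 ba
    obtain ⟨m, m1, m2, m3⟩ := key d h2 d1 da
    refine ⟨k * m * n⁻¹ * k⁻¹, mul_mem (mul_mem (mul_mem hk m1) (inv_mem n1)) (inv_mem hk), ?_, ?_⟩
    · nth_rw 1 [← n2]
      nth_rw 2 [← m2]
      group
    · rw [show b = k * (n * c * n⁻¹) * k⁻¹ by rw [n3]; group, show d = k * (m * c * m⁻¹) * k⁻¹ by rw [m3]; group]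
      group
  have hsc : IsStronglyClosed A S := ⟨AS, fun a ha g hg => by
    by_cases a1 : a = 1
    · simp [a1]
    obtain ⟨n, -, rfl⟩ := tr a ha a1
    rw [show g * (n * t * n⁻¹) * g⁻¹ = g * n * t * (g * n)⁻¹ by group] at hg ⊢
    exact sc _ hg⟩
  have hD := sc_DC hS hE hsc
  have hM := maxD_DC hS hE hsc
  have ctx := ctx_all hD hM
  by_cases hK : ∃ K, Piece (DC A) ⊤ K
  swap
  · exact (hM.frattini hD).sup_eq.ge.trans (sup_le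
      (ctx.struct.trans (sup_le (sup_le_sup (hD.Od_Og_le _) (norm_self _))
        (sSup_le fun K h => absurd ⟨K, h⟩ hK))) (inf_le_right.trans le_sup_right))
  exfalso
  obtain ⟨K, hK⟩ := hK
  have T := ctx.trs hK
  by_cases B1 : A ⊓ Ck K = ⊥
  swap
  · obtain ⟨b, ⟨bA, bC⟩, b1⟩ := (ne_bot_iff_exists_ne_one.1 B1).elim fun b h => (⟨b, b.2, fun e => h (Subtype.ext e)⟩ :
      ∃ b ∈ A ⊓ Ck K, b ≠ 1)
    obtain ⟨a, ⟨aA, aK⟩, aC⟩ := SetLike.not_le_iff_exists.1 (ctx.not_le_Ck hK)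
    replace bC : b ∈ Ck K := bC
    have ab : a * b ∉ Ck K := fun e => aC ((mul_mem_cancel_right bC).1 e)
    obtain ⟨n, -, n1, n2⟩ := tr2 a aA b bA (a * b) (mul_mem aA bA) (fun e => aC (e ▸ one_mem _)) b1
      (fun e => ab (e ▸ one_mem _)) (fun e => aC (e ▸ bC)) (by simpa using b1)
    have hK' := hK.cj hD n
    rw [cj_top] at hK'
    by_cases e : cj n K = K
    · exact ab (n2 ▸ conj_mem (norm_Ck le_rfl (mem_N_iff_cj.2 e)) bC)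
    · exact aC (hK.le_Ck_of_ne hK' e (n1 ▸ conj_mem_cj n aK))
  have KN := ctx.norm_piece hK B1
  rw [B1] at T
  obtain ⟨y, yA, y1, yt⟩ : ∃ y ∈ A, y ≠ 1 ∧ y ≠ t := by
    obtain ⟨q, -, -, -, q1, -, a, ha, q2⟩ := tv t tA t tA
    exact ⟨a, ha, fun e => t1 (by simpa [e] using q2.symm), fun e => t1 (by rw [e, q1] at q2; simpa using q2)⟩
  obtain ⟨u, ⟨uK, uN⟩, -, e⟩ := T.trans t tA (mt mem_bot.1 t1) y yA (mt mem_bot.1 y1)
  rw [mem_bot, mul_eq_one_iff_eq_inv, hE.inv yA] at e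
  obtain ⟨q, qN, q1, q2, q3, q4, a, ha, q5⟩ := tv y yA _ (conj_mem' uN tA)
  obtain ⟨p, hp⟩ : ∃ p, p = u * q * u⁻¹ := ⟨_, rfl⟩
  have p1 : p * t * p⁻¹ = t := by
    rw [hp, show u * q * u⁻¹ * t * (u * q * u⁻¹)⁻¹ = u * (q * (u⁻¹ * t * u) * q⁻¹) * u⁻¹ by group, q2]; group
  have p2 : p * y * p⁻¹ = y := by
    rw [hp, ← e, show u * q * u⁻¹ * (u * t * u⁻¹) * (u * q * u⁻¹)⁻¹ = u * (q * t * q⁻¹) * u⁻¹ by group, q3]
  have p3 : ∀ a ∈ A, p * a * p⁻¹ = a ∨ p * a * p⁻¹ = a * y := fun a ha => by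
    rw [hp, show u * q * u⁻¹ * a * (u * q * u⁻¹)⁻¹ = u * (q * (u⁻¹ * a * u) * q⁻¹) * u⁻¹ by group, ← e]
    refine (q4 _ (conj_mem' uN ha)).imp (fun k => ?_) fun k => ?_ <;> rw [k] <;> group
  have pN : p ∈ N[A] := hp ▸ mul_mem (mul_mem uN qN) (inv_mem uN)
  have vK : q * p⁻¹ ∈ K := by
    rw [hp, show q * (u * q * u⁻¹)⁻¹ = q * u * q⁻¹ * u⁻¹ by group]
    exact mul_mem (conj_mem (KN (mem_top q)) uK) (inv_mem uK)
  have vN := mul_mem qN (inv_mem pN)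
  have cj2 : ∀ g a b : X, g * (a * b) * g⁻¹ = g * a * g⁻¹ * (g * b * g⁻¹) := fun g a b => by group
  have p4 : ∀ a ∈ A, p⁻¹ * a * p = a ∨ p⁻¹ * a * p = a * y := fun a ha =>
    (p3 a ha).imp (fun k => by nth_rw 1 [← k]; group) fun k => by
      rw [show a = p * (a * y) * p⁻¹ by rw [cj2, k, p2, mul_assoc, hE.sq yA, mul_one]]
      nth_rw 2 [cj2]
      rw [k, p2, mul_assoc (a * y), hE.sq yA]; group
  have v1 : ∀ a ∈ A, ∃ w ∈ A, q * p⁻¹ * a * (q * p⁻¹)⁻¹ = a * w ∧ q * p⁻¹ * w * (q * p⁻¹)⁻¹ = w ∧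
      (q * a * q⁻¹ = a * t → w ≠ 1) := fun a ha => by
    have f1 : q * p⁻¹ * t * (q * p⁻¹)⁻¹ = t := by nth_rw 1 [← p1]; nth_rw 2 [← q3]; group
    have f2 : q * p⁻¹ * y * (q * p⁻¹)⁻¹ = y := by nth_rw 1 [← p2]; nth_rw 2 [← q1]; group
    have ty : t * y ≠ 1 := fun e => yt (by rw [eq_inv_of_mul_eq_one_right e, hE.inv tA])
    have nt : q * a * q⁻¹ = a → ¬ q * a * q⁻¹ = a * t := fun k1 k2 => t1 (by simpa [k1] using k2)
    rw [show q * p⁻¹ * a * (q * p⁻¹)⁻¹ = q * (p⁻¹ * a * p) * q⁻¹ by group]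
    rcases p4 a ha with k | k <;> rcases q4 a ha with k' | k' <;> rw [k]
    · exact ⟨1, one_mem _, by simpa using k', by simp, fun e => absurd e (nt k')⟩
    · exact ⟨t, tA, k', f1, fun _ => t1⟩
    · exact ⟨y, yA, by rw [cj2, k', q1], f2, fun _ => y1⟩
    · exact ⟨t * y, mul_mem tA yA, by rw [cj2, k', q1, mul_assoc], by rw [cj2, f1, f2], fun _ => ty⟩
  generalize q * p⁻¹ = v at vK vN v1
  have v2 : v ^ 2 ∈ C[A] := mem_C'.2 fun a ha => by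
    obtain ⟨w, hw, k1, k2, -⟩ := v1 a ha
    rw [← mul_inv_eq_iff_eq_mul, show v ^ 2 * a * (v ^ 2)⁻¹ = v * (v * a * v⁻¹) * v⁻¹ by rw [pow_two]; group,
      k1, cj2, k1, k2, mul_assoc, hE.sq hw, mul_one]
  obtain ⟨i, m, ⟨j, rfl⟩, hm⟩ := Nat.exists_eq_two_pow_mul_odd (orderOf_pos v).ne'
  have v3 : v ^ (2 * j + 1) ∈ C[A] := by
    have := T.two _ (pow_mem (mem_inf.2 ⟨vK, vN⟩) (2 * j + 1)) (piElt_of_pow_eq_one
      ((piNat_self Nat.prime_two).pow i) (by rw [← pow_mul, mul_comm, ← hm, pow_orderOf_eq_one]))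
    rw [le_bot_iff, comm_eq_bot'] at this
    exact this (mem_zpowers _)
  rw [pow_succ, pow_mul, mul_mem_cancel_left (pow_mem v2 j)] at v3
  obtain ⟨w, -, k1, -, k2⟩ := v1 a ha
  exact k2 q5 (by rwa [conj_eq_of_mem_C v3 ha, left_eq_mul] at k1)

end H28.C2Z
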