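import Mathlib
import Cfsg.Agent.H4.K3SD

/-!
# Small lemmas on `2`-groups for the configuration `2^3 L3(2)`
-/

set_option autoImplicit false
set_option linter.unusedSectionVars false
set_option linter.unusedVariables false

open Cfsg H24 H26 H26.Gold H23.TC H3.B71 Subgroup

namespace H28.K3L

universe u

variable {G : Type u} [Group G] [Finite G] {A B P Q U : Subgroup G} {g x : G}

/-- the centraliser of the section `A / B` -/
def Cs (A : Set G) (B : Subgroup G) : Subgroup G where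
  carrier := {g | g ∈ N[B] ∧ ∀ x ∈ A, g * x * g⁻¹ * x⁻¹ ∈ B}
  one_mem' := ⟨one_mem _, fun x _ => by simp⟩
  mul_mem' := fun {g h} hg hh => ⟨mul_mem hg.1 hh.1, fun x hx => by
    have := mul_mem (conj_mem hg.1 (hh.2 x hx)) (hg.2 x hx)
    convert this using 1; group⟩
  inv_mem' := fun {g} hg => ⟨inv_mem hg.1, fun x hx => by
    have := conj_mem' hg.1 (inv_mem (hg.2 x hx))
    convert this using 1; group⟩

theorem mem_Cs : g ∈ Cs A B ↔ g ∈ N[B] ∧ ∀ x ∈ A, g * x * g⁻¹ * x⁻¹ ∈ B := Iff.rfl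

theorem mem_Cs1 : g ∈ Cs {x} B ↔ g ∈ N[B] ∧ g * x * g⁻¹ * x⁻¹ ∈ B :=
  ⟨fun h => ⟨h.1, h.2 x rfl⟩, fun h => ⟨h.1, fun _ e => e ▸ h.2⟩⟩

theorem cm_swap (h : g * x * g⁻¹ * x⁻¹ ∈ B) : x * g * x⁻¹ * g⁻¹ ∈ B := by
  have := inv_mem h
  convert this using 1; group

theorem cm_of_sq (hn : A ≤ N[B]) (h : ∀ q ∈ A, q * q ∈ B) (hg : g ∈ A) (hx : x ∈ A) :
    g * x * g⁻¹ * x⁻¹ ∈ B := by
  have := mul_mem (mul_mem (h _ (mul_mem hg hx)) (conj_mem' (hn hx) (h _ (inv_mem hg))))
    (h _ (inv_mem hx))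
  convert this using 1; group

theorem ix_le {K : Subgroup G} (h : Ix2 Q U) (hQ : ∀ g ∈ U, g ∈ Q → g ∈ K) (hx : x ∈ U)
    (hn : x ∉ Q) (hK : x ∈ K) : U ≤ K := fun g hg => by
  by_cases e : g ∈ Q
  · exact hQ g hg e
  · exact (mul_mem_cancel_right hK).1 (hQ _ (mul_mem hg hx) (h g hg x hx e hn))

theorem Cs_norm (hA : g ∈ N[A]) (hB : g ∈ N[B]) : g ∈ N[Cs A B] :=
  mem_N_of_finite fun h hh => ⟨mul_mem (mul_mem hB hh.1) (inv_mem hB), fun x hx => by
    have := conj_mem hB (hh.2 _ (conj_mem' hA hx))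
    convert this using 1; group⟩

theorem Cs_le (h : B ≤ A) : Cs A B ≤ N[A] := fun g hg => mem_N_of_finite fun x hx => by
  have := mul_mem (h (hg.2 x hx)) hx
  simpa using this

/-- fixed points of a `2`-group on a section -/
theorem fix (hP : TwoG P) (hA : TwoG A) (pA : P ≤ N[A]) (pB : P ≤ N[B]) (aB : A ≤ N[B])
    (h : ¬ A ≤ B) : ∃ x ∈ A, x ∉ B ∧ x ∈ Cs P B := by
  obtain ⟨z, hz, hc, z1, -⟩ := two_cent (hP.quo B) (hA.quo B) (quo_norm B pA)
    (mt (quo_eq_bot aB).1 h)
  obtain ⟨x, hx, xN, rfl⟩ := mem_quo.1 hz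
  refine ⟨x, hx, mt (cs_eq_one xN).2 z1, xN, fun q hq => ?_⟩
  have e := mem_C.1 hc _ (cs_mem_quo hq (pB hq))
  have qN := pB hq
  refine (cs_eq_one (mul_mem (mul_mem (mul_mem xN qN) (inv_mem xN)) (inv_mem qN))).1 ?_
  simp only [cs] at *
  rw [ap_mul _ (mul_mem (mul_mem xN qN) (inv_mem xN)) (inv_mem qN), ap_conj _ xN qN, ap_inv _ qN,
    ← e]
  group

theorem ix_two (h : Ix2 Q U) (hQ : TwoG Q) : TwoG U := isPi_iff_piElt.2 fun x hx => by
  by_cases e : x ∈ Q
  · exact hQ.piElt e
  · exact twoE_of_sq2 (hQ.piElt (h x hx x hx e e))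

theorem two_mul_le (h : A ≤ B) (hx : x ∈ B) (hn : x ∉ A) : 2 * ♯A ≤ ♯B := by
  obtain ⟨k, hk⟩ := card_dvd h
  have h1 := H2.card_lt_of_lt (lt_of_le_of_ne h fun e => hn (e ▸ hx))
  rcases k with _ | _ | k
  · omega
  · omega
  · rw [hk]; nlinarith

/-- a sufficient condition for symplectic type -/
theorem sympl {R : Type*} [Group R] [Finite R] (h2 : IsPGroup 2 R) {t : R} (ht : t * t = 1)
    (hc : ∀ x, x * t = t * x) (hsq : ∀ x, x * x = 1 ∨ x * x = t)
    (hz : ∀ x : R, (∀ q, q * q ≠ 1 → x * q = q * x) → x = 1 ∨ x = t) : IsOfSymplecticType R := by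
  classical
  have inv : ∀ x : R, x⁻¹ = x ∨ x⁻¹ = x * t := fun x => (hsq x).imp
    inv_eq_of_mul_eq_one_right fun e => inv_eq_of_mul_eq_one_right (by rw [← mul_assoc, e, ht])
  have cm : ∀ x a : R, x * a = a * x ∨ x * a = a * x * t := fun x a => by
    have e : x * a = (x * a * (x * a)) * (a⁻¹ * x⁻¹) := by group
    have t1 : ∀ w : R, t * w = w * t := fun w => (hc w).symm
    have t2 : ∀ w : R, w * t * t = w := fun w => by rw [mul_assoc, ht, mul_one]
    have t3 : ∀ w w' : R, w * t * w' = w * w' * t := fun w w' => by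
      rw [mul_assoc, t1, mul_assoc]
    rcases hsq (x * a) with e1 | e1 <;> rcases inv a with e2 | e2 <;> rcases inv x with e3 | e3 <;>
      rw [e1, e2, e3] at e <;> simp only [one_mul, t1, ← mul_assoc, t3, t2] at e <;> simp [e]
  refine ⟨h2, fun A hA hab => ?_⟩
  have key : ∀ x ∈ A, x = 1 ∨ x = t := fun x hx => hz x fun a ha => by
    by_contra hn
    have a2 : a * a = t := (hsq a).resolve_left ha
    have t1 : t ≠ 1 := a2 ▸ ha
    have mul : ∀ w w' : R, ¬ w * a = a * w → ¬ w' * a = a * w' → w * w' * a = a * (w * w') :=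
      fun w w' h h' => by
        rw [mul_assoc, (cm w' a).resolve_left h', ← mul_assoc, ← mul_assoc,
          (cm w a).resolve_left h, mul_assoc (a * w), ← hc, ← mul_assoc, mul_assoc _ t, ht,
          mul_one, mul_assoc]
    let φ : R →* R := MonoidHom.mk' (fun w => if w * a = a * w then w else w * a) fun w w' => by
      by_cases h : w * a = a * w <;> by_cases h' : w' * a = a * w'
      · rw [if_pos h, if_pos h', if_pos (by rw [mul_assoc, h', ← mul_assoc, h, mul_assoc])]
      · rw [if_pos h, if_neg h', if_neg, mul_assoc]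
        intro e
        rw [← mul_assoc, ← h, mul_assoc, mul_assoc] at e
        exact h' (mul_left_cancel e)
      · rw [if_neg h, if_pos h', if_neg, mul_assoc, h', mul_assoc]
        intro e
        rw [mul_assoc, h', ← mul_assoc, ← mul_assoc] at e
        exact h (mul_right_cancel e)
      · rw [if_neg h, if_neg h', if_pos (mul w w' h h'), mul_assoc,
          (cm w' a).resolve_left h', ← mul_assoc a, ← mul_assoc a, a2, ← hc, mul_assoc, ht, mul_one]
    have hi : Function.Injective φ := (injective_iff_map_eq_one φ).2 fun w hw => by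
      change (if w * a = a * w then w else w * a) = 1 at hw
      split_ifs at hw with h
      · exact hw
      · exact absurd (by rw [eq_inv_of_mul_eq_one_left hw]; simp) h
    let e : R ≃* R := MulEquiv.ofBijective φ (Finite.injective_iff_bijective.1 hi)
    have m : e x ∈ A := by
      have := (characteristic_iff_le_comap.1 hA e) hx
      exact this
    have m' : x * a ∈ A := by
      have : e x = x * a := if_neg hn
      rwa [this] at m
    have ma : a ∈ A := (mul_mem_cancel_left hx).1 m'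
    exact hn (Abl.comm hab hx ma)
  have : A ≤ zpowers t := fun x hx => by
    rcases key x hx with rfl | rfl
    · exact one_mem _
    · exact mem_zpowers _
  exact isCyclic_of_le this

end H28.K3L
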