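import Mathlib
import Cfsg.Agent.H28.K3L0

/-!
# The group `2^3 L3(2)`: the parabolic centralising an involution
-/

set_option autoImplicit false
set_option linter.unusedSectionVars false
set_option linter.unusedVariables false

open Cfsg H24 H26 H26.Gold H23.TC H3.B71 Subgroup

namespace H28.K3L

universe u

variable {G : Type u} [Group G] [Finite G] {V Z U K : Subgroup G} {t u v y z a g q r w x : G}

/-- `V = ⟨t, u, v⟩` with three automorphisms induced in `N(V)` -/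
structure Cf (V Z U : Subgroup G) (t u v y z a : G) : Prop where
  ea : EA V
  cV : ♯V = 8
  hC : C[V] ≤ V
  t1 : t ≠ 1
  hZ : ∀ x, x ∈ Z ↔ x = 1 ∨ x = t
  ZU : Z ≤ U
  UV : U ≤ V
  iU : Ix2 Z U
  iV : Ix2 U V
  uU : u ∈ U
  uZ : u ∉ Z
  vV : v ∈ V
  vU : v ∉ U
  yN : y ∈ N[V]
  y3 : orderOf y = 3
  yt : y * t * y⁻¹ = t
  yu : y * u * y⁻¹ = v
  yv : y * v * y⁻¹ = u * v
  zN : z ∈ N[V]
  z3 : orderOf z = 3
  zt : z * t * z⁻¹ = u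
  zu : z * u * z⁻¹ = t * u
  zv : z * v * z⁻¹ = v
  aN : a ∈ N[V]
  at' : a * t * a⁻¹ = t
  au : a * u * a⁻¹ = u
  av : a * v * a⁻¹ = t * v

theorem cjm (g x w : G) : g * (x * w) * g⁻¹ = g * x * g⁻¹ * (g * w * g⁻¹) := by group

namespace Cf

variable (h : Cf V Z U t u v y z a)
include h

theorem tZ : t ∈ Z := (h.hZ t).2 (.inr rfl)
theorem tU : t ∈ U := h.ZU h.tZ
theorem tV : t ∈ V := h.UV h.tU
theorem uV : u ∈ V := h.UV h.uU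
theorem tt : t * t = 1 := h.ea.sq h.tV
theorem ZV : Z ≤ V := h.ZU.trans h.UV
theorem vZ : v ∉ Z := fun e => h.vU (h.ZU e)

theorem Zle (ht : t ∈ K) : Z ≤ K := fun x hx => by
  rcases (h.hZ x).1 hx with rfl | rfl
  exacts [one_mem _, ht]

theorem Ule (ht : t ∈ K) (hu : u ∈ K) : U ≤ K :=
  ix_le h.iU (fun g _ e => h.Zle ht e) h.uU h.uZ hu

theorem gen (ht : t ∈ K) (hu : u ∈ K) (hv : v ∈ K) : V ≤ K :=
  ix_le h.iV (fun g _ e => h.Ule ht hu e) h.vV h.vU hv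

theorem cU : ♯U = 4 := by have := h.iV.card h.UV h.vV h.vU; rw [h.cV] at this; omega

theorem zc (hx : x ∈ Z) (hg : g ∈ C{t}) : g ∈ C{x} :=
  mem_C1_comm.1 (h.Zle (mem_C1_comm.1 hg) hx)

theorem NZ : C{t} ≤ N[Z] := fun g hg => C_le_N Z (mem_C.2 fun x hx => (mem_C1.1 (h.zc hx hg)).symm)

theorem CZ (hg : g ∈ N[Z]) : g ∈ C{t} := by
  rcases (h.hZ _).1 (conj_mem hg h.tZ) with e | e
  · exact absurd e (conj_ne h.t1 g)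
  · exact mem_C1_iff_conj.2 e

theorem VC : V ≤ C{t} := fun x hx => mem_C1.2 (h.ea.comm hx h.tV)

theorem yC : y ∈ C{t} := mem_C1_iff_conj.2 h.yt

theorem cent (ht : g ∈ C{t}) (hu : g ∈ C{u}) (hv : g ∈ C{v}) : g ∈ V :=
  h.hC (mem_C_iff_le_C1.2 (h.gen (mem_C1_comm.1 ht) (mem_C1_comm.1 hu) (mem_C1_comm.1 hv)))

theorem centU (ht : g ∈ C{t}) (hu : g ∈ C{u}) : g ∈ C[U] :=
  mem_C_iff_le_C1.2 (h.Ule (mem_C1_comm.1 ht) (mem_C1_comm.1 hu))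

theorem cz (hr : r ∈ Z) (hg : g ∈ C{t}) : g ∈ C{r * x} ↔ g ∈ C{x} := by
  rw [mem_C1_comm, mem_C1_comm (g := g)]
  exact mul_mem_cancel_left (mem_C1_comm.1 (h.zc hr hg))

/-- `y` is irreducible on `V / Z` -/
theorem yinv (hy : y ∈ N[K]) (ht : t ∈ K) (hx : x ∈ V) (hn : x ∉ Z) (hK : x ∈ K) : V ≤ K := by
  have hZ := h.Zle ht
  have k1 : v ∈ K → V ≤ K := fun e =>
    h.gen ht ((mul_mem_cancel_right e).1 (h.yv ▸ conj_mem hy e)) e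
  by_cases e : x ∈ U
  · exact k1 (h.yu ▸ conj_mem hy ((mul_mem_cancel_left hK).1 (hZ (h.iU x e u h.uU hn h.uZ))))
  have e1 := h.iV x hx v h.vV e h.vU
  by_cases e2 : x * v ∈ Z
  · exact k1 ((mul_mem_cancel_left hK).1 (hZ e2))
  have e3 := hZ (h.iU _ e1 u h.uU e2 h.uZ)
  rw [mul_assoc, mul_mem_cancel_left hK, h.ea.comm h.vV h.uV, ← h.yv, conj_mem_iff hy] at e3
  exact k1 e3

/-- `z` is irreducible on `U` -/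
theorem zinv (hz : z ∈ N[K]) (hx : x ∈ U) (hn : x ≠ 1) (hK : x ∈ K) : U ≤ K := by
  have k1 : u ∈ K → U ≤ K := fun e => h.Ule ((conj_mem_iff hz).1 (h.zt ▸ e)) e
  by_cases e : x ∈ Z
  · exact k1 (h.zt ▸ conj_mem hz (((h.hZ x).1 e).resolve_left hn ▸ hK))
  rcases (h.hZ _).1 (h.iU x hx u h.uU e h.uZ) with e1 | e1
  · exact k1 ((mul_mem_cancel_left hK).1 (e1 ▸ one_mem _))
  · refine k1 ((conj_mem_iff hz).1 ?_)
    rwa [h.zu, ← e1, mul_assoc, h.ea.sq h.uV, mul_one]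

theorem inU (hx : x ∈ V) (hw : w ∈ C[U]) (hn : w ∉ V) (hc : w ∈ C{x}) : x ∈ U := by
  by_contra e
  exact hn (h.hC (mem_C_iff_le_C1.2 (ix_le h.iV (fun g _ e => mem_C_iff_le_C1.1 hw e) hx e
    (mem_C1_comm.1 hc))))

theorem eqz (hx : g * x * g⁻¹ * x⁻¹ ∈ Z) : g * x * g⁻¹ = x ∨ g * x * g⁻¹ = t * x :=
  ((h.hZ _).1 hx).imp mul_inv_eq_one.1 mul_inv_eq_iff_eq_mul.1

theorem ixC (hK : K ≤ Cs {x} Z) : Ix2 C{x} K := fun g hg r hr e1 e2 => by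
  have g1 := (h.eqz (mem_Cs1.1 (hK hg)).2).resolve_left (mt mem_C1_iff_conj.2 e1)
  have r1 := (h.eqz (mem_Cs1.1 (hK hr)).2).resolve_left (mt mem_C1_iff_conj.2 e2)
  refine mem_C1_iff_conj.2 ?_
  rw [show g * r * x * (g * r)⁻¹ = g * (r * x * r⁻¹) * g⁻¹ by group, r1, cjm, g1,
    mem_C1_iff_conj.1 (h.CZ (hK hg).1), ← mul_assoc, h.tt, one_mul]

theorem QC : Cs V Z ≤ C{t} := fun g hg => h.CZ hg.1

theorem QN : Cs V Z ≤ N[V] := Cs_le h.ZV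

theorem VQ : V ≤ Cs V Z := fun g hg => ⟨h.NZ (h.VC hg), fun x hx => by
  rw [h.ea.comm hg hx]; simp⟩

theorem memQ (ht : g ∈ C{t}) (hu : g * u * g⁻¹ * u⁻¹ ∈ Z) (hv : g * v * g⁻¹ * v⁻¹ ∈ Z) :
    g ∈ Cs V Z := ⟨h.NZ ht, fun x hx => cm_swap (mem_Cs1.1 (h.gen (K := Cs {g} Z)
      (mem_Cs1.2 ⟨h.NZ (h.VC h.tV), cm_swap (by rw [mem_C1_iff_conj.1 ht]; simp)⟩)
      (mem_Cs1.2 ⟨h.NZ (h.VC h.uV), cm_swap hu⟩) (mem_Cs1.2 ⟨h.NZ (h.VC h.vV), cm_swap hv⟩) hx)).2⟩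

theorem ixV (hx : x ∈ V) : Ix2 C{x} (Cs V Z) := h.ixC fun g hg => mem_Cs1.2 ⟨hg.1, hg.2 x hx⟩

theorem iD : Ix2 V (Cs V Z ⊓ C{u}) := fun g hg r hr e1 e2 =>
  h.cent (h.QC (mul_mem hg.1 hr.1)) (mul_mem hg.2 hr.2) (h.ixV h.vV g hg.1 r hr.1
    (fun e => e1 (h.cent (h.QC hg.1) hg.2 e)) fun e => e2 (h.cent (h.QC hr.1) hr.2 e))

theorem iQ : Ix2 (Cs V Z ⊓ C{u}) (Cs V Z) := fun g hg r hr e1 e2 =>
  ⟨mul_mem hg hr, h.ixV h.uV g hg r hr (fun e => e1 ⟨hg, e⟩) fun e => e2 ⟨hr, e⟩⟩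

theorem Q2 : TwoG (Cs V Z) := ix_two h.iQ (ix_two h.iD h.ea.two)

theorem aQ : a ∈ Cs V Z := h.memQ (mem_C1_iff_conj.2 h.at') (by rw [h.au]; simp)
  (by rw [h.av]; simpa using h.tZ)

theorem aC : a ∈ C{u} := mem_C1_iff_conj.2 h.au

theorem av' : a ∉ C{v} := fun e => h.t1 (by simpa [h.av] using mem_C1_iff_conj.1 e)

theorem aV : a ∉ V := fun e => h.av' (mem_C1.2 (h.ea.comm e h.vV))

theorem yQ : y ∈ N[Cs V Z] := Cs_norm h.yN (h.NZ h.yC)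

theorem bQ : y * a * y⁻¹ ∈ Cs V Z := conj_mem h.yQ h.aQ

theorem bu : y * a * y⁻¹ ∉ C{u} := fun e => by
  have e1 : y * a * y⁻¹ ∈ C{v} := by rw [← h.yu, ← cj_C1, conj_mem_cj_iff]; exact h.aC
  have e2 : y * a * y⁻¹ ∈ C{u * v} :=
    mem_C1_comm.1 (mul_mem (mem_C1_comm.1 e) (mem_C1_comm.1 e1))
  rw [← h.yv, ← cj_C1, conj_mem_cj_iff] at e2
  exact h.av' e2

theorem cQ : ♯(Cs V Z) = 32 := by
  rw [h.iQ.card inf_le_left h.bQ fun e => h.bu e.2, h.iD.card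
    (le_inf h.VQ fun x hx => mem_C1.2 (h.ea.comm hx h.uV)) ⟨h.aQ, h.aC⟩ h.aV, h.cV]

theorem genQ (hV : V ≤ K) (ha : a ∈ K) (hb : y * a * y⁻¹ ∈ K) : Cs V Z ≤ K :=
  ix_le h.iQ (fun g _ e => ix_le h.iD (fun g _ e => hV e) ⟨h.aQ, h.aC⟩ h.aV ha e) h.bQ
    (fun e => h.bu e.2) hb

theorem inZ (hx : x ∈ V) (hc : Cs V Z ≤ C{x}) : x ∈ Z := by
  have e := h.inU hx (h.centU (h.QC h.aQ) h.aC) h.aV (hc h.aQ)
  by_contra e1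
  exact h.bu (mem_C1_comm.1 (ix_le h.iU (fun g _ e => mem_C1_comm.1 (h.zc e (h.QC h.bQ))) e e1
    (mem_C1_comm.1 (hc h.bQ)) h.uU))

theorem exV (hK : Ix2 K V) : ∃ x ∈ V, x ∉ Z ∧ x ∈ K := by
  by_cases e1 : u ∈ K
  · exact ⟨u, h.uV, h.uZ, e1⟩
  by_cases e2 : v ∈ K
  · exact ⟨v, h.vV, h.vZ, e2⟩
  exact ⟨u * v, mul_mem h.uV h.vV, fun e => h.vU ((mul_mem_cancel_left h.uU).1 (h.ZU e)),
    hK u h.uV v h.vV e1 e2⟩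

theorem ixw (hw : w ∈ Cs V Z) : Ix2 C{w} V :=
  h.ixC fun g hg => mem_Cs1.2 ⟨h.NZ (h.VC hg), cm_swap (hw.2 g hg)⟩

/-- `y` fixes no nontrivial coset of `V` -/
theorem fixc (hw : w ∈ Cs V Z) (e : y * w * y⁻¹ * w⁻¹ ∈ V) : w ∈ V := by
  obtain ⟨x, hx, hn, hc⟩ := h.exV (h.ixw hw)
  refine h.hC (mem_C_iff_le_C1.2 ((h.yinv (K := V ⊓ C{w}) (mem_N_of_finite fun m hm => ?_)
    ⟨h.tV, mem_C1_comm.1 (h.QC hw)⟩ hx hn ⟨hx, hc⟩).trans inf_le_right))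
  have m1 := conj_mem h.yN hm.1
  have m2 : y * w * y⁻¹ ∈ C{y * m * y⁻¹} := by
    rw [← cj_C1, conj_mem_cj_iff]; exact mem_C1_comm.1 hm.2
  have m3 : y * w * y⁻¹ * w⁻¹ ∈ C{y * m * y⁻¹} := mem_C1.2 (h.ea.comm e m1)
  exact ⟨m1, mem_C1_comm.1 (inv_mem_iff.1 ((mul_mem_cancel_left m2).1 m3))⟩

theorem sqV (hq : q ∈ Cs V Z) : q * q ∈ V := h.hC (mem_C_iff_le_C1.2 fun x hx => mem_C1_comm.1 (by
  by_cases e : q ∈ C{x}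
  · exact mul_mem e e
  · exact h.ixV hx q hq q hq e e))

theorem cmV (hq : q ∈ Cs V Z) (hr : r ∈ Cs V Z) : q * r * q⁻¹ * r⁻¹ ∈ V :=
  cm_of_sq h.QN (fun _ => h.sqV) hq hr

theorem yyy (q : G) : y * (y * (y * q * y⁻¹) * y⁻¹) * y⁻¹ = q := by
  have : y * y * y = 1 := by rw [← pow_three', ← h.y3, pow_orderOf_eq_one]
  rw [show y * (y * (y * q * y⁻¹) * y⁻¹) * y⁻¹ = y * y * y * q * (y * y * y)⁻¹ by group, this]; simp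

theorem n3 (hq : q ∈ Cs V Z) : q * (y * q * y⁻¹) * (y * (y * q * y⁻¹) * y⁻¹) ∈ V := by
  have m2 := conj_mem h.yQ hq
  have m := mul_mem (mul_mem hq m2) (conj_mem h.yQ m2)
  refine h.fixc m ?_
  rw [cjm, cjm, h.yyy]
  convert h.cmV (inv_mem hq) m using 1
  generalize y * (y * q * y⁻¹) * y⁻¹ = c
  generalize y * q * y⁻¹ = b
  group

/-- `y` is irreducible on `Q / V` -/
theorem yinv2 (hy : y ∈ N[K]) (hV : V ≤ K) (hq : q ∈ Cs V Z) (hn : q ∉ V) (hK : q ∈ K) :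
    Cs V Z ≤ K := by
  have m2 := conj_mem h.yQ hq
  have k2 := conj_mem hy hK
  have n2 : y * q * y⁻¹ ∉ V := mt (conj_mem_iff h.yN).1 hn
  have n3 : y * q * y⁻¹ * q⁻¹ ∉ V := mt (h.fixc hq) hn
  have k : ∀ d ∈ Cs V Z ⊓ C{u}, d ∉ V → d ∈ K → ∀ e ∈ Cs V Z, e ∉ Cs V Z ⊓ C{u} → e ∈ K →
      Cs V Z ≤ K := fun d h1 h2 h3 e h4 h5 h6 =>
    ix_le h.iQ (fun g _ e => ix_le h.iD (fun g _ e => hV e) h1 h2 h3 e) h4 h5 h6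
  by_cases e1 : q ∈ Cs V Z ⊓ C{u} <;> by_cases e2 : y * q * y⁻¹ ∈ Cs V Z ⊓ C{u}
  · exact absurd (h.iD.mul_inv e2 e1 n2 hn) n3
  · exact k _ e1 hn hK _ m2 e2 k2
  · exact k _ e2 n2 k2 _ hq e1 hK
  · exact k _ (h.iQ.mul_inv m2 hq e2 e1) n3 (mul_mem k2 (inv_mem hK)) _ hq e1 hK

theorem ab : a * (y * a * y⁻¹) * a⁻¹ * (y * a * y⁻¹)⁻¹ ∈ Z := by
  have hw := h.n3 h.aQ
  have hc := h.cmV h.aQ h.bQ
  have e : y * (a * (y * a * y⁻¹) * a⁻¹ * (y * a * y⁻¹)⁻¹) * y⁻¹ *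
      (a * (y * a * y⁻¹) * a⁻¹ * (y * a * y⁻¹)⁻¹)⁻¹ ∈ Z := by
    have := mul_mem (conj_mem' h.aQ.1 (inv_mem ((inv_mem h.bQ).2 _ hw)))
      ((inv_mem (mul_mem h.bQ h.aQ)).2 _ hc)
    convert this using 1
    group
  by_contra hn
  have := h.yinv (K := Cs {y} Z) (mem_N_of_finite fun m hm => mem_Cs1.2
    ⟨mul_mem (mul_mem (h.NZ h.yC) hm.1) (inv_mem (h.NZ h.yC)), by
      convert conj_mem (h.NZ h.yC) (mem_Cs1.1 hm).2 using 1; group⟩)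
    (mem_Cs1.2 ⟨h.NZ (h.VC h.tV), cm_swap (by rw [h.yt]; simp)⟩) hc hn
    (mem_Cs1.2 ⟨h.NZ (h.VC hc), cm_swap e⟩) h.uV
  have e2 := h.ZU (cm_swap (mem_Cs1.1 this).2)
  rw [h.yu, mul_mem_cancel_right (inv_mem h.uU)] at e2
  exact h.vU e2

theorem cmZ (hq : q ∈ Cs V Z) (hr : r ∈ Cs V Z) : q * r * q⁻¹ * r⁻¹ ∈ Z := by
  have k : a ∈ Cs (Cs V Z) Z := ⟨h.aQ.1, fun x hx => cm_swap (mem_Cs1.1 (h.genQ (K := Cs {a} Z)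
    (fun m hm => mem_Cs1.2 ⟨h.NZ (h.VC hm), cm_swap (h.aQ.2 m hm)⟩)
    (mem_Cs1.2 ⟨h.aQ.1, by simp⟩) (mem_Cs1.2 ⟨h.bQ.1, cm_swap h.ab⟩) hx)).2⟩
  exact (h.genQ (K := Cs (Cs V Z) Z)
    (fun m hm => ⟨h.NZ (h.VC hm), fun x hx => cm_swap (hx.2 m hm)⟩) k
    (conj_mem (Cs_norm h.yQ (h.NZ h.yC)) k) hq).2 r hr

theorem ixQ (hx : x ∈ Cs V Z) : Ix2 C{x} (Cs V Z) :=
  h.ixC fun g hg => mem_Cs1.2 ⟨hg.1, h.cmZ hg hx⟩

theorem sqZ (hq : q ∈ Cs V Z) : q * q ∈ Z := h.inZ (h.sqV hq) fun r hr => mem_C1_comm.1 (by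
  by_cases e : q ∈ C{r}
  · exact mul_mem e e
  · exact h.ixQ hr q hq q hq e e)

theorem cen (hx : x ∈ Cs V Z) (hc : ∀ q ∈ Cs V Z, q * q ≠ 1 → q ∈ C{x}) : x ∈ Z := by
  obtain ⟨m, hm, hn, mc⟩ := h.exV (h.ixw hx)
  have k : ∀ q ∈ Cs V Z, q ∉ C{x} → q ∈ C{m} := fun q hq e => by
    have e1 : q * q = 1 := by_contra fun e' => e (hc q hq e')
    have e2 : q * m * (q * m) = 1 := by_contra fun e' =>
      e ((mul_mem_cancel_right mc).1 (hc _ (mul_mem hq (h.VQ hm)) e'))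
    refine mem_C1.2 ?_
    rw [← inv_eq_of_mul_eq_one_right e2, mul_inv_rev, inv_eq_of_mul_eq_one_right e1, h.ea.inv hm]
  by_cases e : Cs V Z ≤ C{x}
  · exact h.inZ (h.hC (mem_C_iff_le_C1.2 (h.VQ.trans e))) e
  obtain ⟨q, hq, hqx⟩ := SetLike.not_le_iff_exists.1 e
  refine absurd (h.inZ hm fun r hr => ?_) hn
  by_cases e1 : r ∈ C{x}
  · exact (mul_mem_cancel_left (k q hq hqx)).1
      (k _ (mul_mem hq hr) (mt (mul_mem_cancel_right e1).1 hqx))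
  · exact k r hr e1

end Cf

end H28.K3L
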