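import Mathlib
import Cfsg.Agent.H28.K3L1

/-!
# The group `2^3 L3(2)`: `2`-groups normalising the extraspecial subgroup
-/

set_option autoImplicit false
set_option linter.unusedSectionVars false
set_option linter.unusedVariables false

open Cfsg H24 H26 H26.Gold H23.TC H3.B71 Subgroup

namespace H28.K3L

universe u

variable {G : Type u} [Group G] [Finite G] {V Z U K P E E' : Subgroup G} {t u v y z a g q r s w x : G}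

theorem memN (e : K ≤ cj g⁻¹ K) : g ∈ N[K] :=
  mem_N_of_finite fun x hx => by have := mem_cj.1 (e hx); rwa [inv_inv] at this

namespace Cf

variable (h : Cf V Z U t u v y z a)
include h

theorem leQ (hP : TwoG P) (pV : P ≤ N[V]) (pt : P ≤ C{t}) (hy : y ∈ N[P]) : P ≤ Cs V Z := by
  obtain ⟨x, hx, hn, hc⟩ := fix hP h.ea.two pV (pt.trans h.NZ) (h.VC.trans h.NZ)
    fun e => h.vZ (e h.vV)
  have := h.yinv (K := Cs P Z) (Cs_norm hy (h.NZ h.yC))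
    ⟨h.NZ (h.VC h.tV), fun o ho => cm_swap (by rw [mem_C1_iff_conj.1 (pt ho)]; simp)⟩ hx hn hc
  exact fun o ho => ⟨h.NZ (pt ho), fun m hm => cm_swap ((this hm).2 o ho)⟩

/-- a `y`-invariant `2`-group moving `V` moves `u` out of `V` -/
theorem out (hP : TwoG P) (pt : P ≤ C{t}) (hy : y ∈ N[P]) (QP : Cs V Z ≤ P) (pQ : P ≤ N[Cs V Z])
    (hs : s ∈ P) (hn : s ∉ N[V]) : s * u * s⁻¹ ∉ V := fun hu => by
  have pZ := pt.trans h.NZ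
  have yZ := h.NZ h.yC
  set X := Cs V Z ⊓ Cs P Z with hX
  have tX : t ∈ X := ⟨h.VQ h.tV, h.NZ (h.VC h.tV), fun o ho =>
    cm_swap (by rw [mem_C1_iff_conj.1 (pt ho)]; simp)⟩
  have yX : y ∈ N[X] := zpowers_le.1 (norm_inf (zpowers_le.2 h.yQ) (zpowers_le.2 (Cs_norm hy yZ)))
  have pX : P ≤ N[X] := norm_inf pQ fun o ho => Cs_norm (norm_self P ho) (pZ ho)
  have XV : ∀ m ∈ V, m ∈ X → m ∈ Z := fun m hm e => by_contra fun e' => hn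
    (mem_N_of_finite fun x hx => by
      simpa using mul_mem (h.ZV (cm_swap ((h.yinv yX tX hm e' e hx).2.2 s hs))) hx)
  obtain ⟨x0, h1, h2, h3⟩ := fix hP h.Q2 pQ pZ (QP.trans pZ) fun e => h.vZ (e (h.VQ h.vV))
  have QX : Cs V Z ≤ X ⊔ V := h.yinv2 (zpowers_le.1 (norm_sup (zpowers_le.2 yX)
    (zpowers_le.2 h.yN))) le_sup_right h1 (fun e => h2 (XV _ e ⟨h1, h3⟩)) (mem_sup_left ⟨h1, h3⟩)
  obtain ⟨q, k1, k2, k3⟩ := fix hP h.Q2 pQ pX (QP.trans pX)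
    fun e => h.vZ (XV _ h.vV (e (h.VQ h.vV)))
  have XY : X ≤ Cs P X := fun x hx => ⟨norm_self X hx, fun o ho => h.Zle tX (hx.2.2 o ho)⟩
  obtain ⟨x1, hx1, m, hm, rfl⟩ := (mem_sup_of_norm ((h.VQ.trans QP).trans pX)).1 (QX k1)
  have VY := h.yinv (K := Cs P X) (Cs_norm hy yX) (XY tX) hm
    (fun e => k2 (mul_mem hx1 (h.Zle tX e))) ((mul_mem_cancel_left (XY hx1)).1 k3)
  have aX : s * v * s⁻¹ * v⁻¹ ∈ X := cm_swap ((VY h.vV).2 s hs)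
  have uZ : s * u * s⁻¹ * u⁻¹ ∈ Z :=
    XV _ (mul_mem hu (inv_mem h.uV)) (cm_swap ((VY h.uV).2 s hs))
  have wQ : s * v * s⁻¹ ∈ Cs V Z := conj_mem (pQ hs) (h.VQ h.vV)
  have wV : s * v * s⁻¹ ∉ V := fun e => hn (memN
    (h.gen (K := cj s⁻¹ V) (mem_cj.2 (by rw [inv_inv, mem_C1_iff_conj.1 (pt hs)]; exact h.tV))
      (mem_cj.2 (by rwa [inv_inv])) (mem_cj.2 (by rwa [inv_inv]))))
  have wu : s * v * s⁻¹ ∈ C{u} := by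
    rw [← h.cz uZ (h.QC wQ), inv_mul_cancel_right, ← cj_C1, conj_mem_cj_iff]
    exact mem_C1.2 (h.ea.comm h.vV h.uV)
  have wv : s * v * s⁻¹ ∉ C{v} := fun e => wV (h.cent (h.QC wQ) wu e)
  have com : ∀ x ∈ X, s * v * s⁻¹ * v⁻¹ ∈ C{x} := fun x hx => by
    have e : s * v * s⁻¹ ∈ C{x} ↔ v ∈ C{x} := by
      rw [← h.cz (cm_swap (hx.2.2 s hs)) (h.QC wQ), inv_mul_cancel_right, ← cj_C1, conj_mem_cj_iff]
    by_cases e1 : v ∈ C{x}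
    · exact mul_mem (e.2 e1) (inv_mem e1)
    · exact (h.ixQ hx.1).mul_inv wQ (h.VQ h.vV) (mt e.1 e1) e1
  have sq : s * v * s⁻¹ * v⁻¹ * (s * v * s⁻¹ * v⁻¹) = t :=
    ((h.hZ _).1 (h.sqZ aX.1)).resolve_left fun e => wv (mem_C1.2 (by
      have e1 : s * v * s⁻¹ * (s * v * s⁻¹) = 1 := by rw [← cjm, h.ea.sq h.vV]; simp
      rw [h.ea.inv h.vV] at e
      rw [← inv_eq_of_mul_eq_one_right e, mul_inv_rev, inv_eq_of_mul_eq_one_right e1,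
        h.ea.inv h.vV]))
  generalize s * v * s⁻¹ * v⁻¹ = b at aX com sq
  have m2 := conj_mem yX aX
  have m3 := conj_mem yX m2
  have n := XV _ (h.n3 aX.1) (mul_mem (mul_mem aX m2) m3)
  have c2 := mem_C1.1 (com _ m2)
  have sq2 : y * b * y⁻¹ * (y * b * y⁻¹) = t := by rw [← cjm, sq, h.yt]
  have sq3 : y * (y * b * y⁻¹) * y⁻¹ * (y * (y * b * y⁻¹) * y⁻¹) = t := by rw [← cjm, sq2, h.yt]
  have c3 := mem_C1.1 (h.zc n (h.QC m3.1))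
  have n2 := h.ea.sq (h.ZV n)
  generalize y * (y * b * y⁻¹) * y⁻¹ = d at *
  generalize y * b * y⁻¹ = c at *
  have e1 : b * c * (b * c) = 1 := by
    rw [mul_assoc, ← mul_assoc c, ← c2, mul_assoc, sq2, ← mul_assoc, sq, h.tt]
  have e2 : d * (b * c) = b * c * d := mul_right_cancel (b := d) (by rw [← c3]; group)
  apply h.t1
  rw [← sq3, ← n2, mul_assoc (b * c), ← mul_assoc d, e2, ← mul_assoc, ← mul_assoc, e1, one_mul]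

theorem zU : z ∈ N[U] := memN
  (h.Ule (K := cj z⁻¹ U) (mem_cj.2 (by rw [inv_inv, h.zt]; exact h.uU))
    (mem_cj.2 (by rw [inv_inv, h.zu]; exact mul_mem h.tU h.uU)))

theorem Tu (hg : g ∈ N[V] ⊓ N[U] ⊓ C{t}) : g ∈ Cs {u} Z := mem_Cs1.2 ⟨h.NZ hg.2,
  h.iU.mul_inv (conj_mem hg.1.2 h.uU) h.uU (mt (conj_mem_iff (h.NZ hg.2)).1 h.uZ) h.uZ⟩

theorem bT : N[V] ⊓ C[U] ≤ N[V] ⊓ N[U] ⊓ C{t} :=
  le_inf (inf_le_inf_left _ (C_le_N U)) (inf_le_right.trans (C_le_C1 h.tU))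

theorem QT : Cs V Z ≤ N[V] ⊓ N[U] ⊓ C{t} := fun g hg => ⟨⟨h.QN hg, mem_N_of_finite fun x hx => by
  simpa using mul_mem (h.ZU (hg.2 x (h.UV hx))) hx⟩, h.QC hg⟩

theorem iT : Ix2 (N[V] ⊓ C[U]) (N[V] ⊓ N[U] ⊓ C{t}) := fun g hg r hr e1 e2 =>
  ⟨mul_mem hg.1.1 hr.1.1, h.centU (mul_mem hg.2 hr.2) (h.ixC (fun _ => h.Tu) g hg r hr
    (fun e => e1 ⟨hg.1.1, h.centU hg.2 e⟩) fun e => e2 ⟨hr.1.1, h.centU hr.2 e⟩)⟩

theorem bv (hg : g ∈ N[V] ⊓ C[U]) : g * v * g⁻¹ * v⁻¹ ∈ U :=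
  h.iV.mul_inv (conj_mem hg.1 h.vV) h.vV (mt (conj_mem_iff (C_le_N U hg.2)).1 h.vU) h.vU

theorem bQ' (hg : g ∈ N[V] ⊓ C[U]) (e : g * v * g⁻¹ * v⁻¹ ∈ Z) : g ∈ Cs V Z :=
  h.memQ (h.bT hg).2 (by rw [mem_C1_iff_conj.1 (C_le_C1 h.uU hg.2)]; simp) e

theorem iB : Ix2 (Cs V Z ⊓ C{u}) (N[V] ⊓ C[U]) := fun g hg r hr e1 e2 => by
  refine ⟨h.bQ' (mul_mem hg hr) ?_, C_le_C1 h.uU (mul_mem hg hr).2⟩
  have := h.iU _ (conj_mem (C_le_N U hg.2) (h.bv hr)) _ (h.bv hg)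
    (fun e => e2 ⟨h.bQ' hr ((conj_mem_iff (h.NZ (h.bT hg).2)).1 e), C_le_C1 h.uU hr.2⟩)
    fun e => e1 ⟨h.bQ' hg e, C_le_C1 h.uU hg.2⟩
  convert this using 1; group

theorem T2 : TwoG (N[V] ⊓ N[U] ⊓ C{t}) := ix_two h.iT (ix_two h.iB (h.Q2.inf_left _))

theorem Db : Cs V Z ⊓ C{u} ≤ N[V] ⊓ C[U] := fun g hg => ⟨h.QN hg.1, h.centU (h.QC hg.1) hg.2⟩

theorem VD : V ≤ Cs V Z ⊓ C{u} := le_inf h.VQ fun x hx => mem_C1.2 (h.ea.comm hx h.uV)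

theorem zB : z ∈ N[(N[V] ⊓ C[U] : Subgroup G)] := zpowers_le.1
  (norm_inf (norm_of_le (zpowers_le.2 h.zN)) (norm_C (zpowers_le.2 h.zU)))

theorem cb : z * a * z⁻¹ ∈ N[V] ⊓ C[U] := conj_mem h.zB (h.Db ⟨h.aQ, h.aC⟩)

theorem cv : z * a * z⁻¹ * v * (z * a * z⁻¹)⁻¹ = u * v := by
  calc _ = z * a * z⁻¹ * (z * v * z⁻¹) * (z * a * z⁻¹)⁻¹ := by rw [h.zv]
    _ = z * (a * v * a⁻¹) * z⁻¹ := by group
    _ = u * v := by rw [h.av, cjm, h.zt, h.zv]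

theorem cB : ♯(N[V] ⊓ C[U] : Subgroup G) = 32 := by
  rw [h.iB.card h.Db h.cb fun e => h.uZ (by
      have := e.1.2 v h.vV
      rwa [h.cv, mul_inv_cancel_right] at this),
    h.iD.card h.VD ⟨h.aQ, h.aC⟩ h.aV, h.cV]

/-- the abelian subgroup of index two is unique -/
theorem uq (h1 : E ≤ N[V] ⊓ C[U]) (a1 : Abl E) (c1 : 16 ≤ ♯E) (h2 : E' ≤ N[V] ⊓ C[U]) (a2 : Abl E')
    (c2 : 16 ≤ ♯E') : E ≤ E' := fun e he => by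
  by_contra hn
  have i2 : Ix2 E' (N[V] ⊓ C[U]) := ix2_of_card h2 (by rw [h.cB]; omega)
  have k : E' ⊓ E ≤ U := fun d hd => by
    have k1 : N[V] ⊓ C[U] ≤ C{d} := ix_le i2 (fun g _ e => mem_C1.2 (a2.comm e hd.1)) (h1 he) hn
      (mem_C1.2 (a1.comm he hd.2))
    exact h.inU (h.hC (mem_C_iff_le_C1.2 ((h.VD.trans h.Db).trans k1))) (h.Db ⟨h.aQ, h.aC⟩).2 h.aV
      (k1 (h.Db ⟨h.aQ, h.aC⟩))
  have := (i2.mono h1).card_le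
  have := card_le_of_le k
  rw [h.cU] at this
  omega

theorem wU (hw : w ∈ Cs V Z) (hT : N[V] ⊓ N[U] ⊓ C{t} ≤ Cs {w} Z) : w ∈ C{u} := by
  by_contra hn
  have e0 := (h.eqz (hw.2 u h.uV)).resolve_left (mt mem_C1_iff_conj.2 hn)
  have m := (mem_Cs1.1 (hT (h.bT h.cb))).2
  have cv := h.cv
  have ct := h.zc (hw.2 v h.vV) (h.bT h.cb).2
  generalize z * a * z⁻¹ = c at *
  have e1 : c * w * c⁻¹ * w⁻¹ * (w * (u * v) * w⁻¹) * (c * w * c⁻¹ * w⁻¹)⁻¹ = w * (u * v) * w⁻¹ := by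
    rw [h.ea.comm (h.ZV m) (conj_mem (h.QN hw) (mul_mem h.uV h.vV))]; group
  have e2 : c * w * c⁻¹ * w⁻¹ * (w * (u * v) * w⁻¹) * (c * w * c⁻¹ * w⁻¹)⁻¹ =
      c * (w * v * w⁻¹ * v⁻¹) * c⁻¹ * (c * v * c⁻¹) := by rw [← cv]; group
  rw [e1, mem_C1_iff_conj.1 ct, cv, cjm, e0, ← mul_assoc _ u, h.ea.comm (h.ZV (hw.2 v h.vV)) h.uV] at e2
  apply h.t1
  simpa [mul_assoc] using e2

theorem exE (hw : w ∈ Cs V Z) (hn : w ∉ V) (hT : N[V] ⊓ N[U] ⊓ C{t} ≤ Cs {w} Z) :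
    Abl (N[V] ⊓ C[U] ⊓ C{w} : Subgroup G) ∧ ♯(N[V] ⊓ C[U] ⊓ C{w} : Subgroup G) = 16 := by
  have wD : w ∈ Cs V Z ⊓ C{u} := ⟨hw, h.wU hw hT⟩
  have wb := h.Db wD
  have k0 : ∀ e ∈ V, e ∈ C{w} → e ∈ U := fun e h1 h2 => h.inU h1 wb.2 hn (mem_C1_comm.1 h2)
  have i1 : Ix2 U (Cs V Z ⊓ C{u} ⊓ C{w}) := fun g hg r hr e1 e2 => k0 _
    (h.iD g hg.1 r hr.1 (fun e => e1 (k0 _ e hg.2)) fun e => e2 (k0 _ e hr.2)) (mul_mem hg.2 hr.2)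
  have i2 : Ix2 (Cs V Z ⊓ C{u} ⊓ C{w}) (N[V] ⊓ C[U] ⊓ C{w}) := fun g hg r hr e1 e2 =>
    ⟨h.iB g hg.1 r hr.1 (fun e => e1 ⟨e, hg.2⟩) fun e => e2 ⟨e, hr.2⟩, mul_mem hg.2 hr.2⟩
  have k1 : ∀ g ∈ N[V] ⊓ C[U] ⊓ C{w}, Cs V Z ⊓ C{u} ⊓ C{w} ≤ C{g} := fun g hg =>
    ix_le i1 (fun m _ e => mem_C_iff_le_C1.1 hg.1.2 e) ⟨wD, mem_C1.2 rfl⟩ (fun e => hn (h.UV e))
      (mem_C1_comm.1 hg.2)
  refine ⟨abl_iff.2 fun g hg => mem_C_iff_le_C1.2 ?_, le_antisymm ?_ ?_⟩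
  · by_cases e : g ∈ Cs V Z ⊓ C{u} ⊓ C{w}
    · exact fun r hr => mem_C1_comm.1 (k1 r hr e)
    · exact ix_le i2 (fun m _ e => k1 g hg e) hg e (mem_C1.2 rfl)
  · have := i1.card_le
    have := i2.card_le
    have := card_le_of_le (inf_le_left : U ⊓ (Cs V Z ⊓ C{u} ⊓ C{w}) ≤ _)
    have := card_le_of_le (inf_le_left : Cs V Z ⊓ C{u} ⊓ C{w} ⊓ (N[V] ⊓ C[U] ⊓ C{w}) ≤ _)
    have := h.cU
    omega
  · have := (h.ixC (h.bT.trans hT)).card_le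
    rw [h.cB, inf_comm] at this
    omega

end Cf

end H28.K3L
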