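import Mathlib
import Cfsg.Agent.H28.K3L2
import Cfsg.Agent.H10.K3L2
import Cfsg.Agent.H12.K3U1
import Cfsg.Agent.H18.K3Fr0
import Cfsg.Agent.H23.Components

/-!
# Thin groups with three primes: the local subgroup `2^3 L3(2)`
-/

set_option autoImplicit false
set_option linter.unusedSectionVars false
set_option linter.unusedVariables false

open Cfsg H24 H26 H26.Gold H23.TC H3.B71 Subgroup

namespace H28.K3L

universe u

variable {G : Type u} [Group G] [Finite G] {p i j : ℕ} {V Z U E : Subgroup G}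
  {t u v y z a m s : G}

theorem ix_loc (k : H18.K3.KT G p i j) (mx : H19.K3.Mx 3 G) (hp : ¬ p ∣ 15) (hE : TwoG E)
    (cE : ♯E = 16) {T : Subgroup G} (hT : TwoG T) (hn : T ≤ N[E]) : Ix2 O[{2}, N[E]] T := by
  have nd : ¬ p ∣ ♯N[E] := fun e => by
    obtain ⟨x, hx, ho⟩ := exists_orderOf_eq k.prime e
    exact hp (by simpa [cE] using H12.K3.p_dvd k hE ho hx)
  refine H4.K3.ix2 (k.sol nd) (H4.K3.pi23 k nd) (fun B hB he => Nat.le_of_dvd three_pos ?_) hn hT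
  exact H25.Cfsg.IsElementaryAbelian.card_dvd_of_cyc he (k.cyc3
    (fun t ht B hB hle => (mx t B ht hB hle).trans_lt (by norm_num)) hE
    (fun e => by rw [e, card_bot] at cE; omega) hB (H19.K3.ea_pi Nat.prime_three he))

theorem Cf.core (h : Cf V Z U t u v y z a) (k : H18.K3.KT G p i j) (mx : H19.K3.Mx 3 G)
    (hp : ¬ p ∣ 15) : O[{2}, C{t}] = Cs V Z := by
  have QO := H4.K3.thin_le_O2 k mx ⟨h.t1, h.tt⟩ h.QC h.Q2 h.yC h.y3 h.yQ
  have oH := pcore_nml {2} C{t}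
  have o2 : TwoG O[{2}, C{t}] := pcore_pi _ _
  generalize O[{2}, C{t}] = O at *
  have OM : O ⊓ N[V] ≤ Cs V Z := h.leQ (o2.inf_left _) inf_le_right (inf_le_left.trans oH.le)
    (zpowers_le.1 (norm_inf (zpowers_le.2 (oH.norm h.yC)) (norm_of_le (zpowers_le.2 h.yN))))
  refine le_antisymm (by_contra fun hn => ?_) QO
  have T2 := h.T2
  have QT := h.QT
  have bT := h.bT
  have Tu := fun g => h.Tu (g := g)
  have wU := fun w => h.wU (w := w)
  have exE := fun w => h.exE (w := w)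
  have TV : N[V] ⊓ N[U] ⊓ C{t} ≤ N[V] := inf_le_left.trans inf_le_left
  have TU : N[V] ⊓ N[U] ⊓ C{t} ≤ N[U] := inf_le_left.trans inf_le_right
  have Tt : N[V] ⊓ N[U] ⊓ C{t} ≤ C{t} := inf_le_right
  generalize N[V] ⊓ N[U] ⊓ C{t} = T at *
  obtain ⟨g, hg, gN, gT⟩ := exists_norm_lt (o2.sup T2 (Tt.trans oH.norm)) le_sup_right
    fun e => hn ((le_inf le_rfl ((le_sup_left.trans e).trans TV)).trans OM)
  obtain ⟨s, hs, τ, hτ, rfl⟩ := (mem_sup_of_norm (Tt.trans oH.norm)).1 hg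
  have sT : s ∈ N[T] := (mul_mem_cancel_right (norm_self T hτ)).1 gN
  have sV : s ∉ N[V] := fun e => gT (mul_mem (QT (OM ⟨hs, e⟩)) hτ)
  have sQ : s ∈ N[Cs V Z] := mem_N_of_finite fun x hx =>
    OM ⟨conj_mem (norm_self O hs) (QO hx), TV (conj_mem sT (QT hx))⟩
  have st := oH.le hs
  have wV := h.out (P := O ⊓ N[Cs V Z]) (o2.inf_left _) (inf_le_left.trans oH.le)
    (zpowers_le.1 (norm_inf (zpowers_le.2 (oH.norm h.yC)) (norm_of_le (zpowers_le.2 h.yQ))))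
    (le_inf QO (norm_self _)) inf_le_right ⟨hs, sQ⟩ sV
  have wQ := conj_mem sQ (h.VQ h.uV)
  have hT : T ≤ Cs {s * u * s⁻¹} Z := fun g hg => mem_Cs1.2 ⟨h.NZ (Tt hg), by
    convert conj_mem (h.NZ st) (mem_Cs1.1 (Tu _ (conj_mem' sT hg))).2 using 1; group⟩
  obtain ⟨aE, cE⟩ := exE _ wQ wV hT
  have cs : ∀ g, g ∈ C{s * u * s⁻¹} ↔ s⁻¹ * g * s ∈ C{u} := fun g => by rw [← cj_C1, mem_cj]
  have vw : v ∉ C{s * u * s⁻¹} := fun e =>
    wV (h.cent (h.QC wQ) (wU _ wQ hT) (mem_C1_comm.1 e))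
  have Ew : N[V] ⊓ C[U] ⊓ C{s * u * s⁻¹} ≤ C{s * u * s⁻¹} := inf_le_right
  have Eb : N[V] ⊓ C[U] ⊓ C{s * u * s⁻¹} ≤ N[V] ⊓ C[U] := inf_le_left
  generalize N[V] ⊓ C[U] ⊓ C{s * u * s⁻¹} = E at *
  have nE : ∀ g, cj g⁻¹ E ≤ N[V] ⊓ C[U] → g ∈ N[E] := fun g e =>
    memN (h.uq Eb aE cE.ge e (aE.cj _) (by rw [card_cj, cE]))
  have bE : N[(N[V] ⊓ C[U] : Subgroup G)] ≤ N[E] := fun g e => nE g (cj_le_of_mem_N Eb (inv_mem e))
  have TE : T ≤ N[E] := (norm_inf (norm_of_le TV) (norm_C TU)).trans bE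
  have sE : s ∈ N[E] := nE s fun x hx => by
    obtain ⟨e, he, rfl⟩ := mem_cj'.1 hx
    rw [inv_inv]
    have m := conj_mem' sT (bT (Eb he))
    exact ⟨TV m, h.centU (Tt m) ((cs e).1 (Ew he))⟩
  have ix := ix_loc k mx hp (T2.of_le (Eb.trans bT)) cE T2 TE
  have rH := pcore_nml {2} N[E]
  have r2 : TwoG O[{2}, N[E]] := pcore_pi _ _
  generalize O[{2}, N[E]] = R at *
  obtain ⟨x, hx, hc, x1, -⟩ := two_cent (P := R ⊓ N[U]) (r2.inf_left _) (h.ea.two.of_le h.UV)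
    inf_le_right fun e => h.t1 (mem_bot.1 (e ▸ h.tU))
  have UR := h.zinv (K := C[R ⊓ N[U]]) (zpowers_le.1 (norm_C (norm_inf
    (zpowers_le.2 (rH.norm (bE h.zB))) (norm_of_le (zpowers_le.2 h.zU))))) hx x1 hc h.uU
  have ku : ∀ d ∈ T, d ∈ R → d ∈ C{u} := fun d h1 h2 => mem_C1.2 (mem_C.1 UR d ⟨h2, TU h1⟩)
  have vT := QT (h.VQ h.vV)
  have bT' := QT h.bQ
  refine h.bu ((mul_mem_cancel_left (mem_C1.2 (h.ea.comm h.vV h.uV))).1
    (ku _ (mul_mem vT bT') (ix v vT _ bT' (fun e => vw ?_) fun e => h.bu (ku _ bT' e))))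
  exact (cs v).2 (ku _ (conj_mem' sT vT) (conj_mem' (rH.norm sE) e))

theorem ord3 (hV : EA V) (hm : m ∈ N[V]) (h3 : m * (m * m) ∈ V) (hn : m ∉ V) :
    ∃ y ∈ N[V], orderOf y = 3 ∧ ∀ x ∈ V, y * x * y⁻¹ = m * x * m⁻¹ := by
  refine ⟨m * (m * (m * m)), mul_mem hm (norm_self V h3), H19.K3.ord3 ?_ fun e => hn ?_,
    fun x hx => ?_⟩
  · have e := hV.sq h3
    rw [show (m * (m * (m * m))) ^ 3 = (m * (m * m) * (m * (m * m))) ^ 2 by
      simp only [pow_succ, pow_zero, one_mul, mul_assoc], e, one_pow]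
  · rw [eq_inv_of_mul_eq_one_left e]; exact inv_mem h3
  · rw [mul_assoc m, hV.comm h3 hx]; group

theorem mem_zp (hu : Inv u) (hx : s ∈ zpowers u) : s = 1 ∨ s = u := by
  classical
  obtain ⟨n, hn, rfl⟩ := (mem_zpowers_iff_mem_range_orderOf.trans Finset.mem_image).mp hx
  rw [hu.orderOf_eq, Finset.mem_range] at hn
  interval_cases n
  · exact Or.inl (pow_zero u)
  · exact Or.inr (pow_one u)

theorem exists_cf (hV : EA V) (cV : ♯V = 8) (hC : C[V] ≤ V) (cN : ♯N[V] = ♯C[V] * 168) :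
    ∃ Z U t u v y z a, Cf V Z U t u v y z a := by
  have ex : ∀ K : Subgroup G, ♯K < 8 → ∃ x ∈ V, x ∉ K := fun K hK =>
    SetLike.not_le_iff_exists.1 fun e => by have := card_le_of_le e; omega
  obtain ⟨t, tV, t1⟩ := ex ⊥ (by simp)
  rw [mem_bot] at t1
  have it : Inv t := ⟨t1, hV.sq tV⟩
  obtain ⟨u, uV, uZ⟩ := ex (zpowers t) (by rw [it.card_zpowers]; omega)
  have u1 : u ≠ 1 := fun e => uZ (e ▸ one_mem _)
  have ut : u ≠ t := fun e => uZ (e ▸ mem_zpowers _)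
  have iu : Inv u := ⟨u1, hV.sq uV⟩
  have cU : ♯(zpowers t ⊔ zpowers u : Subgroup G) = 4 := by
    rw [card_sup_of_inf (hV.abl.norm (zpowers_le.2 uV) (zpowers_le.2 tV)), it.card_zpowers,
      iu.card_zpowers]
    rw [inf_comm]
    exact prime_inf_of_not_le (iu.card_zpowers ▸ Nat.prime_two) fun e => uZ (e (mem_zpowers u))
  have ZU : zpowers t ≤ zpowers t ⊔ zpowers u := le_sup_left
  have uU : u ∈ zpowers t ⊔ zpowers u := mem_sup_right (mem_zpowers u)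
  have UV : zpowers t ⊔ zpowers u ≤ V := sup_le (zpowers_le.2 tV) (zpowers_le.2 uV)
  generalize zpowers t ⊔ zpowers u = U at *
  have tU := ZU (mem_zpowers t)
  obtain ⟨v, vV, vU⟩ := ex U (by omega)
  have ne : ∀ {x w : G}, x ∉ U → w ∈ U → x ≠ w := fun h1 h2 e => h1 (e ▸ h2)
  have mk : ∀ {x w c : G}, x ∈ V → w ∈ V → c ∈ V → x ≠ 1 → w ≠ 1 → w ≠ x → c ≠ 1 → c ≠ x → c ≠ w →
      c ≠ x * w → H19.K3.Ind x w c := fun h1 h2 h3 a b c d e f g =>
    ⟨hV.sq h1, hV.sq h2, hV.sq h3, hV.comm h1 h2, hV.comm h1 h3, hV.comm h2 h3, a, b, c, d, e, f, g⟩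
  have tu := mul_mem tU uU
  have uv : u * v ∉ U := mt (mul_mem_cancel_left uU).1 vU
  have tv : t * v ∉ U := mt (mul_mem_cancel_left tU).1 vU
  have I := mk tV uV vV t1 u1 ut (ne vU (one_mem _)) (ne vU tU) (ne vU uU) (ne vU tu)
  have aut := fun a b c ha hb hc => H10.K3L.aut (a' := a) (b' := b) (c' := c) hV cV cN tV uV vV
    ha hb hc I
  have cen := fun m a b c => hC (H10.K3L.cent (m := m) cV tV uV vV I a b c)
  have c3 : ∀ m x : G, m * (m * m) * x * (m * (m * m))⁻¹ = m * (m * (m * x * m⁻¹) * m⁻¹) * m⁻¹ :=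
    fun m x => by group
  obtain ⟨m, hm, m1, m2, m3⟩ := aut t v (u * v) tV vV (mul_mem uV vV) (mk tV vV (mul_mem uV vV) t1
    (ne vU (one_mem _)) (ne vU tU) (ne uv (one_mem _)) (ne uv tU) (by simpa using u1)
    (by simpa using ut))
  have m4 : m * (u * v) * m⁻¹ = u := by
    rw [cjm, m2, m3, hV.comm uV vV, ← mul_assoc, hV.sq vV, one_mul]
  obtain ⟨y, hy, y3, ey⟩ := ord3 hV hm (cen _ (by rw [c3, m1, m1, m1]) (by rw [c3, m2, m3, m4])
    (by rw [c3, m3, m4, m2])) fun e => ne vU uU (by rw [← m2, hV.comm e uV]; simp)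
  obtain ⟨n, hn, n1, n2, n3⟩ := aut u (t * u) v uV (UV tu) vV (mk uV (UV tu) vV u1
    (fun e => ut (by rw [← hV.inv tV]; exact eq_inv_of_mul_eq_one_right e)) (by simpa using t1)
    (ne vU (one_mem _)) (ne vU uU) (ne vU tu) (ne vU (mul_mem uU tu)))
  have n4 : n * (t * u) * n⁻¹ = t := by
    rw [cjm, n1, n2, hV.comm tV uV, ← mul_assoc, hV.sq uV, one_mul]
  obtain ⟨z, hz, z3, ez⟩ := ord3 hV hn (cen _ (by rw [c3, n1, n2, n4]) (by rw [c3, n2, n4, n1])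
    (by rw [c3, n3, n3, n3])) fun e => ut (by rw [← n1, hV.comm e tV]; simp)
  obtain ⟨a, ha, a1, a2, a3⟩ := aut t u (t * v) tV uV (mul_mem tV vV) (mk tV uV (mul_mem tV vV) t1
    u1 ut (ne tv (one_mem _)) (ne tv tU) (ne tv uU) (ne tv tu))
  exact ⟨zpowers t, U, t, u, v, y, z, a, hV, cV, hC, t1, fun x => ⟨mem_zp it, by
      rintro (rfl | rfl); exacts [one_mem _, mem_zpowers _]⟩, ZU, UV,
    ix2_of_card ZU (by rw [cU, it.card_zpowers]), ix2_of_card UV (by rw [cU, cV]), uU, uZ, vV, vU,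
    hy, y3, (ey t tV).trans m1, (ey u uV).trans m2, (ey v vV).trans m3, hz, z3, (ez t tV).trans n1,
    (ez u uV).trans n2, (ez v vV).trans n3, ha, a1, a2, a3⟩

theorem main {G : Type u} [Group G] [Finite G] {p a b : ℕ} (h : H18.K3.KT G p a b)
    (mx : H19.K3.Mx 3 G) {V : Subgroup G} (hV : IsElementaryAbelian 2 V) (cV : ♯V = 8)
    (hC : C[V] ≤ V) (cN : ♯N[V] = ♯C[V] * 168) :
    ∃ z : G, orderOf z = 2 ∧
      IsOfSymplecticType ↥(generalizedFittingSubgroup ↥(centralizer ({z} : Set G))) ∧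
      (¬ IsExtraspecial 2 ↥(generalizedFittingSubgroup ↥(centralizer ({z} : Set G))) ∨
        Nat.card ↥(generalizedFittingSubgroup ↥(centralizer ({z} : Set G))) = 32 ∨
        Nat.card ↥(generalizedFittingSubgroup ↥(centralizer ({z} : Set G))) = 128 ∨
        Nat.card ↥(generalizedFittingSubgroup ↥(centralizer ({z} : Set G))) = 512) := by
  have := Fact.mk Nat.prime_two
  obtain ⟨Z, U, t, u, v, y, z, c, k⟩ := exists_cf hV cV hC cN
  have hp : ¬ p ∣ 15 := fun e => by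
    have h7 : 7 ∣ ♯N[V] := cN ▸ Dvd.dvd.mul_left (by norm_num) _
    by_cases e1 : p ∣ ♯N[V]
    · have h5 := h.five
      have := Nat.le_of_dvd (by norm_num) e
      have h1 : 7 ∣ p * 3 ^ a * 2 ^ b := h.card ▸ h7.trans (card_subgroup_dvd_card _)
      have p7 : Nat.Prime 7 := by norm_num
      rcases p7.dvd_mul.1 h1 with h1 | h1
      · rcases p7.dvd_mul.1 h1 with h1 | h1
        · exact absurd (h1.trans e) (by norm_num)
        · exact absurd (p7.dvd_of_dvd_pow h1) (by norm_num)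
      · exact absurd (p7.dvd_of_dvd_pow h1) (by norm_num)
    · simpa using H4.K3.pi23 h e1 7 (by norm_num) h7
  have e := k.core h mx hp
  have mq : ∀ x : C{t}, x ∈ pCore 2 C{t} ↔ (x : G) ∈ Cs V Z := fun x => by
    rw [← e, pcore_singleton Nat.prime_two]
    exact ⟨fun hx => ⟨x, hx, rfl⟩, fun ⟨w, hw, e⟩ => Subtype.ext e ▸ hw⟩
  have tC : t ∈ C{t} := k.VC k.tV
  have hF : generalizedFittingSubgroup C{t} = pCore 2 C{t} := H23.fstar_eq_pCore_iff.2 fun x hx =>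
    (mq x).2 (k.VQ (hC (mem_C.2 fun m hm => congrArg Subtype.val
      (mem_centralizer_iff.1 hx ⟨m, k.VC hm⟩ ((mq _).2 (k.VQ hm))))))
  refine ⟨t, ord2 k.t1 k.tt, ?_, .inr (.inl ?_)⟩
  · rw [hF]
    refine sympl (H2.pCore_isPGroup 2 _) (t := ⟨⟨t, tC⟩, (mq _).2 (k.VQ k.tV)⟩)
      (Subtype.ext (Subtype.ext k.tt)) (fun x => Subtype.ext (Subtype.ext (mem_C1.1 x.1.2)))
      (fun x => ((k.hZ _).1 (k.sqZ ((mq _).1 x.2))).imp (fun e => Subtype.ext (Subtype.ext e))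
        fun e => Subtype.ext (Subtype.ext e)) fun x hx => ?_
    refine ((k.hZ _).1 (k.cen ((mq _).1 x.2) fun q hq q1 => ?_)).imp
      (fun e => Subtype.ext (Subtype.ext e)) fun e => Subtype.ext (Subtype.ext e)
    exact mem_C1.2 (congrArg (fun w : pCore 2 C{t} => ((w : C{t}) : G)) (hx ⟨⟨q, k.QC hq⟩,
      (mq _).2 hq⟩ fun e => q1 (congrArg (fun w : pCore 2 C{t} => ((w : C{t}) : G)) e))).symm
  · rw [hF, ← k.cQ, ← e, pcore_singleton Nat.prime_two,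
      card_map_of_injective (subtype_injective _)]

end H28.K3L
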