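import Mathlib
import Cfsg.Agent.H28.ND0
import Cfsg.Agent.H28.NDA
import Cfsg.Agent.H5.NDac

set_option autoImplicit false
set_option linter.unusedSectionVars false

namespace H28.ND

open Subgroup Equiv Equiv.Perm Cfsg H24 H23 H25.LB H5.Ly H20.So
open scoped commutatorElement

variable {G : Type*} [Group G] [Finite G] {n : ℕ} {t x y g k a b : G}
  {K K' L H D Q Q' R T P : Subgroup G} {J J' : G → Subgroup G} {ι : SS →* G}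

open NDac

namespace NDQx

theorem tV (t : G) (ι : SS →* G) : t ∈ VV t ι := mem_sup_left (mem_zpowers t)
theorem EV {e : SS} (he : e ∈ E₀) : ι e ∈ VV t ι := mem_sup_right (mem_map_of_mem ι he)

theorem memNV (hg : g ∈ N[EE ι]) (ht : g * t * g⁻¹ ∈ VV t ι) : g ∈ N[VV t ι] :=
  mem_N_of_cj_le (by
    rw [cj_sup, cj_zpowers, cj_of_mem_N hg]
    exact sup_le (zpowers_le.2 ht) le_sup_right)

theorem V_le (m : Md t K J ι) (c : In n t K J) : VV t ι ≤ C{t} ⊓ C[EE ι] := fun x hx => by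
  have h1 : t ∈ C{t} ⊓ C[EE ι] := ⟨self_mem_C1 t, mem_C'.2 (by rintro _ ⟨s, -, rfl⟩; exact m.ct c s)⟩
  obtain ⟨e, he, rfl | rfl⟩ := (m.mem_VV c).1 hx
  · exact ⟨ι_Ct m c e, ι_C he⟩
  · exact mul_mem h1 ⟨ι_Ct m c e, ι_C he⟩

theorem V_pg (m : Md t K J ι) (c : In n t K J) : IsPGroup 2 (VV t ι) := pg_of_te fun x hx => ⟨1, by
  obtain ⟨e, he, rfl | rfl⟩ := (m.mem_VV c).1 hx
  · rw [pow_one, sq, ← map_mul, E_sq e he, map_one]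
  · rw [pow_one, sq, mul_assoc, ← mul_assoc (ι e), ← m.ct c, mul_assoc, ← map_mul, E_sq e he,
      map_one, mul_one, c.tt]⟩

theorem dl (m : Md t K J ι) (c : In n t K J) (hg : g ∈ N[VV t ι] ⊓ C[EE ι]) :
    ∃ b ∈ E₀, g * t * g⁻¹ = t * ι b := by
  obtain ⟨b, hb, h | h⟩ := (m.mem_VV c).1 (conj_mem hg.1 (tV t ι))
  · exfalso
    rw [← CE_eq hg.2 hb, mul_left_inj, mul_right_inj] at h
    exact c.tK (h ▸ m.memK c b)
  · exact ⟨b, hb, h⟩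

theorem adj (q : Qs t ι Q) (m : Md t K J ι) (c : In n t K J) (hg : g ∈ N[VV t ι] ⊓ C[EE ι]) :
    ∃ x ∈ Q, x⁻¹ * g ∈ C{t} ⊓ C[EE ι] := by
  obtain ⟨b, hb, e⟩ := dl m c hg
  obtain ⟨x, hx, e'⟩ := q.del b hb
  refine ⟨x, hx, mem_C1_iff_conj.2 ?_, mul_mem (Subgroup.inv_mem _ (q.le hx).2) hg.2⟩
  calc _ = x⁻¹ * (g * t * g⁻¹) * x := by group
    _ = t := by rw [e, ← e']; group

theorem ind_of (m : Md t K J ι) (hz : g ∈ C{ι zS}) {b1 b2 b3 : SS} (m1 : b1 ∈ E₀) (m2 : b2 ∈ E₀)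
    (m3 : b3 ∈ E₀) (h1 : g * ι ζS * g⁻¹ = ι b1) (h2 : g * ι eS * g⁻¹ = ι b2)
    (h3 : g * ι wS * g⁻¹ = ι b3) : Ind b1 b2 b3 := by
  have key : ∀ a b : SS, g * ι a * g⁻¹ = ι b → a ≠ 1 → a ≠ zS → b ≠ 1 ∧ b ≠ zS := fun a b e n1 n2 =>
    ⟨fun h => n1 (m.inj (by rw [h, map_one, conj_eq_one_iff'] at e; rw [e, map_one])),
      fun h => n2 (m.inj (by
        rw [h, ← mem_C1_iff_conj.1 hz, mul_left_inj, mul_right_inj] at e; exact e))⟩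
  have mu : ∀ {a b a' b' : SS}, g * ι a * g⁻¹ = ι b → g * ι a' * g⁻¹ = ι b' →
      g * ι (a * a') * g⁻¹ = ι (b * b') := fun e e' => by rw [map_mul, map_mul, ← conj_mul, e, e']
  refine ⟨m1, m2, m3, ?_⟩
  simp only [List.mem_cons, List.not_mem_nil, or_false]
  rintro _ (rfl | rfl | rfl | rfl | rfl | rfl | rfl)
  · exact key _ _ h1 (by decide) (by decide)
  · exact key _ _ h2 (by decide) (by decide)
  · exact key _ _ h3 (by decide) (by decide)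
  · exact key _ _ (mu h1 h2) (by decide) (by decide)
  · exact key _ _ (mu h1 h3) (by decide) (by decide)
  · exact key _ _ (mu h2 h3) (by decide) (by decide)
  · exact key _ _ (mu (mu h1 h2) h3) (by decide) (by decide)

theorem delz (X : Cx n t K J K' J' ι) : ∃ x ∈ C[EE ι], x * t * x⁻¹ = t * ι zS := by
  obtain ⟨k', ⟨hk', kN'⟩, e1⟩ := X.m'.tr (zS * ζS) (mul_mem zE ζE) (by decide)
  obtain ⟨k, ⟨hk, kN⟩, e2⟩ := X.m.tr ζS ζE (by decide)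
  have c1 := mem_C1_iff_conj.1 (X.c'.Kle hk')
  have c2 := mem_C1_iff_conj.1 (X.c.Kle hk)
  have e3 : k' * t * k'⁻¹ = t * ι ζS := by
    calc _ = k' * (t * ι zS) * k'⁻¹ * (k' * ι zS * k'⁻¹) := by
          rw [conj_mul, mul_assoc t, ιzz, mul_one]
      _ = _ := by rw [c1, e1, map_mul, mul_assoc, ← mul_assoc (ι zS), ιzz, one_mul]
  have e4 : k⁻¹ * k' * t * (k⁻¹ * k')⁻¹ = t * ι zS := by
    calc _ = k⁻¹ * (k' * t * k'⁻¹) * k := by group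
      _ = k⁻¹ * (k * t * k⁻¹ * (k * ι zS * k⁻¹)) * k := by rw [e3, c2, e2]
      _ = _ := by group
  have g1N := mul_mem (Subgroup.inv_mem _ kN) kN'
  obtain ⟨u, hu, e5⟩ := exE g1N zE
  obtain ⟨l, ⟨hl, lN⟩, e6⟩ := X.m'.tr u hu (by
    rintro rfl
    rw [map_one, conj_eq_one_iff', ← map_one ι] at e5
    exact absurd (X.m.inj e5) (by decide))
  have c3 := mem_C1_iff_conj.1 (X.c'.Kle hl)
  obtain ⟨g, hg⟩ : ∃ g, g = l⁻¹ * (k⁻¹ * k') := ⟨_, rfl⟩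
  have gN : g ∈ N[EE ι] := hg ▸ mul_mem (Subgroup.inv_mem _ lN) g1N
  have gz : g ∈ C{ι zS} := mem_C1_iff_conj.2 (by
    calc _ = l⁻¹ * (k⁻¹ * k' * ι zS * (k⁻¹ * k')⁻¹) * l := by rw [hg]; group
      _ = _ := by rw [e5, ← e6]; group)
  have gt : g * t * g⁻¹ = t * ι zS := by
    calc _ = l⁻¹ * (k⁻¹ * k' * t * (k⁻¹ * k')⁻¹) * l := by rw [hg]; group
      _ = l⁻¹ * (l * (t * ι zS) * l⁻¹) * l := by rw [e4, c3]
      _ = _ := by group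
  obtain ⟨b1, m1, h1⟩ := exE gN ζE
  obtain ⟨b2, m2, h2⟩ := exE gN eE
  obtain ⟨b3, m3, h3⟩ := exE gN wE
  obtain ⟨p, ⟨hp, pN⟩, a1, a2, a3⟩ := gl3 X.m (ind_of X.m gz m1 m2 m3 h1 h2 h3)
  have hp' := J_le X.m X.c hp
  have pz := Subgroup.inv_mem _ hp'.2
  refine ⟨p⁻¹ * g, X.m.noTv _ (mul_mem (Subgroup.inv_mem _ (norm_self _ hp))
    (X.c.nJ X.m.zK (z2 X.m) gz (Or.inr gt))) (Ac.all (mul_mem pz gz)
      ((Ac.of_eq h1).comp (a1.inv hp'.2) pz) ((Ac.of_eq h2).comp (a2.inv hp'.2) pz)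
      ((Ac.of_eq h3).comp (a3.inv hp'.2) pz)), ?_⟩
  calc _ = p⁻¹ * (g * t * g⁻¹) * p⁻¹⁻¹ := by group
    _ = _ := by
      rw [gt, ← conj_mul, mem_C1_iff_conj.1 pz, mem_C1_iff_conj.1 (Subgroup.inv_mem _ hp'.1)]

end NDQx

open NDQx

/-! ### NDQ -/
theorem Md.nV (m : Md t K J ι) (c : In n t K J) : N[VV t ι] ≤ N[EE ι] := by
  intro g hg
  refine mem_N_of_finite ?_
  rintro _ ⟨e, he, rfl⟩
  by_cases e1 : e = 1
  · rw [e1]; simp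
  obtain ⟨b, hb, h | h⟩ := (m.mem_VV c).1 (conj_mem hg (EV (t := t) he))
  · rw [h]; exact mem_map_of_mem ι hb
  · exfalso
    have o1 := m.ord (E_sq e he) e1
    by_cases b1 : b = 1
    · rw [b1, map_one, mul_one] at h
      exact c.nz _ (m.memK c e) o1 (isConj_iff.2 ⟨g, h⟩)
    · exact c.nz' _ (m.memK c e) _ (m.memK c b) o1 (m.ord (E_sq b hb) b1) (isConj_iff.2 ⟨g, h⟩)
theorem Cx.del (X : Cx n t K J K' J' ι) {e : SS} (he : e ∈ E₀) :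
    ∃ x ∈ N[VV t ι] ⊓ C[EE ι], x * t * x⁻¹ = t * ι e := by
  suffices h : ∃ x ∈ C[EE ι], x * t * x⁻¹ = t * ι e by
    obtain ⟨x, hx, h⟩ := h
    exact ⟨x, ⟨memNV (C_le_N _ hx) (h ▸ mul_mem (tV t ι) (EV he)), hx⟩, h⟩
  by_cases e1 : e = 1
  · exact ⟨1, one_mem _, by simp [e1]⟩
  obtain ⟨x, hx, h⟩ := delz X
  obtain ⟨k, ⟨hk, kN⟩, e2⟩ := X.m.tr e he e1
  have c2 := mem_C1_iff_conj.1 (X.c.Kle hk)
  refine ⟨k * x * k⁻¹, conj_mem (N_le_NC _ kN) hx, ?_⟩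
  calc _ = k * x * k⁻¹ * (k * t * k⁻¹) * (k * x * k⁻¹)⁻¹ := by rw [c2]
    _ = k * (x * t * x⁻¹) * k⁻¹ := by group
    _ = _ := by rw [h, ← conj_mul, c2, e2]
theorem Cx.exQ (X : Cx n t K J K' J' ι) (hR : IsPGroup 2 R) (h : R ≤ N[VV t ι]) :
    ∃ Q, Qs t ι Q ∧ R ≤ N[Q] ∧ R ⊓ C[EE ι] ≤ Q := by
  obtain ⟨T, hT, hRT⟩ := mx_ex hR h
  have nX : N[VV t ι] ≤ N[(N[VV t ι] ⊓ C[EE ι] : Subgroup G)] :=
    norm_inf (norm_self _) (norm_C (X.m.nV X.c))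
  have hQ := hT.inf (D := N[VV t ι] ⊓ C[EE ι]) inf_le_left nX
  have hV : VV t ι ≤ T := le_sup_left.trans (hT.2.2 _ (pg_sup (V_pg X.m X.c) hT.1 hT.2.1)
    (sup_le (norm_self _) hT.2.1) le_sup_right)
  refine ⟨_, ⟨hQ.1, hQ.2.1, le_inf hV (le_inf (norm_self _) ((V_le X.m X.c).trans inf_le_right)),
    fun e he => ?_⟩, norm_inf (norm_of_le hRT) (h.trans nX),
    fun x hx => ⟨hRT hx.1, h hx.1, hx.2⟩⟩
  obtain ⟨x, hx, e1⟩ := X.del he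
  obtain ⟨a, b, e2, ha, hb, ⟨j, hj⟩, ho⟩ := two_odd x
  have x2 : x * x ∈ C{t} := mem_C1_iff_conj.2 (by
    calc _ = x * (x * t * x⁻¹) * x⁻¹ := by group
      _ = t := by
        rw [e1, ← conj_mul, e1, CE_eq hx.2 he, mul_assoc, ← map_mul, E_sq e he, map_one, mul_one])
  have bt : b ∈ C{t} := mem_of_sq_mem ho (by
    obtain ⟨i, rfl⟩ := mem_zpowers_iff.1 hb
    rw [← (Commute.refl x).mul_zpow]
    exact zpow_mem x2 i)
  have e3 : a * t * a⁻¹ = t * ι e := by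
    rw [← e1, e2]
    conv_lhs => rw [← mem_C1_iff_conj.1 bt]
    group
  have aX : a ∈ N[VV t ι] ⊓ C[EE ι] := zpowers_le.2 hx ha
  obtain ⟨g, hg, hle⟩ := hQ.conj (pg_zpowers hj) (zpowers_le.2 aX)
  refine ⟨g * a * g⁻¹, hle (conj_mem_cj g (mem_zpowers a)), ?_⟩
  obtain ⟨d, hd, e4⟩ := dl X.m X.c (Subgroup.inv_mem _ hg)
  calc _ = g * (a * (g⁻¹ * t * g⁻¹⁻¹) * a⁻¹) * g⁻¹ := by group
    _ = g * (t * ι d * ι e) * g⁻¹ := by
        rw [e4, ← conj_mul (b := a), e3, CE_eq aX.2 hd, mul_assoc t, mul_assoc t, ← map_mul, ← map_mul,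
          E_comm e he d hd]
    _ = _ := by rw [← conj_mul, ← e4, CE_eq hg.2 he]; group
theorem Qs.mx (q : Qs t ι Q) (m : Md t K J ι) (c : In n t K J) : Mx Q (N[VV t ι] ⊓ C[EE ι]) := by
  refine ⟨q.two, q.le, fun R hR hle hQ d hd => ?_⟩
  obtain ⟨x, hx, h⟩ := adj q m c (hle hd)
  have := q.ge ((m.mem_VV c).2 (m.cV _ h (te_of_pg hR (mul_mem (Subgroup.inv_mem _ (hQ hx)) hd))))
  exact (mul_mem_cancel_left (Subgroup.inv_mem _ hx)).1 this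
theorem Qs.ct (q : Qs t ι Q) (m : Md t K J ι) (c : In n t K J) (hx : x ∈ Q) (ht : x ∈ C{t}) :
    x ∈ VV t ι := by
  exact (m.mem_VV c).2 (m.cV _ ⟨ht, (q.le hx).2⟩ (te_of_pg q.two hx))
theorem Qs.cj (q : Qs t ι Q) (hk : k ∈ C{t} ⊓ N[EE ι]) : Qs t ι (cj k Q) := by
  have ct := mem_C1_iff_conj.1 hk.1
  have kV : k ∈ N[VV t ι] := memNV hk.2 (by rw [ct]; exact tV t ι)
  refine ⟨q.two.map _, cj_le_of_mem_N q.le (norm_inf (norm_N (zpowers_le.2 kV)) (norm_C (zpowers_le.2 hk.2))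
    (mem_zpowers k)), ?_, fun e he => ?_⟩
  · rw [← cj_of_mem_N kV]
    exact cj_mono k q.ge
  · obtain ⟨e', he', e1⟩ := exE (Subgroup.inv_mem _ hk.2) he
    obtain ⟨x, hx, e2⟩ := q.del e' he'
    refine ⟨_, conj_mem_cj k hx, ?_⟩
    calc _ = k * x * k⁻¹ * (k * t * k⁻¹) * (k * x * k⁻¹)⁻¹ := by rw [ct]
      _ = k * (x * t * x⁻¹) * k⁻¹ := by group
      _ = _ := by rw [e2, ← conj_mul, ct, ← e1]; group
theorem Qs.conj (q : Qs t ι Q) (m : Md t K J ι) (c : In n t K J) (hD : IsPGroup 2 D)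
    (h : D ≤ N[VV t ι] ⊓ C[EE ι]) : ∃ o ∈ C{t} ⊓ C[EE ι], H24.cj o D ≤ Q := by
  obtain ⟨g, hg, hle⟩ := (q.mx m c).conj hD h
  obtain ⟨x, hx, h1⟩ := adj q m c hg
  exact ⟨_, h1, by rw [cj_mul]; exact cj_le_of_mem hle (Subgroup.inv_mem _ hx)⟩
theorem Qs.fr (q : Qs t ι Q) (q' : Qs t ι Q') (m : Md t K J ι) (c : In n t K J) (hR : IsPGroup 2 R)
    (h : R ≤ N[VV t ι] ⊓ N[Q] ⊓ N[Q']) :
    ∃ o ∈ C{t} ⊓ C[EE ι] ⊓ C[R], Odd (orderOf o) ∧ H24.cj o Q' = Q := by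
  have nO : N[VV t ι] ≤ N[opp 2 (C{t} ⊓ C[EE ι])] := le_normalizer_opp 2 (by
    rw [← m.CV]; exact N_le_NC _)
  have hO := odd_opp (C{t} ⊓ C[EE ι])
  have hT : IsPGroup 2 ↥(Q ⊔ R) := pg_sup q.two hR (h.trans (inf_le_left.trans inf_le_right))
  have hT' : IsPGroup 2 ↥(Q' ⊔ R) := pg_sup q'.two hR (h.trans inf_le_right)
  have rV : R ≤ N[VV t ι] := h.trans (inf_le_left.trans inf_le_left)
  have tO : Q ⊔ R ≤ N[opp 2 (C{t} ⊓ C[EE ι])] := (sup_le (q.le.trans inf_le_left) rV).trans nO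
  have one : ∀ {D : Subgroup G}, IsPGroup 2 D → ∀ o ∈ D, o ∈ opp 2 (C{t} ⊓ C[EE ι]) → o = 1 :=
    fun hD o h1 h2 => by
      obtain ⟨j, hj⟩ := te_of_pg hD h1
      exact eq_one_of_two_odd hj (odd_orderOf_of_mem hO h2)
  have mx : Mx (Q ⊔ R) (opp 2 (C{t} ⊓ C[EE ι]) ⊔ (Q ⊔ R)) := ⟨hT, le_sup_right, fun D hD h1 h2 d hd => by
    obtain ⟨o, ho, s, hs, rfl⟩ := (mem_sup_of_norm tO).1 (h1 hd)
    rw [one hD o ((mul_mem_cancel_right (h2 hs)).1 hd) ho, one_mul]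
    exact hs⟩
  have le : Q' ⊔ R ≤ opp 2 (C{t} ⊓ C[EE ι]) ⊔ (Q ⊔ R) := sup_le (fun d hd => by
    obtain ⟨x, hx, h1⟩ := adj q m c (q'.le hd)
    obtain ⟨v, hv, o, ho, e⟩ := m.splitV c h1
    rw [show d = x * (x⁻¹ * d) by group, e]
    exact mul_mem (mem_sup_right (mem_sup_left hx)) (mul_mem (mem_sup_right (mem_sup_left (q.ge hv)))
      (mem_sup_left ho))) (le_sup_right.trans le_sup_right)
  obtain ⟨g, hg, hle⟩ := mx.conj hT' le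
  rw [sup_comm] at hg
  obtain ⟨s, hs, o, ho, rfl⟩ := (mem_sup_of_norm' tO).1 hg
  have h1 : H24.cj o (Q' ⊔ R) ≤ Q ⊔ R := by
    rw [cj_mul, cj_le_iff, cj_of_mem (Subgroup.inv_mem _ hs)] at hle
    exact hle
  have ho' := opp_le 2 _ ho
  have q2 := q'.cj (k := o) ⟨ho'.1, C_le_N _ ho'.2⟩
  have h2 : H24.cj o Q' ≤ Q := (le_inf ((cj_mono o le_sup_left).trans h1) q2.le).trans
    ((q.mx m c).2.2 _ (hT.to_le inf_le_left) inf_le_right (le_inf le_sup_left q.le))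
  refine ⟨o, ⟨ho', mem_C'.2 fun r hr => ?_⟩, odd_orderOf_of_mem hO ho,
    le_antisymm h2 ((q2.mx m c).2.2 _ q.two q.le h2)⟩
  have h3 := one hT (o * r * o⁻¹ * r⁻¹)
    (mul_mem (h1 (conj_mem_cj o (mem_sup_right hr))) (Subgroup.inv_mem _ (mem_sup_right hr))) (by
      rw [show o * r * o⁻¹ * r⁻¹ = o * (r * o⁻¹ * r⁻¹) by group]
      exact mul_mem ho (conj_mem (nO (rV hr)) (Subgroup.inv_mem _ ho)))
  rwa [mul_inv_eq_one, mul_inv_eq_iff_eq_mul] at h3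


end H28.ND
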