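import Mathlib
import Cfsg.Agent.H28.ND0
import Cfsg.Agent.H28.NDQ

set_option autoImplicit false
set_option linter.unusedSectionVars false

namespace H28.ND

open Subgroup Equiv Equiv.Perm Cfsg H24 H23 H25.LB H5.Ly H20.So
open scoped commutatorElement

variable {G : Type*} [Group G] [Finite G] {n : ℕ} {t x y g k a b : G}
  {K K' L H D Q Q' R T P : Subgroup G} {J J' : G → Subgroup G} {ι : SS →* G}

/-! ### NDB -/
namespace NDBx

/-- `x` inverts `O / (O ⊓ Z)` -/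
def Iv (O Z : Subgroup G) (x : G) : Prop := x ∈ N[O] ∧ ∀ d ∈ O, x * d * x⁻¹ * d ∈ Z

theorem Iv.conj {O Z : Subgroup G} (h : Iv O Z x) (h1 : k ∈ N[O]) (h2 : k ∈ N[Z]) : Iv O Z (k * x * k⁻¹) :=
  ⟨mul_mem (mul_mem h1 h.1) (inv_mem h1), fun d hd => by
    have := conj_mem h2 (h.2 _ (conj_mem' h1 hd))
    rwa [show k * (x * (k⁻¹ * d * k) * x⁻¹ * (k⁻¹ * d * k)) * k⁻¹ = k * x * k⁻¹ * d * (k * x * k⁻¹)⁻¹ * d by
      group] at this⟩

theorem Iv.three {O Z : Subgroup G} (hO : O ≤ N[Z]) (h0 : Iv O Z x) (h1 : Iv O Z y) (h2 : Iv O Z g) {d : G}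
    (hd : d ∈ O) : x * y * g * d * (x * y * g)⁻¹ * d ∈ Z := by
  have d2 := conj_mem h2.1 hd
  have d1 := conj_mem h1.1 d2
  have := mul_mem (mul_mem (h0.2 _ d1) (inv_mem (conj_mem' (hO d1) (h1.2 _ d2)))) (h2.2 _ hd)
  convert this using 1
  group

theorem no_inv (X : Cx n t K J K' J' ι) (hx : x ∈ N[VV t ι] ⊓ C[EE ι]) (e : x * t * x⁻¹ = t * ι zS) {c : G}
    (h1 : c ∈ J (ι zS) ⊓ C[EE ι]) (ho : Odd (orderOf c)) (h2 : c ∉ cz (J (ι zS)))
    (h3 : x * c * x⁻¹ * c ∈ cz (J (ι zS))) : False := by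
  have m := X.m
  have z2 : orderOf (ι zS) = 2 := m.ord (by decide) (by decide)
  have zE : ι zS ∈ EE ι := mem_map_of_mem ι (by decide)
  have VC : VV t ι ≤ C[C{t} ⊓ C[EE ι]] := m.CV ▸ le_CC _
  have cC : c ∈ C{t} ⊓ C[EE ι] := ⟨X.c.Kle (X.c.Jle _ m.zK z2 h1.1), h1.2⟩
  have cO : c ∈ opp 2 (C{t} ⊓ C[EE ι]) := odd_mem_opp VC (fun g hg k => (m.mem_VV X.c).2 (m.cV g hg k)) cC ho
  have nV : N[VV t ι] ≤ N[opp 2 (C{t} ⊓ C[EE ι])] :=
    (N_le_NC _).trans (m.CV ▸ normalizer_le_normalizer_opp 2 _)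
  have nK : C{t} ≤ N[cz K] := X.c.Kn.trans (N_le_N_cz K)
  have nE : C{t} ⊓ N[EE ι] ≤ N[opp 2 (C{t} ⊓ C[EE ι])] := (norm_inf (inf_le_left.trans (norm_self _))
    (inf_le_right.trans (N_le_NC _))).trans (normalizer_le_normalizer_opp 2 _)
  have OC := opp_le 2 (C{t} ⊓ C[EE ι])
  have od := fun d (hd : d ∈ opp 2 (C{t} ⊓ C[EE ι])) => odd_orderOf_of_mem (odd_opp _) hd
  have sp := fun g (hg : g ∈ C{t} ⊓ C[EE ι]) => m.splitV X.c hg
  generalize opp 2 (C{t} ⊓ C[EE ι]) = O at cO nV nE OC od sp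
  have Oz : O ≤ C{ι zS} := fun d hd => H24.mem_C1.2 (mem_C.1 (OC hd).2 _ zE).symm
  have ON : O ≤ N[cz (J (ι zS))] := fun d hd =>
    N_le_N_cz _ (X.c.nJ m.zK z2 (Oz hd) (.inl (mem_C1_iff_conj.1 (OC hd).1)))
  have xN := N_le_N_cz _ (X.c.nJ m.zK z2 (H24.mem_C1.2 (mem_C.1 hx.2 _ zE).symm) (.inr e))
  have i0 : Iv O (cz K) x := ⟨nV hx.1, fun d hd => by
    have dO := mul_mem (conj_mem (nV hx.1) hd) hd
    refine X.c.czO m.zK z2 ?_ (OC dO).1 (od _ dO)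
    have cN := ON cO
    have c1 := ON (conj_mem (nV hx.1) cO)
    rcases m.c3 c cC d (OC hd) ho (od d hd) h2 with k | k | k
    · exact mul_mem (conj_mem xN k) k
    · have := mul_mem (mul_mem (conj_mem xN k) (conj_mem' c1 k)) (inv_mem (conj_mem cN h3))
      convert this using 1
      group
    · have := mul_mem (mul_mem (conj_mem xN k) (conj_mem c1 k)) h3
      convert this using 1
      group⟩
  obtain ⟨k1, hk1, e1⟩ := m.tr ζS (by decide) (by decide)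
  obtain ⟨k2, hk2, e2⟩ := m.tr (zS * ζS) (by decide) (by decide)
  have t1 := X.c.Kle hk1.1
  have t2 := X.c.Kle hk2.1
  have x1 := conj_mem (N_le_NC _ hk1.2) hx.2
  have x2 := conj_mem (N_le_NC _ hk2.2) hx.2
  have := Iv.three ((OC.trans inf_le_left).trans nK) i0 (i0.conj (nE ⟨t1, hk1.2⟩) (nK t1))
    (i0.conj (nE ⟨t2, hk2.2⟩) (nK t2)) cO
  have f : ∀ k ∈ C{t}, k * x * k⁻¹ * t * (k * x * k⁻¹)⁻¹ = t * (k * ι zS * k⁻¹) := fun k hk => by
    calc _ = k * (x * (k⁻¹ * t * k⁻¹⁻¹) * x⁻¹) * k⁻¹ := by group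
      _ = _ := by rw [mem_C1_iff_conj.1 (inv_mem hk), e, ← conj_mul, mem_C1_iff_conj.1 hk]
  have f1 := f k1 t1
  have f2 := f k2 t2
  rw [e1] at f1
  rw [e2] at f2
  generalize k1 * x * k1⁻¹ = y1 at this x1 f1
  generalize k2 * x * k2⁻¹ = y2 at this x2 f2
  have cE : ∀ y ∈ C[EE ι], ∀ s ∈ E₀, y * ι s * y⁻¹ = ι s := fun y hy s hs =>
    conj_eq_of_mem_C hy (mem_map_of_mem ι hs)
  obtain ⟨v, hv, o, hoO, e3⟩ := sp (x * y1 * y2) ⟨mem_C1_iff_conj.2 (by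
    calc _ = x * (y1 * (y2 * t * y2⁻¹) * y1⁻¹) * x⁻¹ := by group
      _ = _ := by
        rw [f2, ← conj_mul (b := y1), f1, cE y1 x1 _ (by decide), mul_assoc t, ← map_mul, ← conj_mul, e,
          cE x hx.2 _ (by decide), mul_assoc, ← map_mul, show zS * (ζS * (zS * ζS)) = 1 by decide, map_one,
          mul_one]), mul_mem (mul_mem hx.2 x1) x2⟩
  have oc := conj_mem (norm_self O hoO) cO
  rw [e3, show v * o * c * (v * o)⁻¹ = v * (o * c * o⁻¹) * v⁻¹ by group, conj_eq_of_mem_C (VC hv) (OC oc)] at this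
  replace this := X.c.czK m.zK z2 this (OC (mul_mem oc cO)).1 (Oz (mul_mem oc cO))
  have cN := ON cO
  have k : o * c * o⁻¹ * c⁻¹ ∈ cz (J (ι zS)) := by
    rcases m.c3 c cC o (OC hoO) ho (od o hoO) h2 with k | k | k <;>
      have := mul_mem k (conj_mem cN (inv_mem k)) <;> convert this using 1 <;> group
  exact h2 (mem_of_sq_mem ho (by simpa [mul_assoc] using mul_mem (inv_mem k) this))

theorem sp_z (X : Cx n t K J K' J' ι) (q : Qs t ι Q) : ∃ x ∈ Q, Sp t J (ι zS) x := by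
  have m := X.m
  have z2 : orderOf (ι zS) = 2 := m.ord (by decide) (by decide)
  have zz : ι zS * ι zS = 1 := by rw [← map_mul, show zS * zS = 1 by decide, map_one]
  have tt := X.c.tt
  have tz := m.ct X.c zS
  have tQ : t ∈ Q := q.ge (mem_sup_left (mem_zpowers t))
  obtain ⟨x0, h0, e0⟩ := q.del zS (by decide)
  have cz0 : ∀ x ∈ Q, x * ι zS * x⁻¹ = ι zS := fun x hx =>
    conj_eq_of_mem_C (q.le hx).2 (mem_map_of_mem ι (by decide))
  rcases m.cE x0 ⟨X.c.nJ m.zK z2 (mem_C1_iff_conj.2 (cz0 x0 h0)) (.inr e0), (q.le h0).2⟩ (te_of_pg q.two h0) with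
    ⟨e, he, k⟩ | ⟨c, h1, ho, h2, h3⟩
  swap
  · exact (no_inv X (q.le h0) e0 h1 ho h2 h3).elim
  have hx : x0 * ι e ∈ Q := mul_mem h0 (q.ge (mem_sup_right (mem_map_of_mem ι he)))
  have ex : x0 * ι e * t * (x0 * ι e)⁻¹ = t * ι zS := by
    rw [mul_assoc x0, ← m.ct X.c, ← e0]; group
  generalize x0 * ι e = x at k hx ex
  have fin : ∀ x ∈ Q, x ∈ cz (J (ι zS)) → x * t * x⁻¹ = t * ι zS → x * x = 1 → ∃ x ∈ Q, Sp t J (ι zS) x :=
    fun x hx k ex xx => ⟨x, hx, k, xx, by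
      rw [inv_eq_of_mul_eq_one_left xx] at ex
      rw [← mul_assoc, ← mul_assoc, ex, mul_assoc, ← tz, ← mul_assoc, tt, one_mul]⟩
  have ne : t * ι zS ≠ t := fun a => by
    rw [mul_eq_left] at a
    rw [a, orderOf_one] at z2
    omega
  rcases X.c.cz2 m.zK z2 (mul_mem k k) (mem_C1_iff_conj.2 (by
    calc _ = x * (x * t * x⁻¹) * x⁻¹ := by group
      _ = _ := by rw [ex, ← conj_mul, ex, cz0 x hx, mul_assoc, zz, mul_one])) (te_of_pg q.two (mul_mem hx hx))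
    with a | a | a | a
  · exact fin x hx k ex a
  · exact absurd (ex.symm.trans (by rw [← a]; group)) ne
  · refine fin (x * t) (mul_mem hx tQ) (mul_mem k (X.c.tcz m.zK z2)) (by rw [← ex]; group) ?_
    calc _ = x * t * x⁻¹ * (x * x) * t := by group
      _ = _ := by rw [ex, a, mul_assoc t, zz, mul_one, tt]
  · have : x * (t * ι zS) * x⁻¹ = t * ι zS := by rw [← a]; group
    rw [← conj_mul, ex, cz0 x hx, mul_assoc, zz, mul_one] at this
    exact absurd this.symm ne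

end NDBx

theorem Cx.sp_ex (X : Cx n t K J K' J' ι) (q : Qs t ι Q) {u : SS} (hu : u ∈ E₀) (h1 : u ≠ 1) :
    ∃ x ∈ Q, Sp t J (ι u) x := by
  have m := X.m
  obtain ⟨x, hx, s⟩ := NDBx.sp_z X q
  obtain ⟨k, hk, e⟩ := m.tr u hu h1
  have kt := X.c.Kle hk.1
  have q' := q.cj (k := k) ⟨kt, hk.2⟩
  obtain ⟨o, ho, h⟩ := q.conj m X.c q'.two q'.le
  have s1 := s.cj X.c m.zK (m.ord (by decide) (by decide)) kt
  rw [e] at s1
  have s2 := s1.cj X.c (m.memK X.c u) (m.ord ((by decide +kernel : ∀ u ∈ E₀, u * u = 1) u hu) h1) ho.1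
  rw [conj_eq_of_mem_C ho.2 (mem_map_of_mem ι hu)] at s2
  exact ⟨_, h (conj_mem_cj o (conj_mem_cj k hx)), s2⟩

end H28.ND
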