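import Mathlib
import Cfsg.Agent.H28.ND0
import Cfsg.Agent.H28.NDA
import Cfsg.Agent.H5.NDac

set_option autoImplicit false
set_option linter.unusedSectionVars false

namespace H28.ND

open Subgroup Equiv Equiv.Perm Cfsg H24 H23 H25.LB H5.Ly H20.So
open scoped commutatorElement

variable {G : Type*} [Group G] [Finite G] {n : ℕ} {t x y g k a b : G}
  {K K' L H D Q Q' R T P : Subgroup G} {J J' : G → Subgroup G} {ι : SS →* G}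

open NDac

namespace NDYx

/-- neither `1` nor `z` -/
def Nz (x : SS) : Prop := x ≠ 1 ∧ x ≠ zS
instance (x : SS) : Decidable (Nz x) := by unfold Nz; infer_instance
/-- unfolded independence -/
def Ind' (p q r : SS) : Prop :=
  Nz p ∧ Nz q ∧ Nz r ∧ Nz (p * q) ∧ Nz (p * r) ∧ Nz (q * r) ∧ Nz (p * q * r)
instance (p q r : SS) : Decidable (Ind' p q r) := by unfold Ind'; infer_instance
theorem ind_mk {p q r : SS} (hp : p ∈ E₀) (hq : q ∈ E₀) (hr : r ∈ E₀) (h : Ind' p q r) : Ind p q r := by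
  refine ⟨hp, hq, hr, ?_⟩
  simpa only [List.mem_cons, List.not_mem_nil, or_false, forall_eq_or_imp, forall_eq, Ind', Nz] using h
theorem ind1' : ∀ u ∈ E₀, u ≠ 1 → u ≠ zS → Ind' u ζS eS ∨ Ind' u ζS wS ∨ Ind' u eS wS := by
  decide +kernel
theorem ind1 (u : SS) (hu : u ∈ E₀) (h1 : u ≠ 1) (h2 : u ≠ zS) : ∃ p q, Ind u p q := by
  rcases ind1' u hu h1 h2 with h | h | h
  · exact ⟨_, _, ind_mk hu ζE eE h⟩
  · exact ⟨_, _, ind_mk hu ζE wE h⟩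
  · exact ⟨_, _, ind_mk hu eE wE h⟩
theorem ind2' : ∀ u ∈ E₀, ∀ v ∈ E₀, Nz u → Nz v → Nz (u * v) →
    Ind' u v ζS ∨ Ind' u v eS ∨ Ind' u v wS := by decide +kernel
theorem ind2 (u : SS) (hu : u ∈ E₀) (v : SS) (hv : v ∈ E₀)
    (h : ∀ w ∈ [u, v, u * v], w ≠ 1 ∧ w ≠ zS) : ∃ q, Ind u v q := by
  rcases ind2' u hu v hv (h _ (by simp)) (h _ (by simp)) (h _ (by simp)) with h | h | h
  · exact ⟨_, ind_mk hu hv ζE h⟩
  · exact ⟨_, ind_mk hu hv eE h⟩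
  · exact ⟨_, ind_mk hu hv wE h⟩
theorem sgn : ∀ p ∈ [ζS, ζS * zS], ∀ q ∈ [eS, eS * zS], ∃ s : SS, s * ζS * s⁻¹ = p ∧ s * eS * s⁻¹ = q := by
  decide +kernel
theorem icd : ∀ u : SS, u * u = 1 → u ∉ E₀ → ∀ e ∈ E₀, e * u * (e * u) = 1 →
    ∃ f ∈ E₀, f * (e * u) * f⁻¹ = u := by decide +kernel
theorem l1d : ∀ u : SS, u * u = 1 → u ∉ E₀ → ∃ p ∈ E₀, (u * p * u⁻¹ = p ∨ u * p * u⁻¹ = p * zS) ∧
    ∃ q ∈ E₀, (u * q * u⁻¹ = q ∨ u * q * u⁻¹ = q * zS) ∧ ∃ r ∈ E₀,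
      (u * r * u⁻¹ = r * p ∨ u * r * u⁻¹ = r * p * zS) ∧ Ind' p q r := by decide +kernel
theorem fa : ∀ a ∈ E₀, ∃ c ∈ [1, zS, ζS, zS * ζS], eS' * a * eS'⁻¹ = a * c := by decide +kernel

theorem gd (m : Md t K J ι) (c : In n t K J) (s : SS) : ι s ∈ C{t} ⊓ C{ι zS} ⊓ N[EE ι] :=
  ⟨⟨ι_Ct m c s, ι_Cz ι s⟩, ι_N ι s⟩

theorem e'_not (m : Md t K J ι) : ι eS' ∉ C[EE ι] := fun h => by
  have := CE_eq h eE
  rw [← map_inv, ← map_mul, ← map_mul] at this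
  exact absurd (m.inj this) (by decide)

end NDYx

open NDYx

/-! ### NDY -/
theorem Md.two_tr (m : Md t K J ι) (c : In n t K J) {u v : SS} (hu : u ∈ E₀) (hv : v ∈ E₀)
    (u1 : u ≠ 1) (v1 : v ≠ 1) (h : u ≠ v) :
    ∃ k ∈ C{t} ⊓ N[EE ι], k * ι zS * k⁻¹ = ι u ∧ k * ι ζS * k⁻¹ = ι v := by
  obtain ⟨k, ⟨hK, hN⟩, hk⟩ := m.tr u hu u1
  obtain ⟨v0, hv0, e⟩ := exE (Subgroup.inv_mem _ hN) hv
  have e' : k * ι v0 * k⁻¹ = ι v := by rw [← e]; group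
  obtain ⟨p, q, hi⟩ := ind1 v0 hv0 (by
    rintro rfl
    exact v1 (m.inj (by rw [← e']; simp))) (by
    rintro rfl
    exact h (m.inj (hk.symm.trans e')))
  obtain ⟨g, ⟨hg, hgN⟩, h1, -, -⟩ := gl3 m hi
  have hg' := J_le m c hg
  obtain ⟨p', hp', e1⟩ := h1.ex hg'.2
  obtain ⟨s, hs, -⟩ := sgn p' hp' eS (by simp)
  refine ⟨k * g * ι s, ⟨mul_mem (mul_mem (c.Kle hK) hg'.1) (ι_Ct m c s),
    mul_mem (mul_mem hN hgN) (ι_N ι s)⟩, ?_, ?_⟩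
  · rw [← hk]
    conv_rhs => rw [← mem_C1_iff_conj.1 (mul_mem hg'.2 (ι_Cz ι s))]
    group
  · rw [← e', ← e1, ← hs, map_mul, map_mul, map_inv]
    group
theorem Md.tri_tr (m : Md t K J ι) (c : In n t K J) {u v : SS} (hu : u ∈ E₀) (hv : v ∈ E₀)
    (h : ∀ w ∈ [u, v, u * v], w ≠ 1 ∧ w ≠ zS) :
    ∃ k ∈ C{t} ⊓ C{ι zS} ⊓ N[EE ι], k * ι ζS * k⁻¹ = ι u ∧ k * ι eS * k⁻¹ = ι v := by
  obtain ⟨q, hi⟩ := ind2 u hu v hv h
  obtain ⟨g, ⟨hg, hgN⟩, h1, h2, -⟩ := gl3 m hi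
  have hg' := J_le m c hg
  obtain ⟨p', hp', e1⟩ := h1.ex hg'.2
  obtain ⟨q', hq', e2⟩ := h2.ex hg'.2
  obtain ⟨s, hs, hs'⟩ := sgn p' hp' q' hq'
  refine ⟨g * ι s, mul_mem ⟨hg', hgN⟩ (gd m c s), ?_, ?_⟩
  · rw [← e1, ← hs, map_mul, map_mul, map_inv]
    group
  · rw [← e2, ← hs', map_mul, map_mul, map_inv]
    group
theorem Md.ic (m : Md t K J ι) (c : In n t K J) {u : SS} (hu : u * u = 1) (h0 : u ∉ E₀)
    (hx : x ∈ K ⊓ N[EE ι]) (h2 : x * x = 1) (h : x * ι u ∈ C[EE ι]) :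
    ∃ o ∈ C{t} ⊓ C[EE ι], o * x * o⁻¹ = ι u := by
  have hu' : ι u * ι u = 1 := by rw [← map_mul, hu, map_one]
  obtain ⟨j, i, hj, hi⟩ := two_part (x * ι u)
  obtain ⟨d, hd, e⟩ := dh h2 hu' (e := i) (hj.of_dvd_nat (orderOf_dvd_of_pow_eq_one (by
    rw [← pow_mul, mul_comm, pow_mul, hi])))
  have hd' : d ∈ K ⊓ C[EE ι] :=
    zpowers_le.2 (pow_mem (show x * ι u ∈ K ⊓ C[EE ι] from ⟨mul_mem hx.1 (m.memK c u), h⟩) _) hd
  have hK : d * x * d⁻¹ * ι u ∈ K :=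
    mul_mem (mul_mem (mul_mem hd'.1 hx.1) (Subgroup.inv_mem _ hd'.1)) (m.memK c u)
  have hC : d * x * d⁻¹ * ι u ∈ C[EE ι] := by
    rw [show d * x * d⁻¹ * ι u = d * (x * d⁻¹ * x⁻¹) * (x * ι u) by group]
    exact mul_mem (mul_mem hd'.2 (conj_mem (N_le_NC _ hx.2) (Subgroup.inv_mem _ hd'.2))) h
  obtain ⟨e0, he0, h3 | h3⟩ := m.cV _ ⟨c.Kle hK, hC⟩ ⟨i, e⟩
  · have h4 : d * x * d⁻¹ = ι (e0 * u) := by
      rw [map_mul, ← h3, mul_assoc _ _ (ι u), hu', mul_one]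
    obtain ⟨f, hf, h5⟩ := icd u hu h0 e0 he0 (m.inj (by
      rw [map_mul, ← h4, conj_mul, h2, map_one]; simp))
    refine ⟨ι f * d, mul_mem ⟨ι_Ct m c f, ι_C hf⟩ ⟨c.Kle hd'.1, hd'.2⟩, ?_⟩
    rw [← h5, map_mul, map_mul ι f, map_inv, ← h4]
    group
  · rw [h3] at hK
    exact absurd ((mul_mem_cancel_right (m.memK c e0)).1 hK) c.tK
theorem Md.l1 (m : Md t K J ι) (c : In n t K J) {u : SS} (hu : u * u = 1) (h0 : u ∉ E₀) :
    ∃ g ∈ C{t} ⊓ C{ι zS} ⊓ N[EE ι], g * ι eS' * g⁻¹ = ι u := by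
  obtain ⟨p, mp, hp, q, mq, hq, r, mr, hr, hi⟩ := l1d u hu h0
  obtain ⟨g, ⟨hg, hgN⟩, h1, h2, h3⟩ := gl3 m (ind_mk mp mq mr hi)
  have hg' := J_le m c hg
  have z1 := ι_Cz ι u
  have z2 := Subgroup.inv_mem _ hg'.2
  have z3 := ι_Cz ι eS'
  have h4 : ι eS' * (g⁻¹ * (ι u * g)) ∈ C[EE ι] := m.noTv _
    (norm_self _ (mul_mem (m.mem _) (mul_mem (Subgroup.inv_mem _ hg) (mul_mem (m.mem _) hg))))
    (Ac.all (mul_mem z3 (mul_mem z2 (mul_mem z1 hg'.2)))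
      (((h1.comp (Ac.hom hp) z1).comp (h1.inv hg'.2) z2).comp (Ac.hom (by decide)) z3)
      (((h2.comp (Ac.hom hq) z1).comp (h2.inv hg'.2) z2).comp (Ac.hom (by decide)) z3)
      (((h3.comp (Ac.hom hr) z1).comp ((h3.mul h1).inv hg'.2) z2).comp (Ac.hom (by decide)) z3))
  have hK := c.Jle _ m.zK (NDac.z2 m) hg
  obtain ⟨o, ho, e⟩ := m.ic c hu h0 (x := g * ι eS' * g⁻¹)
    ⟨mul_mem (mul_mem hK (m.memK c _)) (Subgroup.inv_mem _ hK), mul_mem (mul_mem hgN (ι_N ι _)) (Subgroup.inv_mem _ hgN)⟩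
    (by rw [conj_mul, ← map_mul, show eS' * eS' = 1 by decide]; simp)
    (by
      have := conj_mem (N_le_NC _ hgN) h4
      convert this using 1
      group)
  refine ⟨o * g, mul_mem ⟨⟨ho.1, CE_z ho.2⟩, C_le_N _ ho.2⟩ ⟨hg', hgN⟩, ?_⟩
  rw [← e]
  group
theorem Md.exY (m : Md t K J ι) (c : In n t K J) : ∃ y ∈ C{t} ⊓ C{ι eS'} ⊓ N[EE ι],
    y * ι zS * y⁻¹ = ι ζS ∧ y * ι ζS * y⁻¹ = ι (zS * ζS) := by
  obtain ⟨k, ⟨kt, kN⟩, k1, k2⟩ := m.two_tr c ζE (mul_mem zE ζE) (by decide) (by decide) (by decide)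
  have k3 : k * ι (zS * ζS) * k⁻¹ = ι zS := by
    rw [map_mul, ← conj_mul, k1, k2, ← map_mul]
    exact congrArg ι (by decide)
  obtain ⟨x, hx⟩ : ∃ x, x = k * ι eS' * k⁻¹ := ⟨_, rfl⟩
  have xK : x ∈ K := hx ▸ conj_mem (c.Kn kt) (m.memK c _)
  have xN : x ∈ N[EE ι] := hx ▸ mul_mem (mul_mem kN (ι_N ι _)) (Subgroup.inv_mem _ kN)
  have x2 : x * x = 1 := by rw [hx, conj_mul, ← map_mul, show eS' * eS' = 1 by decide]; simp
  have xc : ∀ s, eS' * s = s * eS' → x * (k * ι s * k⁻¹) * x⁻¹ = k * ι s * k⁻¹ := fun s hs => by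
    rw [mul_inv_eq_iff_eq_mul, hx, conj_mul, conj_mul, ← map_mul, ← map_mul, hs]
  have xz : x ∈ C{ι zS} := mem_C1_iff_conj.2 (by rw [← k3]; exact xc _ (by decide))
  have xζ : Ac ι x ζS ζS := Ac.of_eq (by rw [← k1]; exact xc _ (by decide))
  have fA : ∀ a ∈ E₀, Ac ι x a a ∨ Ac ι x a (a * ζS) := fun a ha => by
    obtain ⟨a', ha', e⟩ := exE (Subgroup.inv_mem _ kN) ha
    obtain ⟨d, hd, e1⟩ := fa a' ha'
    have e2 : x * ι a * x⁻¹ = ι a * (k * ι d * k⁻¹) := by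
      have e3 := congrArg ι e1
      rw [map_mul, map_mul, map_mul, map_inv, ← e] at e3
      calc _ = k * (ι eS' * (k⁻¹ * ι a * k⁻¹⁻¹) * (ι eS')⁻¹) * k⁻¹ := by rw [hx]; group
        _ = _ := by rw [e3]; group
    simp only [List.mem_cons, List.not_mem_nil, or_false] at hd
    rcases hd with rfl | rfl | rfl | rfl
    · exact Or.inl (Or.inl (by rw [e2]; simp))
    · exact Or.inr (Or.inl (by rw [e2, k1, map_mul]))
    · exact Or.inr (Or.inr (by rw [e2, k2, map_mul, map_mul, ← ιzc, mul_assoc]))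
    · exact Or.inl (Or.inr (by rw [e2, k3]))
  obtain ⟨v, hv, hv', av⟩ : ∃ v ∈ E₀, (∀ w ∈ [ζS, v, ζS * v], w ≠ 1 ∧ w ≠ zS) ∧ Ac ι x v v := by
    rcases fA _ eE with h1 | h1
    · exact ⟨_, eE, by decide, h1⟩
    rcases fA _ wE with h2 | h2
    · exact ⟨_, wE, by decide, h2⟩
    have := h1.mul h2
    rw [show eS * ζS * (wS * ζS) = eS * wS by decide] at this
    exact ⟨_, mul_mem eE wE, by decide, this⟩
  obtain ⟨g, ⟨⟨gt, gz⟩, gN⟩, g1, g2⟩ := m.tri_tr c ζE hv hv'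
  obtain ⟨w1, hw1, g3⟩ := exE gN wE
  have a1 := Ac.of_eq g1
  have a2 := Ac.of_eq g2
  have a3 := Ac.of_eq g3
  have gz' := Subgroup.inv_mem _ gz
  have x't : g⁻¹ * (x * g) ∈ C{t} := mul_mem (Subgroup.inv_mem _ gt) (mul_mem (c.Kle xK) gt)
  have x'z : g⁻¹ * (x * g) ∈ C{ι zS} := mul_mem gz' (mul_mem xz gz)
  have b1 := (a1.comp xζ xz).comp (a1.inv gz) gz'
  have b2 := (a2.comp av xz).comp (a2.inv gz) gz'
  rcases fA _ hw1 with h1 | h1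
  · exfalso
    have h2 := m.noTv _ (nJ m c x't x'z) (Ac.all x'z b1 b2 ((a3.comp h1 xz).comp (a3.inv gz) gz'))
    have h3 := conj_mem (N_le_NC _ (mul_mem (Subgroup.inv_mem _ kN) gN)) h2
    refine e'_not m ?_
    convert h3 using 1
    rw [hx]
    group
  have b3 := (a3.comp h1 xz).comp ((a3.mul a1).inv gz) gz'
  have ez := ι_Cz ι eS'
  have h2 := m.noTv _ (nJ m c (mul_mem x't (ι_Ct m c eS')) (mul_mem x'z ez))
    (Ac.all (mul_mem x'z ez) ((Ac.hom (by decide)).comp b1 x'z) ((Ac.hom (by decide)).comp b2 x'z)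
      ((Ac.hom (b := wS * ζS) (by decide)).comp
        (by have := b3.mul b1; rwa [show wS * ζS * ζS = wS by decide] at this) x'z))
  obtain ⟨o, ho, e⟩ := m.ic c (u := eS') (by decide) (by decide) (x := g⁻¹ * (x * g))
    ⟨by rw [← mul_assoc]; exact conj_mem' (c.Kn gt) xK, mul_mem (Subgroup.inv_mem _ gN) (mul_mem xN gN)⟩
    (by
      calc _ = g⁻¹ * (x * x) * g := by group
        _ = 1 := by rw [x2]; simp) h2
  have g1' : g⁻¹ * ι ζS * g = ι ζS := by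
    conv_lhs => rw [← g1]
    group
  have gz'' : g⁻¹ * ι zS * g = ι zS := by simpa using mem_C1_iff_conj.1 gz'
  refine ⟨o * g⁻¹ * k, ⟨⟨mul_mem (mul_mem ho.1 (Subgroup.inv_mem _ gt)) kt, mem_C1_iff_conj.2 ?_⟩,
    mul_mem (mul_mem (C_le_N _ ho.2) (Subgroup.inv_mem _ gN)) kN⟩, ?_, ?_⟩
  · conv_rhs => rw [← e, hx]
    group
  · calc _ = o * (g⁻¹ * (k * ι zS * k⁻¹) * g) * o⁻¹ := by group
      _ = _ := by rw [k1, g1', CE_eq ho.2 ζE]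
  · calc _ = o * (g⁻¹ * (k * ι ζS * k⁻¹) * g) * o⁻¹ := by group
      _ = o * ((g⁻¹ * ι zS * g) * (g⁻¹ * ι ζS * g)) * o⁻¹ := by rw [k2, map_mul]; group
      _ = _ := by rw [gz'', g1', ← map_mul, CE_eq ho.2 (mul_mem zE ζE)]


end H28.ND
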