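import Mathlib
import Cfsg.Agent.H28.ND0
import Cfsg.Agent.H28.NDB
import Cfsg.Agent.H28.NDY

set_option autoImplicit false
set_option linter.unusedSectionVars false

namespace H28.ND

open Subgroup Equiv Equiv.Perm Cfsg H24 H23 H25.LB H5.Ly H20.So
open scoped commutatorElement

variable {G : Type*} [Group G] [Finite G] {n : ℕ} {t x y g k a b : G}
  {K K' L H D Q Q' R T P : Subgroup G} {J J' : G → Subgroup G} {ι : SS →* G}

namespace NDCx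

theorem sq0 : ∀ a ∈ E₀, a * a = 1 := by decide +kernel
theorem cm0 : ∀ a ∈ E₀, ∀ b ∈ E₀, a * b = b * a := by decide +kernel
theorem lc {a b : G} (h : a * b = b * a) (g : G) : a * (b * g) = b * (a * g) := by
  rw [← mul_assoc, h, mul_assoc]
theorem ll {a : G} (h : a * a = 1) (g : G) : a * (a * g) = g := by rw [← mul_assoc, h, one_mul]
theorem comm_of (h1 : x * x = 1) (h2 : y * y = 1) (h3 : x * y * (x * y) = 1) : x * y = y * x := by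
  rw [← iv_inv h3, mul_inv_rev, iv_inv h1, iv_inv h2]

theorem cE (q : Qs t ι Q) (hx : x ∈ Q) {e : SS} (he : e ∈ E₀) : ι e * x = x * ι e :=
  mem_C.1 (q.le hx).2 _ (mem_map_of_mem ι he)

variable {u v : SS}

theorem spc (m : Md t K J ι) (c : In n t K J) (hu : u ∈ E₀) (u1 : u ≠ 1) (s : Sp t J (ι u) x) :
    x * t = t * (ι u * x) := by
  rw [← mul_assoc, ← (s.comm c (m.memK c u) (m.ord (sq0 u hu) u1)).2.2, mul_assoc, s.2.1, mul_one]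

theorem uq (m : Md t K J ι) (c : In n t K J) (q : Qs t ι Q) (hu : u ∈ E₀) (u1 : u ≠ 1) (hx : x ∈ Q)
    (hy : y ∈ Q) (sx : Sp t J (ι u) x) (sy : Sp t J (ι u) y) : y = x ∨ y = x * ι u :=
  sx.uniq sy c (m.memK c u) (m.ord (sq0 u hu) u1) (te_of_pg q.two (mul_mem hx hy))

theorem prod (m : Md t K J ι) (c : In n t K J) (q : Qs t ι Q) (hu : u ∈ E₀) (hv : v ∈ E₀)
    (u1 : u ≠ 1) (v1 : v ≠ 1) (uv : u * v ≠ 1) {w : G} (hx : x ∈ Q) (hy : y ∈ Q) (hw : w ∈ Q)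
    (sx : Sp t J (ι u) x) (sy : Sp t J (ι v) y) (sw : Sp t J (ι (u * v)) w) :
    ∃ r ∈ E₀, x * y = w * ι r ∨ x * y = w * (t * ι r) := by
  have h := mul_mem hu hv
  obtain ⟨r, hr, e⟩ := (m.mem_VV c).1 (q.ct m c (mul_mem hw (mul_mem hx hy)) (H24.mem_C1.2 (by
    rw [mul_assoc, mul_assoc, spc m c hv v1 sy, ← mul_assoc x, spc m c hu u1 sx, mul_assoc,
      ← mul_assoc w, spc m c h uv sw, mul_assoc, mul_assoc, mul_assoc, ← lc (cE q hx hv),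
      ← lc (cE q hw hu), ← lc (cE q hw hv), ← mul_assoc (ι u), ← map_mul, ← mul_assoc (ι (u * v)),
      ← map_mul, sq0 _ h, map_one, one_mul])))
  exact ⟨r, hr, e.imp (fun e => by rw [← e, ll sw.2.1]) fun e => by rw [← e, ll sw.2.1]⟩

/-- moving `Q` back to itself -/
theorem mv (m : Md t K J ι) (c : In n t K J) (q : Qs t ι Q) (hk : k ∈ C{t} ⊓ N[EE ι]) :
    ∃ g ∈ C{t}, (∀ x ∈ Q, g * x * g⁻¹ ∈ Q) ∧ ∀ e ∈ E₀, g * ι e * g⁻¹ = k * ι e * k⁻¹ := by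
  obtain ⟨o, ho, e⟩ := q.conj m c (q.cj hk).two (q.cj hk).le
  refine ⟨o * k, mul_mem ho.1 hk.1, fun x hx => ?_, fun a ha => ?_⟩
  · have := e (conj_mem_cj o (conj_mem_cj k hx))
    rwa [show o * (k * x * k⁻¹) * o⁻¹ = o * k * x * (o * k)⁻¹ by group] at this
  · rw [show o * k * ι a * (o * k)⁻¹ = o * (k * ι a * k⁻¹) * o⁻¹ by group,
      ← mem_C.1 ho.2 _ (conj_mem hk.2 (mem_map_of_mem ι ha)), mul_inv_cancel_right]

theorem spcj (m : Md t K J ι) (c : In n t K J) (hu : u ∈ E₀) (u1 : u ≠ 1) (s : Sp t J (ι u) x)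
    (hg : g ∈ C{t}) (e : g * ι u * g⁻¹ = ι v) : Sp t J (ι v) (g * x * g⁻¹) :=
  e ▸ s.cj c (m.memK c u) (m.ord (sq0 u hu) u1) hg

theorem cmq (q : Qs t ι Q) {x' y' : G} (hu : u ∈ E₀) (hv : v ∈ E₀) (hx : x ∈ Q) (hy : y ∈ Q)
    (e1 : x' = x ∨ x' = x * ι u) (e2 : y' = y ∨ y' = y * ι v) : x' * y' = y' * x' ↔ x * y = y * x := by
  have h1 := cE q hx hu
  have h2 := cE q hy hu
  have h3 := cE q hx hv
  have h4 := cE q hy hv
  have h5 : ι v * ι u = ι u * ι v := by rw [← map_mul, cm0 v hv u hu, map_mul]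
  rcases e1 with rfl | rfl <;> rcases e2 with rfl | rfl <;>
    simp only [← h1, ← h4, mul_assoc, ← lc h1, ← lc h2, ← lc h3, ← lc h4, lc h5, mul_right_inj]

theorem same (X : Cx n t K J K' J' ι) (q : Qs t ι Q) {x0 y0 : G} (h0 : x0 ∈ Q) (h1 : y0 ∈ Q)
    (s0 : Sp t J (ι zS) x0) (s1 : Sp t J (ι ζS) y0) (hu : u ∈ E₀) (hv : v ∈ E₀) (u1 : u ≠ 1)
    (v1 : v ≠ 1) (uv : u ≠ v) (hx : x ∈ Q) (hy : y ∈ Q) (sx : Sp t J (ι u) x) (sy : Sp t J (ι v) y) :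
    x * y = y * x ↔ x0 * y0 = y0 * x0 := by
  obtain ⟨k, hk, e1, e2⟩ := X.m.two_tr X.c hu hv u1 v1 uv
  obtain ⟨g, hg, gQ, e⟩ := mv X.m X.c q hk
  rw [cmq q hu hv (gQ _ h0) (gQ _ h1)
    (uq X.m X.c q hu u1 (gQ _ h0) hx (spcj X.m X.c (by decide) (by decide) s0 hg ((e _ (by decide)).trans e1)) sx)
    (uq X.m X.c q hv v1 (gQ _ h1) hy (spcj X.m X.c (by decide) (by decide) s1 hg ((e _ (by decide)).trans e2)) sy),
    ← MulAut.conj_apply, ← MulAut.conj_apply, ← map_mul, ← map_mul, EmbeddingLike.apply_eq_iff_eq]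

theorem cen (m : Md t K J ι) (c : In n t K J) (q : Qs t ι Q) (hn : ι.range ≤ N[Q]) (hu : u ∈ E₀)
    (u1 : u ≠ 1) (hx : x ∈ Q) (s : Sp t J (ι u) x) (h : v * u = u * v) : ι v * x = x * ι v :=
  s.cent (m.inJ c (sq0 u hu) u1 h) (te_of_pg q.two (mul_mem (conj_mem (hn ⟨v, rfl⟩) hx) (inv_mem hx)))

end NDCx

open NDCx

/-! ### NDC -/
theorem Cx.sp_comm (X : Cx n t K J K' J' ι) (q : Qs t ι Q) (hn : ι.range ≤ N[Q]) {u v : SS}
    (hu : u ∈ E₀) (hv : v ∈ E₀) (u1 : u ≠ 1) (v1 : v ≠ 1) (hx : x ∈ Q) (hy : y ∈ Q)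
    (sx : Sp t J (ι u) x) (sy : Sp t J (ι v) y) : x * y = y * x := by
  have m := X.m
  have c := X.c
  by_cases uv : u = v
  · subst uv
    exact (cmq q hu hu hx hx (.inl rfl) (uq m c q hu u1 hx hy sx sy)).2 rfl
  obtain ⟨x0, h0, s0⟩ := X.sp_ex q (u := zS) (by decide) (by decide)
  obtain ⟨y0, h1, s1⟩ := X.sp_ex q (u := ζS) (by decide) (by decide)
  rw [same X q h0 h1 s0 s1 hu hv u1 v1 uv hx hy sx sy]
  by_contra bad
  obtain ⟨x, hx, sx⟩ := X.sp_ex q (u := eS) (by decide) (by decide)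
  have key : ∀ α ∈ E₁, α ∉ E₀ → ∃ w ∈ Q, ∃ r, r * eS ∈ Z₀ ∧ (∀ β ∈ E₁, ι β * w = w * ι β) ∧
      ι α * x * (ι α)⁻¹ = x * (w * (t * ι r)) := fun α h2 h3 => by
    obtain ⟨a1, a2, a3, a4, a5, a6, a7, a8⟩ : α * eS * α⁻¹ ∈ E₀ ∧ α * eS * α⁻¹ ≠ 1 ∧ eS ≠ α * eS * α⁻¹ ∧
        eS * (α * eS * α⁻¹) ∈ E₀ ∧ eS * (α * eS * α⁻¹) ≠ 1 ∧ α * α = 1 ∧
        (∀ β ∈ E₁, β * (eS * (α * eS * α⁻¹)) = eS * (α * eS * α⁻¹) * β) ∧
        ∀ r ∈ E₀, α * r * α = eS * (α * eS * α⁻¹) * r → r * eS ∈ Z₀ := by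
      revert α; decide +kernel
    have hx' := conj_mem (hn ⟨α, rfl⟩) hx
    have sx' := spcj m c (by decide) (by decide) sx (H24.mem_C1.2 (m.ct c α).symm)
      (v := α * eS * α⁻¹) (by simp only [map_mul, map_inv])
    obtain ⟨w, hw, sw⟩ := X.sp_ex q a4 a5
    have cw := fun β hβ => cen m c q hn a4 a5 hw sw (a7 β hβ)
    have a9 : ι α * ι α = 1 := by rw [← map_mul, a6, map_one]
    obtain ⟨r, hr, e | e⟩ := prod m c q (by decide) a1 (by decide) a2 a5 hx hx' hw sx sx' sw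
    · refine absurd ((same X q h0 h1 s0 s1 (by decide) a1 (by decide) a2 a3 hx hx' sx sx').1
        (comm_of sx.2.1 sx'.2.1 ?_)) bad
      rw [e, mul_assoc, lc (cE q hw hr), ← map_mul, sq0 r hr, map_one, mul_one, sw.2.1]
    refine ⟨w, hw, r, a8 r hr (m.inj ?_), cw, by rw [← e, ll sx.2.1]⟩
    have e1 : ι α * (w * (t * ι r)) * ι α * (w * (t * ι r)) = 1 := by
      rw [← e, iv_inv a9]
      simp only [mul_assoc, ll a9, ll sx.2.1, a9, one_mul, mul_one, sx.2.1]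
    have e2 : w * (t * ι (eS * (α * eS * α⁻¹) * r)) * (w * (t * ι r)) = 1 := by
      simp only [mul_assoc w, mul_assoc t]
      rw [lc (cE q hw (mul_mem a4 hr)), ← mul_assoc w t, spc m c a4 a5 sw, mul_assoc, mul_assoc,
        ll sw.2.1, ← mul_assoc (ι _), ← map_mul, ← mul_assoc _ _ r, sq0 _ a4, one_mul,
        ← lc (m.ct c r), ll c.tt, ← map_mul, sq0 r hr, map_one]
    have e3 := mul_right_cancel (e1.trans e2.symm)
    rw [lc (cw α h2), ← lc (m.ct c α), mul_assoc, mul_assoc, mul_right_inj, mul_right_inj] at e3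
    rw [map_mul, map_mul, e3]
  obtain ⟨w1, -, r1, b1, c1, e1⟩ := key eS' (by decide) (by decide)
  obtain ⟨w2, q2, r2, b2, c2, e2⟩ := key wS' (by decide) (by decide)
  obtain ⟨w3, -, r3, b3, c3, e3⟩ := key (eS' * wS') (by decide) (by decide)
  have e4 : ι (eS' * wS') * x * (ι (eS' * wS'))⁻¹ = ι eS' * x * (ι eS')⁻¹ *
      (ι eS' * (w2 * (t * ι r2)) * (ι eS')⁻¹) := by
    rw [map_mul, show ι eS' * ι wS' * x * (ι eS' * ι wS')⁻¹ = ι eS' * (ι wS' * x * (ι wS')⁻¹) * (ι eS')⁻¹ by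
      group, e2]; group
  have d1 : ∀ r, r * eS ∈ Z₀ → r ∈ E₀ := by decide +kernel
  have d2 : ∀ r1, r1 * eS ∈ Z₀ → ∀ r2, r2 * eS ∈ Z₀ → ∀ r3, r3 * eS ∈ Z₀ →
      eS' * (r3 * (r1 * (eS' * r2 * eS'⁻¹))⁻¹) ≠ r3 * (r1 * (eS' * r2 * eS'⁻¹))⁻¹ * eS' := by
    decide +kernel
  rw [e1, e3, mul_assoc, mul_right_inj, lc (c2 _ (by decide)), ← lc (m.ct c _), mul_assoc w2,
    mul_assoc t, mul_assoc w1, mul_assoc t, lc (cE q q2 (d1 r1 b1)), ← lc (m.ct c r1), ← map_inv,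
    ← map_mul, ← map_mul, ← map_mul] at e4
  have ct : Commute (ι eS') t := (m.ct c _).symm
  have e5 : ι (r3 * (r1 * (eS' * r2 * eS'⁻¹))⁻¹) = (w3 * t)⁻¹ * (w1 * (t * (w2 * t))) := by
    rw [map_mul, map_inv, mul_inv_eq_iff_eq_mul, mul_assoc, eq_inv_mul_iff_mul_eq, mul_assoc, e4]
    simp only [mul_assoc]
  refine d2 r1 b1 r2 b2 r3 b3 (m.inj ?_)
  rw [map_mul, map_mul _ _ eS', e5]
  exact ((Commute.mul_right (c3 _ (by decide)) ct).inv_right.mul_right (Commute.mul_right (c1 _ (by decide))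
    (ct.mul_right (Commute.mul_right (c2 _ (by decide)) ct)))).eq

end H28.ND
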