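import Mathlib
import Cfsg.Agent.H28.ND0
import Cfsg.Agent.H28.NDC

set_option autoImplicit false
set_option linter.unusedSectionVars false

namespace H28.ND

open Subgroup Equiv Equiv.Perm Cfsg H24 H23 H25.LB H5.Ly H20.So
open scoped commutatorElement

variable {G : Type*} [Group G] [Finite G] {n : ℕ} {t x y g k a b : G}
  {K K' L H D Q Q' R T P : Subgroup G} {J J' : G → Subgroup G} {ι : SS →* G}

namespace NDDx

open NDCx

variable {u v : SS}

theorem prod' (X : Cx n t K J K' J' ι) (q : Qs t ι Q) (hn : ι.range ≤ N[Q]) (hu : u ∈ E₀) (hv : v ∈ E₀)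
    (u1 : u ≠ 1) (v1 : v ≠ 1) (uv : u * v ≠ 1) {w : G} (hx : x ∈ Q) (hy : y ∈ Q) (hw : w ∈ Q)
    (sx : Sp t J (ι u) x) (sy : Sp t J (ι v) y) (sw : Sp t J (ι (u * v)) w) :
    ∃ r ∈ E₀, x * y = w * ι r := by
  have h := mul_mem hu hv
  obtain ⟨r, hr, e⟩ := prod X.m X.c q hu hv u1 v1 uv hx hy hw sx sy sw
  refine ⟨r, hr, e.resolve_right fun e => uv (X.m.inj ?_)⟩
  have e1 : x * y * (x * y) = 1 := by
    rw [mul_assoc, ← lc (X.sp_comm q hn hu hv u1 v1 hx hy sx sy), ll sx.2.1, sy.2.1]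
  rw [e, mul_assoc, mul_assoc, lc (cE q hw hr), ← lc (X.m.ct X.c r), ← map_mul, sq0 r hr, map_one,
    mul_one, ← mul_assoc, ← mul_assoc, (sw.comm X.c (X.m.memK X.c _) (X.m.ord (sq0 _ h) uv)).2.2,
    X.m.ct X.c, mul_assoc, X.c.tt, mul_one] at e1
  rw [e1, map_one]

theorem part (X : Cx n t K J K' J' ι) (q : Qs t ι Q) (hn : ι.range ≤ N[Q]) (hu : u ∈ E₀) (hv : v ∈ E₀)
    (u1 : u ≠ 1) (v1 : v ≠ 1) (uv : u ≠ v) (hx : x ∈ Q) (hy : y ∈ Q)
    (sx : Sp t J (ι u) x) (sy : Sp t J (ι v) y) :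
    Sp t J (ι (u * v)) (x * y) ∨ Sp t J (ι (u * v)) (x * (y * ι v)) := by
  have m := X.m
  have c := X.c
  have h := mul_mem hu hv
  have h1 : u * v ≠ 1 := fun e => uv (by rw [eq_inv_of_mul_eq_one_left e, iv_inv (sq0 v hv)])
  obtain ⟨x0, h0, s0⟩ := X.sp_ex q (u := zS) (by decide) (by decide)
  obtain ⟨y0, h2, s1⟩ := X.sp_ex q (u := ζS) (by decide) (by decide)
  obtain ⟨w0, h3, s2⟩ := X.sp_ex q (u := zS * ζS) (by decide) (by decide)
  obtain ⟨r, hr, e⟩ := prod' X q hn (by decide) (by decide) (by decide) (by decide) (by decide)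
    h0 h2 h3 s0 s1 s2
  have d : ∀ r ∈ E₀, eS' * r = r * eS' → wS' * r = r * wS' → r = 1 ∨ r = zS ∨ r = ζS ∨ r = zS * ζS := by
    decide +kernel
  have cr : ∀ β ∈ E₁, β * r = r * β := fun β hβ => m.inj (by
    have d : ∀ β ∈ E₁, β * zS = zS * β ∧ β * ζS = ζS * β ∧ β * (zS * ζS) = zS * ζS * β := by
      decide +kernel
    rw [map_mul, map_mul, ← inv_mul_eq_iff_eq_mul.2 e]
    exact ((Commute.inv_right (cen m c q hn (by decide) (by decide) h3 s2 (d β hβ).2.2)).mul_right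
      (Commute.mul_right (cen m c q hn (by decide) (by decide) h0 s0 (d β hβ).1)
        (cen m c q hn (by decide) (by decide) h2 s1 (d β hβ).2.1))).eq)
  obtain ⟨k, hk, e1, e2⟩ := m.two_tr c hu hv u1 v1 uv
  obtain ⟨g, hg, gQ, e3⟩ := mv m c q hk
  replace e1 := (e3 _ (by decide)).trans e1
  replace e2 := (e3 _ (by decide)).trans e2
  have e4 : g * ι (zS * ζS) * g⁻¹ = ι (u * v) := by rw [map_mul, map_mul, ← e1, ← e2]; group
  have sw := spcj m c (by decide) (by decide) s2 hg e4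
  have sw' := sw.mul c (m.memK c _) (m.ord (sq0 _ h) h1)
  have e5 : g * x0 * g⁻¹ * (g * y0 * g⁻¹) = g * w0 * g⁻¹ * (g * ι r * g⁻¹) := by
    rw [show g * x0 * g⁻¹ * (g * y0 * g⁻¹) = g * (x0 * y0) * g⁻¹ by group, e]; group
  have e6 : ∃ s, (s = 1 ∨ s = u ∨ s = v ∨ s = u * v) ∧ g * ι r * g⁻¹ = ι s := by
    rcases d r hr (cr _ (by decide)) (cr _ (by decide)) with rfl | rfl | rfl | rfl
    exacts [⟨1, .inl rfl, by simp⟩, ⟨u, by simp, e1⟩, ⟨v, by simp, e2⟩, ⟨u * v, by simp, e4⟩]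
  obtain ⟨s, hs, e6⟩ := e6
  rw [e6] at e5
  have d2 : ∀ u ∈ E₀, ∀ v ∈ E₀, ∀ s, (s = 1 ∨ s = u ∨ s = v ∨ s = u * v) → ∀ a, (a = 1 ∨ a = u) →
      ∀ b, (b = 1 ∨ b = v) → (s * (a * b) = 1 ∨ s * (a * b) = u * v) ∨
        (s * (a * b) * v = 1 ∨ s * (a * b) * v = u * v) := by
    intro u hu v hv s hs a ha b hb
    rcases hs with rfl | rfl | rfl | rfl <;> rcases ha with rfl | rfl <;> rcases hb with rfl | rfl <;>
      revert hu hv <;> decide +kernel +revert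
  obtain ⟨a, ha, ea⟩ : ∃ a, (a = 1 ∨ a = u) ∧ x = g * x0 * g⁻¹ * ι a := by
    rcases uq m c q hu u1 (gQ _ h0) hx (spcj m c (by decide) (by decide) s0 hg e1) sx with e | e
    exacts [⟨1, .inl rfl, by rw [map_one, mul_one, e]⟩, ⟨u, .inr rfl, e⟩]
  obtain ⟨b, hb, eb⟩ : ∃ b, (b = 1 ∨ b = v) ∧ y = g * y0 * g⁻¹ * ι b := by
    rcases uq m c q hv v1 (gQ _ h2) hy (spcj m c (by decide) (by decide) s1 hg e2) sy with e | e
    exacts [⟨1, .inl rfl, by rw [map_one, mul_one, e]⟩, ⟨v, .inr rfl, e⟩]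
  have e7 : x * y = g * w0 * g⁻¹ * ι (s * (a * b)) := by
    rw [ea, eb, mul_assoc _ (ι a), lc (cE q (gQ _ h2) (by rcases ha with rfl | rfl; exacts [one_mem _, hu])),
      ← mul_assoc, e5, map_mul, map_mul, mul_assoc _ (ι s)]
  rw [← mul_assoc, e7, mul_assoc _ _ (ι v), ← map_mul]
  refine (d2 u hu v hv s hs a ha b hb).imp (fun h => ?_) fun h => ?_ <;> rcases h with h | h <;> rw [h] <;>
    first | exact sw' | (rw [map_one, mul_one]; exact sw)

theorem not_both (m : Md t K J ι) (c : In n t K J) (q : Qs t ι Q) (hu : u ∈ E₀) (u1 : u ≠ 1)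
    (hv : v ∈ E₀) (v1 : v ≠ 1) (uv : v ≠ u) (hx : x ∈ Q) (s : Sp t J (ι u) x)
    (s' : Sp t J (ι u) (x * ι v)) : False := by
  rcases uq m c q hu u1 hx (mul_mem hx (q.ge (mem_sup_right (mem_map_of_mem ι hv)))) s s' with e | e
  · exact v1 (m.inj (by rw [map_one]; exact mul_eq_left.1 e))
  · exact uv (m.inj (mul_left_cancel e))

end NDDx

open NDCx NDDx

/-! ### NDD -/
theorem Cx.db0 (X : Cx n t K J K' J' ι) (q : Qs t ι Q) (hn : ι.range ≤ N[Q]) :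
    ∃ θ : SS → G, Db0 t J ι θ ∧ ∀ u ∈ E₀, θ u ∈ Q := by
  have m := X.m
  have c := X.c
  have z0 : zS ∈ E₀ := by decide
  have z1 : zS ≠ 1 := by decide
  obtain ⟨x, hx, sx⟩ := X.sp_ex q z0 z1
  have EQ : ∀ a ∈ E₀, ι a ∈ Q := fun a ha => q.ge (mem_sup_right (mem_map_of_mem ι ha))
  have spm : ∀ a ∈ E₀, a ≠ 1 → ∀ y, Sp t J (ι a) y → Sp t J (ι a) (y * ι a) := fun a ha a1 y s =>
    s.mul c (m.memK c a) (m.ord (sq0 a ha) a1)
  have ex : ∀ a : SS, ∃ y, a ∈ E₀ → y ∈ Q ∧ (a = 1 → y = 1) ∧ (a = zS → y = x) ∧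
      (a ≠ 1 → Sp t J (ι a) y) ∧ (a ≠ 1 → a ≠ zS → Sp t J (ι (zS * a)) (x * y)) := fun a => by
    by_cases ha : a ∈ E₀
    swap
    · exact ⟨1, fun h => absurd h ha⟩
    by_cases a1 : a = 1
    · exact ⟨1, fun _ => ⟨one_mem _, fun _ => rfl, fun e => absurd (e.symm.trans a1) z1,
        fun e => absurd a1 e, fun e => absurd a1 e⟩⟩
    by_cases az : a = zS
    · exact ⟨x, fun _ => ⟨hx, fun e => absurd e a1, fun _ => rfl, fun _ => az ▸ sx, fun _ e => absurd az e⟩⟩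
    obtain ⟨y, hy, sy⟩ := X.sp_ex q ha a1
    rcases part X q hn z0 ha z1 a1 (Ne.symm az) hx hy sx sy with s | s
    · exact ⟨y, fun _ => ⟨hy, fun e => absurd e a1, fun e => absurd e az, fun _ => sy, fun _ _ => s⟩⟩
    · exact ⟨y * ι a, fun _ => ⟨mul_mem hy (EQ a ha), fun e => absurd e a1, fun e => absurd e az,
        fun _ => spm a ha a1 y sy, fun _ _ => s⟩⟩
  choose θ hθ using ex
  have θQ := fun a ha => (hθ a ha).1
  have θ1 : θ 1 = 1 := (hθ 1 (one_mem _)).2.1 rfl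
  have θz : θ zS = x := (hθ zS z0).2.2.1 rfl
  have θs := fun a ha => (hθ a ha).2.2.2.1
  have θp := fun a ha => (hθ a ha).2.2.2.2
  have d1 : ∀ a ∈ E₀, a ≠ 1 → a ≠ zS → zS * a ≠ 1 ∧ a ≠ zS * a ∧ zS * a ≠ zS ∧ zS * (zS * a) = a := by
    decide +kernel
  have un : ∀ a ∈ E₀, a ≠ 1 → a ≠ zS → ∀ y ∈ Q, Sp t J (ι a) y → Sp t J (ι (zS * a)) (x * y) → θ a = y :=
    fun a ha a1 az y hy s s' => (uq m c q ha a1 hy (θQ a ha) s (θs a ha a1)).resolve_right fun e =>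
      not_both m c q (mul_mem z0 ha) (d1 a ha a1 az).1 ha a1 (d1 a ha a1 az).2.1 (mul_mem hx hy) s' (by
        rw [mul_assoc, ← e]; exact θp a ha a1 az)
  have sq : ∀ a ∈ E₀, θ a * θ a = 1 := fun a ha => by
    by_cases a1 : a = 1
    · rw [a1, θ1, mul_one]
    · exact (θs a ha a1).2.1
  have cm : ∀ a ∈ E₀, ∀ b ∈ E₀, θ a * θ b = θ b * θ a := fun a ha b hb => by
    by_cases a1 : a = 1
    · rw [a1, θ1, mul_one, one_mul]
    by_cases b1 : b = 1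
    · rw [b1, θ1, mul_one, one_mul]
    exact X.sp_comm q hn ha hb a1 b1 (θQ a ha) (θQ b hb) (θs a ha a1) (θs b hb b1)
  have mz : ∀ a ∈ E₀, θ (zS * a) = θ zS * θ a := fun a ha => by
    by_cases a1 : a = 1
    · rw [a1, θ1, mul_one, mul_one]
    by_cases az : a = zS
    · rw [az, sq _ z0, sq0 _ z0, θ1]
    obtain ⟨h1, -, h2, h3⟩ := d1 a ha a1 az
    rw [θz]
    exact un _ (mul_mem z0 ha) h1 h2 _ (mul_mem hx (θQ a ha)) (θp a ha a1 az) (by
      rw [h3, ll sx.2.1]; exact θs a ha a1)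
  have tr : ∀ g ∈ C{t}, (∀ y ∈ Q, g * y * g⁻¹ ∈ Q) → g * x * g⁻¹ = x → g * ι zS * g⁻¹ = ι zS →
      ∀ a ∈ E₀, ∀ b ∈ E₀, g * ι a * g⁻¹ = ι b → g * θ a * g⁻¹ = θ b := fun g hg gQ e ez a ha b hb e1 => by
    by_cases a1 : a = 1
    · obtain rfl : b = 1 := m.inj (by rw [← e1, a1]; simp)
      rw [a1, θ1]; simp
    by_cases az : a = zS
    · obtain rfl : b = zS := m.inj (by rw [← e1, az, ez])
      rw [az, θz, e]
    refine (un b hb (fun h => a1 (m.inj (by simpa [h] using e1)))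
      (fun h => az (m.inj (by rw [h, ← ez] at e1; simpa using e1))) _ (gQ _ (θQ a ha))
      (spcj m c ha a1 (θs a ha a1) hg e1) ?_).symm
    have := spcj m c (mul_mem z0 ha) (d1 a ha a1 az).1 (θp a ha a1 az) hg (v := zS * b) (by
      rw [map_mul, map_mul, ← e1]; nth_rewrite 2 [← ez]; group)
    rwa [show g * (x * θ a) * g⁻¹ = g * x * g⁻¹ * (g * θ a * g⁻¹) by group, e] at this
  have nu : ∀ a ∈ E₀, ∀ b ∈ E₀, (∀ w ∈ [a, b, a * b], w ≠ 1 ∧ w ≠ zS) →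
      (Sp t J (ι (a * b)) (θ a * θ b) ↔ Sp t J (ι (ζS * eS)) (θ ζS * θ eS)) := fun a ha b hb h => by
    obtain ⟨k, hk, e1, e2⟩ := m.tri_tr c ha hb h
    obtain ⟨g, hg, gQ, e3⟩ := mv m c q ⟨hk.1.1, hk.2⟩
    have ez := (e3 _ z0).trans (mem_C1_iff_conj.1 hk.1.2)
    obtain ⟨g, hg, gQ, e3, ez, e4⟩ : ∃ g ∈ C{t}, (∀ y ∈ Q, g * y * g⁻¹ ∈ Q) ∧
        (∀ e ∈ E₀, g * ι e * g⁻¹ = k * ι e * k⁻¹) ∧ g * ι zS * g⁻¹ = ι zS ∧ g * x * g⁻¹ = x := by
      rcases uq m c q z0 z1 hx (gQ x hx) sx (spcj m c z0 z1 sx hg ez) with e | e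
      · exact ⟨g, hg, gQ, e3, ez, e⟩
      have tQ : t ∈ Q := q.ge (mem_sup_left (mem_zpowers t))
      have t1 : ∀ y, t * g * y * (t * g)⁻¹ = t * (g * y * g⁻¹) * t := fun y => by
        rw [mul_inv_rev, iv_inv c.tt]; group
      have t2 : ∀ s, t * ι s * t = ι s := fun s => by rw [m.ct c, mul_assoc, c.tt, mul_one]
      refine ⟨t * g, mul_mem (H24.mem_C1.2 rfl) hg, fun y hy => t1 y ▸ mul_mem (mul_mem tQ (gQ y hy)) tQ,
        fun e he => ?_, by rw [t1, ez, t2], ?_⟩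
      · obtain ⟨f, -, ef⟩ := conj_mem hk.2 (mem_map_of_mem ι he)
        rw [t1, e3 e he, ← ef, t2]
      · rw [t1, e, mul_assoc, mul_assoc, ← m.ct c, ← mul_assoc, ← mul_assoc,
          (sx.comm c (m.memK c _) (m.ord (sq0 _ z0) z1)).2.1, mul_assoc, ← map_mul, sq0 _ z0, map_one,
          mul_one]
    replace e1 := (e3 _ (by decide)).trans e1
    replace e2 := (e3 _ (by decide)).trans e2
    have e5 : g * ι (ζS * eS) * g⁻¹ = ι (a * b) := by rw [map_mul, map_mul, ← e1, ← e2]; group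
    have e6 : g * (θ ζS * θ eS) * g⁻¹ = θ a * θ b := by
      rw [← tr g hg gQ e4 ez _ (by decide) a ha e1, ← tr g hg gQ e4 ez _ (by decide) b hb e2]; group
    refine ⟨fun s => ?_, fun s => e6 ▸ spcj m c (by decide) (by decide) s hg e5⟩
    have := spcj m c (mul_mem ha hb) (h _ (by simp)).1 s (inv_mem hg) (v := ζS * eS) (by
      rw [← e5]; group)
    rwa [← e6, show g⁻¹ * (g * (θ ζS * θ eS) * g⁻¹) * g⁻¹⁻¹ = θ ζS * θ eS by group] at this
  have nu0 : Sp t J (ι (ζS * eS)) (θ ζS * θ eS) := by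
    by_contra hn0
    have s := (part X q hn (u := ζS) (v := eS) (by decide) (by decide) (by decide) (by decide) (by decide)
      (θQ _ (by decide)) (θQ _ (by decide)) (θs _ (by decide) (by decide))
      (θs _ (by decide) (by decide))).resolve_left hn0
    rcases uq m c q (by decide) (by decide) (mul_mem (θQ _ (by decide)) (mul_mem (θQ _ (by decide))
      (EQ _ (by decide)))) (θQ _ (by decide)) s (θs _ (by decide) (by decide)) with e | e
    · refine hn0 ((nu ζS (by decide) (ζS * eS) (by decide) (by decide)).1 ?_)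
      rw [e, ll (sq _ (by decide)), show ζS * (ζS * eS) = eS by decide]
      exact spm _ (by decide) (by decide) _ (θs _ (by decide) (by decide))
    · refine hn0 ((nu eS (by decide) (ζS * eS) (by decide) (by decide)).1 ?_)
      rw [e, mul_assoc, mul_assoc, ← map_mul, ← lc (cm ζS (by decide) eS (by decide)),
        ll (sq _ (by decide)), show eS * (ζS * eS) = ζS by decide]
      exact spm _ (by decide) (by decide) _ (θs _ (by decide) (by decide))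
  have tt : ∀ a ∈ E₀, t * θ a * t = θ a * ι a := fun a ha => by
    by_cases a1 : a = 1
    · rw [a1, θ1, map_one, mul_one, mul_one, c.tt]
    · exact ((θs a ha a1).comm c (m.memK c _) (m.ord (sq0 _ ha) a1)).2.1
  refine ⟨θ, ⟨fun a ha b hb => ?_, fun a ha => by rw [tt a ha, ll (sq a ha)], fun a ha b hb => by
    rw [tt b hb, lc (cm a ha b hb), mul_assoc, cE q (θQ a ha) hb], fun a ha a1 => (θs a ha a1).1,
    fun s a ha => ?_⟩, θQ⟩
  · have d : ∀ a ∈ E₀, ∀ b ∈ E₀, a = 1 ∨ a = zS ∨ b = 1 ∨ (b = zS ∧ a * b = zS * a) ∨ b = a ∨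
        (b = zS * a ∧ a * b = zS) ∨ (∀ w ∈ [a, b, a * b], w ≠ 1 ∧ w ≠ zS) ∧
          (∀ w ∈ [a, a * b, a * (a * b)], w ≠ 1 ∧ w ≠ zS) ∧ a * (a * b) = b ∧ a * b ≠ b := by
      decide +kernel
    have h := mul_mem ha hb
    rcases d a ha b hb with rfl | rfl | rfl | ⟨rfl, e⟩ | rfl | ⟨e1, e⟩ | ⟨h1, h2, h3, h4⟩
    · rw [θ1, one_mul, one_mul]
    · exact mz b hb
    · rw [θ1, mul_one, mul_one]
    · rw [e, mz a ha, cm a ha _ z0]
    · rw [sq0 b hb, sq b hb, θ1]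
    · rw [e, e1, mz a ha, lc (cm a ha _ z0), sq a ha, mul_one]
    refine (uq m c q h (h1 _ (by simp)).1 (mul_mem (θQ a ha) (θQ b hb)) (θQ _ h)
      ((nu a ha b hb h1).2 nu0) (θs _ h (h1 _ (by simp)).1)).resolve_right fun e => ?_
    have s := (nu a ha _ h h2).2 nu0
    rw [h3, e, mul_assoc, ll (sq a ha)] at s
    exact not_both m c q hb (h1 _ (by simp)).1 h (h1 _ (by simp)).1 h4 (θQ b hb)
      (θs b hb (h1 _ (by simp)).1) s
  · have d : ∀ s, s * zS = zS * s ∧ ∀ a ∈ E₀, s * a * s⁻¹ ∈ E₀ := by decide +kernel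
    exact tr _ (H24.mem_C1.2 (m.ct c s).symm) (fun y hy => conj_mem (hn ⟨s, rfl⟩) hy)
      (mul_inv_eq_iff_eq_mul.2 (cen m c q hn z0 z1 hx sx (d s).1))
      (by rw [← map_mul, (d s).1, map_mul, mul_inv_cancel_right]) a ha _ ((d s).2 a ha)
      (by rw [map_mul, map_mul, map_inv])

end H28.ND
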