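import Mathlib
import Cfsg.Agent.H28.ND0
import Cfsg.Agent.H28.NDD

set_option autoImplicit false
set_option linter.unusedSectionVars false

namespace H28.ND

open Subgroup Equiv Equiv.Perm Cfsg H24 H23 H25.LB H5.Ly H20.So
open scoped commutatorElement

variable {G : Type*} [Group G] [Finite G] {n : ℕ} {t x y g k a b : G}
  {K K' L H D Q Q' R T P : Subgroup G} {J J' : G → Subgroup G} {ι : SS →* G}

/-! ### NDE -/
theorem e0_sq : ∀ u ∈ E₀, u * u = 1 := by decide +kernel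
theorem e0_comm : ∀ u ∈ E₀, ∀ v ∈ E₀, u * v = v * u := by decide +kernel
theorem card_E₀ : Nat.card E₀ = 16 := by
  rw [Nat.card_eq_fintype_card, Fintype.card_subtype]; decide +kernel
theorem e0_conj : ∀ s, ∀ u ∈ E₀, s * u * s⁻¹ ∈ E₀ := by decide +kernel

section
variable {θ : SS → G} {u v : SS}

theorem Db0.one (d : Db0 t J ι θ) : θ 1 = 1 := by
  have := d.mul 1 (one_mem _) 1 (one_mem _)
  rw [one_mul] at this
  exact left_eq_mul.1 this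
theorem Db0.sq (d : Db0 t J ι θ) (hu : u ∈ E₀) : θ u * θ u = 1 := by
  rw [← d.mul u hu u hu, e0_sq u hu, d.one]
theorem Db0.cm1 (d : Db0 t J ι θ) (hu : u ∈ E₀) (hv : v ∈ E₀) : θ u * θ v = θ v * θ u := by
  rw [← d.mul u hu v hv, ← d.mul v hv u hu, e0_comm u hu v hv]
theorem tt_mul (ht : t * t = 1) (x y : G) : t * (x * y) * t = t * x * t * (t * y * t) := by
  calc t * (x * y) * t = t * x * (t * t) * y * t := by rw [ht]; group
    _ = _ := by group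
theorem cj_sq (h : x * x = 1) (g : G) : g * x * g⁻¹ * (g * x * g⁻¹) = 1 := by
  calc _ = g * (x * x) * g⁻¹ := by group
    _ = 1 := by rw [h]; group
theorem tt_tt (ht : t * t = 1) (x : G) : t * (t * x * t) * t = x := by
  calc t * (t * x * t) * t = (t * t) * x * (t * t) := by group
    _ = _ := by rw [ht]; group
theorem mem_cjt (ht : t * t = 1) : x ∈ cj t H ↔ t * x * t ∈ H := by rw [mem_cj, iv_inv ht]
theorem cjt_cjt (ht : t * t = 1) (H : Subgroup G) : cj t (cj t H) = H := by rw [← cj_mul, ht, cj_one]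
end

theorem Db0.mem_E1 {θ : SS → G} (d : Db0 t J ι θ) : x ∈ E1 θ ↔ ∃ u ∈ E₀, θ u = x := by
  refine ⟨fun h => ?_, fun h => subset_closure h⟩
  induction h using closure_induction with
  | mem x hx => exact hx
  | one => exact ⟨1, one_mem _, d.one⟩
  | mul x y _ _ hx hy =>
    obtain ⟨u, hu, rfl⟩ := hx
    obtain ⟨v, hv, rfl⟩ := hy
    exact ⟨u * v, mul_mem hu hv, d.mul u hu v hv⟩
  | inv x _ hx =>
    obtain ⟨u, hu, rfl⟩ := hx
    exact ⟨u, hu, (iv_inv (d.sq hu)).symm⟩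

theorem Db0.mem_E2 {θ : SS → G} (d : Db0 t J ι θ) (ht : t * t = 1) :
    x ∈ cj t (E1 θ) ↔ ∃ v ∈ E₀, t * θ v * t = x := by
  rw [mem_cjt ht, d.mem_E1]
  exact exists_congr fun v => and_congr_right fun _ =>
    ⟨fun e => by rw [e, tt_tt ht], fun e => by rw [← e, tt_tt ht]⟩

theorem Db0.E2_le_C {θ : SS → G} (d : Db0 t J ι θ) (ht : t * t = 1) : cj t (E1 θ) ≤ C[E1 θ] :=
  le_C_iff.2 fun x hx y hy => by
    obtain ⟨v, hv, rfl⟩ := (d.mem_E2 ht).1 hx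
    obtain ⟨u, hu, rfl⟩ := d.mem_E1.1 hy
    exact (d.cm u hu v hv).symm

theorem Db0.E1_le_C {θ : SS → G} (d : Db0 t J ι θ) : E1 θ ≤ C[E1 θ] :=
  le_C_iff.2 fun x hx y hy => by
    obtain ⟨v, hv, rfl⟩ := d.mem_E1.1 hx
    obtain ⟨u, hu, rfl⟩ := d.mem_E1.1 hy
    exact d.cm1 hv hu

theorem t_nF {θ : SS → G} (ht : t * t = 1) : t ∈ N[FF t θ] :=
  mem_N_iff_cj.2 (by rw [cj_sup, cjt_cjt ht, sup_comm])

theorem Db0.mem_F {θ : SS → G} (d : Db0 t J ι θ) (ht : t * t = 1) :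
    x ∈ FF t θ ↔ ∃ u ∈ E₀, ∃ v ∈ E₀, x = θ u * (t * θ v * t) := by
  rw [mem_sup_of_norm (norm_of_cent (d.E2_le_C ht))]
  constructor
  · rintro ⟨a, ha, b, hb, rfl⟩
    obtain ⟨u, hu, rfl⟩ := d.mem_E1.1 ha
    obtain ⟨v, hv, rfl⟩ := (d.mem_E2 ht).1 hb
    exact ⟨u, hu, v, hv, rfl⟩
  · rintro ⟨u, hu, v, hv, rfl⟩
    exact ⟨_, d.mem_E1.2 ⟨u, hu, rfl⟩, _, (d.mem_E2 ht).2 ⟨v, hv, rfl⟩, rfl⟩

theorem Db0.θF {θ : SS → G} (d : Db0 t J ι θ) {u : SS} (hu : u ∈ E₀) : θ u ∈ FF t θ :=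
  mem_sup_left (d.mem_E1.2 ⟨u, hu, rfl⟩)
theorem Db0.θF' {θ : SS → G} (d : Db0 t J ι θ) (ht : t * t = 1) {u : SS} (hu : u ∈ E₀) :
    t * θ u * t ∈ FF t θ := mem_sup_right ((d.mem_E2 ht).2 ⟨u, hu, rfl⟩)
theorem Db0.E_le_F {θ : SS → G} (d : Db0 t J ι θ) (ht : t * t = 1) : EE ι ≤ FF t θ := by
  rintro _ ⟨u, hu, rfl⟩
  exact (d.mem_F ht).2 ⟨u, hu, u, hu, (d.dg u hu).symm⟩

/-- the diagonal map `f ↦ f fᵗ` -/
theorem Db0.dd {θ : SS → G} (d : Db0 t J ι θ) (ht : t * t = 1) {u v : SS} (hu : u ∈ E₀) (hv : v ∈ E₀) :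
    θ u * (t * θ v * t) * (t * (θ u * (t * θ v * t)) * t) = ι (u * v) := by
  rw [tt_mul ht, tt_tt ht, ← d.dg _ (mul_mem hu hv), d.mul u hu v hv, tt_mul ht]
  calc _ = θ u * (t * θ v * t * (t * θ u * t)) * θ v := by group
    _ = θ u * (t * θ u * t * (t * θ v * t * θ v)) := by
      rw [← tt_mul ht, d.cm1 hv hu, tt_mul ht]; group
    _ = θ u * (t * θ u * t * θ v) * (t * θ v * t) := by rw [← d.cm v hv v hv]; group
    _ = _ := by rw [← d.cm v hv u hu]; group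

theorem Db0.inj {θ : SS → G} (d : Db0 t J ι θ) (m : Md t K J ι) (c : In n t K J) {u v : SS}
    (hu : u ∈ E₀) (hv : v ∈ E₀) (h : θ u = t * θ v * t) : u = 1 ∧ v = 1 := by
  have e : u = v := m.inj (by
    rw [← d.dg u hu, ← d.dg v hv, h, tt_tt c.tt, d.cm v hv v hv])
  subst e
  have : u = 1 := m.inj (by rw [← d.dg u hu, ← h, d.sq hu, map_one])
  exact ⟨this, this⟩

theorem Db0.inj1 {θ : SS → G} (d : Db0 t J ι θ) (m : Md t K J ι) {u v : SS}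
    (hu : u ∈ E₀) (hv : v ∈ E₀) (h : θ u = θ v) : u = v :=
  m.inj (by rw [← d.dg u hu, ← d.dg v hv, h])

theorem Db0.uq {θ : SS → G} (d : Db0 t J ι θ) (m : Md t K J ι) (c : In n t K J) {u v u' v' : SS}
    (hu : u ∈ E₀) (hv : v ∈ E₀) (hu' : u' ∈ E₀) (hv' : v' ∈ E₀)
    (h : θ u * (t * θ v * t) = θ u' * (t * θ v' * t)) : u = u' ∧ v = v' := by
  have e : θ (u' * u) = t * θ (v' * v) * t := by
    rw [d.mul _ hu' _ hu, d.mul _ hv' _ hv, tt_mul c.tt]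
    calc θ u' * θ u = θ u' * (θ u * (t * θ v * t)) * (t * θ v * t) := by
          rw [mul_assoc, mul_assoc, ← tt_mul c.tt, d.sq hv, mul_one, c.tt, mul_one]
      _ = _ := by rw [h, ← mul_assoc (θ u'), d.sq hu', one_mul]
  obtain ⟨e1, e2⟩ := d.inj m c (mul_mem hu' hu) (mul_mem hv' hv) e
  exact ⟨by rw [eq_inv_of_mul_eq_one_right e1, inv_eq_of_mul_eq_one_right (e0_sq _ hu')],
    by rw [eq_inv_of_mul_eq_one_right e2, inv_eq_of_mul_eq_one_right (e0_sq _ hv')]⟩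

theorem Db0.F_le_C {θ : SS → G} (d : Db0 t J ι θ) (ht : t * t = 1) : FF t θ ≤ C[FF t θ] := by
  rw [C_sup]
  refine sup_le (le_inf d.E1_le_C (centsC.1 (d.E2_le_C ht))) (le_inf (d.E2_le_C ht) ?_)
  rw [← cj_C]
  exact cj_mono t d.E1_le_C

theorem Db0.elem {θ : SS → G} (d : Db0 t J ι θ) (ht : t * t = 1) (hx : x ∈ FF t θ) (hy : y ∈ FF t θ) :
    x * x = 1 ∧ x * y = y * x := by
  refine ⟨?_, comm_of_cent (d.F_le_C ht) hx hy⟩
  obtain ⟨u, hu, v, hv, rfl⟩ := (d.mem_F ht).1 hx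
  calc _ = θ u * (t * θ v * t * θ u) * (t * θ v * t) := by group
    _ = θ u * θ u * (t * θ v * t * (t * θ v * t)) := by rw [← d.cm u hu v hv]; group
    _ = 1 := by rw [d.sq hu, ← tt_mul ht, d.sq hv, mul_one, ht, mul_one]

theorem Db0.spec {θ : SS → G} (d : Db0 t J ι θ) {u : SS} (hu : u ∈ E₀) (h1 : u ≠ 1) :
    Sp t J (ι u) (θ u) := ⟨d.sp u hu h1, d.sq hu, d.dg u hu⟩

theorem Db0.card {θ : SS → G} (d : Db0 t J ι θ) (m : Md t K J ι) (c : In n t K J) :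
    Nat.card (FF t θ) = 256 := by
  rw [← Nat.card_eq_of_bijective (fun p : E₀ × E₀ => (⟨θ p.1 * (t * θ p.2 * t),
    (d.mem_F c.tt).2 ⟨_, p.1.2, _, p.2.2, rfl⟩⟩ : FF t θ)) ⟨fun p q e => ?_, fun f => ?_⟩,
    Nat.card_prod, card_E₀]
  · obtain ⟨e1, e2⟩ := d.uq m c p.1.2 p.2.2 q.1.2 q.2.2 (congrArg Subtype.val e)
    exact Prod.ext (Subtype.ext e1) (Subtype.ext e2)
  · obtain ⟨u, hu, v, hv, e⟩ := (d.mem_F c.tt).1 f.2
    exact ⟨(⟨u, hu⟩, ⟨v, hv⟩), Subtype.ext e.symm⟩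

theorem Db0.pgF {θ : SS → G} (d : Db0 t J ι θ) (ht : t * t = 1) : IsPGroup 2 (FF t θ) :=
  a_pg fun _ hx => (d.elem ht hx hx).1

/-- the action of `F` on `t` -/
theorem Db0.conj_t {θ : SS → G} (d : Db0 t J ι θ) (m : Md t K J ι) (c : In n t K J) {u v : SS}
    (hu : u ∈ E₀) (hv : v ∈ E₀) :
    θ u * (t * θ v * t) * t * (θ u * (t * θ v * t))⁻¹ = t * ι (u * v) := by
  have h := (d.mem_F c.tt).2 ⟨u, hu, v, hv, rfl⟩
  rw [iv_inv (d.elem c.tt h h).1, m.ct c, ← d.dd c.tt hu hv]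
  generalize θ u * (t * θ v * t) = f
  calc f * t * f = f * (t * f * (t * t)) := by rw [c.tt]; group
    _ = _ := by group

theorem Db0.ct_F {θ : SS → G} (d : Db0 t J ι θ) (m : Md t K J ι) (c : In n t K J) (hx : x ∈ FF t θ)
    (ht : x ∈ C{t}) : x ∈ EE ι := by
  obtain ⟨u, hu, v, hv, rfl⟩ := (d.mem_F c.tt).1 hx
  have := d.conj_t m c hu hv
  rw [mem_C1_iff_conj.1 ht, left_eq_mul, map_eq_one_iff _ m.inj] at this
  rw [eq_inv_of_mul_eq_one_right this, inv_eq_of_mul_eq_one_right (e0_sq _ hu), d.dg u hu]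
  exact ⟨u, hu, rfl⟩

theorem Db0.t_nC {θ : SS → G} (d : Db0 t J ι θ) (m : Md t K J ι) (c : In n t K J) :
    θ zS * t ≠ t * θ zS := fun e =>
  absurd (d.inj m c (u := zS) (v := zS) (by decide) (by decide)
    (by rw [← e, mul_assoc, c.tt, mul_one])).1 (by decide)

theorem Db0.nE {θ : SS → G} (d : Db0 t J ι θ) (m : Md t K J ι) (c : In n t K J) :
    C{t} ⊓ N[FF t θ] ≤ N[EE ι] := fun g hg => mem_N_of_finite fun x hx =>
  d.ct_F m c (H24.conj_mem hg.2 (d.E_le_F c.tt hx)) (by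
    obtain ⟨u, -, rfl⟩ := hx
    exact mul_mem (mul_mem hg.1 (c.Kle (m.memK c u))) (inv_mem hg.1))

theorem nV_of (h : g ∈ C{t} ⊓ N[EE ι]) : g ∈ N[VV t ι] :=
  norm_sup (norm_zpowers_of_cent (zpowers_le.2 h.1)) (zpowers_le.2 h.2) (mem_zpowers g)

theorem Md.tE (m : Md t K J ι) (c : In n t K J) : t ∈ C[EE ι] :=
  mem_C'.2 fun _ ⟨u, _, e⟩ => e ▸ m.ct c u

theorem Db0.qs {θ : SS → G} (d : Db0 t J ι θ) (m : Md t K J ι) (c : In n t K J) :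
    Qs t ι (FF t θ ⊔ zpowers t) := by
  have hE : FF t θ ≤ C[EE ι] := (d.F_le_C c.tt).trans (C_anti (d.E_le_F c.tt))
  refine ⟨pg_sup (d.pgF c.tt) (t2_pg c.tt) (zpowers_le.2 (t_nF c.tt)),
    sup_le (le_inf (fun f hf => mem_N_of_finite fun x hx => ?_) hE)
      (zpowers_le.2 ⟨norm_self _ (mem_sup_left (mem_zpowers t)), m.tE c⟩),
    sup_le le_sup_right ((d.E_le_F c.tt).trans le_sup_left), fun e he => ⟨θ e, mem_sup_left (d.θF he), ?_⟩⟩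
  · obtain ⟨e, he, rfl | rfl⟩ := (m.mem_VV c).1 hx
    · rw [← mem_C.1 (hE hf) _ ⟨e, he, rfl⟩, mul_inv_cancel_right]; exact hx
    · obtain ⟨u, hu, v, hv, rfl⟩ := (d.mem_F c.tt).1 hf
      refine (m.mem_VV c).2 ⟨u * v * e, mul_mem (mul_mem hu hv) he, Or.inr ?_⟩
      rw [map_mul, ← mul_assoc t, ← d.conj_t m c hu hv, mul_assoc _ _ (ι e), mul_assoc _ (t * ι e),
        mul_assoc t (ι e), mem_C.1 (inv_mem (hE hf)) _ ⟨e, he, rfl⟩]
      group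
  · have := d.conj_t m c he (one_mem _)
    rwa [d.one, mul_one, c.tt, mul_one, mul_one] at this

theorem Db0.mem_Q {θ : SS → G} (d : Db0 t J ι θ) (ht : t * t = 1) :
    x ∈ FF t θ ⊔ zpowers t ↔ x ∈ FF t θ ∨ x * t ∈ FF t θ := by
  have _ := d
  rw [mem_sup_of_norm (zpowers_le.2 (t_nF ht))]
  constructor
  · rintro ⟨f, hf, u, hu, rfl⟩
    rcases a_mem_zp ht hu with rfl | rfl
    · exact Or.inl (by rwa [mul_one])
    · exact Or.inr (by rwa [mul_assoc, ht, mul_one])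
  · rintro (h | h)
    exacts [⟨x, h, 1, one_mem _, (mul_one x).symm⟩,
      ⟨_, h, t, mem_zpowers t, by rw [mul_assoc, ht, mul_one]⟩]

theorem Db0.inv_Q {θ : SS → G} (d : Db0 t J ι θ) (m : Md t K J ι) (c : In n t K J)
    (hx : x ∈ FF t θ ⊔ zpowers t) (h2 : x * x = 1) : x ∈ FF t θ ∨ x ∈ VV t ι := by
  refine ((d.mem_Q c.tt).1 hx).imp_right fun h => ?_
  have h3 : x * t ∈ EE ι := d.ct_F m c h (H24.mem_C1.2 (by
    rw [mul_assoc, c.tt, mul_one, eq_comm, ← mul_inv_eq_one, iv_inv h2]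
    have := (d.elem c.tt h h).1
    calc t * (x * t) * x = t * (x * t * (x * t)) * t := by
          rw [mul_assoc t (x * t * _), mul_assoc _ _ t, mul_assoc x t t, c.tt]; group
      _ = 1 := by rw [this, mul_one, c.tt]))
  have := mul_mem (mem_sup_right h3 : x * t ∈ VV t ι) (mem_sup_left (mem_zpowers t))
  rwa [mul_assoc, c.tt, mul_one] at this

theorem Db0.VF {θ : SS → G} (d : Db0 t J ι θ) (m : Md t K J ι) (c : In n t K J) (hx : x ∈ FF t θ)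
    (hv : x ∈ VV t ι) : x ∈ EE ι :=
  d.ct_F m c hx (mem_C1_comm.1 (C_le_C1 hv (m.CV.ge ⟨H24.mem_C1.2 rfl, m.tE c⟩)))

theorem Db0.nF {θ : SS → G} (d : Db0 t J ι θ) (m : Md t K J ι) (c : In n t K J) :
    N[(FF t θ ⊔ zpowers t : Subgroup G)] ⊓ N[VV t ι] ≤ N[FF t θ] := fun g hg =>
  mem_N_of_finite fun _ hx => (d.inv_Q m c (H24.conj_mem hg.1 (mem_sup_left hx)) (cj_sq (d.elem c.tt hx hx).1 g)).elim id fun h =>
    d.E_le_F c.tt (H24.conj_mem (m.nV c hg.2) (d.VF m c hx ((conj_mem_iff hg.2).1 h)))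

theorem Db0.act {θ : SS → G} (d : Db0 t J ι θ) (m : Md t K J ι) (c : In n t K J)
    (hk : k ∈ C{t} ⊓ N[E1 θ]) : k ∈ N[EE ι] ∧ Sm ι θ k k := by
  have _ := c
  have e : k * t = t * k := H24.mem_C1.1 hk.1
  have e' : t * k⁻¹ = k⁻¹ * t := by rw [mul_inv_eq_iff_eq_mul, mul_assoc, ← e, inv_mul_cancel_left]
  have key : ∀ a ∈ E₀, ∀ b ∈ E₀, k * θ a * k⁻¹ = θ b → k * ι a * k⁻¹ = ι b := fun a ha b hb h => by
    rw [← d.dg a ha, ← d.dg b hb, ← h]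
    calc _ = k * θ a * k⁻¹ * (k * t) * θ a * (t * k⁻¹) := by group
      _ = _ := by rw [e, e']; group
  have ex : ∀ a ∈ E₀, ∃ b ∈ E₀, k * θ a * k⁻¹ = θ b := fun a ha => by
    obtain ⟨b, hb, h⟩ := d.mem_E1.1 (H24.conj_mem hk.2 (d.mem_E1.2 ⟨a, ha, rfl⟩))
    exact ⟨b, hb, h.symm⟩
  refine ⟨mem_N_of_finite ?_, fun a ha b hb => ⟨fun h => ?_, key a ha b hb⟩⟩
  · rintro _ ⟨a, ha, rfl⟩
    obtain ⟨b, hb, h⟩ := ex a ha
    exact ⟨b, hb, (key a ha b hb h).symm⟩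
  · obtain ⟨b', hb', h'⟩ := ex a ha
    rw [h', m.inj ((key a ha b' hb' h').symm.trans h)]

theorem Db0.syl {θ : SS → G} (d : Db0 t J ι θ) (m : Md t K J ι) (c : In n t K J)
    (hD : IsPGroup 2 D) (h1 : VV t ι ≤ D) (h2 : D ≤ C[EE ι]) : D ≤ N[VV t ι] := by
  by_contra hne
  obtain ⟨g, hg, hn, h0⟩ : ∃ g ∈ D, g ∈ N[(D ⊓ N[VV t ι] : Subgroup G)] ∧ g ∉ N[VV t ι] := by
    obtain ⟨g, h3, h4⟩ := SetLike.exists_of_lt (((isPi_of_isPGroup Nat.prime_two hD).nil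
      Nat.prime_two).proper_norm (inf_lt_left.2 hne))
    exact ⟨g, h3.1, h3.2, fun h => h4 ⟨h3.1, h⟩⟩
  have tV : t ∈ VV t ι := mem_sup_left (mem_zpowers t)
  obtain ⟨o, ho, h3⟩ := (d.qs m c).conj m c (D := D ⊓ N[VV t ι]) (hD.to_le inf_le_left)
    (le_inf inf_le_right (inf_le_left.trans h2))
  have h4 := h3 (conj_mem_cj o (H24.conj_mem hn ⟨h1 tV, norm_self _ tV⟩))
  rcases d.inv_Q m c h4 (cj_sq (cj_sq c.tt g) o) with h | h
  · have := m.rk (cj (o * g)⁻¹ (FF t θ)) (fun f hf => by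
      rw [mem_cj, inv_inv] at hf
      have := (d.elem c.tt hf h).2
      refine H24.mem_C1.2 ?_
      calc f * t = (o * g)⁻¹ * (o * g * f * (o * g)⁻¹ * (o * (g * t * g⁻¹) * o⁻¹)) * (o * g) := by group
        _ = _ := by rw [this]; group) (fun f hf => by
      rw [mem_cj, inv_inv] at hf
      have := (d.elem c.tt hf hf).1
      calc f * f = (o * g)⁻¹ * (o * g * f * (o * g)⁻¹ * (o * g * f * (o * g)⁻¹)) * (o * g) := by group
        _ = _ := by rw [this]; group)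
    rw [card_cj, d.card m c] at this
    omega
  · rw [conj_mem_iff (nV_of ⟨ho.1, C_le_N _ ho.2⟩)] at h
    refine h0 (mem_N_of_cj_le ?_)
    rw [cj_sup, cj_zpowers, cj_of_mem_C (h2 hg)]
    exact sup_le (zpowers_le.2 h) le_sup_right

theorem Db0.db {θ : SS → G} (d : Db0 t J ι θ) (m : Md t K J ι) (c : In n t K J) : Db t J ι θ := by
  refine ⟨d, fun k hk => ?_, fun k hk R hR h1 h2 => ?_, fun g hg h2 => ?_⟩
  · have hE := d.nE m c hk
    have key : ∀ x ∈ E1 θ, k * x * k⁻¹ ∈ E1 θ ∨ k * x * k⁻¹ ∈ cj t (E1 θ) := fun x hx => by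
      obtain ⟨u, hu, rfl⟩ := d.mem_E1.1 hx
      by_cases u1 : u = 1
      · left; rw [u1, d.one, mul_one, mul_inv_cancel]; exact one_mem _
      obtain ⟨v, hv, e⟩ := H24.conj_mem hE (⟨u, hu, rfl⟩ : ι u ∈ EE ι)
      have v1 : v ≠ 1 := by
        rintro rfl
        rw [map_one, eq_comm, conj_eq_one_iff, map_eq_one_iff _ m.inj] at e
        exact u1 e
      have s := (d.spec hu u1).cj c (m.memK c u) (m.ord (e0_sq u hu) u1) hk.1
      rw [← e] at s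
      have s' := d.spec hv v1
      rcases s'.uniq s c (m.memK c v) (m.ord (e0_sq v hv) v1) (te_of_pg (d.pgF c.tt)
        (mul_mem (d.θF hv) (H24.conj_mem hk.2 (d.θF hu)))) with e | e
      · exact Or.inl (d.mem_E1.2 ⟨v, hv, e.symm⟩)
      · exact Or.inr ((d.mem_E2 c.tt).2 ⟨v, hv, by
          rw [e, (s'.comm c (m.memK c v) (m.ord (e0_sq v hv) v1)).2.1]⟩)
    by_cases h : ∀ x ∈ E1 θ, k * x * k⁻¹ ∈ E1 θ
    · exact Or.inl (mem_N_of_finite h)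
    · push Not at h
      obtain ⟨x, hx, h⟩ := h
      have hx' := (key x hx).resolve_left h
      refine Or.inr (mem_N_of_finite fun y hy => ?_)
      have hy' : k * y * k⁻¹ ∈ cj t (E1 θ) := (key y hy).elim (fun h1 => (key _ (mul_mem hx hy)).elim
        (fun h2 => absurd (by convert mul_mem h2 (inv_mem h1) using 1; group) h)
        fun h2 => by convert mul_mem (inv_mem hx') h2 using 1; group) id
      rw [mem_cj, iv_inv c.tt] at hy'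
      rw [H24.mem_C1.1 hk.1, mul_inv_rev, iv_inv c.tt]
      simpa only [mul_assoc] using hy'
  · have q := d.qs m c
    have n1 : ∀ {F : Subgroup G}, R ≤ N[F] → R ≤ N[(F ⊔ zpowers t : Subgroup G)] := fun h =>
      norm_sup h (norm_zpowers_of_cent (h1.trans inf_le_left))
    have e : cj k (FF t θ ⊔ zpowers t) = cj k (FF t θ) ⊔ zpowers t := by
      rw [cj_sup, cj_zpowers, mem_C1_iff_conj.1 hk.1]
    obtain ⟨o, ho, oo, e1⟩ := q.fr (q.cj hk) m c hR (le_inf (le_inf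
      (fun r hr => nV_of ⟨(h1 hr).1, d.nE m c (h1 hr)⟩) (n1 (h1.trans inf_le_right))) (e ▸ n1 h2))
    exact ⟨o, ho, oo, d.nF m c ⟨mem_N_iff_cj.2 (by rw [cj_mul, e1]),
      nV_of ⟨mul_mem ho.1.1 hk.1, mul_mem (C_le_N _ ho.1.2) hk.2⟩⟩⟩
  · have q := d.qs m c
    have tn : zpowers t ≤ N[C[FF t θ]] := norm_C (zpowers_le.2 (t_nF c.tt))
    have hE : C[FF t θ] ⊔ zpowers t ≤ C[EE ι] :=
      sup_le (C_anti (d.E_le_F c.tt)) (zpowers_le.2 (m.tE c))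
    obtain ⟨T, hT, h1⟩ := mx_ex (H := C[FF t θ] ⊔ zpowers t) q.two (sup_le_sup_right (d.F_le_C c.tt) _)
    have h3 : T ≤ FF t θ ⊔ zpowers t := (q.mx m c).2.2 T hT.1
      (le_inf (d.syl m c hT.1 (q.ge.trans h1) (hT.2.1.trans hE)) (hT.2.1.trans hE)) h1
    have h4 := hT.inf (D := C[FF t θ]) le_sup_left (sup_le (norm_self _) tn)
    obtain ⟨j, hj⟩ := h2
    obtain ⟨y, hy, h5⟩ := h4.conj (pg_zpowers hj) (zpowers_le.2 hg)
    have h6 := h5 (conj_mem_cj y (mem_zpowers g))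
    rcases (d.mem_Q c.tt).1 (h3 h6.1) with h | h
    · exact (conj_mem_iff (C_le_N _ hy)).1 h
    · have := mul_mem (inv_mem (mem_inf.1 h6).2) (d.F_le_C c.tt h)
      rw [inv_mul_cancel_left] at this
      exact absurd (mem_C.1 this _ (d.θF (by decide))) (d.t_nC m c)

theorem Db.ct {θ : SS → G} (d : Db t J ι θ) (m : Md t K J ι) (c : In n t K J) (hg : g ∈ N[FF t θ])
    (h : ⁅g, t⁆ ∈ C[FF t θ]) : ∃ f ∈ C[FF t θ], f * g ∈ C{t} := by
  have _ := hg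
  have s2 : g * t * g⁻¹ * (g * t * g⁻¹) = 1 := iv_mul (iv_conj c.iv g)
  rw [commutatorElement_def, iv_inv c.tt] at h
  obtain ⟨a, b, e, ha, hb, ⟨j, h2⟩, h3⟩ := two_odd (g * t * g⁻¹ * t)
  have c1 : Commute a b := by
    obtain ⟨i, rfl⟩ := ha
    obtain ⟨i', rfl⟩ := hb
    exact (Commute.refl _).zpow_zpow i i'
  obtain ⟨f, hf, e1⟩ := dh s2 c.tt (e := j) (by
    rw [e, c1.mul_pow, h2, one_mul]; exact h3.of_dvd_nat (orderOf_pow_dvd _))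
  have hf' : f ∈ C[FF t θ] := zpowers_le.2 (pow_mem h _) hf
  have h4 : f * (g * t * g⁻¹) * f⁻¹ * t ∈ FF t θ := d.cF _ (by
    have := mul_mem (mul_mem hf' h) (H24.conj_mem (N_le_NC _ (t_nF c.tt)) (inv_mem hf'))
    rw [iv_inv c.tt] at this
    convert this using 1
    calc _ = f * (g * t * g⁻¹) * (t * t) * f⁻¹ * t := by rw [c.tt]; group
      _ = _ := by group) ⟨j, e1⟩
  have h5 := d.inv_Q m c ((d.mem_Q c.tt).2 (Or.inr h4)) (cj_sq s2 f)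
  have h6 : f * (g * t * g⁻¹) * f⁻¹ ∉ FF t θ := fun h => by
    have := mul_mem (inv_mem h) h4
    rw [inv_mul_cancel_left] at this
    exact d.t_nC m c (d.elem c.tt (d.θF (by decide)) this).2
  obtain ⟨u, hu, e2 | e2⟩ := (m.mem_VV c).1 (h5.resolve_left h6)
  · exact absurd (e2 ▸ d.E_le_F c.tt ⟨u, hu, rfl⟩) h6
  · obtain ⟨x, hx⟩ : ∃ x ∈ FF t θ, x * t * x⁻¹ = t * ι u := by
      have := d.conj_t m c hu (one_mem _)
      rw [d.one, mul_one, c.tt, mul_one, mul_one] at this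
      exact ⟨_, d.θF hu, this⟩
    refine ⟨x⁻¹ * f, mul_mem (inv_mem (d.F_le_C c.tt hx.1)) hf', mem_C1_iff_conj.2 ?_⟩
    calc _ = x⁻¹ * (f * (g * t * g⁻¹) * f⁻¹) * x := by group
      _ = _ := by rw [e2, ← hx.2]; group

theorem Db.lift {θ : SS → G} (d : Db t J ι θ) (m : Md t K J ι) (c : In n t K J)
    (hk : k ∈ C{t} ⊓ N[EE ι]) (hR : IsPGroup 2 R) (h1 : R ≤ C{t} ⊓ N[FF t θ]) (h2 : k ∈ C[R]) :
    ∃ o ∈ C{t} ⊓ C[EE ι] ⊓ C[R], o * k ∈ N[E1 θ] := by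
  obtain ⟨o, ho, -, h⟩ := d.fr k hk R hR h1 (by
    rw [← cj_of_mem_C h2]; exact norm_cj (h1.trans inf_le_right) k)
  rcases d.nm _ ⟨mul_mem ho.1.1 hk.1, h⟩ with h | h
  · exact ⟨o, ho, h⟩
  · refine ⟨o * t, mul_mem ho ⟨⟨H24.mem_C1.2 rfl, m.tE c⟩, mem_C_iff_le_C1.2 (h1.trans inf_le_left)⟩, ?_⟩
    rwa [mul_assoc, ← H24.mem_C1.1 hk.1, ← mul_assoc]

theorem Cx.exists_db (X : Cx n t K J K' J' ι) (hR : IsPGroup 2 R) (h : R ≤ N[VV t ι])
    (hi : ι.range ≤ R) : ∃ θ : SS → G, Db t J ι θ ∧ R ≤ N[FF t θ] ∧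
      R ⊓ C[EE ι] ≤ FF t θ ⊔ zpowers t := by
  obtain ⟨Q, q, h1, h2⟩ := X.exQ hR h
  obtain ⟨θ, d, h3⟩ := X.db0 q (hi.trans h1)
  have tQ : t ∈ Q := q.ge (mem_sup_left (mem_zpowers t))
  have e : Q = FF t θ ⊔ zpowers t := by
    have hle : FF t θ ⊔ zpowers t ≤ Q := sup_le (fun f hf => by
      obtain ⟨u, hu, v, hv, rfl⟩ := (d.mem_F X.c.tt).1 hf
      exact mul_mem (h3 u hu) (mul_mem (mul_mem tQ (h3 v hv)) tQ)) (zpowers_le.2 tQ)
    exact le_antisymm (((d.qs X.m X.c).mx X.m X.c).2.2 Q q.two q.le hle) hle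
  exact ⟨θ, d.db X.m X.c, fun r hr => d.nF X.m X.c ⟨e ▸ h1 hr, h hr⟩, e ▸ h2⟩

end H28.ND
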