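import Mathlib
import Cfsg.Agent.H28.ND0
import Cfsg.Agent.H28.NDE

set_option autoImplicit false
set_option linter.unusedSectionVars false

namespace H28.ND

open Subgroup Equiv Equiv.Perm Cfsg H24 H23 H25.LB H5.Ly H20.So
open scoped commutatorElement

variable {G : Type*} [Group G] [Finite G] {n : ℕ} {t x y g k a b : G}
  {K K' L H D Q Q' R T P : Subgroup G} {J J' : G → Subgroup G} {ι : SS →* G}

namespace NDFx

variable {θ : SS →* G}

/-- `θᵗ` -/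
def tw (t : G) (θ : SS →* G) : SS →* G := (MulAut.conj t).toMonoidHom.comp θ

theorem tinv (ht : t * t = 1) : t⁻¹ = t := inv_eq_of_mul_eq_one_right ht

theorem tw_ap (ht : t * t = 1) (s : SS) : tw t θ s = t * θ s * t := by
  change t * θ s * t⁻¹ = _
  rw [tinv ht]

theorem cj_map (B : Subgroup SS) : cj t (B.map θ) = B.map (tw t θ) := by
  unfold cj tw; rw [map_map]

theorem cj_range : cj t θ.range = (tw t θ).range := by
  rw [MonoidHom.range_eq_map, cj_map, ← MonoidHom.range_eq_map]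

theorem tt_cancel (ht : t * t = 1) (x : G) : t * (t * x * t) * t = x := by
  calc t * (t * x * t) * t = (t * t) * x * (t * t) := by group
    _ = x := by rw [ht, one_mul, mul_one]

/-- `(u, v) ↦ θ u · (θ v)ᵗ` -/
def Ψ (w : Wr t J ι θ) (ht : t * t = 1) : SS × SS →* G :=
  θ.noncommCoprod (tw t θ) fun a b => by rw [tw_ap ht]; exact w.cm a b

theorem Ψ_ap (w : Wr t J ι θ) (ht : t * t = 1) (u v : SS) :
    Ψ w ht (u, v) = θ u * (t * θ v * t) := by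
  rw [← tw_ap ht]; rfl

theorem Ψ_l (w : Wr t J ι θ) (ht : t * t = 1) (u : SS) : Ψ w ht (u, 1) = θ u := by
  rw [Ψ_ap, map_one, mul_one, ht, mul_one]

theorem Ψ_r (w : Wr t J ι θ) (ht : t * t = 1) (v : SS) : Ψ w ht (1, v) = t * θ v * t := by
  rw [Ψ_ap, map_one, one_mul]

theorem Ψ_t (w : Wr t J ι θ) (ht : t * t = 1) (u v : SS) :
    t * Ψ w ht (u, v) * t = Ψ w ht (v, u) := by
  rw [Ψ_ap, Ψ_ap, w.cm v u]
  calc t * (θ u * (t * θ v * t)) * t = t * θ u * t * θ v * (t * t) := by group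
    _ = _ := by rw [ht, mul_one]

theorem θ_inj (w : Wr t J ι θ) (ht : t * t = 1) : Function.Injective θ :=
  (injective_iff_map_eq_one _).2 fun a h => w.dj a 1 (by rw [h, map_one, mul_one, ht])

theorem Ψ_inj (w : Wr t J ι θ) (ht : t * t = 1) : Function.Injective (Ψ w ht) := by
  refine (injective_iff_map_eq_one _).2 ?_
  rintro ⟨u, v⟩ h
  rw [Ψ_ap, ← tw_ap ht, mul_eq_one_iff_eq_inv, ← map_inv, tw_ap ht] at h
  obtain rfl := w.dj _ _ h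
  have h2 : θ v⁻¹ = 1 := by
    rw [← tt_cancel ht (θ v⁻¹), ← h, map_one, mul_one, ht]
  have : v⁻¹ = 1 := θ_inj w ht (h2.trans (map_one θ).symm)
  rw [inv_eq_one.1 this]; rfl

theorem map_prod (w : Wr t J ι θ) (ht : t * t = 1) (A B : Subgroup SS) :
    (A.prod B).map (Ψ w ht) = A.map θ ⊔ cj t (B.map θ) := by
  rw [cj_map]
  apply le_antisymm
  · rintro _ ⟨⟨u, v⟩, ⟨hu, hv⟩, rfl⟩
    exact mul_mem (mem_sup_left ⟨u, hu, rfl⟩) (mem_sup_right ⟨v, hv, rfl⟩)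
  · refine sup_le ?_ ?_
    · rintro _ ⟨u, hu, rfl⟩
      exact ⟨(u, 1), ⟨hu, one_mem _⟩, Ψ_l w ht u⟩
    · rintro _ ⟨v, hv, rfl⟩
      exact ⟨(1, v), ⟨one_mem _, hv⟩, (Ψ_r w ht v).trans (tw_ap ht v).symm⟩

theorem S_eq (w : Wr t J ι θ) (ht : t * t = 1) : S12 t θ = (Ψ w ht).range := by
  rw [S12, MonoidHom.range_eq_map θ, ← map_prod w ht, top_prod_top, ← MonoidHom.range_eq_map]

theorem F_eq (w : Wr t J ι θ) (ht : t * t = 1) : FF t θ = (E₀.prod E₀).map (Ψ w ht) := by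
  rw [map_prod, FF, E1_eq]

theorem D_eq (w : Wr t J ι θ) (ht : t * t = 1) (B : Subgroup SS) :
    B.map θ ⊔ zpowers (t * θ zS * t) = (B.prod (zpowers zS)).map (Ψ w ht) := by
  rw [map_prod, MonoidHom.map_zpowers, cj_zpowers, tinv ht]

theorem z_cen : ∀ s : SS, s * zS = zS * s := by decide +kernel
theorem z_sq : zS * zS = 1 := by decide +kernel
theorem z_ne : zS ≠ 1 := by decide +kernel
theorem cen_eq : ∀ v : SS, (∀ s, s * v = v * s) → v = 1 ∨ v = zS := by decide +kernel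
theorem ncen : ∀ v : SS, v ≠ 1 → v ≠ zS → ∃ c, c * v * c⁻¹ = v * zS := by decide +kernel

theorem mem_zz {v : SS} : v ∈ zpowers zS ↔ v = 1 ∨ v = zS := by
  constructor
  · rintro ⟨k, rfl⟩
    rcases Int.even_or_odd' k with ⟨j, rfl | rfl⟩
    · left; simp only [zpow_mul, zpow_ofNat, pow_two, z_sq, one_zpow]
    · right; simp only [zpow_add, zpow_mul, zpow_ofNat, pow_two, z_sq, one_zpow, one_mul, pow_one]
  · rintro (rfl | rfl)
    · exact one_mem _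
    · exact mem_zpowers _

theorem card_zz : Nat.card (zpowers zS) = 2 := by
  rw [Nat.card_zpowers]
  exact orderOf_eq_prime (by rw [pow_two, z_sq]) z_ne

instance nE₀ : E₀.Normal := ⟨by decide +kernel⟩
instance nE₁ : E₁.Normal := ⟨by decide +kernel⟩

theorem card_E₀ : Nat.card E₀ = 16 := by
  rw [Nat.card_eq_fintype_card, Fintype.card_subtype]; decide +kernel
theorem card_E₁ : Nat.card E₁ = 16 := by
  rw [Nat.card_eq_fintype_card, Fintype.card_subtype]; decide +kernel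
theorem sq_E₀ : ∀ x ∈ E₀, x * x = 1 := by decide +kernel
theorem sq_E₁ : ∀ x ∈ E₁, x * x = 1 := by decide +kernel
theorem E_ne : E₀ ≠ E₁ := fun e => by
  have : eS ∈ E₁ := e ▸ (by decide : eS ∈ E₀)
  exact absurd this (by decide)

theorem card_le_filter {B : Subgroup SS} (p : SS → Prop) [DecidablePred p] (h : ∀ x ∈ B, p x) :
    Nat.card B ≤ (Finset.univ.filter p).card := by
  change Nat.card (B : Set SS) ≤ _
  rw [Nat.card_coe_set_eq, ← Set.ncard_coe_finset]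
  exact Set.ncard_le_ncard (fun x hx => by simpa using h x hx)

theorem comm_of_sq {Γ : Type*} [Group Γ] {B : Subgroup Γ} (h : ∀ x ∈ B, x * x = 1) {x y : Γ}
    (hx : x ∈ B) (hy : y ∈ B) : x * y = y * x := by
  rw [← inv_eq_of_mul_eq_one_right (h _ (mul_mem hx hy)), mul_inv_rev,
    inv_eq_of_mul_eq_one_right (h x hx), inv_eq_of_mul_eq_one_right (h y hy)]

theorem norm_prod (w : Wr t J ι θ) (ht : t * t = 1) (A B : Subgroup SS) [A.Normal] [B.Normal] :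
    S12 t θ ≤ N[(A.prod B).map (Ψ w ht)] := by
  rw [S_eq w ht, MonoidHom.range_eq_map]
  exact norm_map (norm_of_normal _ _) _

theorem t_S (w : Wr t J ι θ) (ht : t * t = 1) : t ∈ N[S12 t θ] := by
  rw [S_eq w ht]
  refine mem_N_of_finite ?_
  rintro _ ⟨⟨u, v⟩, rfl⟩
  rw [tinv ht, Ψ_t]; exact ⟨_, rfl⟩

theorem t_F (w : Wr t J ι θ) (ht : t * t = 1) : t ∈ N[FF t θ] := by
  rw [F_eq w ht]
  refine mem_N_of_finite ?_
  rintro _ ⟨⟨u, v⟩, ⟨hu, hv⟩, rfl⟩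
  rw [tinv ht, Ψ_t]; exact ⟨_, ⟨hv, hu⟩, rfl⟩

theorem t_H (ht : t * t = 1) : t ∈ N[HH t θ] := by
  rw [mem_N_iff_cj, HH, cj_inf, cj_C1, cj_C1, tinv ht, tt_cancel ht, inf_comm]

theorem pg_S (w : Wr t J ι θ) (ht : t * t = 1) : IsPGroup 2 (S12 t θ) :=
  pg_sup (pg_range θ) (by rw [cj_range]; exact pg_range _) (by
    refine norm_of_cent (le_C_iff.2 ?_)
    rw [cj_range]
    rintro _ ⟨a, rfl⟩ _ ⟨b, rfl⟩
    rw [tw_ap ht]; exact (w.cm b a).symm)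

theorem pg_t (ht : t * t = 1) : IsPGroup 2 (zpowers t) :=
  pg_of_te fun x hx => ⟨1, by
    obtain ⟨k, rfl⟩ := hx
    rw [pow_one, ← zpow_natCast, ← zpow_mul, mul_comm, zpow_mul, zpow_natCast, pow_two, ht, one_zpow]⟩

theorem exT (w : Wr t J ι θ) (ht : t * t = 1) (hS : S12 t θ ≤ H) (hH : t ∈ N[H]) :
    ∃ T, Mx (T ⊓ H) H ∧ IsPGroup 2 T ∧ T ≤ H ⊔ zpowers t ∧ t ∈ T ∧ S12 t θ ≤ T ∧ t ∈ N[T ⊓ H] := by
  obtain ⟨T, hT, hle⟩ := mx_ex (H := H ⊔ zpowers t)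
    (pg_sup (pg_S w ht) (pg_t ht) (zpowers_le.2 (t_S w ht))) (sup_le_sup_right hS _)
  have htT : t ∈ T := hle (mem_sup_right (mem_zpowers t))
  exact ⟨T, hT.inf le_sup_left (sup_le (norm_self _) (zpowers_le.2 hH)), hT.1, hT.2.1, htT,
    le_sup_left.trans hle, zpowers_le.1 (norm_inf (zpowers_le.2 (norm_self T htT)) (zpowers_le.2 hH))⟩

end NDFx

/-! ### NDF -/

open NDFx in
theorem Wr.mem_S {θ : SS →* G} (w : Wr t J ι θ) (ht : t * t = 1) :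
    x ∈ S12 t θ ↔ ∃ u v, x = θ u * (t * θ v * t) := by
  rw [S_eq w ht]
  exact ⟨fun ⟨⟨u, v⟩, e⟩ => ⟨u, v, by rw [← e, Ψ_ap]⟩, fun ⟨u, v, e⟩ => ⟨(u, v), by rw [e, Ψ_ap]⟩⟩

open NDFx in
theorem Wr.uq {θ : SS →* G} (w : Wr t J ι θ) (m : Md t K J ι) (ht : t * t = 1) {u v u' v' : SS}
    (h : θ u * (t * θ v * t) = θ u' * (t * θ v' * t)) : u = u' ∧ v = v' := by
  rw [← Ψ_ap w ht, ← Ψ_ap w ht] at h
  exact Prod.ext_iff.1 (Ψ_inj w ht h)

open NDFx in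
theorem Wr.S_le {θ : SS →* G} (w : Wr t J ι θ) (ht : t * t = 1) : S12 t θ ≤ HH t θ ⊓ N[FF t θ] := by
  refine le_inf ?_ (F_eq w ht ▸ norm_prod w ht E₀ E₀)
  rw [S_eq w ht]
  rintro _ ⟨⟨u, v⟩, rfl⟩
  refine ⟨H24.mem_C1.2 ?_, H24.mem_C1.2 ?_⟩
  · rw [← Ψ_l w ht, ← map_mul, ← map_mul, Prod.mk_mul_mk, Prod.mk_mul_mk, z_cen, mul_one, one_mul]
  · rw [← Ψ_r w ht, ← map_mul, ← map_mul, Prod.mk_mul_mk, Prod.mk_mul_mk, z_cen, mul_one, one_mul]

open NDFx in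
theorem Wr.cS2 {θ : SS →* G} (w : Wr t J ι θ) (ht : t * t = 1) (hx : x ∈ S12 t θ)
    (hc : x ∈ C[cj t θ.range]) : ∃ u, x = θ u ∨ x = θ u * (t * θ zS * t) := by
  rw [S_eq w ht] at hx
  obtain ⟨⟨u, v⟩, rfl⟩ := hx
  rw [cj_range] at hc
  have h : ∀ s, s * v = v * s := fun s => by
    have := mem_C.1 hc _ ⟨s, rfl⟩
    rw [tw_ap ht, ← Ψ_r w ht, ← map_mul, ← map_mul] at this
    exact congrArg Prod.snd (Ψ_inj w ht this)
  rcases cen_eq v h with rfl | rfl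
  · exact ⟨u, Or.inl (Ψ_l w ht u)⟩
  · exact ⟨u, Or.inr (Ψ_ap w ht u zS)⟩

open NDFx in
theorem el16 {B : Subgroup SS} (h : ∀ x ∈ B, x * x = 1) :
    Nat.card B ≤ 16 ∧ (16 ≤ Nat.card B → B = E₀ ∨ B = E₁) := by
  by_cases h0 : B ≤ E₀
  · exact ⟨card_E₀ ▸ card_le h0, fun h' => Or.inl (eq_of_card_ge h0 (card_E₀ ▸ h'))⟩
  by_cases h1 : B ≤ E₁
  · exact ⟨card_E₁ ▸ card_le h1, fun h' => Or.inr (eq_of_card_ge h1 (card_E₁ ▸ h'))⟩
  obtain ⟨x, hx, x0⟩ := SetLike.not_le_iff_exists.1 h0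
  obtain ⟨y, hy, y1⟩ := SetLike.not_le_iff_exists.1 h1
  have key : ∀ x : SS, x * x = 1 → x ∉ J₀ →
      (Finset.univ.filter fun w => w * w = 1 ∧ w * x = x * w).card ≤ 12 := by decide +kernel
  have k2 : ∀ x : SS, x ∈ J₀ → x * x = 1 → x ∉ E₀ → ∀ y : SS, y ∈ J₀ → y * y = 1 → y ∉ E₁ →
      x * y ≠ y * x := by decide +kernel
  have : Nat.card B ≤ 12 := by
    by_cases xJ : x ∈ J₀
    · by_cases yJ : y ∈ J₀
      · exact absurd (comm_of_sq h hx hy) (k2 x xJ (h x hx) x0 y yJ (h y hy) y1)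
      · exact (card_le_filter _ fun w hw => ⟨h w hw, comm_of_sq h hw hy⟩).trans (key y (h y hy) yJ)
    · exact (card_le_filter _ fun w hw => ⟨h w hw, comm_of_sq h hw hx⟩).trans (key x (h x hx) xJ)
  exact ⟨by omega, fun h' => by omega⟩

namespace NDFx

variable {θ : SS →* G}

theorem dich1 (w : Wr t J ι θ) (ht : t * t = 1)
    (hg : g ∈ N[(θ.range ⊔ zpowers (t * θ zS * t) : Subgroup G)]) (hz : g ∈ C{t * θ zS * t})
    {B : Subgroup SS} (h2 : ∀ x ∈ B, x * x = 1) (hc : Nat.card B = 16) :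
    cj g (B.map θ ⊔ zpowers (t * θ zS * t)) = E₀.map θ ⊔ zpowers (t * θ zS * t) ∨
      cj g (B.map θ ⊔ zpowers (t * θ zS * t)) = E₁.map θ ⊔ zpowers (t * θ zS * t) := by
  have cd : ∀ B : Subgroup SS, Nat.card ↥(B.map θ ⊔ zpowers (t * θ zS * t)) = Nat.card B * 2 := by
    intro B
    rw [D_eq w ht, card_map_of_injective (Ψ_inj w ht), Nat.card_congr (B.prodEquiv _).toEquiv,
      Nat.card_prod, card_zz]
  have sq : ∀ x ∈ cj g (B.map θ ⊔ zpowers (t * θ zS * t)), x * x = 1 := by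
    intro x hx
    obtain ⟨y, hy, rfl⟩ := mem_cj'.1 hx
    rw [D_eq w ht] at hy
    obtain ⟨⟨u, v⟩, ⟨hu, hv⟩, rfl⟩ := hy
    have : v * v = 1 := by rcases mem_zz.1 hv with rfl | rfl; exacts [mul_one _, z_sq]
    calc g * Ψ w ht (u, v) * g⁻¹ * (g * Ψ w ht (u, v) * g⁻¹)
        = g * (Ψ w ht (u, v) * Ψ w ht (u, v)) * g⁻¹ := by group
      _ = 1 := by rw [← map_mul, Prod.mk_mul_mk, h2 u hu, this, Prod.mk_one_one, map_one]; group
  have hle : cj g (B.map θ ⊔ zpowers (t * θ zS * t)) ≤ θ.range ⊔ zpowers (t * θ zS * t) :=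
    cj_le_of_mem_N (sup_le_sup_right (map_le_range _ _) _) hg
  have hz2 : t * θ zS * t ∈ cj g (B.map θ ⊔ zpowers (t * θ zS * t)) := by
    rw [← mem_C1_iff_conj.1 hz]
    exact conj_mem_cj g (mem_sup_right (by rw [mem_C1_iff_conj.1 hz]; exact mem_zpowers _))
  have hcd : Nat.card (cj g (B.map θ ⊔ zpowers (t * θ zS * t))) = 32 := by
    rw [← Nat.card_congr (cjEquiv g _).toEquiv, cd, hc]
  generalize cj g (B.map θ ⊔ zpowers (t * θ zS * t)) = A at sq hle hz2 hcd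
  have e : A = (A.comap θ).map θ ⊔ zpowers (t * θ zS * t) := by
    refine le_antisymm (fun x hx => ?_) (sup_le (map_comap_le _ _) (zpowers_le.2 hz2))
    have hx' := hle hx
    rw [MonoidHom.range_eq_map, D_eq w ht] at hx'
    obtain ⟨⟨u, v⟩, ⟨-, hv⟩, rfl⟩ := hx'
    rcases mem_zz.1 hv with rfl | rfl
    · rw [Ψ_l] at hx ⊢
      exact mem_sup_left ⟨u, hx, rfl⟩
    · rw [Ψ_ap] at hx ⊢
      exact mul_mem (mem_sup_left ⟨u, (mul_mem_cancel_right hz2).1 hx, rfl⟩)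
        (mem_sup_right (mem_zpowers _))
  have h16 : Nat.card (A.comap θ) = 16 := by
    have := cd (A.comap θ)
    rw [← e, hcd] at this
    omega
  rcases (el16 (B := A.comap θ) fun x hx => θ_inj w ht (by
    rw [map_mul, map_one]; exact sq _ hx)).2 h16.ge with e' | e'
  · exact Or.inl (by rw [e, e'])
  · exact Or.inr (by rw [e, e'])

theorem D_ne (w : Wr t J ι θ) (ht : t * t = 1) :
    E₀.map θ ⊔ zpowers (t * θ zS * t) ≠ E₁.map θ ⊔ zpowers (t * θ zS * t) := by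
  intro e
  rw [D_eq w ht, D_eq w ht] at e
  have h := map_injective (Ψ_inj w ht) e
  have : ((eS, 1) : SS × SS) ∈ E₁.prod (zpowers zS) := h ▸ ⟨(by decide : eS ∈ E₀), one_mem _⟩
  have h2 : eS ∈ E₁ := this.1
  exact absurd h2 (by decide)

end NDFx

open NDFx in
theorem Wr.dichD {θ : SS →* G} (w : Wr t J ι θ) (ht : t * t = 1)
    (hg : g ∈ N[(θ.range ⊔ zpowers (t * θ zS * t) : Subgroup G)]) (hz : g ∈ C{t * θ zS * t}) :
    g ∈ N[(EE θ ⊔ zpowers (t * θ zS * t) : Subgroup G)] ∨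
      cj g (EE θ ⊔ zpowers (t * θ zS * t)) = E₁.map θ ⊔ zpowers (t * θ zS * t) ∧
      cj g (E₁.map θ ⊔ zpowers (t * θ zS * t)) = EE θ ⊔ zpowers (t * θ zS * t) := by
  rcases dich1 w ht hg hz sq_E₀ card_E₀ with e | e
  · exact Or.inl (mem_N_iff_cj.2 e)
  · refine Or.inr ⟨e, (dich1 w ht hg hz sq_E₁ card_E₁).resolve_right fun e' => D_ne w ht ?_⟩
    have := e.trans e'.symm
    rwa [cj_eq_iff, ← cj_mul, inv_mul_cancel, cj_of_mem (one_mem _)] at this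

open NDFx in
theorem Wr.exP {θ : SS →* G} (w : Wr t J ι θ) (ht : t * t = 1) : ∃ P, P0 t θ P := by
  have hS : S12 t θ ≤ HH t θ := (w.S_le ht).trans inf_le_left
  obtain ⟨T, hT, -, -, -, hST, hn⟩ := exT w ht hS (t_H ht)
  exact ⟨T ⊓ HH t θ, hT.2.1, hT.1, hT.2.2, hn, le_sup_left.trans (le_inf hST hS)⟩

open NDFx in
theorem Wr.cov {θ : SS →* G} (w : Wr t J ι θ) (ht : t * t = 1) (hR : IsPGroup 2 R) (htR : t ∈ N[R])
    (hS : S12 t θ ≤ R) (hne : ¬ R ≤ S12 t θ) : ∃ r ∈ R ⊓ C{t} ⊓ N[S12 t θ], r ∉ S12 t θ := by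
  have hRp := isPi_of_isPGroup Nat.prime_two hR
  have hlt := (hRp.nil Nat.prime_two).proper_norm (lt_of_le_not_ge hS hne)
  have htS := t_S w ht
  have hq : quo (R ⊓ N[S12 t θ]) (S12 t θ) ≠ ⊥ := fun e =>
    hlt.not_ge ((quo_eq_bot inf_le_right).1 e)
  have := IsPi.inf_C_ne_bot Nat.prime_two ((isPi_of_isPGroup Nat.prime_two (pg_t ht)).quo (S12 t θ))
    ((hRp.inf_left N[S12 t θ]).quo (S12 t θ))
    (quo_norm _ (zpowers_le.2 (zpowers_le.1 (norm_inf (zpowers_le.2 htR)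
      (norm_N (zpowers_le.2 htS)))))) hq
  obtain ⟨ρ, ⟨hρ, hc⟩, ρ1⟩ := exists_ne_one this
  obtain ⟨r, hr, -, rfl⟩ := mem_quo.1 hρ
  have rS : r ∉ S12 t θ := fun h => ρ1 (cs_of_mem h)
  have h1 := mem_C.1 hc _ (cs_mem_quo (mem_zpowers t) htS)
  rw [← ap_mul _ htS hr.2, ← ap_mul _ hr.2 htS] at h1
  have h3 := conj_mem (mul_mem htS hr.2) ((cs_eq_cs (mul_mem htS hr.2) (mul_mem hr.2 htS)).1 h1)
  rw [S_eq w ht] at h3
  obtain ⟨⟨u, v⟩, e⟩ := h3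
  have e1 : r * t * r⁻¹ = Ψ w ht (u, v) * t := by rw [e]; group
  have e2 : Ψ w ht (u * v, v * u) = 1 := by
    rw [← Prod.mk_mul_mk, map_mul, ← Ψ_t w ht u v]
    calc _ = Ψ w ht (u, v) * t * (Ψ w ht (u, v) * t) := by group
      _ = r * (t * t) * r⁻¹ := by rw [← e1]; group
      _ = 1 := by rw [ht]; group
  have e3 : u * v = 1 := congrArg Prod.fst (Ψ_inj w ht (e2.trans (map_one _).symm))
  obtain rfl : v = u⁻¹ := (inv_eq_of_mul_eq_one_right e3).symm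
  have huS : θ u ∈ S12 t θ := mem_sup_left ⟨u, rfl⟩
  have huR : θ u ∈ R := hS huS
  have hrR : r ∈ R := hr.1
  have hrN : r ∈ N[S12 t θ] := hr.2
  have huN : θ u ∈ N[S12 t θ] := norm_self _ huS
  have a1 : (θ u)⁻¹ * r ∈ R := mul_mem (R.inv_mem huR) hrR
  have a2 : (θ u)⁻¹ * r ∈ N[S12 t θ] := mul_mem (Subgroup.inv_mem _ huN) hrN
  refine ⟨(θ u)⁻¹ * r, ⟨⟨a1, mem_C1_iff_conj.2 ?_⟩, a2⟩,
    fun h => rS ((mul_mem_cancel_left (inv_mem huS)).1 h)⟩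
  calc (θ u)⁻¹ * r * t * ((θ u)⁻¹ * r)⁻¹ = (θ u)⁻¹ * (r * t * r⁻¹) * θ u := by group
    _ = t * (θ u)⁻¹ * (t * t) * θ u := by rw [e1, Ψ_ap, map_inv]; group
    _ = t := by rw [ht]; group

open NDFx in
theorem Wr.sylF {θ : SS →* G} (w : Wr t J ι θ) (m : Md t K J ι) (c : In n t K J) (hR : IsPGroup 2 R)
    (h : R ≤ HH t θ ⊓ N[FF t θ]) (hS : S12 t θ ≤ R) : R ≤ S12 t θ := by
  have ht := c.tt
  have htF := t_F w ht
  have hH : t ∈ N[HH t θ ⊓ N[FF t θ]] :=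
    zpowers_le.1 (norm_inf (zpowers_le.2 (t_H ht)) (norm_N (zpowers_le.2 htF)))
  obtain ⟨T, hT, hT2, hTle, htT, hST, hn⟩ := exT w ht (w.S_le ht) hH
  have hSP : S12 t θ ≤ T ⊓ (HH t θ ⊓ N[FF t θ]) := le_inf hST (w.S_le ht)
  suffices hP : T ⊓ (HH t θ ⊓ N[FF t θ]) ≤ S12 t θ from
    (hT.2.2 R hR h (hP.trans hS)).trans hP
  by_contra hne
  obtain ⟨r, ⟨⟨hr, hrt⟩, -⟩, rS⟩ := w.cov ht hT.1 hn hSP hne
  have hιS : ι.range ≤ S12 t θ := by
    rintro _ ⟨s, rfl⟩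
    exact (w.mem_S ht).2 ⟨s, s, (w.dg s).symm⟩
  have hιt : ι.range ≤ C{t} := by
    rintro _ ⟨s, rfl⟩
    exact H24.mem_C1.2 (m.ct c s).symm
  have htE : t ∈ N[EE ι] := C_le_N _ (mem_C_iff_le_C1.2 ((map_le_range _ _).trans hιt))
  have hTE : T ⊓ C{t} ≤ C{t} ⊓ N[EE ι] := by
    intro k hk
    have hkF : k ∈ N[FF t θ] := (hTle.trans (sup_le inf_le_right (zpowers_le.2 htF))) hk.1
    refine ⟨hk.2, ?_⟩
    rcases w.db.nm k ⟨hk.2, hkF⟩ with h1 | h1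
    · exact (w.db.toDb0.act m c ⟨hk.2, h1⟩).1
    · exact (mul_mem_cancel_right htE).1
        (w.db.toDb0.act m c ⟨mul_mem hk.2 (self_mem_C1 t), h1⟩).1
  have hcd := m.ord2 _ hTE (hT2.to_le inf_le_left)
  have hti : t ∉ ι.range := by
    rintro ⟨s, e⟩
    exact c.tK (e ▸ m.memK c s)
  have hno : zpowers t ≤ N[ι.range] := norm_of_cent (cents_symm (C_zpowers t ▸ hιt))
  have ho : Nat.card (zpowers t) = 2 := by rw [Nat.card_zpowers, c.iv]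
  have hc2 : Nat.card ↥(ι.range ⊔ zpowers t) = 256 := by
    rw [card_sup_of_inf hno (by
      rw [inf_comm]
      exact prime_inf_of_not_le (ho ▸ Nat.prime_two) fun h' => hti (zpowers_le.1 h')),
      ← Nat.card_congr (MonoidHom.ofInjective m.inj).toEquiv, SS.card_SS, ho]
  have heq : ι.range ⊔ zpowers t = T ⊓ C{t} :=
    eq_of_card_ge (sup_le (le_inf (hιS.trans hST) hιt) (zpowers_le.2 ⟨htT, self_mem_C1 t⟩))
      (hc2 ▸ hcd)
  have hr' : r ∈ ι.range ⊔ zpowers t := heq ▸ ⟨hr.1, hrt⟩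
  obtain ⟨s, hs, τ, hτ, rfl⟩ := (mem_sup_of_norm hno).1 hr'
  have hsH : s ∈ HH t θ := (w.S_le ht (hιS hs)).1
  have hrH : s * τ ∈ HH t θ := hr.2.1
  have hτH : τ ∈ HH t θ := (mul_mem_cancel_left hsH).1 hrH
  have τ1 : τ ≠ 1 := by
    rintro rfl
    exact rS (by rw [mul_one]; exact hιS hs)
  have htH : t ∈ HH t θ := by
    have := zpowers_eq_of_prime (ho ▸ Nat.prime_two) hτ τ1
    exact (zpowers_le.2 hτH : zpowers τ ≤ _) (this ▸ mem_zpowers t)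
  refine z_ne (w.dj zS zS ?_)
  rw [H24.mem_C1.1 htH.1, mul_assoc, ht, mul_one]

open NDFx in
theorem Wr.nT {θ : SS →* G} (w : Wr t J ι θ) (m : Md t K J ι) (ht : t * t = 1) :
    HH t θ ⊓ N[S12 t θ] ≤ N[(θ.range ⊔ zpowers (t * θ zS * t) : Subgroup G)] := by
  have key : ∀ b, b ∈ θ.range ⊔ zpowers (t * θ zS * t) ↔
      b ∈ S12 t θ ∧ ∀ s ∈ S12 t θ, s * b * s⁻¹ ≠ b * (t * θ zS * t) := by
    intro b
    rw [MonoidHom.range_eq_map, D_eq w ht, S_eq w ht, ← Ψ_r w ht]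
    constructor
    · rintro ⟨⟨u, v⟩, ⟨-, hv⟩, rfl⟩
      refine ⟨⟨_, rfl⟩, ?_⟩
      rintro _ ⟨⟨a, c⟩, rfl⟩ e
      rw [← map_inv, ← map_mul, ← map_mul, ← map_mul] at e
      have e2 : c * v * c⁻¹ = v * zS := congrArg Prod.snd (Ψ_inj w ht e)
      have : c * v = v * c := by
        rcases mem_zz.1 hv with rfl | rfl
        · rw [mul_one, one_mul]
        · exact z_cen c
      rw [this, mul_inv_cancel_right, left_eq_mul] at e2
      exact z_ne e2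
    · rintro ⟨⟨⟨u, v⟩, rfl⟩, h⟩
      refine ⟨(u, v), ⟨mem_top _, mem_zz.2 ?_⟩, rfl⟩
      by_contra hv
      obtain ⟨c, hc⟩ := ncen v (fun e => hv (Or.inl e)) (fun e => hv (Or.inr e))
      refine h _ ⟨(1, c), rfl⟩ ?_
      rw [← map_inv, ← map_mul, ← map_mul, ← map_mul]
      congr 1
      ext <;> simp [hc]
  intro g hg
  refine mem_N_of_finite fun b hb => ?_
  rw [key] at hb ⊢
  refine ⟨conj_mem hg.2 hb.1, fun s hs e => hb.2 _ (conj_mem' hg.2 hs) ?_⟩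
  have hz := H24.mem_C1.1 hg.1.2
  calc g⁻¹ * s * g * b * (g⁻¹ * s * g)⁻¹ = g⁻¹ * (s * (g * b * g⁻¹) * s⁻¹) * g := by group
    _ = b * (g⁻¹ * (t * θ zS * t * g)) := by rw [e]; group
    _ = _ := by rw [← hz, inv_mul_cancel_left]

end H28.ND
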