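import Mathlib
import Cfsg.Agent.H0.W12

/-! Fischer spaces of type `U₆(2)`: comparison of two coordinate systems. -/

set_option autoImplicit false

namespace H28.FU

open H0 Subgroup
open H29 hiding dec

variable {G : Type*} [Group G]

/-- action of a product of transvections -/
noncomputable def evC (w : List ℕ) (v : ℕ) : ℕ :=
  List.rec (motive := fun _ => ℕ) v (fun g _ ih => lit ih fun x => tvN g x) w

theorem evc {H : Set G} {π : V6 → G} (h : UM H π) {v : ℕ} (hv : Iso (dec v)) :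
    ∀ w : List ℕ, isoL w → Iso (dec (evC w v)) ∧
      cj (ev (fun c => π (dec c)) w) (π (dec v)) = π (dec (evC w v))
  | [], _ => ⟨hv, by simp [evC]⟩
  | c :: w, k => by
    obtain ⟨h1, h2⟩ := evc h hv w fun g hg => k g (List.mem_cons_of_mem _ hg)
    have kc := k c List.mem_cons_self
    rw [show evC (c :: w) v = tvN c (evC w v) from rfl, dec_tvN, ev_cons, ← cj_cj, h2, h.cj kc h1]
    exact ⟨kc.tv h1, rfl⟩

noncomputable def anyL {α : Type} (l : List α) (f : α → Bool) : Bool :=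
  List.rec (motive := fun _ => Bool) false (fun a _ ih => Bool.rec ih true (f a)) l

theorem anyL_true {α : Type} {f : α → Bool} : ∀ {l : List α}, anyL l f = true → ∃ a ∈ l, f a = true
  | [], h => absurd h (by simp [anyL])
  | a :: t, h => by
    have e : anyL (a :: t) f = Bool.rec (anyL t f) true (f a) := rfl
    rw [e] at h
    cases k : f a
    · rw [k] at h
      obtain ⟨b, h1, h2⟩ := anyL_true h
      exact ⟨b, List.mem_cons_of_mem _ h1, h2⟩
    · exact ⟨a, List.mem_cons_self, k⟩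

/-- some nonzero multiple of `n` is in the list -/
noncomputable def mem3 (n : ℕ) (ms : List ℕ) : Bool :=
  lit (enc (dec n)) fun z => lit (enc (om • dec n)) fun x => lit (enc (ob • dec n)) fun y =>
    anyL ms fun m => Bool.rec (Bool.rec (Nat.beq m y) true (Nat.beq m x)) true (Nat.beq m z)

theorem mem3_true {H : Set G} {π : V6 → G} (h : UM H π) {n : ℕ} {ms : List ℕ} (hn : Iso (dec n))
    (k : mem3 n ms = true) : ∃ m ∈ ms, π (dec m) = π (dec n) := by
  obtain ⟨m, h1, h2⟩ := anyL_true k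
  refine ⟨m, h1, ?_⟩
  cases k1 : Nat.beq m (enc (dec n))
  · cases k2 : Nat.beq m (enc (om • dec n))
    · simp only [k1, k2] at h2
      rw [Nat.eq_of_beq_eq_true h2, dec_enc, h.smul hn (by decide)]
    · rw [Nat.eq_of_beq_eq_true k2, dec_enc, h.smul hn (by decide)]
  · rw [Nat.eq_of_beq_eq_true k1, dec_enc]

noncomputable def mT (a n k : ℕ) : ℕ :=
  Nat.shiftRight 2023547904 (Nat.add (Nat.mul 8 (Nat.mod (Nat.div a k) 4)) (Nat.mul 2 (Nat.mod (Nat.div n k) 4)))

noncomputable def hz (a n : ℕ) : Bool :=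
  Nat.beq (Nat.mod (Nat.xor (Nat.xor (Nat.xor (Nat.xor (Nat.xor (mT a n 1) (mT a n 4)) (mT a n 16))
    (mT a n 64)) (mT a n 256)) (mT a n 1024)) 4) 0

theorem f4_xor (x y : ℕ) : f4 (Nat.xor x y) = f4 x + f4 y := by
  have e : Nat.xor x y % 4 = Nat.xor (x % 4) (y % 4) := Nat.xor_mod_two_pow (n := 2)
  have k : ∀ a b : Fin 4, f4 (Nat.xor a b) = f4 a + f4 b := by decide
  have := k ⟨x % 4, Nat.mod_lt _ (by norm_num)⟩ ⟨y % 4, Nat.mod_lt _ (by norm_num)⟩
  simp only [f4, Nat.mod_mod, ← e] at this ⊢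
  exact this

theorem f4_mT (a n : ℕ) (i : Fin 6) : f4 (mT a n (4 ^ i.1)) = dec n i * (dec a i * dec a i) := by
  have k : ∀ a b : F4, f4 (Nat.shiftRight 2023547904 (Nat.add (Nat.mul 8 (Fin.val a)) (Nat.mul 2 (Fin.val b)))) =
    b * (a * a) := by decide
  exact k (dec a i) (dec n i)

theorem hz_true (a n : ℕ) : hz a n = true ↔ hb (dec a) (dec n) = 0 := by
  rw [hb, ← f4_mT a n 0, ← f4_mT a n 1, ← f4_mT a n 2, ← f4_mT a n 3, ← f4_mT a n 4, ← f4_mT a n 5,
    ← f4_xor, ← f4_xor, ← f4_xor, ← f4_xor, ← f4_xor, hz, H29.beq_true]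
  exact ⟨fun e => Fin.ext e, fun e => congrArg Fin.val e⟩

noncomputable def pat (F : List ℕ) (t n : ℕ) : Bool :=
  allL F fun a => Bool.rec (Bool.rec true false (hz a t)) (hz a t) (hz a n)

noncomputable def chk1 (F : List ℕ) (L : List (List ℕ × ℕ × ℕ)) : Bool :=
  allL L fun p => and2 (decide (isoL p.1)) (and2 (decide (Iso (dec p.2.1)))
    (and2 (mem3 (evC p.1 p.2.1) [p.2.2]) (allL F fun a => mem3 (evC p.1 a) [a])))

noncomputable def chk2 (F : List ℕ) (t : ℕ) (ms : List ℕ) : Bool :=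
  allN 4096 fun n => lit n fun n =>
    Bool.rec true (Bool.rec true (mem3 n ms) (decide (Iso (dec n)))) (pat F t n)

theorem find {H : Set G} {π : V6 → G} (h : UM H π) {F : List ℕ} (hF : isoL F) {t : ℕ}
    {ms : List ℕ} (c2 : chk2 F t ms = true) {x : G} (hx : x ∈ H)
    (k : ∀ a ∈ F, Commute (π (dec a)) x ↔ hb (dec a) (dec t) = 0) : ∃ m ∈ ms, π (dec m) = x := by
  obtain ⟨v, hv, rfl⟩ := h.surj hx
  rw [← dec_enc v] at hv k ⊢
  have := allN_true.1 c2 _ (enc_lt v)
  have p : pat F t (enc v) = true := allL_true.2 fun a ha => by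
    have := (h.comm (hF a ha) hv).symm.trans (k a ha)
    rw [← hz_true, ← hz_true] at this
    revert this
    cases hz a t <;> cases hz a (enc v) <;> simp
  simp only [lit_eq, p, decide_eq_true hv] at this
  exact mem3_true h hv this

theorem word {H : Set G} {π : V6 → G} (h : UM H π) {F : List ℕ} (hF : isoL F)
    {L : List (List ℕ × ℕ × ℕ)} (c1 : chk1 F L = true) {p : List ℕ × ℕ × ℕ} (hp : p ∈ L) :
    isoL p.1 ∧ Iso (dec p.2.1) ∧ cj (ev (fun c => π (dec c)) p.1) (π (dec p.2.1)) = π (dec p.2.2) ∧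
      ∀ a ∈ F, cj (ev (fun c => π (dec c)) p.1) (π (dec a)) = π (dec a) := by
  have := allL_true.1 c1 p hp
  simp only [and2_true, decide_eq_true_eq, allL_true] at this
  obtain ⟨a1, a2, a3, a4⟩ := this
  refine ⟨a1, a2, ?_, fun a ha => ?_⟩
  · obtain ⟨b1, b2⟩ := evc h a2 _ a1
    obtain ⟨m, c1, c2⟩ := mem3_true h b1 a3
    rw [b2, ← c2, List.mem_singleton.1 c1]
  · obtain ⟨b1, b2⟩ := evc h (hF a ha) _ a1
    obtain ⟨m, c1, c2⟩ := mem3_true h b1 (a4 a ha)
    rw [b2, ← c2, List.mem_singleton.1 c1]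

theorem step {H : Set G} {π π' : V6 → G} (h : UM H π) (h' : UM H π') {F : List ℕ} (hF : isoL F)
    (ag : ∀ a ∈ F, π' (dec a) = π (dec a)) {t : ℕ} (ht : Iso (dec t)) {L : List (List ℕ × ℕ × ℕ)}
    (c1 : chk1 F L = true) (c2 : chk2 F t (L.map fun p => p.2.2) = true) :
    ∃ p ∈ L, ∃ g ∈ closure H, (∀ a ∈ F, π' (dec a) = cj g (π (dec a))) ∧
      π' (dec t) = cj g (π (dec p.2.1)) ∧ (p.1 = [] → g = 1) := by
  obtain ⟨m, h1, h2⟩ := find h hF c2 (h'.mem ht) fun a ha => by
    rw [← ag a ha, h'.comm (hF a ha) ht]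
  obtain ⟨p, hp, rfl⟩ := List.mem_map.1 h1
  obtain ⟨a1, -, a3, a4⟩ := word h hF c1 hp
  exact ⟨p, hp, _, ev_mem fun c hc => subset_closure (h.mem (a1 c hc)),
    fun a ha => by rw [a4 a ha, ag a ha], by rw [a3, h2], fun e => by rw [e, ev_nil]⟩

theorem ind693 {P : V6 → Prop} (h1 : ∀ v w, Iso v → Iso w → P v → P w → P (tv v w))
    (h2 : ∀ v (c : F4), Iso v → c ≠ 0 → P v → P (c • v)) (hK : ∀ g ∈ gens8, P (dec g)) {v : V6}
    (hv : Iso v) : P v := by
  have hg : isoL gens8 := by decide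
  have hn : ∀ c, P (dec (nth 5 gens8 c)) := nth_forall (p := fun g => P (dec g)) (hK 5 (by decide)) hK
  have key : ∀ r n, n < 4096 → Nat.shiftRight t693 (Nat.mul 20 n) % 16 = r → Iso (dec n) →
      P (dec n) := by
    intro r
    induction r using Nat.strong_induction_on with
    | _ r ih =>
      intro n hn' hr hi
      have := allN_true.1 all693 n hn'
      simp only [chk693, lit_eq, decide_eq_true hi] at this
      have e : Nat.mod (Nat.mod (Nat.shiftRight t693 (Nat.mul 20 n)) 1048576) 16 = r := by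
        rw [← hr]; exact Nat.mod_mod_of_dvd _ (by norm_num)
      rw [e] at this
      generalize Nat.mod (Nat.div (Nat.mod (Nat.shiftRight t693 (Nat.mul 20 n)) 1048576) 16) 16 = g
        at this
      generalize Nat.div (Nat.mod (Nat.shiftRight t693 (Nat.mul 20 n)) 1048576) 256 = m at this
      cases hr0 : Nat.beq r 0
      · rw [hr0] at this
        simp only [and2_true, H29.beq_true, ble_true, decide_eq_true_eq] at this
        obtain ⟨k1, k2, k3, k4⟩ := this
        rw [k1, dec_tvN]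
        exact h1 _ _ (hg.nth g) k2 (hn g) (ih _ k4 m k3 rfl k2)
      · rw [hr0] at this
        simp only [decide_eq_true_eq] at this
        rw [this]
        exact h2 _ _ (hg.nth g) (fun e0 => hi.1 (by rw [this, e0, zero_smul])) (hn g)
  rw [← dec_enc v] at hv ⊢
  exact key _ _ (enc_lt v) rfl hv

theorem um_comp {H : Set G} {π : V6 → G} (h : UM H π) {β : G → G} (b : FIso β H) (e : β '' H = H) :
    UM H fun v => β (π v) := by
  refine ⟨fun hv => e ▸ ⟨_, h.mem hv, rfl⟩, fun {x} hx => ?_, fun hv hw => ?_, fun hv hc => ?_,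
    fun hv hw => ?_, fun hv hw k => h.inj hv hw (b.inj (h.mem hv) (h.mem hw) k), fun hv hw hz k => ?_⟩
  · obtain ⟨y, hy, rfl⟩ : x ∈ β '' H := e.symm ▸ hx
    obtain ⟨v, hv, rfl⟩ := h.surj hy
    exact ⟨v, hv, rfl⟩
  · rw [b.comm (h.mem hv) (h.mem hw), h.comm hv hw]
  · simp only [h.smul hv hc]
  · rw [← b.hom _ (h.mem hv) _ (h.mem hw), h.cj hv hw]
  · rw [← h.ln hv hw hz k, ← b.ln (h.mem hv) (h.mem hw) (h.mem hz), e]

theorem um_cj {H : Set G} (L : LQ H) {π : V6 → G} (h : UM H π) {g : G} (hg : g ∈ closure H) :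
    UM H fun v => cj g (π v) :=
  um_comp h (β := cj g) ⟨fun _ _ _ _ e => cj_inj.1 e, fun _ hx _ hy => L.cj_mem hx hy,
    fun x _ y _ => cj_cj_conj g x y, fun _ hx => L.sq hx, fun _ hx => L.sq (L.conj hx hg)⟩
    (L.image_self hg)

/-- the field automorphism -/
def fr (v : V6) : V6 := fun i => v i * v i

theorem fr_add (v w : V6) : fr (v + w) = fr v + fr w := funext fun i => F4.sq_add (v i) (w i)
theorem fr_smul (c : F4) (v : V6) : fr (c • v) = (c * c) • fr v :=
  funext fun i => mul_mul_mul_comm c (v i) c (v i)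
theorem fr_fr (v : V6) : fr (fr v) = v := funext fun i => F4.sq_sq (v i)
theorem hb_fr (v w : V6) : hb (fr v) (fr w) = hb v w * hb v w := by
  simp only [hb, fr, F4.sq_add]
  ring
theorem iso_fr {v : V6} (h : Iso v) : Iso (fr v) :=
  ⟨fun e => h.1 (by rw [← fr_fr v, e]; exact funext fun _ => mul_zero _), by rw [hb_fr, h.2, mul_zero]⟩

theorem um_fr {H : Set G} {π : V6 → G} (h : UM H π) : UM H fun v => π (fr v) := by
  refine ⟨fun hv => h.mem (iso_fr hv), fun {x} hx => ?_, fun hv hw => ?_, fun hv hc => ?_,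
    fun hv hw => ?_, fun hv hw e => ?_, fun hv hw hz e => ?_⟩
  · obtain ⟨v, hv, rfl⟩ := h.surj hx
    exact ⟨fr v, iso_fr hv, by simp only [fr_fr]⟩
  · rw [h.comm (iso_fr hv) (iso_fr hw), hb_fr, mul_self_eq_zero]
  · simp only [fr_smul, h.smul (iso_fr hv) (mul_ne_zero hc hc)]
  · simp only [h.cj (iso_fr hv) (iso_fr hw), tv, hb_fr, fr_add, fr_smul]
  · obtain ⟨c, e⟩ := h.inj (iso_fr hv) (iso_fr hw) e
    have := congrArg fr e
    exact ⟨c * c, by rwa [fr_fr, fr_smul, fr_fr] at this⟩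
  · rw [h.ln (iso_fr hv) (iso_fr hw) (iso_fr hz) (by rw [hb_fr, e, mul_zero])]
    refine ⟨fun ⟨a, b, e⟩ => ⟨a * a, b * b, ?_⟩, fun ⟨a, b, e⟩ => ⟨a * a, b * b, ?_⟩⟩
    · have := congrArg fr e
      rwa [fr_fr, fr_add, fr_smul, fr_smul, fr_fr, fr_fr] at this
    · rw [e, fr_add, fr_smul, fr_smul]

def L3 : List (List ℕ × ℕ × ℕ) := [([], 80, 80),
  ([112], 80, 96),
  ([96], 80, 112),
  ([320], 80, 272),
  ([384], 80, 288),
  ([448], 80, 304),
  ([272], 80, 320),
  ([288], 80, 384),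
  ([304], 80, 448),
  ([1088], 80, 1040),
  ([1152], 80, 1056),
  ([1216], 80, 1072),
  ([1040], 80, 1088),
  ([1056], 80, 1152),
  ([1072], 80, 1216),
  ([1088, 272], 80, 1280),
  ([1456, 96], 80, 1360),
  ([1424], 80, 1376),
  ([1488], 80, 1392),
  ([1376], 80, 1424),
  ([1488, 96], 80, 1440),
  ([1504], 80, 1456),
  ([1392], 80, 1488),
  ([1456], 80, 1504),
  ([1376, 96], 80, 1520),
  ([1152, 272], 80, 1536),
  ([1712, 96], 80, 1616),
  ([1680], 80, 1632),
  ([1744], 80, 1648),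
  ([1632], 80, 1680),
  ([1744, 96], 80, 1696),
  ([1760], 80, 1712),
  ([1648], 80, 1744),
  ([1712], 80, 1760),
  ([1632, 96], 80, 1776),
  ([1216, 272], 80, 1792),
  ([1968, 96], 80, 1872),
  ([1936], 80, 1888),
  ([2000], 80, 1904),
  ([1888], 80, 1936),
  ([2000, 96], 80, 1952),
  ([2016], 80, 1968),
  ([1904], 80, 2000),
  ([1968], 80, 2016),
  ([1888, 96], 80, 2032)]

def L4 : List (List ℕ × ℕ × ℕ) := [([80], 144, 96),
  ([], 144, 112),
  ([1616, 1520], 144, 272),
  ([1696, 1360], 144, 288),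
  ([1776, 1440], 144, 304),
  ([1872, 1440], 144, 320),
  ([1952, 1520], 144, 384),
  ([2032, 1360], 144, 448),
  ([2032, 1520], 144, 1040),
  ([1872, 1360], 144, 1056),
  ([1952, 1440], 144, 1072),
  ([1696, 1440], 144, 1088),
  ([1776, 1520], 144, 1152),
  ([1616, 1360], 144, 1216),
  ([1520], 144, 1376),
  ([1440, 80], 144, 1392),
  ([1520, 80], 144, 1424),
  ([1360], 144, 1456),
  ([1440], 144, 1488),
  ([1360, 80], 144, 1504),
  ([1776], 144, 1632),
  ([1696, 80], 144, 1648),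
  ([1776, 80], 144, 1680),
  ([1616], 144, 1712),
  ([1696], 144, 1744),
  ([1616, 80], 144, 1760),
  ([2032], 144, 1888),
  ([1952, 80], 144, 1904),
  ([2032, 80], 144, 1936),
  ([1872], 144, 1968),
  ([1952], 144, 2000),
  ([1872, 80], 144, 2016)]

def L5 : List (List ℕ × ℕ × ℕ) := [([], 1280, 1280),
  ([1792], 1280, 1536),
  ([1536], 1280, 1792)]

def L6 : List (List ℕ × ℕ × ℕ) := [([1280], 2304, 1536),
  ([], 2304, 1792)]

def L7 : List (List ℕ × ℕ × ℕ) := [([], 85, 85),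
  ([1216, 1088, 304, 272], 85, 90),
  ([1152, 1088, 288, 272], 85, 95)]

def L8 : List (List ℕ × ℕ × ℕ) := [([], 1285, 1285),
  ([], 3845, 1290),
  ([], 2565, 1295)]

def L9 : List (List ℕ × ℕ × ℕ) := [([], 85, 85),
  ([], 245, 90),
  ([], 165, 95)]

def G8 : List (List ℕ × ℕ × ℕ) := [([], 1280, 1280),
  ([], 2304, 3584),
  ([], 5, 5),
  ([165, 80, 144, 85, 9], 5, 20),
  ([], 80, 80),
  ([], 9, 9),
  ([9, 1285, 85, 9], 5, 1365),
  ([144, 165, 80, 144, 9, 165, 1285, 85], 9, 2645)]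

def N7 : List (List ℕ × ℕ × ℕ) := [([], 1280, 1280),
  ([], 3584, 1792),
  ([], 5, 5),
  ([], 20, 20),
  ([], 80, 80),
  ([], 9, 7),
  ([9, 1365], 3584, 1782),
  ([9, 20, 5, 9, 1365], 3584, 1770)]

def F2 : List ℕ := [5, 9]
def F3 : List ℕ := [80, 5, 9]
def F4' : List ℕ := [144, 80, 5, 9]
def F5 : List ℕ := [1280, 144, 80, 5, 9]
def F6 : List ℕ := [2304, 1280, 144, 80, 5, 9]
def F7 : List ℕ := [85, 2304, 1280, 144, 80, 5, 9]
def F8 : List ℕ := [1285, 85, 2304, 1280, 144, 80, 5, 9]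
def F9 : List ℕ := [165, 1285, 85, 2304, 1280, 144, 80, 5, 9]

theorem a3 : chk1 F2 L3 = true := by decide +kernel
theorem b3 : chk2 F2 80 (L3.map fun p => p.2.2) = true := by decide +kernel
theorem a4 : chk1 F3 L4 = true := by decide +kernel
theorem b4 : chk2 F3 144 (L4.map fun p => p.2.2) = true := by decide +kernel
theorem a5 : chk1 F4' L5 = true := by decide +kernel
theorem b5 : chk2 F4' 1280 (L5.map fun p => p.2.2) = true := by decide +kernel
theorem a6 : chk1 F5 L6 = true := by decide +kernel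
theorem b6 : chk2 F5 2304 (L6.map fun p => p.2.2) = true := by decide +kernel
theorem a7 : chk1 F6 L7 = true := by decide +kernel
theorem b7 : chk2 F6 85 (L7.map fun p => p.2.2) = true := by decide +kernel
theorem a8 : chk1 F7 L8 = true := by decide +kernel
theorem b8 : chk2 F7 1285 (L8.map fun p => p.2.2) = true := by decide +kernel
theorem a9 : chk1 F8 L9 = true := by decide +kernel
theorem b9 : chk2 F8 165 (L9.map fun p => p.2.2) = true := by decide +kernel
theorem aG : chk1 [] G8 = true := by decide +kernel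
theorem aN : chk1 [] N7 = true := by decide +kernel
theorem bN : chk2 (N7.map fun p => p.2.2) 2645 [2645] = true := by decide +kernel

theorem grow {H : Set G} (L : LQ H) {π' : V6 → G} (h' : UM H π') {F : List ℕ} (hF : isoL F) {t : ℕ}
    (ht : Iso (dec t)) {M : List (List ℕ × ℕ × ℕ)} (c1 : chk1 F M = true)
    (c2 : chk2 F t (M.map fun p => p.2.2) = true) (c3 : ∀ p ∈ M, p.2.1 = t) {π : V6 → G} (h : UM H π)
    (k : ∃ g ∈ closure H, ∀ a ∈ F, π' (dec a) = cj g (π (dec a))) :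
    ∃ g ∈ closure H, ∀ a ∈ t :: F, π' (dec a) = cj g (π (dec a)) := by
  obtain ⟨g, hg, k⟩ := k
  obtain ⟨p, hp, g', hg', k1, k2, -⟩ := step (um_cj L h hg) h' hF k ht c1 c2
  rw [c3 p hp] at k2
  refine ⟨g' * g, mul_mem hg' hg, fun a ha => ?_⟩
  rw [← cj_cj]
  rcases List.mem_cons.1 ha with rfl | ha
  exacts [k2, k1 a ha]

theorem all_of {H : Set G} {π π' : V6 → G} (h : UM H π) (h' : UM H π')
    (k : ∀ a ∈ F9, π' (dec a) = π (dec a)) {v : V6} (hv : Iso v) : π' v = π v := by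
  refine ind693 (P := fun v => π' v = π v) (fun v w h1 h2 e1 e2 => ?_) (fun v c h1 h2 e => ?_)
    (fun g hg => ?_) hv
  · rw [← h.cj h1 h2, ← h'.cj h1 h2, e1, e2]
  · rw [h.smul h1 h2, h'.smul h1 h2, e]
  · obtain ⟨p, hp, rfl, a1, a2⟩ : ∃ p ∈ G8, p.2.2 = g ∧ p.2.1 ∈ F9 ∧ ∀ c ∈ p.1, c ∈ F9 := by
      revert g; decide
    rw [← (word h (fun _ x => absurd x List.not_mem_nil) aG hp).2.2.1,
      ← (word h' (fun _ x => absurd x List.not_mem_nil) aG hp).2.2.1, k _ a1,
      ev_congr fun c hc => k c (a2 c hc)]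

def tw (k : F4) (ε : Bool) (v : V6) : V6 := sc k (if ε then fr v else v)

theorem compare [Finite G] {H : Set G} (L : LQ H) {π π' : V6 → G} (h : UM H π) (h' : UM H π') :
    ∃ k : F4, k ≠ 0 ∧ ∃ ε : Bool, ∃ g ∈ closure H, ∀ v, Iso v → π' v = cj g (π (tw k ε v)) := by
  have s2 : ∃ g ∈ closure H, ∀ a ∈ F2, π' (dec a) = cj g (π (dec a)) := by
    obtain ⟨g, hg, e1, e2⟩ := L.adj_pair_trans (h.mem (v := dec 5) (by decide))
      (h.mem (v := dec 9) (by decide)) (h'.mem (v := dec 5) (by decide)) (h'.mem (v := dec 9) (by decide))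
      (by rw [h.comm (by decide) (by decide)]; decide) (by rw [h'.comm (by decide) (by decide)]; decide)
    exact ⟨g, hg, by simp [F2, e1, e2]⟩
  obtain ⟨g, hg, s7⟩ := grow L h' (F := F6) (by decide) (by decide) a7 b7 (by decide) h
    (grow L h' (F := F5) (by decide) (by decide) a6 b6 (by decide) h
      (grow L h' (F := F4') (by decide) (by decide) a5 b5 (by decide) h
        (grow L h' (F := F3) (by decide) (by decide) a4 b4 (by decide) h
          (grow L h' (F := F2) (by decide) (by decide) a3 b3 (by decide) h s2))))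
  have u := um_cj L h hg
  obtain ⟨p, hp, g', -, -, k2, k3⟩ := step u h' (F := F7) (by decide) s7 (by decide) a8 b8
  obtain ⟨p0, k, hk, e1, e2⟩ : p.1 = [] ∧ ∃ k : F4, k ≠ 0 ∧ sc k (dec 1285) = dec p.2.1 ∧
      ∀ a ∈ F7, ∃ c : F4, c ≠ 0 ∧ sc k (dec a) = c • dec a := by
    clear k2 k3; revert p; decide
  rw [k3 p0, cj_one, ← e1] at k2
  have u2 := u.sc hk
  have s8 : ∀ a ∈ F8, π' (dec a) = cj g (π (sc k (dec a))) := fun a ha => by
    rcases List.mem_cons.1 ha with rfl | ha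
    · exact k2
    · obtain ⟨c, hc, e⟩ := e2 a ha
      rw [e, h.smul ((by decide : isoL F7) a ha) hc, s7 a ha]
  obtain ⟨p, hp, g', -, -, k2, k3⟩ := step u2 h' (F := F8) (by decide) s8 (by decide) a9 b9
  obtain ⟨p0, e⟩ : p.1 = [] ∧ (p.2.1 = 85 ∨ p.2.1 = 165 ∨ p.2.1 = 245) := by
    clear k2 k3; revert p; decide
  rw [k3 p0, cj_one] at k2
  refine ⟨k, hk, ?_⟩
  rcases e with e | e | e <;> rw [e] at k2
  · rw [← s8 85 (by decide)] at k2
    exact absurd (h'.inj (by decide) (by decide) k2) (by decide)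
  · exact ⟨false, g, hg, fun v hv => all_of u2 h' (fun a ha => by
      rcases List.mem_cons.1 ha with rfl | ha
      exacts [k2, s8 a ha]) hv⟩
  · let ρ : V6 → G := fun v => cj g (π (sc k v))
    let s : G := ev (fun c => ρ (dec c)) [5, 80, 1280]
    have hs : s ∈ closure H := ev_mem fun c hc =>
      subset_closure (u2.mem ((by decide : isoL [5, 80, 1280]) c hc))
    have key : ∀ a b : ℕ, Iso (dec a) → Iso (dec b) → (∃ c : F4, c ≠ 0 ∧
        dec (evC [5, 80, 1280] (enc (fr (dec a)))) = c • dec b) → cj s (ρ (fr (dec a))) = ρ (dec b) :=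
      fun a b ha hb ⟨c, hc, e⟩ => by
        have := (evc u2 (v := enc (fr (dec a))) (by rw [dec_enc]; exact iso_fr ha) [5, 80, 1280]
          (by decide)).2
        rw [dec_enc, e] at this
        exact this.trans (u2.smul hb hc)
    refine ⟨true, s * g, mul_mem hs hg, fun v hv => ?_⟩
    rw [← cj_cj]
    refine all_of (um_cj L (um_fr u2) hs) h' (fun a ha => ?_) hv
    rcases List.mem_cons.1 ha with rfl | ha
    · exact k2.trans (key 165 245 (by decide) (by decide) (by decide +kernel)).symm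
    · exact (s8 a ha).trans (key a a ((by decide : isoL F8) a ha) ((by decide : isoL F8) a ha)
        (by revert a; decide +kernel)).symm

/-- an automorphism fixing the points commuting with a standard outside point is trivial -/
theorem fix_std {H : Set G} {π : V6 → G} (h : UM H π) {b g : G} (hb : Std π b)
    (hg : ∀ x ∈ H, cj g x ∈ H) (k : ∀ x ∈ H, Commute x b → Commute g x) : ∀ x ∈ H, Commute g x := by
  have n7 : ∀ a ∈ N7.map fun p => p.2.2, Iso (dec a) := by decide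
  have i7 : isoL gens7 := by decide
  have c7 : ∀ a ∈ N7.map fun p => p.2.2, Commute g (π (dec a)) := fun a ha => by
    refine k _ (h.mem (n7 a ha)) ?_
    obtain ⟨p, hp, rfl⟩ := List.mem_map.1 ha
    obtain ⟨a1, a2⟩ : p.2.1 ∈ gens7 ∧ ∀ c ∈ p.1, c ∈ gens7 := by revert p; decide
    rw [← (word h (fun _ x => absurd x List.not_mem_nil) aN hp).2.2.1]
    exact (commute_cj_ev (fun c hc => hb c (a2 c hc)) (hb _ a1)).symm
  obtain ⟨m, h1, h2⟩ := find h n7 bN (hg _ (h.mem (v := dec 2645) (by decide))) fun a ha => by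
    rw [commute_cj_right (c7 a ha), h.comm (n7 a ha) (by decide)]
  rw [List.mem_singleton.1 h1, eq_comm, cj_eq_self] at h2
  intro x hx
  refine (mem_centralizer_singleton_iff.1 (h.gen693 (K := centralizer {g}) (fun c hc => ?_) hx)).symm
  have : c ∈ gens7 ∨ c = 2645 := by revert c; decide
  rcases this with e | rfl
  · exact mem_centralizer_singleton_iff.2 (k _ (h.mem (i7 c e)) (hb c e).symm).symm.eq
  · exact mem_centralizer_singleton_iff.2 h2.symm.eq

end H28.FU
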