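import Mathlib
import Cfsg.Agent.H6.XE
import Cfsg.Agent.S0296
import Cfsg.Agent.S0293

/-! The first Conway group: the central involution is not weakly closed in `O₂(C(z))`. -/

set_option autoImplicit false
set_option linter.unusedSectionVars false

namespace H28
namespace C1W

open Subgroup H24 H15 H15.XP H6.XS

abbrev O8 : Type := Cfsg.Omega (ZMod 2) (Cfsg.quadFormPlus 4 (ZMod 2))

theorem simple_O8 : IsSimpleGroup O8 := by
  have h1 := Cfsg.Agent.S0296.result (F := ZMod 2) 4 le_rfl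
  have h2 := Cfsg.Agent.S0293.result (F := ZMod 2) (q := 2) (ZMod.card 2) 4 le_rfl
  have h3 := card_eq_card_quotient_mul_card_subgroup (center O8)
  rw [card_omega8p] at h3
  simp only [Finset.prod_range_succ, Finset.prod_range_zero] at h2
  norm_num at h2
  change Nat.card (O8 ⧸ center O8) = _ at h2
  have h4 : center O8 = ⊥ := card_eq_one.1 (by rw [h2] at h3; omega)
  exact ((QuotientGroup.quotientMulEquivOfEq h4).trans QuotientGroup.quotientBot).symm.isSimpleGroup

theorem odd_prod (n : ℕ) :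
    Odd (∏ i ∈ Finset.range n, (if Even i then 2 ^ (i + 1) + 1 else 2 ^ (i + 1) - 1)) := by
  induction n with
  | zero => simp
  | succ n ih =>
    rw [Finset.prod_range_succ]
    refine ih.mul ?_
    have e : Even (2 ^ (n + 1)) := by rw [pow_succ]; exact even_two.mul_left _
    split_ifs
    · exact e.add_one
    · exact Nat.Even.sub_odd Nat.one_le_two_pow e odd_one

theorem psu_not (n : ℕ) (hn : 4 ≤ n) (m : ℕ) (hm : Odd m) :
    Nat.card (Cfsg.PSU n H0.F4 2) ≠ 512 * 174182400 * m := fun e => by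
  have h1 := H7.card_psu H0.F4.card n (by omega)
  rw [e] at h1
  have g : Odd (Nat.gcd n (2 + 1)) := Odd.of_dvd_nat (by decide) (Nat.gcd_dvd_right _ _)
  obtain ⟨P, hP⟩ : ∃ P, P = ∏ i ∈ Finset.range n, (if Even i then 2 ^ (i + 1) + 1 else 2 ^ (i + 1) - 1) :=
    ⟨_, rfl⟩
  have o : Odd P := hP ▸ odd_prod n
  have h2 : 2 ^ 21 * (Nat.gcd n (2 + 1) * (3 * 42525 * m)) = 2 ^ (n * (n - 1) / 2) * P := by
    rw [hP, ← h1]; ring
  have o2 : Odd (Nat.gcd n (2 + 1) * (3 * 42525 * m)) := g.mul (Odd.mul (by decide) hm)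
  have h3 : n * (n - 1) / 2 = 21 := by
    have a := congrArg (fun k => k.factorization 2) h2
    simp only [Nat.factorization_mul (pow_pos two_pos _).ne' o2.pos.ne',
      Nat.factorization_mul (pow_pos two_pos _).ne' o.pos.ne', Finsupp.add_apply,
      Nat.Prime.factorization_pow Nat.prime_two, Finsupp.single_eq_same,
      Nat.factorization_eq_zero_of_not_dvd o.not_two_dvd_nat,
      Nat.factorization_eq_zero_of_not_dvd o2.not_two_dvd_nat] at a
    omega
  have h4 : n = 7 := by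
    rcases (by omega : n ≤ 6 ∨ n = 7 ∨ 8 ≤ n) with k | k | k
    · have : n * (n - 1) ≤ 6 * 5 := Nat.mul_le_mul k (by omega)
      omega
    · exact k
    · have : 8 * 7 ≤ n * (n - 1) := Nat.mul_le_mul k (by omega)
      omega
  subst h4
  simp [Finset.prod_range_succ, Nat.even_iff] at h1
  omega

variable {G : Type*} [Group G] [Finite G]

/-- the hypotheses of the recognition theorem with `z` fused in `Q`. -/
theorem nwc (hO : Cfsg.oddCore G = ⊥) (hZ : center G = ⊥) (z : G) (hz : orderOf z = 2)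
    (hcon : Cfsg.IsPConstrained 2 C{z}) (hQ : Cfsg.IsExtraspecial 2 (Cfsg.pCore 2 C{z}))
    (hcard : Nat.card (Cfsg.pCore 2 C{z}) = 2 ^ 9) (e : C{z} ⧸ Cfsg.pCore 2 C{z} ≃* O8) :
    Cfsg.generalizedFittingSubgroup C{z} = Cfsg.pCore 2 C{z} ∧
      ∃ g : G, (∃ hq : g * z * g⁻¹ ∈ C{z}, (⟨g * z * g⁻¹, hq⟩ : C{z}) ∈ Cfsg.pCore 2 C{z}) ∧
        g * z * g⁻¹ ≠ z := by
  have := Fact.mk Nat.prime_two
  have sO := simple_O8
  let π : C{z} →* O8 := e.toMonoidHom.comp (QuotientGroup.mk' _)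
  have sur : Function.Surjective π := e.surjective.comp (QuotientGroup.mk'_surjective _)
  have ker : ∀ a, π a = 1 ↔ a ∈ Cfsg.pCore 2 C{z} := fun a =>
    e.map_eq_one_iff.trans (QuotientGroup.eq_one_iff a)
  have hO' : Cfsg.pPrimeCore 2 C{z} = ⊥ := by
    have co := H2.pPrimeCore_coprime 2 C{z}
    rcases sO.eq_bot_or_eq_top_of_normal ((Cfsg.pPrimeCore 2 C{z}).map π)
      (Normal.map inferInstance _ sur) with k | k
    · have := card_dvd_of_le (H := Cfsg.pPrimeCore 2 C{z}) (K := Cfsg.pCore 2 C{z}) fun x hx =>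
        (ker x).1 (mem_bot.1 (k ▸ mem_map_of_mem π hx))
      rw [hcard] at this
      exact card_eq_one.1 (Nat.Coprime.eq_one_of_dvd (co.pow_right 9) this)
    · have := card_map_dvd (Cfsg.pPrimeCore 2 C{z}) π
      rw [k, card_top, card_omega8p] at this
      exact absurd (co.coprime_dvd_left this) (by norm_num)
  have cen := (H13.isPConstrained_iff_of_pPrimeCore_eq_bot hO').1 hcon
  have hF : Cfsg.generalizedFittingSubgroup C{z} = Cfsg.pCore 2 C{z} := H23.fstar_eq_pCore_iff.2 cen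
  refine ⟨hF, ?_⟩
  by_contra h2
  have cC : Nat.card C{z} = 512 * 174182400 := by
    rw [card_eq_card_quotient_mul_card_subgroup (Cfsg.pCore 2 C{z}), hcard, Nat.card_congr e.toEquiv,
      card_omega8p]
    norm_num
  have h := sit_of (w := 4) hz (hF ▸ hQ) (by omega) (hF ▸ hcard)
  have zD : z ∈ conjugatesOf z := IsConj.refl z
  have nO : NoOdd G := fun N hN k => le_bot_iff.1 (hO ▸ le_sSup ⟨hN, k.coprime_two_right⟩)
  have mQ : ∀ x : C{z}, (x : G) ∈ H25.Bd.fs C{z} ↔ x ∈ Cfsg.pCore 2 C{z} := fun x => by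
    rw [← hF]; exact (mem_map_sub _ x).symm
  have wc := h.wc_of zD fun ⟨d, a1, a2, a3⟩ => by
    obtain ⟨g, rfl⟩ := isConj_iff.1 a1
    exact h2 ⟨g, ⟨h.le zD a2, (mQ ⟨_, h.le zD a2⟩).1 a2⟩, a3⟩
  have h1 : z ∉ center G := fun k => h.ne_one zD (mem_bot.1 (hZ ▸ k))
  obtain ⟨b, hb⟩ := h.exists_col nO zD h1
  rcases h.cases wc zD with u | ⟨-, b, k, t⟩ | ⟨k, -⟩
  · have ir := u.irr (by omega) hb
    obtain ⟨-, n, n4, -, ⟨φ⟩⟩ := u.ident nO hb (.inr ir)
    have hQL := u.Q_le0 hb (.inr ir)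
    have := h.normal0
    have bC : b ∈ C{z} := mem_C1.2 hb.comm.symm
    have le : C{z} ≤ closure (conjugatesOf z) := by
      rcases sO.eq_bot_or_eq_top_of_normal (((closure (conjugatesOf z)).subgroupOf C{z}).map π)
        (Normal.map inferInstance _ sur) with k | k
      · have : π ⟨b, bC⟩ = 1 := mem_bot.1 (k ▸ mem_map_of_mem π (subset_closure hb.r))
        exact absurd (wc z zD b hb.r ((mQ ⟨b, bC⟩).2 ((ker _).1 this))) hb.ne.symm
      · intro x hx
        obtain ⟨y, hy, e'⟩ : π ⟨x, hx⟩ ∈ ((closure (conjugatesOf z)).subgroupOf C{z}).map π :=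
          k ▸ mem_top _
        have : y⁻¹ * ⟨x, hx⟩ ∈ Cfsg.pCore 2 C{z} := (ker _).1 (by rw [map_mul, map_inv, e', inv_mul_cancel])
        have := mul_mem (mem_subgroupOf.1 hy) (hQL ((mQ _).2 this))
        simpa using this
    have o := h.odd_index zD
    rw [← relIndex_mul_index le] at o
    refine psu_not n n4 _ (Nat.odd_mul.1 o).1 ?_
    rw [← Nat.card_congr φ.toEquiv, ← cC, relIndex, ← card_subgroupOf_of_le le, card_mul_index]
  · obtain ⟨V, _, _, _, -, ⟨F⟩⟩ := h.exists_fr zD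
    obtain ⟨S, c⟩ := h.co wc k t F
    obtain ⟨φ⟩ := c.iso
    have a4 : Cfsg.pCore 2 C{z} = F.ρ.ker := Subgroup.ext fun g => (mQ g).symm.trans (F.ker g).symm
    have := Nat.card_congr (e.symm.trans ((QuotientGroup.quotientMulEquivOfEq a4).trans
      ((QuotientGroup.quotientKerEquivRange F.ρ).trans φ))).toEquiv
    rw [card_omega8p, H7.card_sp] at this
    simp [Finset.prod_range_succ] at this
  · omega

end C1W
end H28
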