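import Mathlib
import Cfsg.Agent.H28.Sextet

/-! Cosets of the Golay code and the punctured code. -/

set_option autoImplicit false

namespace H28

open Cfsg Finset H9
open scoped symmDiff Pointwise

theorem exists_small_rep (s : Finset GolayPt) : ∃ t : Finset GolayPt, t.card ≤ 4 ∧ s ∆ t ∈ GC := by
  induction h : s.card using Nat.strong_induction_on generalizing s with
  | _ n ih =>
    by_cases h4 : s.card ≤ 4
    · exact ⟨s, h4, by rw [symmDiff_self]; exact empty_mem_GC⟩
    · obtain ⟨u, hu, h5⟩ := exists_subset_card_eq (s := s) (n := 5) (by omega)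
      obtain ⟨o, ho, hs⟩ := exists_octad h5
      have h1 := card_symmDiff_add s o
      have h2 : 5 ≤ (s ∩ o).card := h5 ▸ card_le_card (subset_inter hu hs)
      have h3 := ho.2
      obtain ⟨t, ht, h6⟩ := ih (s ∆ o).card (by omega) (s ∆ o) rfl
      refine ⟨t, ht, ?_⟩
      have := symmDiff_mem_GC h6 ho.1
      rwa [symmDiff_right_comm, symmDiff_symmDiff_cancel_right] at this

theorem sub_mem_iff (w v : GolayPt → ZMod 2) :
    w - v ∈ golayCode ↔ support₂ w ∆ support₂ v ∈ GC := by
  rw [← support_add, support_mem_GC, sub_eq_add_neg, ZModModule.neg_eq_self]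

theorem symmDiff_trans {s t u : Finset GolayPt} (h : s ∆ t ∈ GC) (h' : s ∆ u ∈ GC) :
    t ∆ u ∈ GC := by
  have := symmDiff_mem_GC h h'
  rwa [symmDiff_comm s t, symmDiff_assoc, symmDiff_symmDiff_cancel_left] at this

theorem ind_inj : Function.Injective ind := fun s t h => by
  rw [← support_ind s, h, support_ind]

theorem s1635 (w : GolayPt → ZMod 2) :
    ({v : GolayPt → ZMod 2 | hammingNorm v ≤ 4 ∧ w - v ∈ golayCode}.ncard = 1 ∧
      ∃ v : GolayPt → ZMod 2, hammingNorm v ≤ 3 ∧ w - v ∈ golayCode) ∨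
    ({v : GolayPt → ZMod 2 | hammingNorm v ≤ 4 ∧ w - v ∈ golayCode}.ncard = 6 ∧
      ∀ v : GolayPt → ZMod 2, w - v ∈ golayCode → hammingNorm v ≤ 4 → hammingNorm v = 4) := by
  obtain ⟨t, ht, h⟩ := exists_small_rep (support₂ w)
  simp only [sub_mem_iff, hammingNorm_eq]
  by_cases h3 : t.card ≤ 3
  · left
    refine ⟨Set.ncard_eq_one.2 ⟨ind t, ?_⟩, ind t, by simpa using h3, by simpa using h⟩
    ext v
    simp only [Set.mem_ofPred_eq, Set.mem_singleton_iff]
    constructor
    · rintro ⟨h1, h2⟩
      rw [eq_of_symmDiff_mem (symmDiff_trans h h2) (by omega), ind_support]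
    · rintro rfl
      simpa using ⟨ht, h⟩
  · right
    have h4 : t.card = 4 := by omega
    have key : ∀ v : GolayPt → ZMod 2, support₂ w ∆ support₂ v ∈ GC → (support₂ v).card ≤ 4 →
        (support₂ v).card = 4 := by
      intro v h2 h1
      by_contra hne
      have := eq_of_symmDiff_mem (symmDiff_trans h h2) (by omega)
      exact hne (this ▸ h4)
    refine ⟨?_, key⟩
    rw [← card_sext h4, ← Set.ncard_coe_finset, ← Set.ncard_image_of_injective _ ind_inj]
    congr 1
    ext v
    simp only [Set.mem_ofPred_eq, Set.mem_image, mem_coe, mem_sext]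
    constructor
    · rintro ⟨h1, h2⟩
      exact ⟨_, ⟨key v h2 h1, symmDiff_trans h h2⟩, ind_support v⟩
    · rintro ⟨u, ⟨h1, h2⟩, rfl⟩
      rw [support_ind]
      exact ⟨h1.le, symmDiff_trans (symmDiff_comm (support₂ w) t ▸ h) h2⟩

/-- the punctured word of a set of points. -/
def punc (s : Finset GolayPt) : ZMod 23 → ZMod 2 := fun x => ind s (some x)

theorem punc_code : {u : ZMod 23 → ZMod 2 | ∃ w ∈ golayCode, ∀ x : ZMod 23, u x = w (some x)} =
    punc '' GC := by
  ext u
  constructor
  · rintro ⟨w, hw, h⟩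
    exact ⟨support₂ w, support_mem_GC.2 hw, funext fun x => by rw [h, punc, ind_support]⟩
  · rintro ⟨s, hs, rfl⟩
    exact ⟨ind s, mem_GC_iff_ind.1 hs, fun _ => rfl⟩

theorem norm_punc (s : Finset GolayPt) : hammingNorm (punc s) = (s.erase none).card := by
  rw [hammingNorm]
  apply card_bij (fun x _ => some x)
  · intro x hx
    simpa [punc, ind] using hx
  · intro x _ y _ h
    exact Option.some_injective _ h
  · intro p hp
    cases p with
    | none => simp at hp
    | some x => exact ⟨x, by simpa [punc, ind] using hp, rfl⟩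

theorem punc_sub (s t : Finset GolayPt) : punc s - punc t = punc (s ∆ t) := by
  ext x
  rw [punc, ind_symmDiff, sub_eq_add_neg, ZModModule.neg_eq_self]
  rfl

theorem dist_punc (s t : Finset GolayPt) :
    hammingDist (punc s) (punc t) = hammingNorm (punc (s ∆ t)) := by
  rw [hammingDist_eq_hammingNorm, ← punc_sub, ZModModule.neg_eq_self, sub_eq_add_neg,
    ZModModule.neg_eq_self]

theorem seven_le_punc {s : Finset GolayPt} (hs : s ∈ GC) (h : s ≠ ∅) :
    7 ≤ hammingNorm (punc s) := by
  rw [norm_punc]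
  have h1 := card_of_mem_GC hs
  have h2 : s.card ≠ 0 := fun e => h (card_eq_zero.1 e)
  have h3 := pred_card_le_card_erase (s := s) (a := none)
  omega

theorem punc_injOn : Set.InjOn punc GC := by
  intro s hs t ht h
  by_contra hne
  have := seven_le_punc (symmDiff_mem_GC hs ht) fun e => hne (symmDiff_eq_bot.1 e)
  rw [← punc_sub, h, sub_self, hammingNorm_zero] at this
  omega

theorem punc_count (k : ℕ) : {u | u ∈ punc '' GC ∧ hammingNorm u = k}.ncard =
    treeCnt (fun m => (fun n => Nat.beq (pc (Nat.land 8388607 n)) k) (cw m)) 12 := by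
  rw [← ncard_GC (fun s => (s.erase none).card = k) (fun n => Nat.beq (pc (Nat.land 8388607 n)) k),
    ← Set.InjOn.ncard_image (punc_injOn.mono fun _ h => h.1)]
  · congr 1
    ext u
    constructor
    · rintro ⟨⟨s, hs, rfl⟩, h⟩
      exact ⟨s, ⟨hs, by rwa [← norm_punc]⟩, rfl⟩
    · rintro ⟨s, ⟨hs, h⟩, rfl⟩
      exact ⟨⟨s, hs, rfl⟩, by rwa [norm_punc]⟩
  · intro m _
    have : ofMask 8388607 = univ.erase none := by decide +kernel
    rw [beq_iff, ← card_inter_mask, this, erase_inter, univ_inter]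

theorem s1637 (u : ZMod 23 → ZMod 2) : ∃! c : ZMod 23 → ZMod 2, c ∈ punc '' GC ∧
    hammingDist u c ≤ 3 := by
  obtain ⟨s, rfl, hodd⟩ : ∃ s, u = punc s ∧ s.card % 2 = 1 := by
    let s0 : Finset GolayPt := support₂ fun p => p.elim 0 u
    have h0 : none ∉ s0 := by simp [s0, support₂]
    have h1 : u = punc s0 := funext fun x => by simp [punc, s0]
    by_cases h : s0.card % 2 = 1
    · exact ⟨s0, h1, h⟩
    · refine ⟨insert none s0, ?_, by rw [card_insert_of_notMem h0]; omega⟩
      rw [h1]
      ext x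
      simp [punc, ind]
  obtain ⟨t, ht, h⟩ := exists_small_rep s
  have h1 := card_symmDiff_add s t
  have h2 := card_of_mem_GC h
  have hd : hammingDist (punc s) (punc (s ∆ t)) ≤ 3 := by
    rw [dist_punc, symmDiff_symmDiff_cancel_left, norm_punc]
    have := card_erase_le (s := t) (a := none)
    omega
  refine ⟨punc (s ∆ t), ⟨⟨_, h, rfl⟩, hd⟩, ?_⟩
  rintro _ ⟨⟨c, hc, rfl⟩, hc'⟩
  by_contra hne
  have h3 := seven_le_punc (symmDiff_mem_GC hc h) fun e => hne (by rw [symmDiff_eq_bot.1 e])
  rw [← dist_punc] at h3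
  have := hammingDist_triangle_left (punc c) (punc (s ∆ t)) (punc s)
  omega

end H28
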