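import Mathlib
import Cfsg.Agent.H28.Oct

/-! Orbits of stabilisers on dodecads. -/

set_option autoImplicit false

namespace H28

open Cfsg Finset H9
open scoped symmDiff Pointwise

theorem dod_orbits {d d' d'' : Finset GolayPt} (ho : d ∈ dodecads) (ho' : d' ∈ dodecads)
    (ho'' : d'' ∈ dodecads) (h : (d ∩ d').card = (d ∩ d'').card) :
    ∃ g : Equiv.Perm GolayPt, g ∈ M24 ∧ g • d = d ∧ g • d' = d'' := by
  obtain ⟨g, hg, rfl⟩ := T_dod ho
  obtain ⟨x, rfl⟩ := MulAction.surjective g d'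
  obtain ⟨y, rfl⟩ := MulAction.surjective g d''
  rw [smul_mem_dodecads_iff hg] at ho' ho''
  rw [card_inter_smul, card_inter_smul] at h
  obtain ⟨k, hk, e⟩ := cw_class 340831 [] gD [340831, 8245261, 11472927, 16748578, 16436384] 1600 12
    (fun _ => true) (by decide +kernel) (by decide +kernel) (fun _ => True) (fun _ _ => rfl)
    ho' ho'' trivial trivial h
  exact ⟨_, conj_mem hg hk.1, conj_smul_eq (hk.2.1 _ (by simp)), conj_smul_eq e⟩

theorem dod_count {d : Finset GolayPt} (ho : d ∈ dodecads) (k : ℕ) :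
    {x | x ∈ dodecads ∧ (d ∩ x).card = k}.ncard =
      treeCnt (fun m => (fun n => Nat.beq (pc (Nat.land 340831 n)) k && Nat.beq (pc n) 12)
        (cw m)) 12 := by
  obtain ⟨g, hg, rfl⟩ := T_dod ho
  rw [ncard_smul_congr g _ (fun x => x ∈ dodecads ∧ (ofMask 340831 ∩ x).card = k)
    (fun x => by simp only [smul_mem_dodecads_iff hg, card_inter_smul])]
  exact ncard_cw 12 (fun x => (ofMask 340831 ∩ x).card = k)
    (fun n => Nat.beq (pc (Nat.land 340831 n)) k) fun n => by rw [card_inter_mask, beq_iff]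

theorem dod_count4 {d : Finset GolayPt} (ho : d ∈ dodecads) :
    {x | x ∈ dodecads ∧ (d ∩ x).card = 4}.ncard = 495 := by
  rw [dod_count ho]; decide +kernel

theorem dod_count6 {d : Finset GolayPt} (ho : d ∈ dodecads) :
    {x | x ∈ dodecads ∧ (d ∩ x).card = 6}.ncard = 1584 := by
  rw [dod_count ho]; decide +kernel

theorem dod_count8 {d : Finset GolayPt} (ho : d ∈ dodecads) :
    {x | x ∈ dodecads ∧ (d ∩ x).card = 8}.ncard = 495 := by
  rw [dod_count ho]; decide +kernel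

theorem dod_inter {d d' : Finset GolayPt} (hd : d ∈ dodecads) (hd' : d' ∈ dodecads) (h : d' ≠ d) :
    (d ∩ d').card = 0 ∨ (d ∩ d').card = 4 ∨ (d ∩ d').card = 6 ∨ (d ∩ d').card = 8 := by
  have h0 := card_symmDiff_add d d'
  have h3 := card_of_mem_GC (symmDiff_mem_GC hd.1 hd'.1)
  have h4 : (d ∆ d').card ≠ 0 := by
    rw [Ne, Finset.card_eq_zero]
    exact fun h' => h (symmDiff_eq_bot.1 h').symm
  rw [hd.2, hd'.2] at h0
  omega

theorem compl_mem_dodecads {d : Finset GolayPt} (hd : d ∈ dodecads) : dᶜ ∈ dodecads :=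
  ⟨compl_mem_GC hd.1, by rw [card_compl, card_golayPt, hd.2]⟩

theorem s1639 (x : GolayPt) (d : Finset GolayPt) (hd : d ∈ dodecads) (hx : x ∈ d) :
    {d' : Finset GolayPt | d' ∈ dodecads ∧ x ∈ d' ∧ (d ∩ d').card = 4}.ncard = 165 ∧
    {d' : Finset GolayPt | d' ∈ dodecads ∧ x ∈ d' ∧ (d ∩ d').card = 8}.ncard = 330 ∧
    {d' : Finset GolayPt | d' ∈ dodecads ∧ x ∈ d' ∧ (d ∩ d').card = 6}.ncard = 792 ∧
    ∀ d' d'' : Finset GolayPt, d' ∈ dodecads → d'' ∈ dodecads → x ∈ d' → x ∈ d'' →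
      (d ∩ d').card = (d ∩ d'').card →
      ∃ g : Equiv.Perm GolayPt, g ∈ M24 ∧ g x = x ∧ g • d = d ∧ g • d' = d'' := by
  obtain ⟨g, hg, rfl, rfl⟩ := T_dod_in hd hx
  have hc : ∀ k, {x : Finset GolayPt | x ∈ dodecads ∧ g (pt 0) ∈ x ∧
      (g • ofMask 340831 ∩ x).card = k}.ncard = treeCnt (fun m => (fun n =>
        (tb n 0 && Nat.beq (pc (Nat.land 340831 n)) k) && Nat.beq (pc n) 12)
        (cw m)) 12 := by
    intro k
    rw [ncard_smul_congr g _ (fun x => x ∈ dodecads ∧ pt 0 ∈ x ∧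
      (ofMask 340831 ∩ x).card = k)
      (fun x => by simp only [smul_mem_dodecads_iff hg, card_inter_smul, smul_mem_smul'])]
    exact ncard_cw 12 (fun x => pt 0 ∈ x ∧ (ofMask 340831 ∩ x).card = k)
      (fun n => tb n 0 && Nat.beq (pc (Nat.land 340831 n)) k) fun n => by
        rw [card_inter_mask, Bool.and_eq_true, beq_iff, pt_mem_iff (by norm_num)]
  refine ⟨by rw [hc]; decide +kernel, by rw [hc]; decide +kernel, by rw [hc]; decide +kernel, ?_⟩
  intro o' o'' ho' ho'' h1 h2 h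
  obtain ⟨x, rfl⟩ := MulAction.surjective g o'
  obtain ⟨y, rfl⟩ := MulAction.surjective g o''
  rw [smul_mem_dodecads_iff hg] at ho' ho''
  rw [card_inter_smul, card_inter_smul] at h
  simp only [smul_mem_smul'] at h1 h2
  obtain ⟨k, hk, e⟩ := cw_class 340831 [1] gD0 [340831, 8245261, 11472927, 15974505] 800 12
    (fun n => tb n 0) (by decide +kernel) (by decide +kernel)
    (fun x => pt 0 ∈ x) (fun n h => by rwa [← pt_mem_iff (by norm_num)])
    ho' ho'' h1 h2 h
  exact ⟨_, conj_mem hg hk.1,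
    conj_apply_fix (fix_of_smul 0 (by norm_num) (hk.2.1 1 (by simp)) (by norm_num)),
    conj_smul_eq (hk.2.1 _ (by simp)), conj_smul_eq e⟩

end H28
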