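import Mathlib
import Cfsg.Agent.H28.Dod

/-! The stabiliser of a pair of complementary dodecads is maximal. -/

set_option autoImplicit false

namespace H28

open Cfsg Finset H9
open scoped symmDiff Pointwise

/-- the pair formed by a set and its complement. -/
def dpair (e : Finset GolayPt) : Finset (Finset GolayPt) := {e, eᶜ}

theorem smul_dpair (g : Equiv.Perm GolayPt) (e : Finset GolayPt) : g • dpair e = dpair (g • e) := by
  simp [dpair, smul_finset_insert, smul_compl']

theorem dpair_compl (e : Finset GolayPt) : dpair eᶜ = dpair e := by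
  simp [dpair, pair_comm]

theorem ne_compl' (e : Finset GolayPt) : e ≠ eᶜ := by
  intro h
  have : (none : GolayPt) ∈ e ↔ (none : GolayPt) ∈ eᶜ := by rw [← h]
  simp at this

theorem ncard_dpair (P : Finset (Finset GolayPt) → Prop) :
    {y | y ∈ dpair '' dodecads ∧ P y}.ncard =
      {e | e ∈ dodecads ∧ (pt 0 ∈ e ∧ P (dpair e))}.ncard := by
  have : {y | y ∈ dpair '' dodecads ∧ P y} =
      dpair '' {e | e ∈ dodecads ∧ (pt 0 ∈ e ∧ P (dpair e))} := by
    ext y
    constructor
    · rintro ⟨⟨e, he, rfl⟩, h⟩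
      by_cases h0 : pt 0 ∈ e
      · exact ⟨e, ⟨he, h0, h⟩, rfl⟩
      · exact ⟨eᶜ, ⟨compl_mem_dodecads he, mem_compl.2 h0, by rwa [dpair_compl]⟩, dpair_compl e⟩
    · rintro ⟨e, ⟨he, _, h⟩, rfl⟩
      exact ⟨⟨e, he, rfl⟩, h⟩
  rw [this, Set.InjOn.ncard_image]
  intro e he e' he' h
  have h1 : e ∈ dpair e' := h ▸ mem_insert_self _ _
  simp only [dpair, mem_insert, mem_singleton] at h1
  rcases h1 with h1 | h1
  · exact h1
  · have := he.2.1
    rw [h1] at this
    exact absurd he'.2.1 (mem_compl.1 this)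

theorem cl_dpair {d e : Finset GolayPt} (hd : d.card = 12) :
    ∑ s ∈ dpair e, (d ∩ s).card ^ 2 = (d ∩ e).card ^ 2 + (12 - (d ∩ e).card) ^ 2 := by
  rw [dpair, sum_pair (ne_compl' e)]
  have : (d ∩ eᶜ).card = 12 - (d ∩ e).card := by
    have := card_sdiff_add_card_inter d e
    rw [← sdiff_eq_inter_compl]
    omega
  rw [this]

theorem dpair_coatom {d : Finset GolayPt} (hd : d ∈ dodecads) :
    IsCoatom (MulAction.stabilizer M24 (dpair d)) := by
  obtain ⟨g, hg, rfl⟩ := T_dod hd
  rw [← smul_dpair]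
  refine isCoatom_stabilizer_smul (⟨g, hg⟩ : M24) _ ?_
  have hD := D0_mem
  have hcnt : ∀ i, {y | y ∈ dpair '' dodecads ∧
      ∑ s ∈ y, (ofMask 340831 ∩ s).card ^ 2 = i}.ncard = treeCnt (fun m => (fun n =>
        (tb n 0 && force (pc (Nat.land 340831 n)) fun k =>
          Nat.beq (k ^ 2 + (12 - k) ^ 2) i) && Nat.beq (pc n) 12) (cw m)) 12 := by
    intro i
    rw [ncard_dpair]
    exact ncard_cw 12 (fun e => pt 0 ∈ e ∧ ∑ s ∈ dpair e, (ofMask 340831 ∩ s).card ^ 2 = i)
      (fun n => tb n 0 && force (pc (Nat.land 340831 n)) fun k =>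
          Nat.beq (k ^ 2 + (12 - k) ^ 2) i) fun n => by
        rw [cl_dpair hD.2, card_inter_mask, Bool.and_eq_true, force_eq, beq_iff,
          pt_mem_iff (by norm_num)]
  refine isCoatom_of_classes _ (dpair '' dodecads) ?_
    (fun y => ∑ s ∈ y, (ofMask 340831 ∩ s).card ^ 2) {72, 80, 144}
    (fun i => if i = 72 then 792 else if i = 80 then 495 else 1) 1288 144
    ?_ (by norm_num) ?_ ?_ ?_ ?_ rfl (by decide +kernel)
  · rw [← orbit_dodecad hD]
    ext y
    constructor
    · rintro ⟨g, rfl⟩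
      exact ⟨_, ⟨g, rfl⟩, (smul_dpair _ _).symm⟩
    · rintro ⟨_, ⟨g, rfl⟩, rfl⟩
      exact ⟨g, smul_dpair _ _⟩
  · have := ncard_dpair (fun _ => True)
    simp only [and_true, Set.ofPred_mem_eq] at this
    rw [this]
    refine (ncard_cw 12 (fun e => pt 0 ∈ e) (fun n => tb n 0)
      fun n => pt_mem_iff (by norm_num) n).trans ?_
    decide +kernel
  · simp only [cl_dpair hD.2, inter_self, hD.2]; norm_num
  · rintro _ ⟨e, he, rfl⟩
    simp only [cl_dpair hD.2]
    by_cases h : e = ofMask 340831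
    · rw [h, inter_self, hD.2]; simp
    · rcases dod_inter hD he h with h | h | h | h <;> rw [h] <;> simp
  · rintro _ ⟨e, he, rfl⟩ _ ⟨e', he', rfl⟩ h
    simp only [cl_dpair hD.2] at h
    have h1 : (ofMask 340831 ∩ e).card ≤ 12 := hD.2 ▸ card_le_card inter_subset_left
    have h2 : (ofMask 340831 ∩ e').card ≤ 12 := hD.2 ▸ card_le_card inter_subset_left
    have h3 : ∀ a ≤ 12, ∀ b ≤ 12, a ^ 2 + (12 - a) ^ 2 = b ^ 2 + (12 - b) ^ 2 →
        a = b ∨ a = 12 - b := by decide +kernel
    rcases h3 _ h1 _ h2 h with h | h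
    · obtain ⟨g, hg, h4, h5⟩ := dod_orbits hD he he' h
      exact ⟨⟨g, hg⟩, (smul_dpair g _).trans (by rw [h4]), (smul_dpair g _).trans (by rw [h5])⟩
    · obtain ⟨g, hg, h4, h5⟩ := dod_orbits hD he (compl_mem_dodecads he') (by
        have := card_sdiff_add_card_inter (ofMask 340831) e'
        rw [← sdiff_eq_inter_compl]
        have := hD.2
        omega)
      exact ⟨⟨g, hg⟩, (smul_dpair g _).trans (by rw [h4]),
        (smul_dpair g _).trans (by rw [h5, dpair_compl])⟩
  · intro i hi hi'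
    rw [hcnt]
    simp only [mem_insert, mem_singleton] at hi
    rcases hi with rfl | rfl | rfl
    · decide +kernel
    · decide +kernel
    · exact absurd rfl hi'

end H28
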