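import Mathlib
import Cfsg.Agent.H29.Ext

set_option autoImplicit false
set_option maxRecDepth 100000
set_option Elab.async false
set_option linter.all false

namespace H28.HTpp1

open H29

noncomputable def n0 : Net := ben 6 [(nat_lit 0xc47f0dd000c00f0),
 (nat_lit 0x551a55002000b0),
 (nat_lit 0x66130688000002),
 (nat_lit 0xd0f1010f0f00000),
 (nat_lit 0x68906c9900000000),
 (nat_lit 0x18f4f000)]
noncomputable def t0 : List ℕ := [(nat_lit 0x721185e2aa20a0c),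
 (nat_lit 0x262ca0440ba32fb0),
 (nat_lit 0x22db91234440000),
 (nat_lit 0x0)]
noncomputable def d0 : ℕ := (nat_lit 0x589242a000000040)
noncomputable def n1 : Net := ben 6 [(nat_lit 0x33315f75f0c5030),
 (nat_lit 0xb1b037a07523a00),
 (nat_lit 0x8a007788042200),
 (nat_lit 0x88e8e00000024),
 (nat_lit 0x610069080008100),
 (nat_lit 0x6108800)]
noncomputable def t1 : List ℕ := [(nat_lit 0x1e187681f0a6624a),
 (nat_lit 0x7864982c0e768b0),
 (nat_lit 0x7ffe062c02180000),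
 (nat_lit 0x0)]
noncomputable def d1 : ℕ := (nat_lit 0x1005008008400)
noncomputable def n2 : Net := ben 6 [(nat_lit 0x0),
 (nat_lit 0x0),
 (nat_lit 0x0),
 (nat_lit 0x0),
 (nat_lit 0x0),
 (nat_lit 0x0)]
noncomputable def t2 : List ℕ := [(nat_lit 0x494f1cb4a9d5aa8e),
 (nat_lit 0x6b0068029f6bff0),
 (nat_lit 0x7fffff7fd6084000),
 (nat_lit 0x0)]
noncomputable def d2 : ℕ := (nat_lit 0x0)
noncomputable def n3 : Net := ben 6 [(nat_lit 0x1f5400154c0f3300),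
 (nat_lit 0x5faa0000020a0f00),
 (nat_lit 0x10600cc00151500),
 (nat_lit 0x8808047470000),
 (nat_lit 0x4006408000c7b8),
 (nat_lit 0x408000)]
noncomputable def t3 : List ℕ := [(nat_lit 0x328515b0292ac036),
 (nat_lit 0x7ab40584af009540),
 (nat_lit 0x2b5fc7010000000),
 (nat_lit 0x0)]
noncomputable def d3 : ℕ := (nat_lit 0x540000a00d50000)
noncomputable def n4 : Net := ben 6 [(nat_lit 0xc1035dcf0156425),
 (nat_lit 0x200a3025a00fff0),
 (nat_lit 0xdd11558a03470c),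
 (nat_lit 0x404109080800084),
 (nat_lit 0x1140116100004800),
 (nat_lit 0x15c00000)]
noncomputable def t4 : List ℕ := [(nat_lit 0x2fc4c901c4928640),
 (nat_lit 0x2645c08984d22090),
 (nat_lit 0x5f97802600000000),
 (nat_lit 0x0)]
noncomputable def d4 : ℕ := (nat_lit 0x28340030285022)
noncomputable def n5 : Net := ben 6 [(nat_lit 0x3cc380c50c14330),
 (nat_lit 0x5a1c05a57030a1),
 (nat_lit 0x668888885788750a),
 (nat_lit 0x11f000860700032),
 (nat_lit 0x480048180000760),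
 (nat_lit 0x44808300)]
noncomputable def t5 : List ℕ := [(nat_lit 0x18d2020102642480),
 (nat_lit 0x5cca744158748a20),
 (nat_lit 0x5cfb663240102000),
 (nat_lit 0x100000000000000)]
noncomputable def d5 : ℕ := (nat_lit 0x2200890485020114)
noncomputable def n7 : Net := ben 6 [(nat_lit 0x303d35c351005565),
 (nat_lit 0x5000502a30000053),
 (nat_lit 0xcc000000000006),
 (nat_lit 0x206088c800000000),
 (nat_lit 0x80078c000000000),
 (nat_lit 0x8000000)]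
noncomputable def t7 : List ℕ := [(nat_lit 0x6b58739490d50036),
 (nat_lit 0x44a34c0090f6c000),
 (nat_lit 0x1ff31f7e04080000),
 (nat_lit 0x0)]
noncomputable def d7 : ℕ := (nat_lit 0x4000142002a88)
def ivl : List ℕ := []
def cols : List ℕ := [0, 1, 2, 3, 4, 5, 7]
def hcols : List ℕ := [0, 1, 2, 3]
def G0 : List (List ℕ) := [[0, 1, 0, 1, 0, 1, 0, 1],
 [0, 2, 0, 2],
 [1, 2, 1, 2, 1, 2, 1, 2],
 [0, 1, 0, 2, 1, 0, 2, 1, 0, 2, 1, 2],
 [0, 3, 0, 3],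
 [1, 3, 1, 3],
 [2, 3, 2, 3, 2, 3, 2, 3],
 [1, 2, 1, 3, 2, 1, 3, 2, 1, 3, 2, 3],
 [2, 4, 2, 4],
 [3, 4, 3, 4],
 [1, 4, 1, 4],
 [0, 4, 0, 4, 0, 4],
 [0, 1, 0, 1, 4, 0, 1, 0, 4],
 [3, 5, 3, 5],
 [1, 5, 1, 5, 1, 5],
 [0, 1, 0, 1, 5, 0, 5],
 [1, 2, 1, 2, 5, 2, 5],
 [0, 7, 0, 7],
 [1, 7, 1, 7],
 [2, 7, 2, 7],
 [3, 7, 3, 7, 3, 7],
 [2, 3, 2, 3, 7, 3, 2, 3, 7],
 [4, 7, 4, 7],
 [5, 7, 5, 7],
 [4, 5, 4, 5, 4, 5, 4, 5],
 [1, 4, 5, 1, 4, 5, 4, 1, 5]]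
def R0 : List (List ℕ) := G0
theorem hii : ∀ c, ivOf ivl (ivOf ivl c) = c := ivOf_ivOf (by decide +kernel)
theorem der : Derives (ivOf ivl) R0 R0 := Derives.refl _ _
noncomputable def nl : List Net := [n0, n1, n2, n3, n4, n5, Net.nil, n7]
noncomputable def T : TCData := ⟨63, 63, 6, 4, nth Net.nil nl, ivOf ivl, cols, hcols, R0,
  nth [] [t0, t1, t2, t3, t4, t5, [], t7], nth 0 [d0, d1, d2, d3, d4, d5, 0, d7]⟩
theorem hn : NetsOK 63 (nth Net.nil nl) := netsOK_of_all (by decide +kernel)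
theorem hiv : IvOK (sg (nth Net.nil nl)) (ivOf ivl) :=
  ivOK_of_chk (k := 6) hn (by decide) (n := 8) (by decide) (by decide) (allN_true.1 (by decide +kernel))
theorem hb : T.Basic := TCData.basic_of_chk hn hiv (by decide +kernel)
theorem hG0 : ∀ r ∈ G0, ev (sg (nth Net.nil nl)) r = 1 :=
  rels_of_chk (k := 6) hn (by decide) hiv (allN_true.1 (by decide +kernel))
noncomputable def s0 : List TCData.Step := [.pts 0 0 0 6 [45],
 .all 4 0 0,
 .pts 12 0 0 5 [44],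
 .pts 15 0 0 6 [50],
 .pts 15 2 0 2 [10],
 .pts 15 2 0 3 [27],
 .pts 15 2 0 5 [29, 33],
 .all 15 5 0,
 .all 17 0 0]
noncomputable def s1 : List TCData.Step := [.all 5 0 0,
 .all 10 0 0,
 .pts 12 1 0 3 [39, 46],
 .pts 12 1 0 6 [56],
 .pts 12 3 0 5 [41],
 .pts 12 6 0 1 [6],
 .pts 14 0 0 7 [57],
 .pts 15 3 0 4 [37],
 .pts 15 3 0 6 [49],
 .all 18 0 0,
 .pts 25 0 0 2 [40],
 .pts 25 3 0 3 [31],
 .pts 25 3 0 4 [34]]
noncomputable def s2 : List TCData.Step := [.all 1 1 0,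
 .all 8 0 0,
 .all 16 1 0,
 .all 16 5 0,
 .all 19 0 0,
 .all 21 6 0]
noncomputable def s3 : List TCData.Step := [.all 4 1 0,
 .all 5 1 0,
 .all 9 0 0,
 .all 13 0 0]
noncomputable def s4 : List TCData.Step := [.all 9 1 0,
 .pts 10 1 0 1 [10],
 .all 11 1 0,
 .pts 12 4 0 7 [47],
 .pts 12 8 0 6 [48],
 .pts 12 8 0 7 [50],
 .all 22 0 0,
 .pts 24 0 0 1 [40],
 .pts 24 0 0 7 [57],
 .pts 25 4 0 3 [32],
 .pts 25 4 0 4 [33]]
noncomputable def s5 : List TCData.Step := [.all 13 1 0,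
 .pts 14 1 0 1 [10],
 .pts 14 1 0 2 [27, 38],
 .pts 14 1 0 4 [36, 48],
 .pts 15 4 0 5 [13],
 .pts 15 4 0 6 [30, 45, 51],
 .pts 15 4 0 7 [55],
 .pts 15 6 0 4 [37],
 .pts 15 6 0 7 [49],
 .all 23 0 0,
 .pts 25 5 0 4 [53],
 .pts 25 5 0 5 [52],
 .pts 25 8 0 2 [15, 44]]
noncomputable def s7 : List TCData.Step := [.all 17 1 0,
 .all 18 1 0,
 .all 20 1 0,
 .all 22 1 0,
 .all 23 1 0]
theorem hR0 : ∀ r ∈ R0, ev (sg (nth Net.nil nl)) r = 1 := hG0
theorem col0 : T.ColOK 0 := TCData.colOK_of_chk (U := (T.stepsMask 0 s0 (T.mask0 0))) (V := (T.stepsMask 0 s0 (T.mask0 0))) hb (TCData.cov_stepsMask hb (by decide) s0 _ (T.cov_mask0 0)) (TCData.cov_stepsMask hb (by decide) s0 _ (T.cov_mask0 0)) (by decide +kernel)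
theorem col1 : T.ColOK 1 := TCData.colOK_of_chk (U := (T.stepsMask 1 s1 (T.mask0 1))) (V := (T.stepsMask 1 s1 (T.mask0 1))) hb (TCData.cov_stepsMask hb (by decide) s1 _ (T.cov_mask0 1)) (TCData.cov_stepsMask hb (by decide) s1 _ (T.cov_mask0 1)) (by decide +kernel)
theorem col2 : T.ColOK 2 := TCData.colOK_of_chk (U := (T.stepsMask 2 s2 (T.mask0 2))) (V := (T.stepsMask 2 s2 (T.mask0 2))) hb (TCData.cov_stepsMask hb (by decide) s2 _ (T.cov_mask0 2)) (TCData.cov_stepsMask hb (by decide) s2 _ (T.cov_mask0 2)) (by decide +kernel)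
theorem col3 : T.ColOK 3 := TCData.colOK_of_chk (U := (T.stepsMask 3 s3 (T.mask0 3))) (V := (T.stepsMask 3 s3 (T.mask0 3))) hb (TCData.cov_stepsMask hb (by decide) s3 _ (T.cov_mask0 3)) (TCData.cov_stepsMask hb (by decide) s3 _ (T.cov_mask0 3)) (by decide +kernel)
theorem col4 : T.ColOK 4 := TCData.colOK_of_chk (U := (T.stepsMask 4 s4 (T.mask0 4))) (V := (T.stepsMask 4 s4 (T.mask0 4))) hb (TCData.cov_stepsMask hb (by decide) s4 _ (T.cov_mask0 4)) (TCData.cov_stepsMask hb (by decide) s4 _ (T.cov_mask0 4)) (by decide +kernel)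
theorem col5 : T.ColOK 5 := TCData.colOK_of_chk (U := (T.stepsMask 5 s5 (T.mask0 5))) (V := (T.stepsMask 5 s5 (T.mask0 5))) hb (TCData.cov_stepsMask hb (by decide) s5 _ (T.cov_mask0 5)) (TCData.cov_stepsMask hb (by decide) s5 _ (T.cov_mask0 5)) (by decide +kernel)
theorem col7 : T.ColOK 7 := TCData.colOK_of_chk (U := (T.stepsMask 7 s7 (T.mask0 7))) (V := (T.stepsMask 7 s7 (T.mask0 7))) hb (TCData.cov_stepsMask hb (by decide) s7 _ (T.cov_mask0 7)) (TCData.cov_stepsMask hb (by decide) s7 _ (T.cov_mask0 7)) (by decide +kernel)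
theorem ok : T.OK := ⟨hb, TCData.treeOK_of_chk hn (by decide +kernel), (List.forall_mem_cons.2 ⟨col0, (List.forall_mem_cons.2 ⟨col1, (List.forall_mem_cons.2 ⟨col2, (List.forall_mem_cons.2 ⟨col3, (List.forall_mem_cons.2 ⟨col4, (List.forall_mem_cons.2 ⟨col5, (List.forall_mem_cons.2 ⟨col7, (fun _ h => absurd h List.not_mem_nil)⟩)⟩)⟩)⟩)⟩)⟩)⟩), der _ _ hiv hR0⟩
theorem bd {G : Type} [Group G] {e : ℕ → G} (h1 : IvOK e (ivOf ivl)) (h2 : ∀ r ∈ R0, ev e r = 1)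
    {m : ℕ} (h : Bd (gen e hcols) m) : Bd (gen e cols) (63 * m) := ok.bd h1 (der G e h1 h2) h
theorem cm {G : Type} [Group G] {e : ℕ → G} (h1 : IvOK e (ivOf ivl)) (h2 : ∀ r ∈ R0, ev e r = 1)
    (h3 : gen e cols = ⊤) {ρ : G →* Equiv.Perm ℕ} (h4 : ∀ c, ρ (e c) = sg (nth Net.nil nl) c) :
    CosetModel ρ (gen e hcols) 63 := ok.cosetModel h1 (der G e h1 h2) h3 fun c _ => h4 c

end H28.HTpp1
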