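import Mathlib
import Cfsg.Agent.H29.Ext

set_option autoImplicit false
set_option maxRecDepth 100000
set_option Elab.async false
set_option linter.all false

namespace H28.HTpq1

open H29

noncomputable def n0 : Net := ben 6 [(nat_lit 0x3cc3f3d3d00c00c0),
 (nat_lit 0x3101052507500b0),
 (nat_lit 0x1166aa0099008802),
 (nat_lit 0x487ed0d720200000),
 (nat_lit 0x204aaa8000c800),
 (nat_lit 0x4961f800)]
noncomputable def t0 : List ℕ := [(nat_lit 0x102150404ee50024),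
 (nat_lit 0x1225525a69a14528),
 (nat_lit 0x12615a1a66460a00),
 (nat_lit 0x4180a00000100000)]
noncomputable def d0 : ℕ := (nat_lit 0x2c0a05a0000000c0)
noncomputable def n1 : Net := ben 6 [(nat_lit 0x155334f57f0c5000),
 (nat_lit 0xa1070a7523a00),
 (nat_lit 0x88026688042200),
 (nat_lit 0x868600100024),
 (nat_lit 0x600068080008900),
 (nat_lit 0x6008000)]
noncomputable def t1 : List ℕ := [(nat_lit 0xc058dace27808ea),
 (nat_lit 0x30026080002108b0),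
 (nat_lit 0x3c0e6d23c29ef000),
 (nat_lit 0x40c0000000000000)]
noncomputable def d1 : ℕ := (nat_lit 0x220105018000400)
noncomputable def n2 : Net := ben 6 [(nat_lit 0x0),
 (nat_lit 0x0),
 (nat_lit 0x0),
 (nat_lit 0x0),
 (nat_lit 0x0),
 (nat_lit 0x0)]
noncomputable def t2 : List ℕ := [(nat_lit 0x36eea6aa2d572a8e),
 (nat_lit 0x18b1f89849763ff0),
 (nat_lit 0x3fffff77f688c000),
 (nat_lit 0x4000000000000000)]
noncomputable def d2 : ℕ := (nat_lit 0x0)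
noncomputable def n3 : Net := ben 6 [(nat_lit 0x1433d0115c0f3330),
 (nat_lit 0x5a51a00f020a0f00),
 (nat_lit 0x170202cc00151500),
 (nat_lit 0x4040808047470000),
 (nat_lit 0x4041408000c7b8),
 (nat_lit 0x408000)]
noncomputable def t3 : List ℕ := [(nat_lit 0x667985880f0a4026),
 (nat_lit 0x4031b9b809221570),
 (nat_lit 0x4379bd7406008000),
 (nat_lit 0x80000000000000)]
noncomputable def d3 : ℕ := (nat_lit 0x1004400320d50000)
noncomputable def n4 : Net := ben 6 [(nat_lit 0xf034ffc0156415),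
 (nat_lit 0xf510fa2a00fff0),
 (nat_lit 0xdd02554447470c),
 (nat_lit 0x49495ada00040084),
 (nat_lit 0x1200122400000000),
 (nat_lit 0x5b004800)]
noncomputable def t4 : List ℕ := [(nat_lit 0x16847201610086d8),
 (nat_lit 0x3ab200a00300a4a0),
 (nat_lit 0x3ebe732273920000),
 (nat_lit 0x4100000000000000)]
noncomputable def d4 : ℕ := (nat_lit 0x41880c80285002)
noncomputable def n5 : Net := ben 6 [(nat_lit 0xf01000000cdc300),
 (nat_lit 0x1a50ad02057020a1),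
 (nat_lit 0xcaaffff001108),
 (nat_lit 0x80820d020740052),
 (nat_lit 0x8400c4800004060),
 (nat_lit 0x840e100)]
noncomputable def t5 : List ℕ := [(nat_lit 0x488d43120141610),
 (nat_lit 0xce8094a08004238),
 (nat_lit 0xea89d3d32649880),
 (nat_lit 0x2003000000000000)]
noncomputable def d5 : ℕ := (nat_lit 0x4110220045020104)
noncomputable def n7 : Net := ben 6 [(nat_lit 0x5540cc531005555),
 (nat_lit 0x3300723a0000053),
 (nat_lit 0x450008000006),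
 (nat_lit 0x4000000000),
 (nat_lit 0x0),
 (nat_lit 0x0)]
noncomputable def t7 : List ℕ := [(nat_lit 0x3f60a1ff245700c0),
 (nat_lit 0x3f6ffe09407600c0),
 (nat_lit 0x3f6ffff6fc880000),
 (nat_lit 0x4000000000000000)]
noncomputable def d7 : ℕ := (nat_lit 0x8000000200aa38)
def ivl : List ℕ := []
def cols : List ℕ := [0, 1, 2, 3, 4, 5, 7]
def hcols : List ℕ := [0, 1, 2, 3]
def G0 : List (List ℕ) := [[0, 1, 0, 1, 0, 1, 0, 1],
 [0, 2, 0, 2],
 [1, 2, 1, 2, 1, 2, 1, 2],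
 [0, 1, 0, 2, 1, 0, 2, 1, 0, 2, 1, 2],
 [0, 3, 0, 3],
 [1, 3, 1, 3],
 [2, 3, 2, 3, 2, 3, 2, 3],
 [1, 2, 1, 3, 2, 1, 3, 2, 1, 3, 2, 3],
 [2, 4, 2, 4],
 [3, 4, 3, 4],
 [1, 4, 1, 4],
 [0, 4, 0, 4, 0, 4],
 [0, 1, 0, 1, 4, 0, 1, 0, 4],
 [3, 5, 3, 5],
 [1, 5, 1, 5, 1, 5],
 [0, 1, 0, 1, 5, 0, 5],
 [1, 2, 1, 2, 5, 2, 5],
 [2, 7, 2, 7],
 [3, 7, 3, 7, 3, 7],
 [2, 3, 2, 3, 7, 3, 2, 3, 7],
 [0, 1, 2, 1, 0, 1, 2, 7, 1, 7],
 [0, 1, 7, 1, 0, 2, 7],
 [2, 4, 7, 4, 7],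
 [1, 5, 7, 5, 1, 7],
 [4, 5, 4, 5, 4, 5, 4, 5],
 [1, 4, 5, 1, 4, 5, 4, 1, 5]]
def R0 : List (List ℕ) := G0
theorem hii : ∀ c, ivOf ivl (ivOf ivl c) = c := ivOf_ivOf (by decide +kernel)
theorem der : Derives (ivOf ivl) R0 R0 := Derives.refl _ _
noncomputable def nl : List Net := [n0, n1, n2, n3, n4, n5, Net.nil, n7]
noncomputable def T : TCData := ⟨63, 63, 6, 4, nth Net.nil nl, ivOf ivl, cols, hcols, R0,
  nth [] [t0, t1, t2, t3, t4, t5, [], t7], nth 0 [d0, d1, d2, d3, d4, d5, 0, d7]⟩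
theorem hn : NetsOK 63 (nth Net.nil nl) := netsOK_of_all (by decide +kernel)
theorem hiv : IvOK (sg (nth Net.nil nl)) (ivOf ivl) :=
  ivOK_of_chk (k := 6) hn (by decide) (n := 8) (by decide) (by decide) (allN_true.1 (by decide +kernel))
theorem hb : T.Basic := TCData.basic_of_chk hn hiv (by decide +kernel)
theorem hG0 : ∀ r ∈ G0, ev (sg (nth Net.nil nl)) r = 1 :=
  rels_of_chk (k := 6) hn (by decide) hiv (allN_true.1 (by decide +kernel))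
noncomputable def s0 : List TCData.Step := [.all 4 0 0,
 .pts 11 0 0 4 [43],
 .pts 11 0 0 7 [44],
 .pts 12 0 0 8 [47],
 .pts 12 7 0 7 [60],
 .pts 12 7 0 8 [56],
 .pts 15 2 0 2 [10],
 .pts 15 2 0 3 [27],
 .pts 15 2 0 6 [35, 36],
 .all 15 5 0,
 .pts 21 0 0 4 [11],
 .pts 21 4 0 2 [3]]
noncomputable def s1 : List TCData.Step := [.all 5 0 0,
 .all 10 0 0,
 .pts 12 1 0 3 [7],
 .pts 12 1 0 5 [40],
 .pts 12 3 0 4 [12],
 .pts 12 3 0 8 [54],
 .all 12 6 0,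
 .pts 15 1 0 5 [59],
 .pts 20 8 0 1 [3],
 .pts 20 8 0 3 [5],
 .pts 21 3 0 5 [25],
 .pts 25 0 0 6 [46],
 .pts 25 3 0 4 [33]]
noncomputable def s2 : List TCData.Step := [.all 1 1 0,
 .all 8 0 0,
 .all 16 1 0,
 .pts 16 3 0 5 [33],
 .all 16 5 0,
 .all 17 0 0,
 .pts 19 2 0 4 [23],
 .all 19 6 0,
 .pts 20 2 0 6 [59],
 .pts 20 2 0 7 [60],
 .pts 22 0 0 4 [14, 15, 32]]
noncomputable def s3 : List TCData.Step := [.all 4 1 0,
 .all 5 1 0,
 .all 9 0 0,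
 .all 13 0 0,
 .pts 18 0 0 8 [55]]
noncomputable def s4 : List TCData.Step := [.all 9 1 0,
 .pts 10 1 0 6 [59],
 .all 11 1 0,
 .pts 12 4 0 6 [25, 53],
 .pts 12 8 0 7 [57],
 .pts 22 1 0 3 [10],
 .pts 22 1 0 7 [24],
 .pts 22 1 0 8 [56],
 .pts 22 3 0 1 [4],
 .pts 22 3 0 2 [13],
 .pts 24 0 0 5 [45],
 .pts 25 1 0 5 [44],
 .pts 25 6 0 4 [33]]
noncomputable def s5 : List TCData.Step := [.all 13 1 0,
 .all 14 1 0,
 .pts 15 4 0 5 [12],
 .pts 15 4 0 6 [35, 40],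
 .pts 15 6 0 5 [37],
 .pts 15 6 0 7 [58],
 .pts 15 6 0 8 [61],
 .all 23 1 0,
 .pts 25 5 0 2 [54],
 .pts 25 5 0 4 [34],
 .pts 25 8 0 5 [47]]
noncomputable def s7 : List TCData.Step := [.all 18 1 0,
 .pts 20 7 0 4 [27],
 .pts 21 2 0 6 [51],
 .pts 21 2 0 7 [60],
 .all 21 6 0,
 .all 22 2 0,
 .pts 22 4 0 7 [53],
 .all 23 2 0,
 .pts 23 5 0 5 [36],
 .pts 23 5 0 6 [43],
 .pts 23 5 0 7 [57]]
theorem hR0 : ∀ r ∈ R0, ev (sg (nth Net.nil nl)) r = 1 := hG0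
theorem col0 : T.ColOK 0 := TCData.colOK_of_chk (U := (T.stepsMask 0 s0 (T.mask0 0))) (V := (T.stepsMask 0 s0 (T.mask0 0))) hb (TCData.cov_stepsMask hb (by decide) s0 _ (T.cov_mask0 0)) (TCData.cov_stepsMask hb (by decide) s0 _ (T.cov_mask0 0)) (by decide +kernel)
theorem col1 : T.ColOK 1 := TCData.colOK_of_chk (U := (T.stepsMask 1 s1 (T.mask0 1))) (V := (T.stepsMask 1 s1 (T.mask0 1))) hb (TCData.cov_stepsMask hb (by decide) s1 _ (T.cov_mask0 1)) (TCData.cov_stepsMask hb (by decide) s1 _ (T.cov_mask0 1)) (by decide +kernel)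
theorem col2 : T.ColOK 2 := TCData.colOK_of_chk (U := (T.stepsMask 2 s2 (T.mask0 2))) (V := (T.stepsMask 2 s2 (T.mask0 2))) hb (TCData.cov_stepsMask hb (by decide) s2 _ (T.cov_mask0 2)) (TCData.cov_stepsMask hb (by decide) s2 _ (T.cov_mask0 2)) (by decide +kernel)
theorem col3 : T.ColOK 3 := TCData.colOK_of_chk (U := (T.stepsMask 3 s3 (T.mask0 3))) (V := (T.stepsMask 3 s3 (T.mask0 3))) hb (TCData.cov_stepsMask hb (by decide) s3 _ (T.cov_mask0 3)) (TCData.cov_stepsMask hb (by decide) s3 _ (T.cov_mask0 3)) (by decide +kernel)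
theorem col4 : T.ColOK 4 := TCData.colOK_of_chk (U := (T.stepsMask 4 s4 (T.mask0 4))) (V := (T.stepsMask 4 s4 (T.mask0 4))) hb (TCData.cov_stepsMask hb (by decide) s4 _ (T.cov_mask0 4)) (TCData.cov_stepsMask hb (by decide) s4 _ (T.cov_mask0 4)) (by decide +kernel)
theorem col5 : T.ColOK 5 := TCData.colOK_of_chk (U := (T.stepsMask 5 s5 (T.mask0 5))) (V := (T.stepsMask 5 s5 (T.mask0 5))) hb (TCData.cov_stepsMask hb (by decide) s5 _ (T.cov_mask0 5)) (TCData.cov_stepsMask hb (by decide) s5 _ (T.cov_mask0 5)) (by decide +kernel)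
theorem col7 : T.ColOK 7 := TCData.colOK_of_chk (U := (T.stepsMask 7 s7 (T.mask0 7))) (V := (T.stepsMask 7 s7 (T.mask0 7))) hb (TCData.cov_stepsMask hb (by decide) s7 _ (T.cov_mask0 7)) (TCData.cov_stepsMask hb (by decide) s7 _ (T.cov_mask0 7)) (by decide +kernel)
theorem ok : T.OK := ⟨hb, TCData.treeOK_of_chk hn (by decide +kernel), (List.forall_mem_cons.2 ⟨col0, (List.forall_mem_cons.2 ⟨col1, (List.forall_mem_cons.2 ⟨col2, (List.forall_mem_cons.2 ⟨col3, (List.forall_mem_cons.2 ⟨col4, (List.forall_mem_cons.2 ⟨col5, (List.forall_mem_cons.2 ⟨col7, (fun _ h => absurd h List.not_mem_nil)⟩)⟩)⟩)⟩)⟩)⟩)⟩), der _ _ hiv hR0⟩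
theorem bd {G : Type} [Group G] {e : ℕ → G} (h1 : IvOK e (ivOf ivl)) (h2 : ∀ r ∈ R0, ev e r = 1)
    {m : ℕ} (h : Bd (gen e hcols) m) : Bd (gen e cols) (63 * m) := ok.bd h1 (der G e h1 h2) h
theorem cm {G : Type} [Group G] {e : ℕ → G} (h1 : IvOK e (ivOf ivl)) (h2 : ∀ r ∈ R0, ev e r = 1)
    (h3 : gen e cols = ⊤) {ρ : G →* Equiv.Perm ℕ} (h4 : ∀ c, ρ (e c) = sg (nth Net.nil nl) c) :
    CosetModel ρ (gen e hcols) 63 := ok.cosetModel h1 (der G e h1 h2) h3 fun c _ => h4 c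

end H28.HTpq1
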