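import Mathlib
import Cfsg.Agent.H29.Ext

set_option autoImplicit false
set_option maxRecDepth 100000
set_option Elab.async false
set_option linter.all false

namespace H28.HTqp1

open H29

noncomputable def n0 : Net := ben 8 [(nat_lit 0xc1f13f50cdc20cfc13bcc513308070c0),
 (nat_lit 0x5025550a005a0bf0f0a51726af1af200b0),
 (nat_lit 0x130022bbbb26c502008200ee8902110002),
 (nat_lit 0x25a6d6df1f1276f78ed313580801010),
 (nat_lit 0x48244aa5014803d800a314ef00000000),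
 (nat_lit 0xf0020158f16efd580000000000a1e010),
 (nat_lit 0x7ff00201080000007f),
 (nat_lit 0x7f)]
noncomputable def t0 : List ℕ := [(nat_lit 0x10633b54300715140081a1940582502a9c),
 (nat_lit 0x4c071fb0f0f8100d932006051403518f20),
 (nat_lit 0xc041fb4f2e4100cd3040f9405e46e2000),
 (nat_lit 0x4c073fb1021b253d4100b0000000000000),
 (nat_lit 0xf8800000000000240000000000000000)]
noncomputable def d0 : ℕ := (nat_lit 0x2300400a04004a000052004a8010000040)
noncomputable def n1 : Net := ben 8 [(nat_lit 0x17fd753330c5555d555544033cc505000),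
 (nat_lit 0xf0b0f31b8d2001933099b201b55050a00),
 (nat_lit 0x39b4722cc0b0003112247008a8e112200),
 (nat_lit 0xd8dc2e2000021e02001808000100024),
 (nat_lit 0xc248ca49006100618000800000000900),
 (nat_lit 0x6160c0c66160c00000000080000000),
 (nat_lit 0x400069608000000040),
 (nat_lit 0x40)]
noncomputable def t1 : List ℕ := [(nat_lit 0x2b15e4f1f049ff873f386242e051fa024a),
 (nat_lit 0x6b157e660c71c0006fc18064f8913fc8b0),
 (nat_lit 0x6b157e661c71c00006f0021f0000c00000),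
 (nat_lit 0x6b157e618c71cf867f0000600000000000),
 (nat_lit 0x14ea010802000000000000000000000000)]
noncomputable def d1 : ℕ := (nat_lit 0x1800070800410000528002400)
noncomputable def n2 : Net := ben 8 [(nat_lit 0x0),
 (nat_lit 0x0),
 (nat_lit 0x0),
 (nat_lit 0x0),
 (nat_lit 0x0),
 (nat_lit 0x0),
 (nat_lit 0x0),
 (nat_lit 0x0)]
noncomputable def t2 : List ℕ := [(nat_lit 0x75a7902b9cc368b046a461cd66ada33a8e),
 (nat_lit 0x4b57f69e95ac8d74c9267e167909323ff0),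
 (nat_lit 0x842030690840870a0267ffffff6ccc000),
 (nat_lit 0x6755fdb96f7bf78f7fd980000000000000),
 (nat_lit 0x10a8004000000000000000000000000000)]
noncomputable def d2 : ℕ := (nat_lit 0x0)
noncomputable def n3 : Net := ben 8 [(nat_lit 0x33c07cf1cf3f30cdc5500d35034c331f00),
 (nat_lit 0x113fff0f5ba0532020307010b102aaa5a0),
 (nat_lit 0x2cd55038945660400118c222a00332200),
 (nat_lit 0x40402fbe464600108090202247470000),
 (nat_lit 0x30086708080008002000a000000047b8),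
 (nat_lit 0xe000008bfd608480000000020000000),
 (nat_lit 0x80e00000000000008),
 (nat_lit 0x8)]
noncomputable def t3 : List ℕ := [(nat_lit 0xeea020306100a6300601b6f0130524174),
 (nat_lit 0xe000a200002400003601b0f0726020552),
 (nat_lit 0xe000a20100240008300186c0619407000),
 (nat_lit 0x600082300024013130000000000000000),
 (nat_lit 0xe8c01806000000000000000000000000)]
noncomputable def d3 : ℕ := (nat_lit 0x5015354460003484488184106080ad0000)
noncomputable def n4 : Net := ben 8 [(nat_lit 0x14c714373695515cfc1f3000033f516815),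
 (nat_lit 0x1ba00a000f06000f270aff2055a5359ff0),
 (nat_lit 0x703000222480011c7003100755700470c),
 (nat_lit 0x1c10ede00c0989ce3e77e7e00000084),
 (nat_lit 0xc080d08001800181601340100000000),
 (nat_lit 0x1880680c18826800000000ff014800),
 (nat_lit 0x80018806000000008),
 (nat_lit 0x8)]
noncomputable def t4 : List ℕ := [(nat_lit 0x26003f021fbe3335c2b2001c6488942458),
 (nat_lit 0x26123f828fbe30004202000ee080040080),
 (nat_lit 0x26003e000fbe38004234101760909c0000),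
 (nat_lit 0x26123f829fbe07c442c180000104000000),
 (nat_lit 0x590c004c40000000000000000000000000)]
noncomputable def d4 : ℕ := (nat_lit 0xe000300041000a350868001a0042d002)
noncomputable def n5 : Net := ben 8 [(nat_lit 0x3003ccccfcc3030cccf7cffffc00cc0300),
 (nat_lit 0x11af050f55003a022bba5aa0aa05f700a1),
 (nat_lit 0x77338889ee225d7fdd0099110066261108),
 (nat_lit 0x17370b0be9eb0004fcfc525230314052),
 (nat_lit 0x220562dd1610fe808070c0e000404060),
 (nat_lit 0x39149012a91501000000781042a178),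
 (nat_lit 0x42edb95e8600000012),
 (nat_lit 0x7a)]
noncomputable def t5 : List ℕ := [(nat_lit 0x7f004a10088544899ed30109072200690),
 (nat_lit 0x3059103230023c588404d000078608800),
 (nat_lit 0x34001a72280758c69cc3c418180462000),
 (nat_lit 0x35195a04909759d79cd7804d000000000),
 (nat_lit 0x70a0405804400000040000100000000000)]
noncomputable def d5 : ℕ := (nat_lit 0x80a0a0090368000020002a00005100124)
noncomputable def n7 : Net := ben 8 [(nat_lit 0x40cc400703f15c74c40d34cc7d1405555),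
 (nat_lit 0x8a80230af51a5ff50af01072000003053),
 (nat_lit 0x563265cc118a2b15044d2a450108000006),
 (nat_lit 0x251c9c9d0444022b2060004000000000),
 (nat_lit 0x187f5eff020002000000200000000000),
 (nat_lit 0x620007f9e22807f0000000000000000),
 (nat_lit 0x7f062000000000007f),
 (nat_lit 0x7f)]
noncomputable def t7 : List ℕ := [(nat_lit 0x520d5108d45100f2e11478c07e84239024),
 (nat_lit 0x2a4727041460647efa0806186100f26000),
 (nat_lit 0x245010410206432021c06d861b4cc0000),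
 (nat_lit 0x2a452504c4715accfb4980000000000000),
 (nat_lit 0x51b8105200040000000000000000000000)]
noncomputable def d7 : ℕ := (nat_lit 0x40080810a080101002001050042000a98)
def ivl : List ℕ := []
def cols : List ℕ := [0, 1, 2, 3, 4, 5, 7]
def hcols : List ℕ := [0, 1, 2, 3]
def G0 : List (List ℕ) := [[0, 1, 0, 1, 0, 1, 0, 1],
 [0, 2, 0, 2],
 [1, 2, 1, 2, 1, 2, 1, 2],
 [0, 1, 0, 2, 1, 0, 2, 1, 0, 2, 1, 2],
 [0, 3, 0, 3],
 [1, 3, 1, 3],
 [2, 3, 2, 3, 2, 3, 2, 3],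
 [1, 2, 1, 3, 2, 1, 3, 2, 1, 3, 2, 3],
 [1, 4, 1, 4],
 [0, 4, 0, 4, 0, 4],
 [0, 1, 0, 1, 4, 0, 1, 0, 4],
 [1, 2, 3, 2, 1, 2, 3, 4, 2, 4],
 [1, 2, 4, 2, 3, 4, 3],
 [3, 5, 3, 5],
 [1, 5, 1, 5, 1, 5],
 [0, 1, 0, 1, 5, 0, 5],
 [1, 2, 1, 2, 5, 2, 5],
 [0, 7, 0, 7],
 [1, 7, 1, 7],
 [2, 7, 2, 7],
 [3, 7, 3, 7, 3, 7],
 [2, 3, 2, 3, 7, 3, 2, 3, 7],
 [1, 4, 7, 4, 7],
 [5, 7, 5, 7],
 [4, 5, 4, 5, 4, 5, 4, 5, 4, 5],
 [0, 3, 4, 3, 5, 4, 0, 5, 4, 7, 5, 4, 5, 3, 4]]
def R0 : List (List ℕ) := G0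
theorem hii : ∀ c, ivOf ivl (ivOf ivl c) = c := ivOf_ivOf (by decide +kernel)
theorem der : Derives (ivOf ivl) R0 R0 := Derives.refl _ _
noncomputable def nl : List Net := [n0, n1, n2, n3, n4, n5, Net.nil, n7]
noncomputable def T : TCData := ⟨135, 135, 8, 5, nth Net.nil nl, ivOf ivl, cols, hcols, R0,
  nth [] [t0, t1, t2, t3, t4, t5, [], t7], nth 0 [d0, d1, d2, d3, d4, d5, 0, d7]⟩
theorem hn : NetsOK 135 (nth Net.nil nl) := netsOK_of_all (by decide +kernel)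
theorem hiv : IvOK (sg (nth Net.nil nl)) (ivOf ivl) :=
  ivOK_of_chk (k := 8) hn (by decide) (n := 8) (by decide) (by decide) (allN_true.1 (by decide +kernel))
theorem hb : T.Basic := TCData.basic_of_chk hn hiv (by decide +kernel)
theorem hG0 : ∀ r ∈ G0, ev (sg (nth Net.nil nl)) r = 1 :=
  rels_of_chk (k := 8) hn (by decide) hiv (allN_true.1 (by decide +kernel))
noncomputable def s0 : List TCData.Step := [.pts 0 0 0 8 [52],
 .all 4 0 0,
 .pts 9 0 0 6 [68],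
 .pts 10 0 0 15 [112],
 .pts 10 0 0 16 [127],
 .pts 10 0 0 17 [126],
 .pts 10 7 0 4 [58],
 .pts 15 0 0 16 [119, 123],
 .pts 15 2 0 2 [10],
 .pts 15 2 0 4 [30],
 .pts 15 2 0 6 [71],
 .pts 15 2 0 15 [108],
 .all 15 5 0,
 .all 17 0 0]
noncomputable def s1 : List TCData.Step := [.pts 0 1 0 16 [130],
 .all 5 0 0,
 .all 8 0 0,
 .pts 10 1 0 3 [39],
 .pts 10 6 0 1 [6],
 .pts 10 6 0 4 [43],
 .pts 10 6 0 5 [61],
 .pts 11 0 0 15 [87],
 .pts 12 0 0 5 [23],
 .pts 12 0 0 9 [74],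
 .pts 12 0 0 10 [70],
 .pts 14 0 0 14 [93, 115],
 .pts 14 0 0 15 [122],
 .pts 14 0 0 16 [121],
 .pts 15 1 0 9 [103],
 .pts 15 1 0 14 [92],
 .pts 15 1 0 15 [114, 120, 129],
 .pts 15 3 0 3 [28],
 .pts 15 3 0 6 [105],
 .pts 15 3 0 14 [134],
 .pts 15 3 0 16 [107],
 .all 18 0 0,
 .all 22 0 0]
noncomputable def s2 : List TCData.Step := [.all 1 1 0,
 .pts 11 3 0 16 [110],
 .pts 11 3 0 17 [132],
 .all 11 8 0,
 .pts 12 1 0 10 [74],
 .pts 12 3 0 9 [79],
 .pts 12 3 0 12 [112],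
 .all 16 1 0,
 .all 16 5 0,
 .all 19 0 0,
 .pts 21 0 0 12 [69],
 .all 21 2 0,
 .all 21 6 0]
noncomputable def s3 : List TCData.Step := [.all 4 1 0,
 .all 5 1 0,
 .pts 11 2 0 16 [119],
 .pts 12 4 0 5 [14],
 .pts 12 4 0 8 [76],
 .pts 12 4 0 9 [73],
 .all 12 6 0,
 .all 13 0 0,
 .pts 20 0 0 7 [42],
 .pts 20 0 0 17 [125]]
noncomputable def s4 : List TCData.Step := [.pts 8 1 0 1 [10, 27, 76],
 .pts 8 1 0 4 [58],
 .all 9 1 0,
 .pts 10 4 0 15 [113],
 .pts 10 8 0 15 [91],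
 .pts 10 8 0 16 [132],
 .pts 12 2 0 15 [96, 98, 115, 116],
 .all 12 5 0,
 .all 22 1 0,
 .all 22 3 0,
 .pts 24 0 0 10 [121],
 .pts 24 0 0 16 [122]]
noncomputable def s5 : List TCData.Step := [.all 13 1 0,
 .all 14 1 0,
 .pts 15 4 0 4 [13],
 .pts 15 4 0 16 [110],
 .pts 15 6 0 3 [28],
 .pts 15 6 0 6 [105],
 .pts 15 6 0 15 [128, 129],
 .pts 15 6 0 16 [98, 107, 133],
 .all 23 0 0,
 .pts 24 1 0 8 [38],
 .pts 24 1 0 17 [127],
 .pts 25 4 0 13 [39, 53, 58, 63, 82, 84, 111]]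
noncomputable def s7 : List TCData.Step := [.all 17 1 0,
 .all 18 1 0,
 .all 20 1 0,
 .all 22 2 0,
 .all 22 4 0,
 .all 23 1 0]
theorem hR0 : ∀ r ∈ R0, ev (sg (nth Net.nil nl)) r = 1 := hG0
theorem col0 : T.ColOK 0 := TCData.colOK_of_chk (U := (T.stepsMask 0 s0 (T.mask0 0))) (V := (T.stepsMask 0 s0 (T.mask0 0))) hb (TCData.cov_stepsMask hb (by decide) s0 _ (T.cov_mask0 0)) (TCData.cov_stepsMask hb (by decide) s0 _ (T.cov_mask0 0)) (by decide +kernel)
theorem col1 : T.ColOK 1 := TCData.colOK_of_chk (U := (T.stepsMask 1 s1 (T.mask0 1))) (V := (T.stepsMask 1 s1 (T.mask0 1))) hb (TCData.cov_stepsMask hb (by decide) s1 _ (T.cov_mask0 1)) (TCData.cov_stepsMask hb (by decide) s1 _ (T.cov_mask0 1)) (by decide +kernel)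
theorem col2 : T.ColOK 2 := TCData.colOK_of_chk (U := (T.stepsMask 2 s2 (T.mask0 2))) (V := (T.stepsMask 2 s2 (T.mask0 2))) hb (TCData.cov_stepsMask hb (by decide) s2 _ (T.cov_mask0 2)) (TCData.cov_stepsMask hb (by decide) s2 _ (T.cov_mask0 2)) (by decide +kernel)
theorem col3 : T.ColOK 3 := TCData.colOK_of_chk (U := (T.stepsMask 3 s3 (T.mask0 3))) (V := (T.stepsMask 3 s3 (T.mask0 3))) hb (TCData.cov_stepsMask hb (by decide) s3 _ (T.cov_mask0 3)) (TCData.cov_stepsMask hb (by decide) s3 _ (T.cov_mask0 3)) (by decide +kernel)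
theorem col4 : T.ColOK 4 := TCData.colOK_of_chk (U := (T.stepsMask 4 s4 (T.mask0 4))) (V := (T.stepsMask 4 s4 (T.mask0 4))) hb (TCData.cov_stepsMask hb (by decide) s4 _ (T.cov_mask0 4)) (TCData.cov_stepsMask hb (by decide) s4 _ (T.cov_mask0 4)) (by decide +kernel)
theorem col5 : T.ColOK 5 := TCData.colOK_of_chk (U := (T.stepsMask 5 s5 (T.mask0 5))) (V := (T.stepsMask 5 s5 (T.mask0 5))) hb (TCData.cov_stepsMask hb (by decide) s5 _ (T.cov_mask0 5)) (TCData.cov_stepsMask hb (by decide) s5 _ (T.cov_mask0 5)) (by decide +kernel)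
theorem col7 : T.ColOK 7 := TCData.colOK_of_chk (U := (T.stepsMask 7 s7 (T.mask0 7))) (V := (T.stepsMask 7 s7 (T.mask0 7))) hb (TCData.cov_stepsMask hb (by decide) s7 _ (T.cov_mask0 7)) (TCData.cov_stepsMask hb (by decide) s7 _ (T.cov_mask0 7)) (by decide +kernel)
theorem ok : T.OK := ⟨hb, TCData.treeOK_of_chk hn (by decide +kernel), (List.forall_mem_cons.2 ⟨col0, (List.forall_mem_cons.2 ⟨col1, (List.forall_mem_cons.2 ⟨col2, (List.forall_mem_cons.2 ⟨col3, (List.forall_mem_cons.2 ⟨col4, (List.forall_mem_cons.2 ⟨col5, (List.forall_mem_cons.2 ⟨col7, (fun _ h => absurd h List.not_mem_nil)⟩)⟩)⟩)⟩)⟩)⟩)⟩), der _ _ hiv hR0⟩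
theorem bd {G : Type} [Group G] {e : ℕ → G} (h1 : IvOK e (ivOf ivl)) (h2 : ∀ r ∈ R0, ev e r = 1)
    {m : ℕ} (h : Bd (gen e hcols) m) : Bd (gen e cols) (135 * m) := ok.bd h1 (der G e h1 h2) h
theorem cm {G : Type} [Group G] {e : ℕ → G} (h1 : IvOK e (ivOf ivl)) (h2 : ∀ r ∈ R0, ev e r = 1)
    (h3 : gen e cols = ⊤) {ρ : G →* Equiv.Perm ℕ} (h4 : ∀ c, ρ (e c) = sg (nth Net.nil nl) c) :
    CosetModel ρ (gen e hcols) 135 := ok.cosetModel h1 (der G e h1 h2) h3 fun c _ => h4 c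

end H28.HTqp1
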