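import Mathlib
import Cfsg.Agent.H29.Ext

set_option autoImplicit false
set_option maxRecDepth 100000
set_option Elab.async false
set_option linter.all false

namespace H28.HTqq1

open H29

noncomputable def n0 : Net := ben 8 [(nat_lit 0x3cd4fc3703433033c39ce33ff45c000040),
 (nat_lit 0x51da9688b101f00af56afb105f30aa0000),
 (nat_lit 0x57719c4e22aa5da8449ba8778a00aa0002),
 (nat_lit 0x881ab3a384b4203023d95ede80800000),
 (nat_lit 0x111849ea121806cb045a86fb00008000),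
 (nat_lit 0x120048791218fb7900000000045a3000),
 (nat_lit 0x5d12004c300000005d),
 (nat_lit 0x5d)]
noncomputable def t0 : List ℕ := [(nat_lit 0x61a4a31e79c9c00b7c2040150508aae214),
 (nat_lit 0x281818c028085a193d284014156fa14518),
 (nat_lit 0x4038002600184000242408150406afaa00),
 (nat_lit 0x69a0b9e679d63a87590806004000000000),
 (nat_lit 0x69a4b9ee58d9e01e3c8840001860000000)]
noncomputable def d0 : ℕ := (nat_lit 0x14414000840005600052014a80800000a0)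
noncomputable def n1 : Net := ben 8 [(nat_lit 0x1415534d4d157f310c5c7000d3ff541030),
 (nat_lit 0x5a503100f0f050b5a2020aa0abaf300a00),
 (nat_lit 0x179922ccbf33ae19dd5502008a8e112200),
 (nat_lit 0x109b0b3808360700010808000100024),
 (nat_lit 0xb001b021400d402d8000800000000900),
 (nat_lit 0x400d2019f00d20190000000080000000),
 (nat_lit 0x19400d608000000019),
 (nat_lit 0x19)]
noncomputable def t1 : List ℕ := [(nat_lit 0x3c0c60c59a7d03e7a70002b2c8a20188ba),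
 (nat_lit 0x3e300001a201007f8101209c800000c8d0),
 (nat_lit 0x4040000582310007890920bf00829e0000),
 (nat_lit 0x7ec36ec67c7cc7802e3802200000000000),
 (nat_lit 0x7efc6ecffe7dc67f2fc802600000000000)]
noncomputable def d1 : ℕ := (nat_lit 0x100810001802000500490002558402400)
noncomputable def n2 : Net := ben 8 [(nat_lit 0x0),
 (nat_lit 0x0),
 (nat_lit 0x0),
 (nat_lit 0x0),
 (nat_lit 0x0),
 (nat_lit 0x0),
 (nat_lit 0x0),
 (nat_lit 0x0)]
noncomputable def t2 : List ℕ := [(nat_lit 0x4e9bae6945a45ac942dd0348063dbcfa4e),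
 (nat_lit 0xb3445944e489f532c1f1b8b788d4ebf70),
 (nat_lit 0x7018040420918c640356fbebffb6f30080),
 (nat_lit 0x7fe7fadf9fff7786ffe924140040000000),
 (nat_lit 0x7b80b3b6e87840392c08c0000000000000)]
noncomputable def d2 : ℕ := (nat_lit 0x0)
noncomputable def n3 : Net := ben 8 [(nat_lit 0xd4fcf700c0fc7c5400cd33335c50d300),
 (nat_lit 0x1e5a1a00501b00a70f507ab1b1020f0f00),
 (nat_lit 0x39f9b75138e9b000017042a0800998800),
 (nat_lit 0x841d68df5efd080c0212002006060048),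
 (nat_lit 0x6341f3f3897f997f0000020000000690),
 (nat_lit 0x89000001ef8089400000000000000000),
 (nat_lit 0x7f890000000000007f),
 (nat_lit 0x7f)]
noncomputable def t3 : List ℕ := [(nat_lit 0x4699a54f2145261802c99b6079c0040134),
 (nat_lit 0xac050604a40740032099b007ec6f40532),
 (nat_lit 0x7180200c0098212000007b607f09f0b040),
 (nat_lit 0x7f01b10e0bdd5000f21c00000000000000),
 (nat_lit 0x7bc0f56f4ad975303289e00000c6000000)]
noncomputable def d3 : ℕ := (nat_lit 0x220a90100000850820041500200b4000)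
noncomputable def n4 : Net := ben 8 [(nat_lit 0x14c5513151c1370ccc1f3000330ffc4cf1),
 (nat_lit 0x5f221fa5000a5a0faf0fa0005a0a05f000),
 (nat_lit 0x55996619440423896f997700cc44094c08),
 (nat_lit 0x21b7000028aa00060f1f737300004044),
 (nat_lit 0x1001710100400860700470a400000060),
 (nat_lit 0x6080291060806900000040ff040340),
 (nat_lit 0x90060802000000009),
 (nat_lit 0x49)]
noncomputable def t4 : List ℕ := [(nat_lit 0x40700b9bc48421e5d8c29005050c4624a0),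
 (nat_lit 0x16ff42030438c65d942044ca000010080),
 (nat_lit 0x4078442030030c618144040f0000460000),
 (nat_lit 0x4117bb9bc4c4a184583000500000000000),
 (nat_lit 0x417fffbbf4c7ac01998004400000000000)]
noncomputable def d4 : ℕ := (nat_lit 0x2a80000402284012240968005a00b09042)
noncomputable def n5 : Net := ben 8 [(nat_lit 0x3cc0f7cf3033f353c7cdf3c000430330),
 (nat_lit 0x1f0affba2f1af0723e15a7f005002f55a1),
 (nat_lit 0x11ee779911552255cc1166558833994408),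
 (nat_lit 0xd71f7dbd9777549421a15393a0b40052),
 (nat_lit 0x9040d4608a08cb480003c0a300009030),
 (nat_lit 0x4410ca8894d02a5b0000001220492412),
 (nat_lit 0xcc7b6dbe90000000c),
 (nat_lit 0x1e)]
noncomputable def t5 : List ℕ := [(nat_lit 0x5ba24210150000200a1d44100452298480),
 (nat_lit 0xa24009c150804006c0e450005a8a00018),
 (nat_lit 0x7040000c111001000000854004f0a82800),
 (nat_lit 0x7f81ab9c849821246c0c48022000000000),
 (nat_lit 0x7be4e39d849925246e1fd80008020182c0)]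
noncomputable def d5 : ℕ := (nat_lit 0x18146268469a08810002a00005040104)
noncomputable def n7 : Net := ben 8 [(nat_lit 0xc05738cfc33300510c5c751731501565),
 (nat_lit 0x10530a15750bbbb03a3502a050a0900033),
 (nat_lit 0x4499009967bb022a000011002308000006),
 (nat_lit 0x6869d2d62aaa01051014008030300000),
 (nat_lit 0x40684868020002020020102000003000),
 (nat_lit 0xb00006a4b2820fa0000000000200000),
 (nat_lit 0x6b0b0000000000006b),
 (nat_lit 0x6b)]
noncomputable def t7 : List ℕ := [(nat_lit 0xedace62882666040c01f8004fe4fcf042),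
 (nat_lit 0xb40019605680653780138004e00fcb042),
 (nat_lit 0x20200004600000281001f8004fb8f1b042),
 (nat_lit 0x2be0c3968fe860077c0138004e00f0b042),
 (nat_lit 0x2ffacff6efeeefff7c56c7ffb0440200a0)]
noncomputable def d7 : ℕ := (nat_lit 0x4004200900110000028000000002000a18)
def ivl : List ℕ := []
def cols : List ℕ := [0, 1, 2, 3, 4, 5, 7]
def hcols : List ℕ := [0, 1, 2, 3]
def G0 : List (List ℕ) := [[0, 1, 0, 1, 0, 1, 0, 1],
 [0, 2, 0, 2],
 [1, 2, 1, 2, 1, 2, 1, 2],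
 [0, 1, 0, 2, 1, 0, 2, 1, 0, 2, 1, 2],
 [0, 3, 0, 3],
 [1, 3, 1, 3],
 [2, 3, 2, 3, 2, 3, 2, 3],
 [1, 2, 1, 3, 2, 1, 3, 2, 1, 3, 2, 3],
 [1, 4, 1, 4],
 [0, 4, 0, 4, 0, 4],
 [0, 1, 0, 1, 4, 0, 1, 0, 4],
 [1, 2, 3, 2, 1, 2, 3, 4, 2, 4],
 [1, 2, 4, 2, 3, 4, 3],
 [3, 5, 3, 5],
 [1, 5, 1, 5, 1, 5],
 [0, 1, 0, 1, 5, 0, 5],
 [1, 2, 1, 2, 5, 2, 5],
 [2, 7, 2, 7],
 [3, 7, 3, 7, 3, 7],
 [2, 3, 2, 3, 7, 3, 2, 3, 7],
 [0, 1, 2, 1, 0, 1, 2, 7, 1, 7],
 [0, 1, 7, 1, 0, 2, 7],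
 [0, 1, 3, 4, 0, 7, 4, 0, 7, 3, 4],
 [1, 5, 7, 5, 1, 7],
 [1, 4, 5, 1, 4, 5, 7, 4, 5, 4, 5, 4, 7, 5],
 [0, 1, 5, 4, 0, 5, 4, 0, 5, 4, 5, 7, 3, 4, 2]]
def R0 : List (List ℕ) := G0
theorem hii : ∀ c, ivOf ivl (ivOf ivl c) = c := ivOf_ivOf (by decide +kernel)
theorem der : Derives (ivOf ivl) R0 R0 := Derives.refl _ _
noncomputable def nl : List Net := [n0, n1, n2, n3, n4, n5, Net.nil, n7]
noncomputable def T : TCData := ⟨135, 135, 8, 5, nth Net.nil nl, ivOf ivl, cols, hcols, R0,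
  nth [] [t0, t1, t2, t3, t4, t5, [], t7], nth 0 [d0, d1, d2, d3, d4, d5, 0, d7]⟩
theorem hn : NetsOK 135 (nth Net.nil nl) := netsOK_of_all (by decide +kernel)
theorem hiv : IvOK (sg (nth Net.nil nl)) (ivOf ivl) :=
  ivOK_of_chk (k := 8) hn (by decide) (n := 8) (by decide) (by decide) (allN_true.1 (by decide +kernel))
theorem hb : T.Basic := TCData.basic_of_chk hn hiv (by decide +kernel)
theorem hG0 : ∀ r ∈ G0, ev (sg (nth Net.nil nl)) r = 1 :=
  rels_of_chk (k := 8) hn (by decide) hiv (allN_true.1 (by decide +kernel))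
noncomputable def s0 : List TCData.Step := [.all 4 0 0,
 .pts 9 0 0 23 [66, 69],
 .pts 9 0 0 26 [59],
 .pts 10 0 0 26 [131],
 .pts 10 0 0 29 [106],
 .pts 10 2 0 4 [58],
 .pts 10 5 0 19 [54],
 .pts 10 5 0 26 [111],
 .pts 10 7 0 27 [68],
 .pts 15 0 0 25 [94, 102],
 .all 15 2 0,
 .all 15 5 0,
 .all 21 0 0,
 .pts 21 4 0 2 [3],
 .pts 21 4 0 5 [9],
 .pts 21 4 0 6 [25]]
noncomputable def s1 : List TCData.Step := [.pts 0 1 0 8 [60],
 .all 5 0 0,
 .all 8 0 0,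
 .pts 10 1 0 3 [39],
 .pts 10 1 0 5 [41],
 .pts 10 1 0 19 [77],
 .pts 10 1 0 25 [69],
 .pts 10 3 0 25 [90],
 .pts 10 3 0 27 [130],
 .pts 10 3 0 29 [45],
 .all 10 6 0,
 .pts 11 0 0 18 [76],
 .pts 11 0 0 24 [127],
 .pts 12 0 0 23 [72],
 .pts 12 0 0 28 [67],
 .pts 14 0 0 7 [47],
 .pts 14 0 0 24 [102],
 .pts 14 0 0 25 [99],
 .pts 15 1 0 24 [82],
 .pts 15 1 0 27 [131],
 .pts 15 3 0 8 [120],
 .pts 15 3 0 25 [81],
 .pts 20 8 0 1 [3],
 .pts 20 8 0 3 [4],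
 .pts 20 8 0 28 [126],
 .pts 21 1 0 5 [31],
 .pts 21 1 0 29 [93],
 .pts 21 3 0 16 [63],
 .pts 23 0 0 16 [107],
 .pts 23 0 0 17 [122],
 .pts 23 0 0 25 [117]]
noncomputable def s2 : List TCData.Step := [.all 1 1 0,
 .all 11 8 0,
 .pts 12 1 0 10 [80],
 .pts 12 3 0 12 [74],
 .pts 12 3 0 26 [108, 111],
 .all 16 1 0,
 .pts 16 3 0 12 [53],
 .all 16 5 0,
 .all 17 0 0,
 .pts 19 2 0 4 [16],
 .pts 19 2 0 17 [75],
 .all 19 6 0,
 .pts 20 2 0 20 [77],
 .pts 20 2 0 25 [86],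
 .pts 20 2 0 26 [94],
 .pts 20 2 0 28 [132],
 .pts 20 6 0 26 [66],
 .pts 20 6 0 29 [134]]
noncomputable def s3 : List TCData.Step := [.all 4 1 0,
 .all 5 1 0,
 .pts 11 2 0 19 [31],
 .pts 11 2 0 25 [112],
 .pts 11 6 0 26 [68],
 .all 12 4 0,
 .all 12 6 0,
 .all 13 0 0,
 .pts 18 0 0 26 [86],
 .pts 18 0 0 28 [92],
 .pts 18 0 0 29 [117]]
noncomputable def s4 : List TCData.Step := [.all 8 1 0,
 .all 9 1 0,
 .pts 10 4 0 25 [95],
 .pts 10 4 0 26 [87, 117],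
 .pts 10 8 0 8 [44, 60],
 .pts 10 8 0 17 [63],
 .pts 10 8 0 25 [85, 108],
 .pts 12 2 0 23 [125],
 .pts 12 2 0 25 [103, 105],
 .pts 12 2 0 26 [116],
 .all 12 5 0,
 .pts 25 9 0 22 [64, 82, 89, 101, 109, 123]]
noncomputable def s5 : List TCData.Step := [.all 13 1 0,
 .all 14 1 0,
 .all 15 4 0,
 .all 15 6 0,
 .all 23 1 0]
noncomputable def s7 : List TCData.Step := [.all 18 1 0,
 .pts 20 9 0 4 [28],
 .pts 20 9 0 26 [98],
 .pts 20 9 0 28 [125],
 .all 21 2 0,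
 .all 21 6 0,
 .pts 22 5 0 15 [1, 12, 13, 15, 21, 33, 34, 51, 52],
 .all 23 2 0,
 .pts 23 5 0 17 [30],
 .pts 23 5 0 25 [113],
 .pts 23 5 0 26 [69, 111]]
theorem hR0 : ∀ r ∈ R0, ev (sg (nth Net.nil nl)) r = 1 := hG0
theorem col0 : T.ColOK 0 := TCData.colOK_of_chk (U := (T.stepsMask 0 s0 (T.mask0 0))) (V := (T.stepsMask 0 s0 (T.mask0 0))) hb (TCData.cov_stepsMask hb (by decide) s0 _ (T.cov_mask0 0)) (TCData.cov_stepsMask hb (by decide) s0 _ (T.cov_mask0 0)) (by decide +kernel)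
theorem col1 : T.ColOK 1 := TCData.colOK_of_chk (U := (T.stepsMask 1 s1 (T.mask0 1))) (V := (T.stepsMask 1 s1 (T.mask0 1))) hb (TCData.cov_stepsMask hb (by decide) s1 _ (T.cov_mask0 1)) (TCData.cov_stepsMask hb (by decide) s1 _ (T.cov_mask0 1)) (by decide +kernel)
theorem col2 : T.ColOK 2 := TCData.colOK_of_chk (U := (T.stepsMask 2 s2 (T.mask0 2))) (V := (T.stepsMask 2 s2 (T.mask0 2))) hb (TCData.cov_stepsMask hb (by decide) s2 _ (T.cov_mask0 2)) (TCData.cov_stepsMask hb (by decide) s2 _ (T.cov_mask0 2)) (by decide +kernel)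
theorem col3 : T.ColOK 3 := TCData.colOK_of_chk (U := (T.stepsMask 3 s3 (T.mask0 3))) (V := (T.stepsMask 3 s3 (T.mask0 3))) hb (TCData.cov_stepsMask hb (by decide) s3 _ (T.cov_mask0 3)) (TCData.cov_stepsMask hb (by decide) s3 _ (T.cov_mask0 3)) (by decide +kernel)
theorem col4 : T.ColOK 4 := TCData.colOK_of_chk (U := (T.stepsMask 4 s4 (T.mask0 4))) (V := (T.stepsMask 4 s4 (T.mask0 4))) hb (TCData.cov_stepsMask hb (by decide) s4 _ (T.cov_mask0 4)) (TCData.cov_stepsMask hb (by decide) s4 _ (T.cov_mask0 4)) (by decide +kernel)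
theorem col5 : T.ColOK 5 := TCData.colOK_of_chk (U := (T.stepsMask 5 s5 (T.mask0 5))) (V := (T.stepsMask 5 s5 (T.mask0 5))) hb (TCData.cov_stepsMask hb (by decide) s5 _ (T.cov_mask0 5)) (TCData.cov_stepsMask hb (by decide) s5 _ (T.cov_mask0 5)) (by decide +kernel)
theorem col7 : T.ColOK 7 := TCData.colOK_of_chk (U := (T.stepsMask 7 s7 (T.mask0 7))) (V := (T.stepsMask 7 s7 (T.mask0 7))) hb (TCData.cov_stepsMask hb (by decide) s7 _ (T.cov_mask0 7)) (TCData.cov_stepsMask hb (by decide) s7 _ (T.cov_mask0 7)) (by decide +kernel)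
theorem ok : T.OK := ⟨hb, TCData.treeOK_of_chk hn (by decide +kernel), (List.forall_mem_cons.2 ⟨col0, (List.forall_mem_cons.2 ⟨col1, (List.forall_mem_cons.2 ⟨col2, (List.forall_mem_cons.2 ⟨col3, (List.forall_mem_cons.2 ⟨col4, (List.forall_mem_cons.2 ⟨col5, (List.forall_mem_cons.2 ⟨col7, (fun _ h => absurd h List.not_mem_nil)⟩)⟩)⟩)⟩)⟩)⟩)⟩), der _ _ hiv hR0⟩
theorem bd {G : Type} [Group G] {e : ℕ → G} (h1 : IvOK e (ivOf ivl)) (h2 : ∀ r ∈ R0, ev e r = 1)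
    {m : ℕ} (h : Bd (gen e hcols) m) : Bd (gen e cols) (135 * m) := ok.bd h1 (der G e h1 h2) h
theorem cm {G : Type} [Group G] {e : ℕ → G} (h1 : IvOK e (ivOf ivl)) (h2 : ∀ r ∈ R0, ev e r = 1)
    (h3 : gen e cols = ⊤) {ρ : G →* Equiv.Perm ℕ} (h4 : ∀ c, ρ (e c) = sg (nth Net.nil nl) c) :
    CosetModel ρ (gen e hcols) 135 := ok.cosetModel h1 (der G e h1 h2) h3 fun c _ => h4 c

end H28.HTqq1
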