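import Mathlib
import Cfsg.Agent.H28.HeldA
import Cfsg.Agent.H28.HC3

/-! Groups with the involution centraliser of `L₅(2)`: the elements of order three. -/

set_option autoImplicit false
set_option linter.unusedSectionVars false
set_option synthInstance.maxSize 4096

namespace H28

namespace Held

open H29

variable {G : Type*} [Group G] [Finite G] {φ : Hc →* G}

theorem cj_ev {g : G} {B B' : ℕ → Hc} (h : ∀ c, Cj φ g (B c) (B' c)) :
    ∀ w, Cj φ g (ev B w) (ev B' w)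
  | [] => cj_one g
  | c :: w => by rw [ev_cons, ev_cons]; exact (h c).mul (cj_ev h w)

theorem gU_mem (i : Bool) : ∀ v ∈ gU i, v ∈ Uc i := by cases i <;> decide +kernel

theorem HS.cen_gU (H : HS φ) {i : Bool} {g : G} (h : ∀ v ∈ gU i, Cj φ g v v) :
    ∃ a ∈ Uc i, φ a = g := by
  simp only [gU, List.mem_cons, List.not_mem_nil, or_false, forall_eq_or_imp, forall_eq] at h
  obtain ⟨a, rfl⟩ := H.of_cj h.1
  exact ⟨a, cen_U i a (cen_u i a (H.eq h.2.1)) (H.eq h.2.2.1) (H.eq h.2.2.2), rfl⟩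

theorem side_facts (i : Bool) : xx i * uu i = uu i * xx i ∧ xx i * xx i * xx i = 1 ∧ xx i ≠ 1 ∧
    xx i ∈ Pc i ∧ tt i ∈ Pc i ∧ uu i ∈ Uc i ∧ uu i ≠ 1 ∧ uu i ≠ zc ∧ tt i * xx i = xx i * tt i ∧
    tt i * uu i = zc * uu i * tt i ∧ uu i * (zc * uu i) = zc ∧ tt i * tt i = 1 ∧
    zc * uu i ≠ zc ∧ tt i * (zc * uu i) = uu i * tt i := by cases i <;> decide +kernel

/-- first normalisation. -/
structure Pre (φ : Hc →* G) (i : Bool) (n : G) : Prop where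
  nm : n ∈ Nm φ (Uc i)
  hz : Cj φ n zc (uu i)
  hu : Cj φ n (uu i) (zc * uu i)
  hx : Cj φ n (xx i) (xx i)

theorem HS.exists_pre (H : HS φ) {i : Bool} (h : IsConj (φ zc) (φ (uu i))) : ∃ n, Pre φ i n := by
  obtain ⟨f1, f2, f3, f4, f5, f6, f7, f8, f9, f10, -⟩ := side_facts i
  obtain ⟨g, hg⟩ := isConj_iff.1 h
  obtain ⟨n, h1, h2⟩ := H.fuse (Uc_le_Tc i) hg (fun x _ => zc_comm x) fun x hx => Uc_comm i hx f6
  have h2 := h2 i le_rfl
  obtain ⟨k, hk⟩ := H.exists_cj h1.symm f1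
  have k3 : k * k * k = 1 := H.uniq ((hk.mul hk).mul hk) ((cj_one _).congr f2.symm rfl)
  have kn : φ k ∈ Nm φ (Uc i) := hk ▸ (Nm φ _).mul_mem ((Nm φ _).mul_mem ((Nm φ _).inv_mem h2)
    (P_nm i f4)) ((Nm φ _).inv_mem ((Nm φ _).inv_mem h2))
  obtain ⟨p, hp, hp'⟩ := exP_spec (ord3 i k k3 (H.ne_one hk f3) fun a ha =>
    (H.mem_of_nm kn (cj_of (by rw [mul_assoc, k3, mul_one]))).1 ha)
  have m1 : n * φ p ∈ Nm φ (Uc i) := (Nm φ _).mul_mem h2 (P_nm i (Tc_le_Pc i hp'))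
  have m2 : Cj φ (n * φ p) zc (uu i) := h1.comp (cj_of (zc_comm p))
  have m3 : Cj φ (n * φ p) (xx i) (xx i) := (inv_inv n ▸ hk.symm).comp (cj_of hp)
  obtain ⟨u, hu, m4⟩ := m1 _ f6
  rcases cen_x i u hu (H.comm m4 m3 f1.symm) with rfl | rfl | rfl | rfl
  · exact absurd rfl (H.ne_one m4 f7)
  · exact ⟨_, (Nm φ _).mul_mem m1 (P_nm i f5), m2.comp (cj_of (zc_comm _)),
      ((m2.mul m4).congr rfl (zc_comm _)).comp (cj_of f10), m3.comp (cj_of f9)⟩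
  · exact absurd (H.cinj m4 m2) f8
  · exact ⟨_, m1, m2, m4, m3⟩

theorem Pre.hzu {i : Bool} {n : G} (h : Pre φ i n) : Cj φ n (zc * uu i) zc :=
  (h.hz.mul h.hu).congr rfl (side_facts i).2.2.2.2.2.2.2.2.2.2.1

theorem Pre.mpC {i : Bool} {n : G} (h : Pre φ i n) (H : HS φ) : Mp φ n (Cc i) (Cc i) := by
  intro a ha
  obtain ⟨b, hb⟩ := H.exists_cj (b := a) h.hzu (by
    rw [← mul_assoc, zc_comm, mul_assoc, Cc_comm i a ha, mul_assoc])
  exact ⟨b, cen_u i b (H.comm hb h.hz (zc_comm a)), hb⟩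

theorem Pre.hZ {i : Bool} {n : G} (h : Pre φ i n) {c : Hc} (hc : c ∈ Z1 i) :
    Cj φ n c (sig (lZ i) c) := by
  have h1 : ∀ x ∈ lZ i, (x.2 = (zc, uu i) ∨ x.2 = (uu i, zc * uu i)) ∧ x.2.1 * x.2.1 = 1 := by
    cases i <;> decide +kernel
  have h2 : ∀ c ∈ Z1 i, rem (lZ i) c = 1 := by cases i <;> decide +kernel
  refine cj_sift (fun x hx => ⟨?_, (h1 x hx).2⟩) (h2 c hc)
  rcases (h1 x hx).1 with e | e <;> rw [e]
  exacts [h.hz, h.hu]

theorem Pre.fix_s {i : Bool} {n : G} (h : Pre φ i n) (H : HS φ) : ∃ n, Pre φ i n ∧ ∃ c ∈ Z1 i,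
    Cj φ n (ss i * c) (ss i * c) ∧ (tinv i (ss i * c) → c = cc false ∨ c = cc true) := by
  have f : ss i ∈ Cc i ∧ ss i * ss i = 1 ∧ ss i * xx i * ss i * xx i = 1 ∧
      ∀ k ∈ [1, xx i, xx i * xx i], k ∈ Pc i ∧ k * uu i = uu i * k ∧ k * xx i = xx i * k ∧
        k * (zc * uu i) = zc * uu i * k := by cases i <;> decide +kernel
  obtain ⟨s, hs, e⟩ := h.mpC H _ f.1
  obtain ⟨k, hk, c, hc, e1, e2⟩ := chk_s i s hs (H.sq e f.2.1)
    (H.uniq (((e.mul h.hx).mul e).mul h.hx) ((cj_one _).congr f.2.2.1.symm rfl))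
  obtain ⟨k1, k2, k3, k4⟩ := f.2.2.2 k hk
  exact ⟨φ k * n, ⟨(Nm φ _).mul_mem (P_nm i k1) h.nm, (cj_of k2).comp h.hz, (cj_of k4).comp h.hu,
    (cj_of k3).comp h.hx⟩, c, hc, (cj_of e1).comp (e.mul (h.hZ hc)), e2⟩

theorem Pre.fix_w {i : Bool} {n : G} (h : Pre φ i n) (H : HS φ) {c : Hc} (hc : c ∈ Z1 i)
    (hs : Cj φ n (ss i * c) (ss i * c)) : (∀ v ∈ Uc i, Cj φ n v (sig (lU i) v)) ∧
    ∃ y, Cj φ n y y ∧ y * (tt i * y * tt i) ∈ Uc i ∧ y * y = 1 ∧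
      (tinv i y → y = yy i false ∨ y = yy i true) := by
  have f : ww i ∈ Cc i ∧ ww i * ww i = 1 ∧ ww i * xx i * (ww i * xx i) * (ww i * xx i) = 1 ∧
      ww i ∉ Uc i ∧ (∀ c ∈ Z1 i, ∀ a ∈ [ww i, uu (!i), bb], a * (ss i * c) = ss i * c * a) ∧
      (∀ a ∈ [uu (!i), bb], a ∈ Uc i ∧ a * xx i * (a * xx i) * (a * xx i) = 1) ∧
      uu (!i) * (xx i * ww i * (xx i * xx i)) * (uu (!i) * (xx i * ww i * (xx i * xx i))) = zc ∧
      bb * (xx i * ww i * (xx i * xx i)) * (bb * (xx i * ww i * (xx i * xx i))) = uu i ∧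
      ∀ x ∈ lU i, x.2.1 * x.2.1 = 1 ∧ ∃ w ∈ [[0, 1, 0, 0], [1], [3], [0, 2, 0, 0], [2], [4]],
        ev (nth 1 [xx i, uu (!i), bb, zc, uu i]) w = x.2.1 ∧
        ev (nth 1 [xx i, bb, uu (!i) * bb, uu i, zc * uu i]) w = x.2.2 := by
    cases i <;> decide +kernel
  obtain ⟨f1, f2, f3, f4, f5, f6, f7, f8, f9⟩ := f
  have cube : ∀ {a b}, Cj φ n a b → a * xx i * (a * xx i) * (a * xx i) = 1 →
      b * xx i * (b * xx i) * (b * xx i) = 1 := fun e k =>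
    H.uniq (((e.mul h.hx).mul (e.mul h.hx)).mul (e.mul h.hx)) ((cj_one _).congr k.symm rfl)
  obtain ⟨w, hw, e⟩ := h.mpC H _ f1
  obtain ⟨k1, v, hv, k2, k3⟩ := chk_w i c hc w hw (H.sq e f2) (cube e f3)
    (H.comm e hs (f5 c hc _ (by simp))) fun k => f4 ((H.mem_of_nm h.nm e).2 k)
  have e' := (h.hx.mul e).mul (h.hx.mul h.hx)
  obtain ⟨a, ha, ea⟩ := h.nm _ (f6 (uu (!i)) (by simp)).1
  obtain ⟨b, hb, eb⟩ := h.nm _ (f6 bb (by simp)).1
  obtain rfl := (k1 a ha (cube ea (f6 _ (by simp)).2) (H.comm ea hs (f5 c hc _ (by simp)))).1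
    (H.uniq ((ea.mul e').mul (ea.mul e')) (h.hz.congr f7.symm rfl))
  obtain rfl := (k1 b hb (cube eb (f6 _ (by simp)).2) (H.comm eb hs (f5 c hc _ (by simp)))).2
    (H.uniq ((eb.mul e').mul (eb.mul e')) (h.hu.congr f8.symm rfl))
  have hU : ∀ v ∈ Uc i, Cj φ n v (sig (lU i) v) := fun v hv => by
    refine cj_sift (fun x hx => ⟨?_, (f9 x hx).1⟩) (chk_U i v hv).1
    obtain ⟨w, -, e1, e2⟩ := (f9 x hx).2
    refine (cj_ev (fun c => ?_) w).congr e1 e2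
    exact match c with
      | 0 => h.hx | 1 => ea | 2 => eb | 3 => h.hz | 4 => h.hu | _ + 5 => cj_one n
  exact ⟨hU, _, (e.mul (hU v hv)).congr rfl k2, k3⟩

theorem HS.cube (H : HS φ) {i : Bool} {n : G} (hU : ∀ v ∈ Uc i, Cj φ n v (sig (lU i) v)) :
    n * n * n = 1 := by
  obtain ⟨a, ha, e⟩ := H.cen_gU (i := i) (g := n * n * n) fun v hv => by
    have h1 := gU_mem i v hv
    have h2 := (chk_U i v h1).2.1
    exact (((hU _ (chk_U i _ h2).2.1).comp (hU _ h2)).comp (hU v h1)).congr rfl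
      (chk_U i v h1).2.2.1
  rw [← e, (chk_U i a ha).2.2.2.2.2 (H.uniq (hU a ha) (cj_of_comm (by rw [e]; group))), map_one]

/-- the element of order three of side `i`. -/
structure Side (φ : Hc →* G) (i oc oy : Bool) (n : G) : Prop where
  hx : Cj φ n (xx i) (xx i)
  hs : Cj φ n (ss i * cc oc) (ss i * cc oc)
  hy : Cj φ n (yy i oy) (yy i oy)
  hU : ∀ v ∈ Uc i, Cj φ n v (sig (lU i) v)
  n3 : n * n * n = 1
  tn : φ (tt i) * n * (φ (tt i) * n) = 1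

theorem Side.mulz {i oc oy : Bool} {n : G} (S : Side φ i oc oy n) :
    Side φ i oc oy (φ zc * n * φ zc) := by
  have hz : φ zc * φ zc = 1 := by rw [← map_mul, Uc_sq true _ (zc_mem _), map_one]
  have k : ∀ {a b}, Cj φ n a b → Cj φ (φ zc * n * φ zc) a b := fun h =>
    ((cj_of (zc_comm _).symm).comp h).comp (cj_of (zc_comm _).symm)
  have hi := inv_eq_of_mul_eq_one_right hz
  refine ⟨k S.hx, k S.hs, k S.hy, fun v hv => k (S.hU v hv), ?_, ?_⟩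
  · rw [show φ zc * n * φ zc = φ zc * n * (φ zc)⁻¹ by rw [hi], conj_mul, conj_mul, S.n3]; simp
  · rw [show φ (tt i) * (φ zc * n * φ zc) = φ zc * (φ (tt i) * n) * (φ zc)⁻¹ by
      rw [hi, ← mul_assoc, ← mul_assoc, ← map_mul, zc_comm, map_mul, mul_assoc _ _ n],
      conj_mul, S.tn]
    simp

theorem HS.exists_side0 (H : HS φ) {i : Bool} (h : IsConj (φ zc) (φ (uu i))) :
    ∃ n oc oy, Side φ i oc oy n := by
  obtain ⟨-, -, -, -, -, f6, -, f8, f9, f10, f11, f12, f13, f14⟩ := side_facts i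
  obtain ⟨n, h⟩ := H.exists_pre h
  obtain ⟨n, h, c, hc, hs, k1⟩ := h.fix_s H
  obtain ⟨hU, y, hy, y1, y2, k2⟩ := h.fix_w H hc hs
  have ct := cj_invol (φ := φ) f12
  obtain ⟨a, ha, e⟩ := H.cen_gU (i := i) (g := φ (tt i) * n * (φ (tt i) * n)) fun v hv => by
    have h1 := gU_mem i v hv
    exact (((ct _).comp (hU _ (chk_U i _ (chk_U i v h1).2.1).2.2.2.2.1)).comp
      ((ct _).comp (hU v h1))).congr rfl (chk_U i v h1).2.2.2.1
  have ax := (cj_of f9).comp h.hx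
  have aa : Cj φ (φ (tt i) * n) a a := cj_of_comm (by rw [e]; group)
  have azu : Cj φ (φ (tt i) * n) (zc * uu i) zc := (cj_of (zc_comm _)).comp h.hzu
  have h3 : a = 1 ∨ a = uu i := by
    rcases cen_x i a ha (H.eq (e ▸ ax.comp ax)) with e | rfl | e | rfl
    · exact Or.inl e
    · exact absurd (H.cinj azu aa) f13
    · exact Or.inr e
    · exact absurd (H.uniq aa azu) f13
  have ti : ∀ {g}, Cj φ n g g → g * (tt i * g * tt i) ∈ Uc i → g * g = 1 → tinv i g :=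
    fun {g} g1 g2 g3 => by
      refine H.uniq (((ct _).comp ((g1.mul (hU _ g2)).congr
        (by rw [← mul_assoc, g3, one_mul]) rfl)).comp ((ct _).comp g1)) (e ▸ cj_of ?_)
      rcases h3 with rfl | rfl
      · simp
      · exact (H.comm g1 h.hz (zc_comm g)).symm
  have f : ∀ c ∈ Z1 i, ss i * c * (tt i * (ss i * c) * tt i) ∈ Uc i ∧ ss i * c * (ss i * c) = 1 := by
    cases i <;> decide +kernel
  obtain ⟨oc, rfl⟩ : ∃ oc, c = cc oc :=
    (k1 (ti hs (f c hc).1 (f c hc).2)).elim (fun e => ⟨_, e⟩) fun e => ⟨_, e⟩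
  obtain ⟨oy, rfl⟩ : ∃ oy, y = yy i oy := (k2 (ti hy y1 y2)).elim (fun e => ⟨_, e⟩) fun e => ⟨_, e⟩
  rcases h3 with rfl | rfl
  · exact ⟨n, oc, oy, h.hx, hs, hy, hU, H.cube hU, by rw [← e, map_one]⟩
  · have k : ∀ {a b}, Cj φ n a b → Cj φ (n * φ zc) a b := fun h => h.comp (cj_of (zc_comm _).symm)
    refine ⟨n * φ zc, oc, oy, k h.hx, k hs, k hy, fun v hv => k (hU v hv),
      H.cube fun v hv => k (hU v hv), ?_⟩
    rw [← mul_assoc _ n]
    generalize φ (tt i) * n = τ at e azu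
    calc τ * φ zc * (τ * φ zc) = τ * (τ * φ (zc * uu i) * τ⁻¹) * (τ * φ zc) := by rw [azu]
      _ = τ * τ * φ (zc * uu i) * φ zc := by group
      _ = 1 := by rw [← e, ← map_mul, f11, ← map_mul, Uc_sq true _ (zc_mem _), map_one]

theorem Side.hR {i oc oy : Bool} {n : G} (S : Side φ i oc oy n) {d : Hc} (hd : d ∈ Rc) :
    Cj φ n d (sig (lR i oc oy) d) := by
  have f : cc oc ∈ Uc i ∧ ss i * cc oc * cc oc = ss i ∧ ss i * ss i = 1 ∧ yy i oy * ww i ∈ Uc i ∧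
      yy i oy * (yy i oy * ww i) = ww i ∧ ww i * ww i = 1 ∧
      ∀ x ∈ lU i, x.2.1 * x.2.1 = 1 ∧ x.2.1 ∈ Uc i ∧ sig (lU i) x.2.1 = x.2.2 := by
    cases i <;> cases oc <;> cases oy <;> decide +kernel
  obtain ⟨f1, f2, f3, f4, f5, f6, f7⟩ := f
  refine cj_sift ?_ (chk_R i oc oy d hd).1
  simp only [lR, List.forall_mem_cons]
  exact ⟨⟨(S.hs.mul (S.hU _ f1)).congr f2 rfl, f3⟩, ⟨(S.hy.mul (S.hU _ f4)).congr f5 rfl, f6⟩,
    fun x hx => ⟨(S.hU _ (f7 x hx).2.1).congr rfl (f7 x hx).2.2, (f7 x hx).1⟩⟩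

theorem HS.exists_side (H : HS φ) {m : ℕ} (hm : m ∈ [3, 5, 23, 87, 151, 215])
    (P : Pat φ (IsConj (φ zc)) m) {i : Bool} (h : m.testBit (cls (uu i)) = true) :
    ∃ n, Side φ i (om m i) (om m i) n := by
  have hu := (side_facts i).2.2.2.2.2.1
  obtain ⟨n, oc, oy, S⟩ := H.exists_side0 ((P.iff _ (Uc_le_Tc i hu) (Uc_sq i _ hu)).2 h)
  have k : ∀ {p m}, Pat φ p m → ∀ d ∈ Rc, d * d = 1 →
      m.testBit (cls d) = m.testBit (cls (sig (lR i oc oy) d)) := fun P d hd h2 =>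
    P.bit H (S.hR hd) (Rc_le_Tc hd) (Rc_le_Tc (chk_R i oc oy d hd).2) h2
  obtain ⟨m', hm', P'⟩ := exists_pat (φ := φ)
    (p := fun g => IsConj g (φ (rep 3)) ∨ IsConj g (φ (rep 5)))
    (fun g x hx => hx.imp (isConj_iff.2 ⟨g, rfl⟩ : IsConj x _).symm.trans
      (isConj_iff.2 ⟨g, rfl⟩ : IsConj x _).symm.trans)
    (by
      rw [isConj_one_right, isConj_one_right, map_eq_one_iff φ H.inj, map_eq_one_iff φ H.inj]
      decide +kernel)
  obtain rfl := chk_mix i m' hm' ((P'.rep (by norm_num)).1 (Or.inl (IsConj.refl _)))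
    ((P'.rep (by norm_num)).1 (Or.inr (IsConj.refl _))) (fun k hk => by
      rw [← Bool.not_eq_true, ← P'.rep (by simp at hk; omega), isConj_iff, isConj_iff]
      rintro (⟨g, hg⟩ | ⟨g, hg⟩)
      exacts [H.not_cj_B hk (Or.inl rfl) g hg, H.not_cj_B hk (Or.inr rfl) g hg]) oc oy (k P')
  obtain rfl := chk_opt i m hm h oc (k P)
  exact ⟨n, S⟩

end Held

end H28
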