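import Mathlib
import Cfsg.Agent.H28.HeldB

/-! Groups with the involution centraliser of `L₅(2)`: the relators of the amalgam. -/

set_option autoImplicit false
set_option linter.unusedSectionVars false
set_option synthInstance.maxSize 4096

namespace H28

namespace Held

open H29

variable {G : Type*} [Group G] [Finite G] {φ : Hc →* G}

/-- `g` acts on `A` as `f`. -/
def Ac (φ : Hc →* G) (A : Subgroup Hc) (g : G) (f : Hc → Hc) : Prop :=
  ∀ v ∈ A, f v ∈ A ∧ Cj φ g v (f v)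

/-- `g` carries `⟨x⟩` to its conjugate by `a`. -/
def Af (φ : Hc →* G) (x g : G) (a : Hc) : Prop :=
  g * x * g⁻¹ = φ a * x * (φ a)⁻¹ ∨ g * x * g⁻¹ = (φ a * x * (φ a)⁻¹)⁻¹

theorem Af.mul {x g g' : G} {a a' b : Hc} (h : Af φ x g a) (h' : Af φ x g' a') (e : Cj φ g a' b) :
    Af φ x (g * g') (b * a) := by
  have k : g * (φ a' * x * (φ a')⁻¹) * g⁻¹ = φ b * (g * x * g⁻¹) * (φ b)⁻¹ := by rw [← e]; group
  have k' : g * (φ a' * x * (φ a')⁻¹)⁻¹ * g⁻¹ = (φ b * (g * x * g⁻¹) * (φ b)⁻¹)⁻¹ := by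
    rw [← k]; group
  rw [Af, show g * g' * x * (g * g')⁻¹ = g * (g' * x * g'⁻¹) * g⁻¹ by group, map_mul]
  rcases h' with h' | h' <;> rcases h with h | h <;> simp only [h', k, k', h]
  · left; group
  · right; group
  · right; group
  · left; group

theorem Af.comm {x g y : G} {a : Hc} (h : Af φ x g a) (k : Commute (g * x * g⁻¹) y) :
    Commute (φ a * x * (φ a)⁻¹) y := by
  rcases h with h | h <;> rw [h] at k
  exacts [k, Commute.inv_left_iff.1 k]

theorem ac_ev {A : Subgroup Hc} {e : ℕ → G} {F : ℕ → Hc → Hc} {L : List ℕ}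
    (h : ∀ c ∈ L, Ac φ A (e c) (F c)) : ∀ w, (∀ c ∈ w, c ∈ L) → Ac φ A (ev e w) (evF F w)
  | [], _ => fun v hv => ⟨hv, cj_refl v⟩
  | c :: w, hw => fun v hv => by
    obtain ⟨h1, h2⟩ := ac_ev h w (fun c hc => hw c (by simp [hc])) v hv
    obtain ⟨h3, h4⟩ := h c (hw c (by simp)) _ h1
    exact ⟨h3, ev_cons e c w ▸ h4.comp h2⟩

theorem af_ev {A : Subgroup Hc} {x : G} {e : ℕ → G} {F : ℕ → Hc → Hc} {B : ℕ → Hc} {L : List ℕ}
    (h : ∀ c ∈ L, Ac φ A (e c) (F c) ∧ B c ∈ A ∧ Af φ x (e c) (B c)) :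
    ∀ w, (∀ c ∈ w, c ∈ L) → evA F B w ∈ A ∧ Af φ x (ev e w) (evA F B w)
  | [], _ => ⟨A.one_mem, Or.inl (by simp [show evA F B [] = 1 from rfl])⟩
  | c :: w, hw => by
    obtain ⟨h1, h2⟩ := af_ev h w fun c hc => hw c (by simp [hc])
    obtain ⟨h3, h4, h5⟩ := h c (hw c (by simp))
    exact ⟨A.mul_mem (h3 _ h1).1 h4, ev_cons e c w ▸ h5.mul h2 (h3 _ h1).2⟩

theorem Side.hz {i oc oy : Bool} {n : G} (S : Side φ i oc oy n) : Cj φ n zc (uu i) :=
  (S.hU _ (zc_mem i)).congr rfl (by cases i <;> decide +kernel)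

theorem Side.inv {i oc oy : Bool} {n : G} (S : Side φ i oc oy n) : n⁻¹ = n * n :=
  inv_eq_of_mul_eq_one_left S.n3

theorem Side.eq_one {i oc oy : Bool} {n g : G} (S : Side φ i oc oy n) (H : HS φ)
    (h1 : ∀ v ∈ gU i, Cj φ g v v) (h2 : Af φ n g 1) : g = 1 := by
  obtain ⟨a, ha, rfl⟩ := H.cen_gU h1
  simp only [Af, map_one, one_mul, inv_one, mul_one] at h2
  rcases h2 with h | h
  · rw [(chk_U i a ha).2.2.2.2.2 (H.uniq (S.hU a ha) (cj_of_comm (mul_inv_eq_iff_eq_mul.1 h).symm)),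
      map_one]
  · have e : φ (a * (sig (lU i) a)⁻¹) = n := by
      rw [map_mul, ← (S.hU a ha).inv, map_inv, ← mul_assoc, ← mul_assoc, h, ← mul_inv_rev, ← S.inv,
        inv_inv]
    have := H.eq (e ▸ S.hz)
    rw [zc_comm, mul_left_inj] at this
    exact absurd this.symm (side_facts i).2.2.2.2.2.2.2.1

/-- the letters. -/
noncomputable def eL (φ : Hc →* G) (x : Bool → G) (c : ℕ) : G :=
  cond (Nat.beq c 4) (φ (tt true) * x true) (cond (Nat.beq c 7) (φ (tt false) * x false) (φ (lt c)))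

theorem eL_nw (x : Bool → G) (i : Bool) : eL φ x (nw i) = φ (tt i) * x i := by cases i <;> rfl

theorem eL_iv {x : Bool → G} (h : ∀ i, φ (tt i) * x i * (φ (tt i) * x i) = 1) :
    IvOK (eL φ x) (ivOf []) := fun c => by
  refine eq_inv_of_mul_eq_one_left ?_
  change eL φ x c * eL φ x c = 1
  rw [eL]
  cases Nat.beq c 4
  · cases Nat.beq c 7
    · exact (map_mul φ _ _).symm.trans (by rw [lt_sq, map_one])
    · exact h false
  · exact h true

theorem eL_H (x : Bool → G) : ∀ c ∈ [0, 1, 2, 3, 5, 6], eL φ x c = φ (lt c) := by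
  simp only [List.forall_mem_cons]
  exact ⟨rfl, rfl, rfl, rfl, rfl, rfl, by simp⟩

theorem LH_sub (i : Bool) : ∀ c ∈ LH i, c ∈ [0, 1, 2, 3, 5, 6] := by cases i <;> decide

theorem ev_H (x : Bool → G) {w : List ℕ} (h : ∀ c ∈ w, c ∈ [0, 1, 2, 3, 5, 6]) :
    ev (eL φ x) w = φ (ev lt w) := by rw [map_ev, ev_congr fun c hc => eL_H x c (h c hc)]

theorem rel_H (x : Bool → G) {r : List ℕ} (h : chkH r) : ev (eL φ x) r = 1 := by
  rw [ev_H x h.1, h.2, map_one]

theorem Side.af_t {i oc oy : Bool} {n : G} (S : Side φ i oc oy n) : Af φ n (φ (tt i)) 1 := by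
  right
  rw [map_one, one_mul, inv_one, mul_one, ← map_inv,
    inv_eq_of_mul_eq_one_right (side_facts i).2.2.2.2.2.2.2.2.2.2.2.1]
  exact eq_inv_of_mul_eq_one_left (by rw [← S.tn]; group)

theorem Side.af_kg {i o : Bool} {n : G} (S : Side φ i o o n) : ∀ w, Af φ n (φ (ev (kg i o) w)) 1
  | [] => Or.inl (by simp)
  | c :: w => by
    have k : ∀ {a}, Cj φ n a a → Af φ n (φ a) 1 := fun h => Or.inl (by rw [← h.comm]; simp)
    have : Af φ n (φ (kg i o c)) 1 := match c with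
      | 0 => S.af_t | 1 => k S.hx | 2 => k S.hs | 3 => k S.hy | _ + 4 => k (cj_one n)
    simpa using this.mul (S.af_kg w) (cj_one _)

/-- the data of a letter in the normaliser of `U`. -/
def Lt (φ : Hc →* G) (x : Bool → G) (m : ℕ) (i : Bool) (c : ℕ) : Prop :=
  Ac φ (Uc i) (eL φ x c) (FL m c) ∧ AL m i c ∈ Uc i ∧ Af φ (x i) (eL φ x c) (AL m i c)

section
variable {m : ℕ} {x : Bool → G} (hm : m ∈ [3, 5, 23, 87, 151, 215])
include hm

theorem Side.lt_H {i : Bool} (S : Side φ i (om m i) (om m i) (x i)) :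
    ∀ c ∈ LH i, Lt φ x m i c := fun c hc => by
  obtain ⟨h1, h2⟩ := (chk_AL m hm i).2 c (by simp [hc])
  have h3 : ∀ c ∈ [0, 1, 2, 3, 5, 6], ∀ v, FL m c v = lt c * v * lt c := by
    simp only [List.forall_mem_cons]
    exact ⟨fun _ => rfl, fun _ => rfl, fun _ => rfl, fun _ => rfl, fun _ => rfl, fun _ => rfl,
      by simp⟩
  rw [Lt, eL_H x c (LH_sub i c hc)]
  refine ⟨fun v hv => ⟨h2 v hv, h3 c (LH_sub i c hc) v ▸ cj_invol (lt_sq c) v⟩, h1, ?_⟩
  rw [(chk_AL m hm i).1 c hc, map_mul]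
  simpa using Af.mul (Or.inl rfl : Af φ (x i) (φ (AL m i c)) (AL m i c)) (S.af_kg _) (cj_one _)

theorem Side.ac_nw {j : Bool} (S : Side φ j (om m j) (om m j) (x j)) (i : Bool) :
    Ac φ (Uc i) (eL φ x (nw j)) (FL m (nw j)) := fun v hv => by
  refine ⟨((chk_AL m hm i).2 _ (by cases j <;> simp [nw])).2 v hv, ?_⟩
  rw [eL_nw, show FL m (nw j) v = tt j * sM m j v * tt j by cases j <;> rfl]
  exact (cj_invol (side_facts j).2.2.2.2.2.2.2.2.2.2.2.1 _).comp (S.hR (Uc_le_Rc i hv))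

theorem Side.lt_nw {i : Bool} (S : Side φ i (om m i) (om m i) (x i)) : Lt φ x m i (nw i) := by
  refine ⟨S.ac_nw hm i, ((chk_AL m hm i).2 _ (by cases i <;> simp [nw])).1, ?_⟩
  rw [eL_nw, show AL m i (nw i) = 1 by cases i <;> rfl]
  simpa using S.af_t.mul (Or.inl (by simp) : Af φ (x i) (x i) 1) (cj_one _)

end

theorem Side.rel_M {m : ℕ} {x : Bool → G} {i : Bool} (S : Side φ i (om m i) (om m i) (x i))
    (H : HS φ) {L r : List ℕ} (hL : ∀ c ∈ L, Lt φ x m i c) (h : chkM m i L r) :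
    ev (eL φ x) r = 1 :=
  S.eq_one H (fun v hv => (ac_ev (fun c hc => (hL c hc).1) r h.1 v (gU_mem i v hv)).2.congr rfl
    (h.2.1 v hv)) (h.2.2 ▸ (af_ev hL r h.1).2)

theorem af_of_comm {x y : G} {d d' : Hc} (h : Commute x (φ d * y * (φ d)⁻¹)) (e : Cj φ x d d')
    (h1 : d' * d' = 1) (h2 : d * d' = d' * d) : Af φ y x (d * d') := by
  left
  rw [h2, ← inv_eq_of_mul_eq_one_right h1, map_mul, map_inv, ← e,
    show (x * φ d * x⁻¹)⁻¹ * φ d * y * ((x * φ d * x⁻¹)⁻¹ * φ d)⁻¹ =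
      x * (φ d)⁻¹ * (x⁻¹ * (φ d * y * (φ d)⁻¹)) * x * φ d * x⁻¹ by group, h.inv_left.eq]
  group

/-- both elements of order three. -/
structure Both (φ : Hc →* G) (m : ℕ) (x : Bool → G) : Prop where
  side : ∀ i, Side φ i (om m i) (om m i) (x i)
  cm : Commute (x true) (φ (dl m) * x false * (φ (dl m))⁻¹)

theorem mem_six {m : ℕ} (hm : m ∈ [23, 87, 151, 215]) : m ∈ [3, 5, 23, 87, 151, 215] := by
  simp only [List.mem_cons] at hm ⊢; tauto

theorem Zc_le_Rc {a : Hc} (h : a ∈ Zc) : a ∈ Rc := Uc_le_Rc true (Zc_iff.1 h).1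

theorem Zc_sq {a : Hc} (h : a ∈ Zc) : a * a = 1 := Uc_sq true a (Zc_iff.1 h).1

theorem HS.exists_both (H : HS φ) {m : ℕ} (hm : m ∈ [23, 87, 151, 215])
    (P : Pat φ (IsConj (φ zc)) m) : ∃ x, Both φ m x := by
  have hm' := mem_six hm
  have hb : ∀ m ∈ [23, 87, 151, 215], ∀ i, m.testBit (cls (uu i)) = true := by decide +kernel
  choose x S using fun i => H.exists_side hm' P (hb m hm i)
  have hR : ∀ i, ∀ d ∈ Rc, sM m i d ∈ Rc ∧ Cj φ (x i) d (sM m i d) := fun i d hd =>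
    ⟨(chk_R _ _ _ d hd).2, (S i).hR hd⟩
  have k : ∀ i, ∃ a ∈ Uc i, φ a = x false * x true * (x false)⁻¹ * (x true)⁻¹ := fun i => by
    rw [(S _).inv, (S _).inv]
    refine H.cen_gU fun v hv => ?_
    obtain ⟨a1, b1⟩ := hR true v (Uc_le_Rc i (gU_mem i v hv))
    obtain ⟨a2, b2⟩ := hR true _ a1
    obtain ⟨a3, b3⟩ := hR false _ a2
    obtain ⟨a4, b4⟩ := hR false _ a3
    obtain ⟨a5, b5⟩ := hR true _ a4
    exact ((((hR false _ a5).2.comp b5).comp (b4.comp b3)).comp (b2.comp b1)).congr rfl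
      (chk_comm m hm i v hv)
  obtain ⟨h, h1, e⟩ := k true
  obtain ⟨h', h2, e'⟩ := k false
  obtain rfl := H.inj (e.trans e'.symm)
  obtain ⟨c1, c2, c3⟩ := chk_dl m hm
  obtain ⟨⟨d, hd, c3⟩, c4⟩ := c3 h (Zc_iff.2 ⟨h1, h2⟩)
  have cm : ∀ d ∈ Zc, EE m h d ↔ Commute (x true) (φ d * x false * (φ d)⁻¹) := fun d hd => by
    have e1 := hR false d (Zc_le_Rc hd)
    have e2 := (hR true _ (Rc.mul_mem e1.1 (Zc_le_Rc hd))).2
    have e3 : (φ d)⁻¹ = φ d := by rw [← map_inv, inv_eq_of_mul_eq_one_right (Zc_sq hd)]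
    rw [EE, ← map_eq_one_iff φ H.inj, map_mul, map_mul, map_mul, ← e2, map_mul, ← e1.2, e,
      Commute.symm_iff, ← commutatorElement_eq_one_iff_commute, commutatorElement_def, mul_inv_rev,
      mul_inv_rev, inv_inv, e3]
    exact iff_of_eq (congrArg (· = 1) (by group))
  have c5 := (cm d hd).1 c3
  rcases c4 d hd c3 (fun w hw => by
    obtain ⟨w1, w2, w3⟩ := c2 w hw
    have w4 : ∀ i, ∀ c ∈ w, c ∈ LH i := fun i c hc => by
      have := w1 c hc
      cases i <;> simp only [LH, List.mem_cons, cond_true, cond_false] at this ⊢ <;> tauto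
    have a1 := fun i => (af_ev ((S i).lt_H hm') w (w4 i)).2
    have a2 := (ac_ev (fun c hc => ((S true).lt_H hm' c hc).1) w (w4 _) d (Zc_iff.1 hd).1).2
    refine (cm _ (Zc.mul_mem (Zc.mul_mem (w2 _) (w3 d hd)) (w2 _))).2 ?_
    generalize ev (eL φ x) w = n at a1 a2
    have b1 := (a1 true).comm (c5.map (MulAut.conj n))
    have b2 := (a1 false).comm (y := (MulAut.conj (φ (evF (FL m) w d))⁻¹) _) (by
      have := (b1.map (MulAut.conj (φ (evF (FL m) w d))⁻¹)).symm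
      convert this using 1
      rw [← a2]; simp [mul_assoc])
    have := (b2.map (MulAut.conj ((φ (evA (FL m) (AL m true) w))⁻¹ * φ (evF (FL m) w d)))).symm
    rw [← inv_eq_of_mul_eq_one_right (Zc_sq (w2 true))]
    convert this using 1 <;> simp [mul_assoc]) with rfl | rfl
  · exact ⟨x, S, c5⟩
  · refine ⟨fun i => cond i (x true) (φ zc * x false * φ zc), fun i => ?_, ?_⟩
    · cases i
      exacts [(S false).mulz, S true]
    · rw [map_mul, mul_inv_rev, ← map_inv φ zc,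
        inv_eq_of_mul_eq_one_right (Uc_sq true _ (zc_mem _))] at c5
      simpa [mul_assoc] using c5

theorem Both.lt {m : ℕ} {x : Bool → G} (B : Both φ m x) (hm : m ∈ [23, 87, 151, 215]) (i : Bool) :
    ∀ c ∈ 4 :: 7 :: LH i, Lt φ x m i c := by
  have hm' := mem_six hm
  have hd := (chk_dl m hm).1
  have k : Lt φ x m i (nw (!i)) := by
    refine ⟨(B.side _).ac_nw hm' i, ((chk_AL m hm' i).2 _ (by cases i <;> simp [nw])).1, ?_⟩
    have h1 := ((B.side i).lt_H hm' (cond i 3 0) (by cases i <;> decide)).2.2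
    have h2 : Commute (x (!i)) (φ (dl m) * x i * (φ (dl m))⁻¹) := by
      cases i
      · exact B.cm
      · have := (B.cm.map (MulAut.conj (φ (dl m))⁻¹)).symm
        nth_rw 1 [← inv_eq_of_mul_eq_one_right (Zc_sq hd)]
        nth_rw 2 [← inv_eq_of_mul_eq_one_right (Zc_sq hd)]
        convert this using 1 <;> simp [mul_assoc]
    have h3 := sM_U m hm' (!i) _ hd
    have := h1.mul (af_of_comm h2 ((B.side _).hR (Zc_le_Rc hd)) (Zc_sq h3)
      (Zc_comm hd (Zc_le_Rc h3))) (b := tt (!i) * (dl m * sM m (!i) (dl m)) * tt (!i)) (by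
        cases i <;> exact cj_invol (lt_sq _) _)
    cases i <;> exact this
  intro c hc
  rcases List.mem_cons.1 hc with rfl | hc
  · cases i
    exacts [k, (B.side true).lt_nw hm']
  rcases List.mem_cons.1 hc with rfl | hc
  · cases i
    exacts [(B.side false).lt_nw hm', k]
  exact (B.side i).lt_H hm' c hc

theorem Both.rel {m : ℕ} {x : Bool → G} (B : Both φ m x) (H : HS φ) (hm : m ∈ [23, 87, 151, 215])
    {r : List ℕ} (h : chkR m r) : ev (eL φ x) r = 1 :=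
  h.elim (rel_H x) fun h => h.elim ((B.side _).rel_M H (B.lt hm _)) ((B.side _).rel_M H (B.lt hm _))

theorem Side.ac_V {i : Bool} {x : Bool → G} (S : Side φ i false false (x i)) :
    ∀ c ∈ nw i :: [0, 1, 2, 3, 5, 6], Ac φ (Vc i) (eL φ x c) (FV i c) := by
  intro c hc v hv
  refine ⟨(chk_V i).1 c hc v hv, ?_⟩
  rcases List.mem_cons.1 hc with rfl | hc
  · have f : xx i * yy i false * (xx i * xx i) = tt (!i) ∧
        ∀ y ∈ lZ i, y.2.1 ∈ Uc i ∧ sig (lU i) y.2.1 = y.2.2 := by cases i <;> decide +kernel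
    rw [eL_nw, show FV i (nw i) v = tt i * sig (lV i) v * tt i by cases i <;> rfl]
    refine (cj_invol (side_facts i).2.2.2.2.2.2.2.2.2.2.2.1 _).comp (cj_sift (fun y hy =>
      ⟨?_, (chk_V i).2.2.2.2.1 y hy⟩) ((chk_V i).2.1 v hv).1)
    rcases List.mem_cons.1 hy with rfl | hy
    · exact ((S.hx.mul S.hy).mul (S.hx.mul S.hx)).congr f.1 f.1
    rcases List.mem_cons.1 hy with rfl | hy
    · exact S.hy
    exact (S.hU _ (f.2 y hy).1).congr rfl (f.2 y hy).2
  · rw [eL_H x c hc, show FV i c v = lt c * v * lt c by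
      simp only [List.mem_cons, List.not_mem_nil, or_false] at hc
      rcases hc with rfl | rfl | rfl | rfl | rfl | rfl <;> cases i <;> rfl]
    exact cj_invol (lt_sq c) v

theorem Side.rel_V {i : Bool} {x : Bool → G} (S : Side φ i false false (x i)) (H : HS φ)
    {r : List ℕ} (h : chkV i r) : ev (eL φ x) r = 1 := by
  obtain ⟨h1, h2, h3, h4⟩ := h
  generalize r.take 5 = w at h1 h2 h4
  have h5 : ∀ v ∈ [zc, uu i, tt (!i), ww i], Cj φ (ev (eL φ x) r) v v := fun v hv => by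
    have hv := (chk_V i).2.2.2.1 v hv
    refine (ac_ev S.ac_V r (fun c hc => h2 c ?_) v hv).2.congr rfl (h3 v hv)
    simpa [h1, show powW 5 w = w ++ (w ++ (w ++ (w ++ (w ++ [])))) from rfl] using hc
  simp only [List.forall_mem_cons] at h5
  obtain ⟨a, e⟩ := H.of_cj h5.1
  rw [← e] at h5
  have ha := cen_V i a (cen_u i a (H.eq h5.2.1)) (H.eq h5.2.2.1) (H.eq h5.2.2.2.1)
  rw [← e, h4 a ha (H.uniq (ac_ev S.ac_V w h2 a ha).2 (cj_of_comm (by
    rw [e, h1, ev_powW]; group))), map_one]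

end Held

end H28
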