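import Mathlib
import Cfsg.Agent.H28.GrpLem

/-! Strongly embedded subgroups: the elementary lemmas. -/

set_option autoImplicit false
set_option linter.unusedSectionVars false

namespace H28

variable {G : Type*} [Group G] [Finite G]

theorem inv_of_sq {a : G} (ha : a * a = 1) : a⁻¹ = a := inv_eq_of_mul_eq_one_right ha

theorem conj_ne_one {a : G} (ha : a ≠ 1) (g : G) : g⁻¹ * a * g ≠ 1 := fun e => ha (by
  rwa [mul_assoc, inv_mul_eq_one, eq_comm, mul_eq_right] at e)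

theorem dih_conj {a b : G} (ha : a * a = 1) (hb : b * b = 1) (m : ℕ) :
    a * (a * b) ^ m * a = ((a * b) ^ m)⁻¹ := by
  have h : a * (a * b) * a⁻¹ = (a * b)⁻¹ := by
    rw [mul_inv_rev, inv_of_sq ha, inv_of_sq hb, ← mul_assoc, ha, one_mul]
  rw [← inv_pow, ← h, conj_pow, inv_of_sq ha]

/-- two involutions are conjugate by an involution, or commute with a third one. -/
theorem dihedral {a b : G} (ha : a * a = 1) (hb : b * b = 1) :
    (∃ d, d * d = 1 ∧ d * a * d = b) ∨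
      ∃ j, j ≠ 1 ∧ j * j = 1 ∧ j * a = a * j ∧ j * b = b * j := by
  have h1 := pow_orderOf_eq_one (a * b)
  rcases Nat.even_or_odd' (orderOf (a * b)) with ⟨m, hm | hm⟩
  · have hj : (a * b) ^ m * (a * b) ^ m = 1 := by rw [← pow_add, ← two_mul, ← hm, h1]
    have h2 : (a * b) ^ m * a = a * (a * b) ^ m := by
      have := dih_conj ha hb m
      rw [inv_of_sq hj] at this
      conv_rhs => rw [← this, ← mul_assoc, ← mul_assoc, ha, one_mul]
    refine Or.inr ⟨(a * b) ^ m, fun h => ?_, hj, h2, ?_⟩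
    · have := Nat.le_of_dvd (by have := orderOf_pos (a * b); omega) (orderOf_dvd_of_pow_eq_one h)
      have := orderOf_pos (a * b)
      omega
    · have h3 : Commute ((a * b) ^ m) (a * (a * b)) :=
        Commute.mul_right h2 (Commute.pow_left rfl m)
      rwa [← mul_assoc, ha, one_mul] at h3
  · refine Or.inl ⟨(a * b) ^ m * a, ?_, ?_⟩
    · rw [mul_assoc, ← mul_assoc a, dih_conj ha hb, mul_inv_cancel]
    · rw [hm, pow_succ, two_mul, pow_add] at h1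
      rw [← mul_assoc] at h1
      rw [mul_assoc _ a a, ha, mul_one, ← mul_assoc]
      exact (eq_inv_of_mul_eq_one_left h1).trans (inv_of_sq hb)

/-- `M` contains every element that conjugates an involution of `M` into `M`. -/
def SEmb (M : Subgroup G) : Prop :=
  ∀ j ∈ M, j ≠ 1 → j * j = 1 → ∀ k : G, k * j * k⁻¹ ∈ M → k ∈ M

theorem SEmb.fuse {M : Subgroup G} (h : SEmb M) {w : G} (hw : w ∉ M) (hw2 : w * w = 1) {i i' : G}
    (hi : i ∈ M) (hi1 : i ≠ 1) (hi2 : i * i = 1) (hi' : i' ∈ M) (hi1' : i' ≠ 1)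
    (hi2' : i' * i' = 1) : ∃ δ ∈ M, w * δ * w ∈ M ∧ δ * i * δ⁻¹ = i' := by
  have hwi := inv_of_sq hw2
  have h3 : w * i' * w * (w * i' * w) = 1 := by
    rw [show w * i' * w * (w * i' * w) = w * (i' * (w * w) * i') * w by group, hw2, mul_one, hi2',
      mul_one, hw2]
  rcases dihedral hi2 h3 with ⟨d, hd, e⟩ | ⟨j, j1, j2, j3, j4⟩
  · have e2 : w * d * i * (w * d)⁻¹ = i' := by
      rw [mul_inv_rev, inv_of_sq hd, show w * d * i * (d * w⁻¹) = w * (d * i * d) * w⁻¹ by group, e,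
        ← mul_assoc, ← mul_assoc, hw2, one_mul, mul_inv_cancel_right]
    have hm := h i hi hi1 hi2 _ (e2 ▸ hi')
    refine ⟨_, hm, ?_, e2⟩
    rw [← mul_assoc, hw2, one_mul, ← inv_of_sq hd, ← hwi, ← mul_inv_rev]
    exact M.inv_mem hm
  · have hj : j ∈ M := h i hi hi1 hi2 j (by rwa [j3, mul_inv_cancel_right])
    refine absurd (h j hj j1 j2 w (h i' hi' hi1' hi2' _ ?_)) hw
    rw [show w * j * w⁻¹ * i' * (w * j * w⁻¹)⁻¹ = w * (j * (w⁻¹ * i' * w)) * j⁻¹ * w⁻¹ by group,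
      hwi, j4, show w * (w * i' * w * j) * j⁻¹ * w = w * w * i' * (w * w) by group, hw2, one_mul,
      mul_one]
    exact hi'

theorem SEmb.exists_out {M : Subgroup G} (h : SEmb M) (hM : M ≠ ⊤) {i : G} (hi : i ∈ M)
    (hi1 : i ≠ 1) (hi2 : i * i = 1) : ∃ w, w ∉ M ∧ w * w = 1 := by
  obtain ⟨k, hk⟩ : ∃ k, k ∉ M := by
    by_contra! h1
    exact hM ((Subgroup.eq_top_iff' M).2 h1)
  refine ⟨k * i * k⁻¹, fun h1 => hk (h i hi hi1 hi2 k h1), ?_⟩
  rw [conj_mul, hi2, mul_one, mul_inv_cancel]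

/-- a strongly embedded subgroup has one class of involutions. -/
theorem SEmb.eq_top {M : Subgroup G} (h : SEmb M) {i i' : G} (hi : i ∈ M) (hi1 : i ≠ 1)
    (hi2 : i * i = 1) (hi' : i' ∈ M) (hi1' : i' ≠ 1) (hi2' : i' * i' = 1)
    (hne : ∀ δ : G, δ * i * δ⁻¹ ≠ i') : M = ⊤ := by
  by_contra hM
  obtain ⟨w, hw, hw2⟩ := h.exists_out hM hi hi1 hi2
  obtain ⟨δ, -, -, e⟩ := h.fuse hw hw2 hi hi1 hi2 hi' hi1' hi2'
  exact hne δ e

/-- strongly embedded subgroups when centralisers of involutions are `2`-groups. -/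
theorem SEmb.eq_top_of_cit {M : Subgroup G} (h : SEmb M) {j i₁ i₂ x : G} (hj : j ∈ M)
    (hj1 : j ≠ 1) (hj2 : j * j = 1)
    (hC : ∀ c : G, c * j = j * c → Odd (orderOf c) → c = 1)
    (h1 : i₁ ∈ M) (h2 : i₂ ∈ M) (h11 : i₁ ≠ 1) (h21 : i₂ ≠ 1) (h12 : i₁ * i₁ = 1)
    (h22 : i₂ * i₂ = 1) (hne : i₁ * i₂ ≠ 1) (hc : i₁ * i₂ = i₂ * i₁) {p : ℕ} (hp : p.Prime)
    (hp2 : Odd p) (hx : x ∈ M) (hx1 : x ≠ 1) (hxp : x ^ p = 1) {i : G} (hi : i ∈ M) (hi1 : i ≠ 1)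
    (hi2 : i * i = 1) (hix : i * x * i⁻¹ = x⁻¹) : M = ⊤ := by
  by_contra hM
  obtain ⟨k, hk⟩ : ∃ k, k ∉ M := by
    by_contra! h1
    exact hM ((Subgroup.eq_top_iff' M).2 h1)
  obtain ⟨w, hwd⟩ : ∃ w, w = k * j * k⁻¹ := ⟨_, rfl⟩
  have hw : w ∉ M := fun h1 => hk (h j hj hj1 hj2 k (hwd ▸ h1))
  have hw2 : w * w = 1 := by rw [hwd, conj_mul, hj2, mul_one, mul_inv_cancel]
  have hwi := inv_of_sq hw2
  let D : Subgroup G := M ⊓ M.comap (MulAut.conj w).toMonoidHom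
  have hD : ∀ δ, δ ∈ D ↔ δ ∈ M ∧ w * δ * w ∈ M := fun δ => by
    simp [D, Subgroup.mem_inf, hwi]
  have hodd : ∀ δ ∈ D, Odd (orderOf δ) := fun δ hδ => by
    rw [← Nat.not_even_iff_odd]
    rintro ⟨m, hm⟩
    have hm0 := orderOf_pos δ
    have := (hD _).1 (D.pow_mem hδ m)
    refine hw (h _ this.1 (fun e => ?_) (by rw [← pow_add, ← hm, pow_orderOf_eq_one]) w
      (by rw [hwi]; exact this.2))
    have := Nat.le_of_dvd (by omega) (orderOf_dvd_of_pow_eq_one e)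
    omega
  -- every involution is conjugate to `j`, hence centralises no element of odd order
  have hfuse : ∀ a ∈ M, a ≠ 1 → a * a = 1 → ∃ δ ∈ D, δ * j * δ⁻¹ = a := fun a ha a1 a2 => by
    obtain ⟨δ, d1, d2, e⟩ := h.fuse hw hw2 hj hj1 hj2 ha a1 a2
    exact ⟨δ, (hD _).2 ⟨d1, d2⟩, e⟩
  have hC2 : ∀ g c : G, c * (g * j * g⁻¹) = g * j * g⁻¹ * c → Odd (orderOf c) → c = 1 := by
    intro g c e ho
    have := hC (g⁻¹ * c * g) (by
      rw [show g⁻¹ * c * g * j = g⁻¹ * (c * (g * j * g⁻¹)) * g by group, e]; group)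
      (by rwa [show g⁻¹ * c * g = (MulAut.conj g⁻¹) c by simp, MulEquiv.orderOf_eq])
    by_contra h0
    exact conj_ne_one h0 g this
  have hall : ∀ a : G, a ≠ 1 → a * a = 1 → ∃ g, g * j * g⁻¹ = a := fun a a1 a2 => by
    rcases dihedral hj2 a2 with ⟨d, hd, e⟩ | ⟨v, v1, v2, v3, v4⟩
    · exact ⟨d, by rwa [inv_of_sq hd]⟩
    · have hv := h j hj hj1 hj2 v (by rwa [v3, mul_inv_cancel_right])
      obtain ⟨δ, -, e⟩ := hfuse a (h v hv v1 v2 a (by rwa [← v4, mul_inv_cancel_right])) a1 a2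
      exact ⟨δ, e⟩
  have hinv : ∀ δ ∈ D, w * δ * w = δ⁻¹ := fun δ hδ => by
    have hu : δ * (w * δ * w) ∈ D := D.mul_mem hδ ((hD _).2 ⟨((hD _).1 hδ).2, by
      rw [← mul_assoc, ← mul_assoc, hw2, one_mul, mul_assoc, hw2, mul_one]; exact ((hD _).1 hδ).1⟩)
    have e : δ * (w * δ * w) = (δ * w) ^ 2 := by rw [pow_two]; group
    obtain ⟨m, hm⟩ := hodd _ hu
    have h3 : ((δ * w) ^ 2) ^ m * (δ * w) ≠ 1 := fun e1 => by
      have h4 : ((δ * w) ^ 2) ^ m * δ ∈ M := M.mul_mem (M.pow_mem (e ▸ ((hD _).1 hu).1) m)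
        ((hD _).1 hδ).1
      rw [← mul_assoc] at e1
      rw [eq_inv_of_mul_eq_one_left e1, hwi] at h4
      exact hw h4
    obtain ⟨g, hg⟩ := hall _ h3 (by
      rw [← pow_mul, ← pow_succ, ← pow_add, ← two_mul, pow_mul, ← hm, ← e, pow_orderOf_eq_one])
    have := hC2 g _ (by rw [hg, e, ← pow_mul, ← pow_succ]; exact (Commute.refl _).pow_pow _ _)
      (hodd _ hu)
    exact eq_inv_of_mul_eq_one_right this
  have hab : ∀ δ ∈ D, ∀ ε ∈ D, δ * ε = ε * δ := fun δ hδ ε hε => by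
    have := hinv _ (D.mul_mem hδ hε)
    rw [show w * (δ * ε) * w = w * δ * w * (w⁻¹ * ε * w) by group, hwi, hinv δ hδ, hinv ε hε,
      ← mul_inv_rev, inv_inj] at this
    exact this.symm
  -- the index of `D` in `M`
  have hcomp : ((Subgroup.centralizer {j}).subgroupOf M).IsComplement' (D.subgroupOf M) := by
    refine Subgroup.isComplement'_of_disjoint_and_mul_eq_univ ?_ ?_
    · rw [Subgroup.disjoint_def]
      intro a a1 a2
      exact Subtype.ext (hC a (Subgroup.mem_centralizer_singleton_iff.1 a1) (hodd _ a2))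
    · rw [Set.eq_univ_iff_forall]
      intro m
      obtain ⟨δ, hδ, e⟩ := hfuse ((m : G)⁻¹ * j * m) (M.mul_mem (M.mul_mem (M.inv_mem m.2) hj) m.2)
        (conj_ne_one hj1 _)
        (by rw [show ((m : G)⁻¹ * j * m) * ((m : G)⁻¹ * j * m) = (m : G)⁻¹ * (j * j) * m by group, hj2]; simp)
      refine ⟨m * ⟨δ, hδ.1⟩, Subgroup.mem_centralizer_singleton_iff.2 ?_, ⟨δ, hδ.1⟩⁻¹,
        D.inv_mem hδ, by simp⟩
      change m * δ * j = j * (m * δ)
      rw [show m * δ * j = m * (δ * j * δ⁻¹) * δ by group, e]; group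
  have := Fact.mk hp
  obtain ⟨g, hg⟩ := exists_conj_le (Subgroup.zpowers (⟨x, hx⟩ : M)) (D.subgroupOf M)
    (isPGroup_zpowers (k := 1) (Subtype.ext (by simpa using hxp))) (by
      rw [hcomp.index_eq_card]
      intro hd
      obtain ⟨c, hc⟩ := exists_prime_orderOf_dvd_card' p hd
      have h5 : orderOf (c : G) = p := by
        rw [Subgroup.orderOf_coe, Subgroup.orderOf_coe, hc]
      have := hC c (Subgroup.mem_centralizer_singleton_iff.1 c.2) (h5 ▸ hp2)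
      rw [this, orderOf_one] at h5
      exact hp.one_lt.ne h5)
  have hy : (g : G)⁻¹ * x * g ∈ D := hg _ (Subgroup.mem_zpowers _)
  obtain ⟨δ, hδ, e⟩ := hfuse ((g : G)⁻¹ * i * g) (M.mul_mem (M.mul_mem (M.inv_mem g.2) hi) g.2)
    (conj_ne_one hi1 _)
    (by rw [show ((g : G)⁻¹ * i * g) * ((g : G)⁻¹ * i * g) = (g : G)⁻¹ * (i * i) * g by group, hi2]; simp)
  generalize hyy : (g : G)⁻¹ * x * g = y at hy
  have hy1 : y ≠ 1 := hyy ▸ conj_ne_one hx1 _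
  have k1 : δ * j * δ⁻¹ * y * (δ * j * δ⁻¹)⁻¹ = y⁻¹ := by
    rw [e, ← hyy, show (g : G)⁻¹ * i * g * ((g : G)⁻¹ * x * g) * ((g : G)⁻¹ * i * g)⁻¹ =
      (g : G)⁻¹ * (i * x * i⁻¹) * g by group, hix]; group
  have k2 : ∀ ε ∈ D, ε * j * ε⁻¹ * y * (ε * j * ε⁻¹)⁻¹ = y⁻¹ := fun ε hε => by
    have hη := D.mul_mem hε (D.inv_mem hδ)
    have c1 : Commute (ε * δ⁻¹) y := hab _ hη _ hy
    rw [show ε * j * ε⁻¹ * y * (ε * j * ε⁻¹)⁻¹ = ε * δ⁻¹ * (δ * j * δ⁻¹ * ((ε * δ⁻¹)⁻¹ * y *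
      (ε * δ⁻¹)) * (δ * j * δ⁻¹)⁻¹) * (ε * δ⁻¹)⁻¹ by group, c1.inv_left.eq, inv_mul_cancel_right, k1,
      c1.inv_right.eq, mul_inv_cancel_right]
  have k3 : ∀ a ∈ M, a ≠ 1 → a * a = 1 → a * y * a⁻¹ = y⁻¹ := fun a ha a1 a2 => by
    obtain ⟨ε, hε, rfl⟩ := hfuse a ha a1 a2
    exact k2 ε hε
  have k4 := k3 _ (M.mul_mem h1 h2) hne (by
    rw [mul_assoc, ← mul_assoc i₂, ← hc, mul_assoc, h22, mul_one, h12])
  rw [show i₁ * i₂ * y * (i₁ * i₂)⁻¹ = i₁ * (i₂ * y * i₂⁻¹) * i₁⁻¹ by group, k3 _ h2 h21 h22,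
    show i₁ * y⁻¹ * i₁⁻¹ = (i₁ * y * i₁⁻¹)⁻¹ by group, k3 _ h1 h11 h12, inv_inv] at k4
  have k5 : orderOf y ∣ 2 := orderOf_dvd_of_pow_eq_one (by
    rw [pow_two]; nth_rw 1 [k4]; rw [inv_mul_cancel])
  rcases (Nat.dvd_prime Nat.prime_two).1 k5 with k6 | k6
  · exact hy1 (orderOf_eq_one_iff.1 k6)
  · exact absurd (k6 ▸ hodd _ hy) (by decide)

end H28
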