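import Mathlib
import Cfsg.Agent.H28.HeldC
import Cfsg.Agent.H28.SE
import Cfsg.Agent.H17.ZStar

/-! Groups with the involution centraliser of `L₅(2)`: the second class of involutions. -/

set_option autoImplicit false
set_option linter.unusedSectionVars false
set_option synthInstance.maxSize 4096

namespace H28

theorem exists_two_in {G : Type*} [Group G] [Finite G] {K A : Subgroup G} {y : G} {n : ℕ}
    (hA : IsPGroup 2 A) (hy : y ^ 2 ^ n = 1) (h1 : A ≤ K) (h2 : y ∈ K) :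
    ∃ c ∈ K, ∃ S : Subgroup G, IsPGroup 2 S ∧ A ≤ S ∧ S ≤ K ∧ c * y * c⁻¹ ∈ S := by
  obtain ⟨c, hc, S, k1, k2, k3⟩ :=
    exists_two_over hA (isPGroup_zpowers hy) h1 (Subgroup.zpowers_le.2 h2)
  exact ⟨c, hc, S ⊓ K, k1.to_inf_left, le_inf k2 h1, inf_le_right,
    k3 y (Subgroup.mem_zpowers y), K.mul_mem (K.mul_mem hc h2) (K.inv_mem hc)⟩

theorem mem_of_cen {G : Type*} [Group G] {M : Subgroup G} {a d k g g' : G}
    (hC : ∀ c, c * a = a * c → c ∈ M) (hg : g ∈ M) (hg' : g' ∈ M) (e : g * d * g⁻¹ = a)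
    (e' : g' * (k * d * k⁻¹) * g'⁻¹ = a) : k ∈ M := by
  have := hC (g' * k * g⁻¹) (by
    nth_rw 1 [← e]; rw [← e']; group)
  rwa [M.mul_mem_cancel_right (M.inv_mem hg), M.mul_mem_cancel_left hg'] at this

theorem inv_of_fpf {K : Type*} [Group K] [Finite K] {O : Subgroup K} [hO : O.Normal] {v : K}
    (hv : v * v = 1) (h : ∀ o ∈ O, o * v = v * o → o = 1) : ∀ o ∈ O, v * o * v⁻¹ = o⁻¹ := by
  intro o ho
  have : Function.Injective fun o : O =>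
      (⟨(o : K)⁻¹ * (v * o * v⁻¹), O.mul_mem (O.inv_mem o.2) (hO.conj_mem _ o.2 v)⟩ : O) :=
    fun a b e => Subtype.ext (mul_inv_eq_one.1 (h _ (O.mul_mem a.2 (O.inv_mem b.2)) (by
      have e : (a : K)⁻¹ * (v * a * v⁻¹) = (b : K)⁻¹ * (v * b * v⁻¹) := congrArg Subtype.val e
      calc a * (b : K)⁻¹ * v = a * ((b : K)⁻¹ * (v * b * v⁻¹)) * v * (b : K)⁻¹ := by group
        _ = _ := by rw [← e]; group)))
  obtain ⟨a, ha⟩ := Finite.surjective_of_injective this ⟨o, ho⟩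
  have e : (a : K)⁻¹ * (v * a * v⁻¹) = o := congrArg Subtype.val ha
  rw [← e, inv_of_sq hv]
  calc v * ((a : K)⁻¹ * (v * a * v)) * v = v * (a : K)⁻¹ * v * a * (v * v) := by group
    _ = _ := by rw [hv, mul_inv_rev, mul_inv_rev, mul_inv_rev, inv_of_sq hv]; group

theorem sq_comm {G : Type*} [Group G] {o v t : G} (h1 : o * t = t * o) (h2 : t * t = 1)
    (h : o * v * o⁻¹ = v * t) : o * o * v = v * (o * o) := by
  calc o * o * v = o * (o * v * o⁻¹) * o := by group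
    _ = o * v * o⁻¹ * (o * t) * o := by nth_rw 1 [h]; group
    _ = v * (t * t) * (o * o) := by rw [h, h1]; group
    _ = _ := by rw [h2, mul_one]

theorem odd_triv {K : Type*} [Group K] {y : K} {n : ℕ} (h : orderOf y ∣ n) (hn : Odd n)
    (h8 : y ^ 2 ^ 3 = 1) : y = 1 :=
  orderOf_eq_one_iff.1 (Nat.eq_one_of_dvd_coprimes
    (Nat.Coprime.pow_left 3 (Nat.coprime_two_left.2 hn)) (orderOf_dvd_of_pow_eq_one h8) h)

namespace Held

open H29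

variable {G : Type*} [Group G] [Finite G] {φ : Hc →* G}

theorem cj_rep {a : Hc} (ha : a ∈ Tc) (h2 : a * a = 1) (h1 : a ≠ 1) :
    cls a < 8 ∧ ∃ h, Cj φ (φ h) (rep (cls a)) a := by
  obtain ⟨k1, k2⟩ := cls_spec ha h2 h1
  obtain ⟨c, hc⟩ := isConj_iff.1 k2
  exact ⟨k1, c, cj_of (mul_inv_eq_iff_eq_mul.1 hc)⟩

theorem HS.into_M (H : HS φ) {M : Subgroup G} (hM : ∀ h, φ h ∈ M) {j : G} (hj : j ∈ M)
    (h2 : j * j = 1) (h1 : j ≠ 1) : ∃ k < 8, ∃ g ∈ M, g * j * g⁻¹ = φ (rep k) := by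
  obtain ⟨c, hc, S, k1, k2, -, k3⟩ := exists_two_in (n := 1) ((two_Tc le_rfl).map φ)
    (by simpa [pow_two] using h2) (by rintro _ ⟨a, -, rfl⟩; exact hM a) hj
  obtain ⟨a, ha, e⟩ := H.maxT k1 k2 k3
  obtain ⟨h3, h, hh⟩ := cj_rep (φ := φ) ha (H.inj (by rw [map_mul, e, conj_mul, h2]; simp))
    fun h => h1 (by simpa [h, mul_inv_eq_iff_eq_mul, eq_comm] using e)
  exact ⟨_, h3, (φ h)⁻¹ * c, M.mul_mem (M.inv_mem (hM h)) hc, by rw [← hh.symm, e]; group⟩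

theorem rep_three : rep 3 = tB := by decide +kernel

theorem HS.not_zt (H : HS φ) (g : G) : ¬ Cj φ g zc tB := fun h =>
  H.not_cj_B (k := 0) (by simp) (Or.inl rfl) g (h.congr rep_zero.symm rep_three.symm)

theorem E_facts : (∀ a ∈ lE, a ∈ Zc ∧ a * a = 1 ∧ (a ≠ 1 → (23 : ℕ).testBit (cls a) = false) ∧
    ∀ b ∈ lE, a * b ∈ lE) ∧ tB ≠ 1 ∧ eB ≠ 1 ∧ tB * eB ≠ 1 ∧ eB ≠ tB ∧ eB * tB ∈ lE ∧ eB * tB ≠ 1 ∧
    (∀ a ∈ [zc, uu true, zc * uu true, ww true, ww false, lt 2],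
      a ∉ lE ∧ a ∈ Rc ∧ a * a = 1) := by decide +kernel

theorem tB_Z : tB ∈ Zc := (E_facts.1 _ (by simp [lE])).1

theorem eB_Z : eB ∈ Zc := (E_facts.1 _ (by simp [lE])).1

theorem Zc_U {a : Hc} (h : a ∈ Zc) (i : Bool) : a ∈ Uc i := by
  cases i
  exacts [(Zc_iff.1 h).2, (Zc_iff.1 h).1]

/-- the centraliser of `tB` in `T`. -/
noncomputable def Sc : Subgroup Hc := Tc ⊓ Subgroup.centralizer {tB}

theorem mem_Sc {a : Hc} : a ∈ Sc ↔ a ∈ Tc ∧ a * tB = tB * a :=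
  and_congr_right' Subgroup.mem_centralizer_singleton_iff

section
variable (H : HS φ) {m : ℕ} (hm : m ∈ [23, 87, 151, 215]) (P : Pat φ (IsConj (φ zc)) m)
include H hm P

theorem nonD {h : G} (hn : ∀ i, h ∈ Nm φ (Uc i)) {a : Hc} (ha : a ∈ lE) (h1 : a ≠ 1) :
    ∃ b ∈ Zc, Cj φ h a b ∧ b ≠ 1 ∧ (23 : ℕ).testBit (cls b) = false := by
  obtain ⟨k1, k2, k3, -⟩ := E_facts.1 a ha
  obtain ⟨b, hb, e⟩ := hn true a (Zc_U k1 _)
  have hb' := Zc_iff.2 ⟨hb, (H.mem_of_nm (hn false) e).1 (Zc_U k1 _)⟩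
  refine ⟨b, hb', e, H.ne_one e h1, ?_⟩
  rw [← chk_Zm m hm b hb', ← P.bit H e (Uc_le_Tc true (Zc_U k1 _)) (Uc_le_Tc _ hb) k2,
    chk_Zm m hm a k1, k3 h1]

theorem maxR {S : Subgroup G} (h1 : IsPGroup 2 S) (h2 : Rc.map φ ≤ S)
    (h3 : S ≤ Subgroup.centralizer {φ tB, φ eB}) : S ≤ Rc.map φ := fun p hp => by
  obtain ⟨h, hh⟩ := H.into_T h1
  have hn : ∀ i, h ∈ Nm φ (Uc i) := fun i => H.weak fun a ha => hh _ (h2 ⟨a, Uc_le_Rc i ha, rfl⟩)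
  obtain ⟨t, t1, t2, t3, t4⟩ := nonD H hm P hn (a := tB) (by simp [lE]) E_facts.2.1
  obtain ⟨e, e1, e2, e3, e4⟩ := nonD H hm P hn (a := eB) (by simp [lE]) E_facts.2.2.1
  obtain ⟨f, -, f2, f3, f4⟩ := nonD H hm P hn (a := tB * eB) (by simp [lE]) E_facts.2.2.2.1
  obtain rfl := H.uniq f2 (t2.mul e2)
  obtain ⟨b, hb, k⟩ := hh p hp
  have k2 : ∀ {a a'}, Cj φ h a a' → φ a * p = p * φ a → b * a' = a' * b := fun c1 c2 =>
    H.inj (by rw [map_mul, map_mul, ← k, ← c1, conj_mul, conj_mul, c2])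
  obtain ⟨c, hc, k3⟩ := (Nm φ Rc).inv_mem (nm_R hn) b ((chk_Z t t1 t3 t4).2 e e1 e3 e4 f3 f4 b hb
    (k2 t2 (h3 hp _ (by simp))) (k2 e2 (h3 hp _ (by simp))))
  exact ⟨c, hc, by rw [← k3, ← k]; group⟩

theorem maxS {S : Subgroup G} (h1 : IsPGroup 2 S) (h2 : Sc.map φ ≤ S)
    (h3 : S ≤ Subgroup.centralizer {φ tB}) : S ≤ Sc.map φ := by
  obtain ⟨h, hh⟩ := H.into_T h1
  obtain ⟨t, t1, t2, t3, t4⟩ := nonD H hm P (h := h) (fun i => H.weak fun a ha => hh _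
    (h2 ⟨a, mem_Sc.2 ⟨Uc_le_Tc i ha, Uc_comm i ha (Zc_U tB_Z i)⟩, rfl⟩)) (a := tB) (by simp [lE])
    E_facts.2.1
  refine (eq_of_le_of_card_le h2 ?_).ge
  have k := (chk_Z t t1 t3 t4).1
  rw [← card_S, ← ncard_cntP (by decide +kernel) (by decide),
    ← ncard_cntP (by decide +kernel) (by decide)] at k
  rw [Subgroup.card_map_of_injective H.inj]
  choose! f f1 f2 using hh
  refine le_trans (Set.ncard_le_ncard_of_injOn (s := (S : Set G)) f (fun p hp => ?_)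
    fun p hp q hq e => ?_) (k.trans (Set.ncard_le_ncard (t := (Sc : Set Hc))
      fun a ha => mem_Sc.2 ha))
  refine ⟨f1 p hp, H.inj ?_⟩
  · rw [map_mul, map_mul, ← f2 p hp, ← t2, conj_mul, conj_mul,
      Subgroup.mem_centralizer_singleton_iff.1 (h3 hp)]
  · simpa [← f2 q hq, ← f2 p hp] using congrArg φ e

theorem cj_e {c : G} {e : Hc} (hc : c * φ tB = φ tB * c) (h : Cj φ c eB e) :
    e = eB ∨ e = eB * tB := by
  have ht := cj_of_comm hc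
  have y1 : ∀ {a b}, Cj φ c a b → φ a * (c⁻¹ * φ zc * c) = c⁻¹ * φ zc * c * φ a := fun {a b} k => by
    rw [← k.symm, inv_inv, show ∀ u v : G, c⁻¹ * u * c * (c⁻¹ * v * c) = c⁻¹ * (u * v) * c from
      fun u v => by group, ← map_mul, zc_comm, map_mul]
    group
  obtain ⟨k, hk, S, k1, k2, k3, k4⟩ := exists_two_in (n := 1) (y := c⁻¹ * φ zc * c)
    (K := Subgroup.centralizer {φ tB, φ eB}) ((two_Tc Rc_le_Tc).map φ) (by
      rw [pow_one, pow_two, show c⁻¹ * φ zc * c * (c⁻¹ * φ zc * c) = c⁻¹ * (φ zc * φ zc) * c by group,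
        ← map_mul, Uc_sq true _ (zc_mem _)]; simp) (by
      rintro _ ⟨a, ha, rfl⟩ _ (rfl | rfl) <;> rw [← map_mul, ← map_mul]
      exacts [congrArg φ (Zc_comm tB_Z ha), congrArg φ (Zc_comm eB_Z ha)]) (by
      rintro _ (rfl | rfl)
      exacts [y1 ht, y1 h])
  obtain ⟨d, hd, e1⟩ := maxR H hm P k1 k2 k3 k4
  have g1 : Cj φ (c * k⁻¹) d zc := by rw [Cj, e1]; group
  have g2 := ht.comp (cj_of_comm (hk (φ tB) (by simp)).symm).symm
  have g3 := h.comp (cj_of_comm (hk (φ eB) (by simp)).symm).symm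
  generalize c * k⁻¹ = g at g1 g2 g3
  obtain ⟨i, hi⟩ : ∃ i, d ∈ Uc i := ((chk_RE d hd).2 (by
    rw [H.sq g1.symm (Uc_sq true _ (zc_mem _))]; simp [lE])).elim (fun h => ⟨_, h⟩) fun h => ⟨_, h⟩
  obtain ⟨_, ⟨h, rfl⟩, g4⟩ := H.control (K := φ.range) (g := g) (Uc_le_Tc i) (fun a _ => ⟨a, rfl⟩)
    fun a ha => by
      obtain ⟨b, hb⟩ := H.exists_cj g1 (Uc_comm i ha hi)
      exact ⟨b, Eq.symm hb⟩
  have g4 := g4 i le_rfl
  have g5 := (H.mem_of_nm g4 ((cj_hinv h tB).comp g2)).1 (Zc_U tB_Z i)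
  have g6 : h ∈ Pc i := by
    have := conj_tB h
    rw [frc_eq, decide_eq_true_iff] at this
    cases i
    exacts [this.2 g5, this.1 g5]
  rw [(Nm φ _).mul_mem_cancel_left (P_nm i g6)] at g4
  have g7 := (H.mem_of_nm g4 g3).1 (Zc_U eB_Z i)
  have k : ∀ {a b}, a ∈ lE → a ≠ 1 → b ∈ Uc i → Cj φ g a b → m.testBit (cls b) = false :=
    fun {a b} a1 a2 a3 a4 => by
      obtain ⟨b1, b2, b3, -⟩ := E_facts.1 a a1
      rw [← P.bit H a4 (Uc_le_Tc i (Zc_U b1 i)) (Uc_le_Tc i a3) b2, chk_Zm m hm a b1, b3 a2]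
  exact (chk_E m hm i).2 e g7 (H.ne_one g3 E_facts.2.2.1)
    (fun e => E_facts.2.2.2.2.1 (H.cinj g3 (e ▸ g2))) (k (by simp [lE]) E_facts.2.2.1 g7 g3)
    (k E_facts.2.2.2.2.2.1 E_facts.2.2.2.2.2.2.1 ((Uc i).mul_mem g7 (Zc_U tB_Z i)) (g3.mul g2))
    (P.cnt_eq H g4 (Zc_U tB_Z i) (Zc_U eB_Z i) g2 g3).symm

end

end Held

end H28
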