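import Mathlib
import Cfsg.Agent.H28.HeldD

/-! Groups with the involution centraliser of `L₅(2)`: generation by the amalgam. -/

set_option autoImplicit false
set_option linter.unusedSectionVars false
set_option synthInstance.maxSize 4096

namespace H28

/-- quotient of the centraliser of a central subgroup. -/
theorem exists_quot {G : Type*} [Group G] [Finite G] (C E : Subgroup G)
    (h : ∀ e ∈ E, ∀ c ∈ C, c * e = e * c) :
    ∃ (N : Subgroup C) (_ : N.Normal), ∀ a b : C,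
      QuotientGroup.mk' N a = QuotientGroup.mk' N b ↔ ∃ e ∈ E, (a : G) = b * e :=
  ⟨E.subgroupOf C, ⟨fun n hn g => by
      rw [Subgroup.mem_subgroupOf] at hn ⊢
      simpa [h _ hn _ g.2] using hn⟩, fun a b => by
    rw [eq_comm, QuotientGroup.mk'_apply, QuotientGroup.mk'_apply, QuotientGroup.eq,
      Subgroup.mem_subgroupOf]
    exact ⟨fun k => ⟨_, k, by simp⟩, fun ⟨e, he, k⟩ => by simpa [k] using he⟩⟩

namespace Held

open H29

variable {G : Type*} [Group G] [Finite G] {φ : Hc →* G}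

theorem tB_sq : φ tB * φ tB = 1 := by rw [← map_mul, Zc_sq tB_Z, map_one]

theorem mem_Ct {a : Hc} (h : a ∈ Rc) : φ a ∈ Subgroup.centralizer {φ tB} :=
  Subgroup.mem_centralizer_singleton_iff.2 (by rw [← map_mul, ← map_mul, Zc_comm tB_Z h])

section
variable (H : HS φ) {m : ℕ} (hm : m ∈ [23, 87, 151, 215]) (P : Pat φ (IsConj (φ zc)) m)
  {x : Bool → G} (B : Both φ m x)
include H hm P B

theorem norm_E {c : G} (hc : c * φ tB = φ tB * c) : Cj φ c eB eB ∨ Cj φ c eB (eB * tB) := by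
  obtain ⟨N, hN, π1⟩ := exists_quot (Subgroup.centralizer {φ tB})
    (subOf (fun y => y = 1 ∨ y = φ tB) (Or.inl rfl) (by
      rintro _ _ (rfl | rfl) (rfl | rfl) <;> simp [tB_sq])) (by
      rintro _ (rfl | rfl) c hc
      exacts [by simp, Subgroup.mem_centralizer_singleton_iff.1 hc])
  set π := QuotientGroup.mk' N
  have π2 : ∀ {a b}, π a = π b → (a : G) = b ∨ (a : G) = b * φ tB := fun e => by
    obtain ⟨_, rfl | rfl, k⟩ := (π1 _ _).1 e
    exacts [Or.inl (by simpa using k), Or.inr k]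
  have π3 : ∀ {o v}, π o * π v * (π o)⁻¹ = π v → (o : G) * o * v = v * (o * o) := fun {o v} e => by
    rw [← map_inv, ← map_mul, ← map_mul] at e
    rcases π2 e with k | k
    · have k : Commute (o : G) v := mul_inv_eq_iff_eq_mul.1 k
      exact k.mul_left k
    · exact sq_comm (Subgroup.mem_centralizer_singleton_iff.1 o.2) tB_sq k
  let e : Subgroup.centralizer {φ tB} := ⟨φ eB, mem_Ct (Zc_le_Rc eB_Z)⟩
  have he : orderOf (π e) = 2 := orderOf_eq_prime (by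
    rw [← map_pow, pow_two, show e * e = 1 from Subtype.ext (by
      change φ eB * φ eB = 1
      rw [← map_mul, Zc_sq eB_Z, map_one]), map_one]) fun k => by
    rcases π2 (k.trans (map_one π).symm) with k | k
    · exact E_facts.2.2.1 (H.inj (k.trans (map_one φ).symm))
    · exact E_facts.2.2.2.2.1 (H.inj (k.trans (one_mul _)))
  obtain ⟨S, hS⟩ := ((((two_Tc (inf_le_left : Sc ≤ Tc)).map φ).comap_subtype
    (K := Subgroup.centralizer {φ tB})).map π).exists_le_sylow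
  have hi : Cfsg.IsIsolatedInvolution (π e) := by
    refine (H17.isolated_iff_sylow he S (hS ⟨e, ⟨eB, mem_Sc.2 ⟨Rc_le_Tc (Zc_le_Rc eB_Z),
      Zc_comm eB_Z (Zc_le_Rc tB_Z)⟩, rfl⟩, rfl⟩)).2 fun g hg => ?_
    obtain ⟨g, rfl⟩ := QuotientGroup.mk'_surjective N g
    rw [← map_inv, ← map_mul, ← map_mul] at hg ⊢
    obtain ⟨a, -, k⟩ := maxS H hm P ((S.2.comap_of_ker_isPGroup π fun y => ⟨1, Subtype.ext
      (Subtype.ext (by
        rcases π2 ((MonoidHom.mem_ker.1 y.2).trans (map_one π).symm) with k | k <;>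
          simp [k, pow_two, tB_sq]))⟩).map (Subgroup.subtype _))
      (by
        rintro _ ⟨a, ha, rfl⟩
        exact ⟨⟨φ a, Subgroup.mem_centralizer_singleton_iff.2 (by
          rw [← map_mul, (mem_Sc.1 ha).2, map_mul])⟩, hS ⟨_, ⟨a, ha, rfl⟩, rfl⟩, rfl⟩)
      (Subgroup.map_subtype_le _) ⟨_, hg, rfl⟩
    rcases cj_e H hm P (Subgroup.mem_centralizer_singleton_iff.1 g.2) k.symm with rfl | rfl
    · exact congrArg π (Subtype.ext k.symm)
    · exact (π1 _ _).2 ⟨_, Or.inr rfl, k.symm.trans (map_mul _ _ _)⟩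
  have hO : Cfsg.pPrimeCore 2 (Subgroup.centralizer {φ tB} ⧸ N) = ⊥ := by
    set O := Cfsg.pPrimeCore 2 (Subgroup.centralizer {φ tB} ⧸ N)
    have hn : O.Normal := inferInstance
    have od : ∀ y ∈ O, y ^ 2 ^ 3 = 1 → y = 1 := fun y hy =>
      odd_triv (O.orderOf_dvd_natCard hy) H17.odd_card_pPrimeCore
    have fix : ∀ {g a} (hg : g ∈ Nm φ (Uc true)) (ha : Cj φ g zc a), ∀ o ∈ O,
        π ⟨φ a, mem_Ct (Uc_le_Rc _ ((H.mem_of_nm hg ha).1 (zc_mem _)))⟩ * o *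
          (π ⟨φ a, mem_Ct (Uc_le_Rc _ ((H.mem_of_nm hg ha).1 (zc_mem _)))⟩)⁻¹ = o⁻¹ := by
      intro g a hg ha
      refine inv_of_fpf (by
        rw [← map_mul, ← map_one π]
        refine congrArg π (Subtype.ext ?_)
        change φ a * φ a = 1
        rw [← map_mul, H.sq ha (Uc_sq true _ (zc_mem _)), map_one]) fun o ho k => ?_
      obtain ⟨o, rfl⟩ := QuotientGroup.mk'_surjective N o
      obtain ⟨h, hh⟩ := H.of_cj ((ha.symm.comp (cj_of_comm
        (π3 (mul_inv_eq_iff_eq_mul.2 k)))).comp ha)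
      obtain ⟨b, hb, k2⟩ := H.cen_gU (i := true) (g := g⁻¹ * ((o * o : G) * (o * o)) * g)
        fun w hw => by
          obtain ⟨w', w1, w2⟩ := hg w (gU_mem _ w hw)
          let W : Subgroup.centralizer {φ tB} := ⟨φ w', mem_Ct (Uc_le_Rc _ w1)⟩
          refine (w2.symm.comp (cj_of_comm (π3 (o := o * o) (v := W) (mul_inv_eq_one.1
            (od _ ?_ ?_))))).comp w2
          · rw [map_mul, mul_assoc, mul_assoc, ← mul_assoc (π W)]
            exact O.mul_mem (O.mul_mem ho ho) (hn.conj_mem _ (O.inv_mem (O.mul_mem ho ho)) _)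
          · have q := chk_Q.2.1 _ (Qc.mul_mem (norm_of_lt chk_Q.1 h w (chk_Q.2.2 w hw))
              (Qc.inv_mem (chk_Q.2.2 w hw)))
            rw [← map_inv, ← map_inv, ← map_mul, ← map_mul, ← map_mul, ← map_pow, ← map_one π]
            refine congrArg π (Subtype.ext ?_)
            change ((o : G) * o * φ w' * ((o : G) * o)⁻¹ * (φ w')⁻¹) ^ 2 ^ 3 = 1
            rw [show (o : G) * o * φ w' * ((o : G) * o)⁻¹ * (φ w')⁻¹ =
              g * φ (h * w * h⁻¹ * w⁻¹) * g⁻¹ by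
                simp only [map_mul, map_inv, hh, ← show _ = φ w' from w2]; group,
              conj_pow, ← map_pow, show 2 ^ 3 = 2 * 2 * 2 from rfl, pow_mul, pow_mul, pow_two,
              pow_two, pow_two, q]
            simp
      refine od _ ho ?_
      rw [← map_pow, ← map_one π]
      refine congrArg π (Subtype.ext ?_)
      change (o : G) ^ 2 ^ 3 = 1
      calc (o : G) ^ 2 ^ 3 = g * (φ b * φ b) * g⁻¹ := by
            rw [k2]; simp [pow_succ, mul_assoc]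
        _ = 1 := by rw [← map_mul, Uc_sq _ b hb]; simp
    have S1 := B.side true
    have n1 : x true ∈ Nm φ (Uc true) := fun a ha => ⟨_, (chk_U _ a ha).2.1, S1.hU a ha⟩
    have f1 := fix (Nm φ _).one_mem (cj_refl zc)
    have f2 := fix n1 S1.hz
    have f3 := fix ((Nm φ _).mul_mem n1 n1) (((S1.hU _ (by decide +kernel)).comp S1.hz).congr rfl
      (show _ = zc * uu true by decide +kernel))
    have f4 : ∀ o ∈ O, o⁻¹ = o := fun o ho => by
      have k := f3 o ho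
      rw [show (⟨φ (zc * uu true), _⟩ : Subgroup.centralizer {φ tB}) =
        ⟨φ zc, mem_Ct (by decide +kernel)⟩ * ⟨φ (uu true), mem_Ct (by decide +kernel)⟩ from Subtype.ext (map_mul _ _ _), map_mul, mul_inv_rev, ← mul_assoc, mul_assoc _ _ o,
        mul_assoc (π _), f2 o ho, f1 _ (O.inv_mem ho), inv_inv] at k
      exact k.symm
    refine eq_bot_iff.2 fun o ho => od o ho ?_
    rw [show 2 ^ 3 = 2 * 4 from rfl, pow_mul, pow_two, eq_inv_iff_mul_eq_one.1 (f4 o ho).symm,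
      one_pow]
  have := H17.zstar_central hO hi (π ⟨c, Subgroup.mem_centralizer_singleton_iff.2 hc⟩)
  rcases π2 (a := ⟨c, Subgroup.mem_centralizer_singleton_iff.2 hc⟩ * e * (⟨c, _⟩)⁻¹) (b := e) (by
    rw [map_mul, map_mul, ← this.eq, map_inv, mul_inv_cancel_right]) with k | k
  exacts [Or.inl k, Or.inr (k.trans (map_mul _ _ _).symm)]

variable {M : Subgroup G} (hM : ∀ h, φ h ∈ M) (hx : ∀ i, x i ∈ M)
include hM hx

theorem fuse_M (n : ℕ) : ∀ k < 8, rk k = n → ∃ g ∈ M, Cj φ g (rep k) zc ∨ Cj φ g (rep k) tB := by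
  induction n using Nat.strong_induction_on with
  | _ n ih =>
  intro k hk e
  rcases chk_fuse m hm k hk with rfl | rfl | ⟨j, d, d1, d2, rfl, d3⟩
  · exact ⟨1, M.one_mem, Or.inl ((cj_refl _).congr rfl rep_zero)⟩
  · exact ⟨1, M.one_mem, Or.inr ((cj_refl _).congr rfl rep_three)⟩
  have d4 : d ≠ 1 := fun h => by rw [h, cls_one] at hk; omega
  have c1 := (B.side j).hR d1
  obtain ⟨-, h1, c2⟩ := cj_rep (φ := φ) (Rc_le_Tc d1) d2 d4
  obtain ⟨k1, h2, c3⟩ := cj_rep (φ := φ) (Rc_le_Tc (chk_R _ _ _ d d1).2) (H.sq c1 d2) (H.ne_one c1 d4)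
  obtain ⟨g, hg, c4⟩ := ih _ (e ▸ d3) _ k1 rfl
  have c5 := (c3.symm.comp c1).comp c2
  exact ⟨_, M.mul_mem hg (M.mul_mem (M.mul_mem (M.inv_mem (hM _)) (hx _)) (hM _)),
    c4.imp (·.comp c5) (·.comp c5)⟩

theorem inv_M {j : G} (hj : j ∈ M) (h2 : j * j = 1) (h1 : j ≠ 1) :
    ∃ g ∈ M, g * j * g⁻¹ = φ zc ∨ g * j * g⁻¹ = φ tB := by
  obtain ⟨k, hk, g, hg, e⟩ := H.into_M hM hj h2 h1
  obtain ⟨g', hg', e'⟩ := fuse_M H hm P B hM hx _ k hk rfl
  refine ⟨g' * g, M.mul_mem hg' hg, ?_⟩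
  rwa [show g' * g * j * (g' * g)⁻¹ = g' * (g * j * g⁻¹) * g'⁻¹ by group, e]

theorem uniq_D {d k : G} (hd : IsConj (φ zc) d) (h1 : d ∈ M) (h2 : k * d * k⁻¹ ∈ M) : k ∈ M := by
  have key : ∀ {d}, IsConj (φ zc) d → d ∈ M → ∃ g ∈ M, g * d * g⁻¹ = φ zc := fun {d} hd h1 => by
    obtain ⟨c, rfl⟩ := isConj_iff.1 hd
    obtain ⟨g, hg, e | e⟩ := inv_M H hm P B hM hx h1 (by
      rw [conj_mul, ← map_mul, Uc_sq true _ (zc_mem _)]; simp) (by
      rw [Ne, conj_eq_one_iff, map_eq_one_iff φ H.inj]; decide +kernel)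
    · exact ⟨g, hg, e⟩
    · exact absurd (show Cj φ (g * c) zc tB by rw [Cj, ← e]; group) (H.not_zt _)
  obtain ⟨g, hg, e⟩ := key hd h1
  obtain ⟨g', hg', e'⟩ := key (hd.trans (isConj_iff.2 ⟨k, rfl⟩)) h2
  exact mem_of_cen (fun c hc => by obtain ⟨h, rfl⟩ := H.cen c hc; exact hM h) hg hg' e e'

theorem cenE_le : Subgroup.centralizer {φ tB, φ eB} ≤ M := by
  have hC : ∀ {c}, c ∈ Subgroup.centralizer {φ tB, φ eB} → ∀ a ∈ lE, Cj φ c a a := fun hc => by
    have h1 := cj_of_comm (hc (φ tB) (by simp)).symm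
    have h2 := cj_of_comm (hc (φ eB) (by simp)).symm
    simp only [lE, List.forall_mem_cons]
    exact ⟨cj_one _, h1, h2, h1.mul h2, by simp⟩
  have hR : ∀ {a}, a ∈ Rc → φ a ∈ Subgroup.centralizer {φ tB, φ eB} := fun ha => by
    rintro _ (rfl | rfl) <;> rw [← map_mul, ← map_mul]
    exacts [congrArg φ (Zc_comm tB_Z ha), congrArg φ (Zc_comm eB_Z ha)]
  obtain ⟨N, hN, π1⟩ := exists_quot (Subgroup.centralizer {φ tB, φ eB})
    (subOf (fun y => ∃ a ∈ lE, φ a = y) ⟨1, by simp [lE], map_one φ⟩ (by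
      rintro _ _ ⟨a, ha, rfl⟩ ⟨b, hb, rfl⟩
      exact ⟨_, (E_facts.1 a ha).2.2.2 b hb, map_mul _ _ _⟩)) (by
      rintro _ ⟨a, ha, rfl⟩ c hc
      exact (hC hc a ha).comm)
  set π := QuotientGroup.mk' N
  have π2 : ∀ {a b}, π a = π b → ∃ e ∈ lE, (a : G) = b * φ e := fun e => by
    obtain ⟨_, ⟨e, he, rfl⟩, k⟩ := (π1 _ _).1 e
    exact ⟨e, he, k⟩
  have π3 : ∀ {a}, π a ∈ (M.subgroupOf _).map π ↔ (a : G) ∈ M := fun {a} =>
    ⟨fun ⟨b, hb, e⟩ => by
      obtain ⟨e, -, k⟩ := π2 e.symm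
      exact k ▸ M.mul_mem hb (hM e), fun h => ⟨a, h, rfl⟩⟩
  have π4 : ∀ {a}, π a = 1 → ∃ e ∈ lE, (a : G) = φ e := fun e => by
    simpa using π2 (e.trans (map_one π).symm)
  have se : SEmb ((M.subgroupOf _).map π) := by
    intro j hj j1 j2 k hk
    obtain ⟨j, rfl⟩ := QuotientGroup.mk'_surjective N j
    obtain ⟨k, rfl⟩ := QuotientGroup.mk'_surjective N k
    rw [← map_inv, ← map_mul, ← map_mul, π3] at hk
    rw [π3] at hj ⊢
    obtain ⟨e, he, j3⟩ := π4 ((map_mul π j j).trans j2)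
    replace j3 : (j : G) * j = φ e := j3
    obtain ⟨c, hc, S, k1, k2, k3, k4⟩ := exists_two_in (n := 2) (y := (j : G))
      (K := Subgroup.centralizer {φ tB, φ eB}) ((two_Tc Rc_le_Tc).map φ) (by
        rw [show 2 ^ 2 = 2 * 2 from rfl, pow_mul, pow_two, pow_two, j3, ← map_mul,
          (E_facts.1 e he).2.1, map_one]) (by rintro _ ⟨a, ha, rfl⟩; exact hR ha) j.2
    obtain ⟨d, hd, e1⟩ := maxR H hm P k1 k2 k3 k4
    obtain ⟨i, hi⟩ : ∃ i, d ∈ Uc i := ((chk_RE d hd).2 (by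
      rwa [H.inj (show φ (d * d) = φ e by rw [map_mul, e1, conj_mul, j3, hC hc e he])])).elim
      (fun h => ⟨_, h⟩) fun h => ⟨_, h⟩
    obtain ⟨a, ha, e2⟩ := (chk_E m hm i).1 d hi fun h => j1 ((map_one π).symm ▸ (π1 _ _).2
      ⟨_, ⟨d, h, rfl⟩, by simpa using e1.symm.trans (Eq.symm (hC hc d h))⟩)
    have hda := (Uc i).mul_mem hi (Zc_U (E_facts.1 a ha).1 i)
    refine uniq_D H hm P B hM hx (d := j * φ a) (((P.iff _ (Uc_le_Tc i hda) (Uc_sq i _ hda)).2
      e2).trans (isConj_iff.2 ⟨c⁻¹, ?_⟩)) (M.mul_mem hj (hM a)) ?_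
    · rw [map_mul, e1]
      nth_rw 1 [← hC hc a ha]
      group
    · rw [← conj_mul, hC k.2 a ha]
      exact M.mul_mem hk (hM a)
  have f := E_facts.2.2.2.2.2.2.2
  have g1 : ∀ a (h : a ∉ lE ∧ a ∈ Rc ∧ a * a = 1), π ⟨φ a, hR h.2.1⟩ ∈ (M.subgroupOf _).map π ∧
      π ⟨φ a, hR h.2.1⟩ ≠ 1 ∧ π ⟨φ a, hR h.2.1⟩ * π ⟨φ a, hR h.2.1⟩ = 1 := fun a h =>
    ⟨π3.2 (hM a), fun k => by obtain ⟨e, he, k⟩ := π4 k; exact h.1 (H.inj k ▸ he), by
      rw [← map_mul, ← map_one π]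
      exact congrArg π (Subtype.ext ((map_mul φ a a).symm.trans (by rw [h.2.2]; simp)))⟩
  have gz := g1 zc (f _ (by simp))
  suffices h : (M.subgroupOf _).map π = ⊤ from fun c hc => π3 (a := ⟨c, hc⟩) |>.1 (h ▸ trivial)
  by_cases h215 : m = 215
  · subst h215
    have gu := g1 (uu true) (f _ (by simp))
    have gs := g1 (lt 2) (f _ (by simp))
    have L := B.lt hm true
    have r1 := (B.side true).rel_M H L (chk_He.1 _ (List.mem_cons_self ..))
    have r2 := (B.side true).rel_M H L (chk_He.1 (powW 5 [2, 4, 6, 7, 6, 4]) (by simp))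
    have a1 := ac_ev (fun c hc => (L c hc).1) [4, 6, 7, 6, 4] (by decide)
    have a2 := (ac_ev (fun c hc => (L c hc).1) [2, 4, 6, 7, 6, 4] (by decide) zc (zc_mem _)).2
    have a3 : ev (eL φ x) [4, 6, 7, 6, 4] ∈ M := ev_mem fun c hc => by
      simp only [List.mem_cons, List.not_mem_nil, or_false] at hc
      rcases hc with rfl | rfl | rfl | rfl | rfl
      exacts [M.mul_mem (hM _) (hx _), hM _, M.mul_mem (hM _) (hx _), hM _, M.mul_mem (hM _) (hx _)]
    rw [ev_powW, ev_cons] at r2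
    rw [ev_cons] at a2
    rw [show [4, 6, 7, 6, 4, 4, 6, 7, 6, 4] = [4, 6, 7, 6, 4] ++ [4, 6, 7, 6, 4] from rfl,
      ev_append] at r1
    generalize ev (eL φ x) [4, 6, 7, 6, 4] = y at r1 r2 a1 a2 a3
    have a4 : y ∈ Subgroup.centralizer {φ tB, φ eB} := by
      rintro _ (rfl | rfl)
      exacts [((a1 _ (Zc_U tB_Z _)).2.congr rfl (chk_He.2.1 _ (by simp))).comm.symm,
        ((a1 _ (Zc_U eB_Z _)).2.congr rfl (chk_He.2.1 _ (by simp))).comm.symm]
    refine se.eq_top_of_cit gz.1 gz.2.1 gz.2.2 (fun c hc ho => ?_) gz.1 gu.1 gz.2.1 gu.2.1 gz.2.2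
      gu.2.2 ?_ ?_ (p := 5) (by norm_num) (by decide) (x := π ⟨φ (lt 2), _⟩ * π ⟨y, a4⟩)
      (Subgroup.mul_mem _ gs.1 (π3.2 a3)) (fun k => ?_) ?_ gs.1 gs.2.1 gs.2.2 ?_
    · obtain ⟨c, rfl⟩ := QuotientGroup.mk'_surjective N c
      rw [← mul_inv_eq_iff_eq_mul, ← map_inv, ← map_mul, ← map_mul] at hc
      obtain ⟨e, he, k⟩ := π2 hc
      replace k : Cj φ c zc (zc * e) := k.trans (map_mul _ _ _).symm
      obtain ⟨h, hh⟩ := H.of_cj (((k.mul (hC c.2 e he)).comp k).congr rfl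
        (by rw [mul_assoc, (E_facts.1 e he).2.1, mul_one]))
      have k2 : ∀ a ∈ lE, h * a = a * h := fun a ha => H.eq (hh ▸ (hC c.2 a ha).comp (hC c.2 a ha))
      refine odd_triv dvd_rfl ho ?_
      rw [← map_pow, ← map_one π]
      refine congrArg π (Subtype.ext ?_)
      change (c : G) ^ 2 ^ 3 = 1
      calc (c : G) ^ 2 ^ 3 = φ (h * h * (h * h)) := by simp [hh, pow_succ, mul_assoc]
        _ = 1 := by rw [(chk_RE h (cen_E h (k2 _ (by simp [lE])) (k2 _ (by simp [lE])))).1, map_one]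
    · rw [← map_mul]
      exact fun k => (g1 _ (f (zc * uu true) (by simp))).2.1
        ((congrArg π (Subtype.ext (map_mul φ _ _))).trans k)
    · rw [← map_mul, ← map_mul]
      exact congrArg π (Subtype.ext ((map_mul φ _ _).symm.trans
        ((congrArg φ (zc_comm _).symm).trans (map_mul φ _ _))))
    · obtain ⟨e, -, k⟩ := π4 ((map_mul π _ _).trans k)
      replace k : eL φ x 2 * y = φ e := k
      rw [k] at a2
      exact chk_He.2.2 (H.uniq a2 (cj_of (zc_comm e)))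
    · rw [← map_mul, ← map_pow, ← map_one π]
      exact congrArg π (Subtype.ext r2)
    · have : π ⟨y, a4⟩ * π ⟨y, a4⟩ = 1 := by
        rw [← map_mul, ← map_one π]; exact congrArg π (Subtype.ext r1)
      rw [← mul_assoc, gs.2.2, one_mul, mul_inv_rev, inv_of_sq this]
  · have gw := g1 (ww (m == 87)) (f _ (by cases m == 87 <;> simp))
    refine se.eq_top gz.1 gz.2.1 gz.2.2 gw.1 gw.2.1 gw.2.2 fun δ k => ?_
    obtain ⟨δ, rfl⟩ := QuotientGroup.mk'_surjective N δ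
    rw [← map_inv, ← map_mul, ← map_mul] at k
    obtain ⟨e, he, k⟩ := π2 k
    obtain ⟨b, hb, k1, k2⟩ := chk_nc m (by simp at hm ⊢; omega) e he
    have hz := (Uc true).mul_mem (zc_mem _) (Zc_U (E_facts.1 b hb).1 _)
    rw [P.bit H (Cj.mul (k.trans (map_mul _ _ _).symm) (hC δ.2 b hb)) (Uc_le_Tc _ hz)
      (Rc_le_Tc (Rc.mul_mem (Rc.mul_mem (f _ (by cases m == 87 <;> simp)).2.1
        (Zc_le_Rc (E_facts.1 e he).1)) (Zc_le_Rc (E_facts.1 b hb).1))) (Uc_sq _ _ hz), k2] at k1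
    exact absurd k1 (by simp)

theorem eq_top : M = ⊤ := by
  have hC : ∀ c, c * φ tB = φ tB * c → c ∈ M := fun c hc => by
    have k : ∀ {c}, Cj φ c tB tB → Cj φ c eB eB → c ∈ M := fun h1 h2 =>
      cenE_le H hm P B hM hx (by rintro _ (rfl | rfl); exacts [h1.comm.symm, h2.comm.symm])
    rcases norm_E H hm P B hc with h | h
    · exact k (cj_of_comm hc) h
    · have f : ⟪17567811⟫ * tB = tB * ⟪17567811⟫ ∧ ⟪17567811⟫ * (eB * tB) = eB * ⟪17567811⟫ := by
        decide +kernel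
      exact (M.mul_mem_cancel_left (hM _)).1
        (k ((cj_of f.1).comp (cj_of_comm hc)) ((cj_of f.2).comp h))
  refine SEmb.eq_top (fun j hj j1 j2 k hk => ?_) (hM zc) ?_ ?_ (hM tB) ?_ tB_sq H.not_zt
  · obtain ⟨g, hg, e | e⟩ := inv_M H hm P B hM hx hj j2 j1
    · exact uniq_D H hm P B hM hx (isConj_iff.2 ⟨g, e⟩ : IsConj j _).symm hj hk
    obtain ⟨g', hg', e' | e'⟩ := inv_M H hm P B hM hx hk (by rw [conj_mul, j2]; simp) (by simpa)
    · exact absurd (show Cj φ (g * k⁻¹ * g'⁻¹) zc tB by rw [Cj, ← e, ← e']; group) (H.not_zt _)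
    · exact mem_of_cen hC hg hg' e e'
  · rw [Ne, map_eq_one_iff φ H.inj]; decide +kernel
  · rw [← map_mul, Uc_sq true _ (zc_mem _), map_one]
  · rw [Ne, map_eq_one_iff φ H.inj]; exact E_facts.2.1

end

end Held

end H28
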