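import Mathlib
import Cfsg.Agent.H28.HeldE
import Cfsg.Agent.H28.HTqq2
import Cfsg.Agent.H28.HTpp1
import Cfsg.Agent.H28.HTpq1
import Cfsg.Agent.H28.HTqp1
import Cfsg.Agent.H28.HTqq1
import Cfsg.Agent.H9.CG
import Cfsg.Agent.H9.M24
import Cfsg.Agent.H7.SL

/-! Groups with the involution centraliser of `L₅(2)`: the models `L₅(2)`, `M₂₄`, `2⁴:L₄(2)`. -/

set_option autoImplicit false
set_option maxRecDepth 100000
set_option Elab.async false

namespace H28

open H29 H9.MX Matrix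

theorem exists_emb (G : Type*) [Group G] [Finite G] :
    ∃ (n : ℕ) (f : G →* Equiv.Perm (Fin n)), Function.Injective f :=
  ⟨_, (Finite.equivFin G).permCongrHom.toMonoidHom.comp (MulAction.toPermHom G G),
    (Finite.equivFin G).permCongrHom.injective.comp MulAction.toPerm_injective⟩

/-- identification of a group with a model of the full order. -/
theorem iso_of_bd {G : Type*} [Group G] [Finite G] {X : Type} [Group X] {R : List (List ℕ)}
    {L : List ℕ} {n : ℕ} (hU : UBd (ivOf []) R L n) {σ : ℕ → X} {e : ℕ → G}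
    (i1 : IvOK σ (ivOf [])) (i2 : IvOK e (ivOf [])) (r1 : ∀ r ∈ R, ev σ r = 1)
    (r2 : ∀ r ∈ R, ev e r = 1) (top : gen e L = ⊤) {K : Subgroup X} (hK : K ≤ gen σ L)
    (hn : n ≤ Nat.card K) (h : IsSimpleGroup K ∧ Nontrivial G ∨ n ≤ Nat.card G) :
    Nonempty (G ≃* K) := by
  obtain ⟨h1, h2⟩ := hU X σ i1 r1
  obtain rfl : K = gen σ L := Subgroup.eq_of_le_of_card_ge hK (h2.trans hn)
  obtain ⟨k, ρ, hρ⟩ := exists_emb G
  obtain ⟨f, f1, -⟩ := ((tr_of_bd hU (fun _ h => h) i1 (ivOK_map ρ i2) r1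
    (fun r hr => by rw [← map_ev, r2 r hr, map_one]) hn).trans
    (Tr.of_injective ρ hρ fun _ _ => rfl)).exists_surj i1 i2 fun _ h => h
  have t := (MulEquiv.subgroupCongr top).trans Subgroup.topEquiv
  refine ⟨((MulEquiv.ofBijective f ?_).trans t).symm⟩
  rcases h with ⟨h3, h4⟩ | h
  · refine ⟨(MonoidHom.ker_eq_bot_iff f).1
      ((IsSimpleGroup.eq_bot_or_eq_top_of_normal f.ker inferInstance).resolve_right fun h5 => ?_), f1⟩
    obtain ⟨a, ha⟩ := exists_ne (1 : G)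
    obtain ⟨b, hb⟩ := f1 (t.symm a)
    rw [show f b = 1 from h5.ge trivial, eq_comm, map_eq_one_iff _ t.symm.injective] at hb
    exact ha hb
  · exact f1.bijective_of_nat_card_le (h2.trans (h.trans (Nat.card_congr t.toEquiv).ge))

namespace Held

theorem ub_pp : UBd (ivOf []) HTpp2.R0 [0, 1, 2, 3, 4, 5, 6, 7] 9999360 := fun _ _ e h1 h2 =>
  HTpp2.bd h1 h2 (HTpp1.bd h1 (rels_sub h2 (by decide +kernel))
    (HT0.bd h1 (rels_sub h2 (by decide +kernel)) (bd_nil e)))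

theorem ub_pq : UBd (ivOf []) HTpq2.R0 [0, 1, 2, 3, 4, 5, 6, 7] 244823040 := fun _ _ e h1 h2 =>
  HTpq2.bd h1 h2 (HTpq1.bd h1 (rels_sub h2 (by decide +kernel))
    (HT0.bd h1 (rels_sub h2 (by decide +kernel)) (bd_nil e)))

theorem ub_qp : UBd (ivOf []) HTqp2.R0 [0, 1, 2, 3, 4, 5, 6, 7] 244823040 := fun _ _ e h1 h2 =>
  HTqp2.bd h1 h2 (HTqp1.bd h1 (rels_sub h2 (by decide +kernel))
    (HT0.bd h1 (rels_sub h2 (by decide +kernel)) (bd_nil e)))

theorem ub_qq : UBd (ivOf []) HTqq2.R0 [0, 1, 2, 3, 4, 5, 6, 7] 4030387200 := fun _ _ e h1 h2 =>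
  HTqq2.bd h1 h2 (HTqq1.bd h1 (rels_sub h2 (by decide +kernel))
    (HT0.bd h1 (rels_sub h2 (by decide +kernel)) (bd_nil e)))

theorem ub_a : UBd (ivOf []) HTa.R0 [0, 1, 2, 3, 5, 6, 7] 322560 := fun _ _ e h1 h2 =>
  HTa.bd h1 h2 (HT0.bd h1 (rels_sub h2 (by decide +kernel)) (bd_nil e))

theorem ub_b : UBd (ivOf []) HTb.R0 [0, 1, 2, 3, 4, 5, 6] 322560 := fun _ _ e h1 h2 =>
  HTb.bd h1 h2 (HT0.bd h1 (rels_sub h2 (by decide +kernel)) (bd_nil e))

/-! ### `M₂₄` -/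

theorem ev_pm {l : List ℕ} (h : ∀ c ∈ l, H9.validP c = true) (w : List ℕ) :
    ev (fun c => H9.pm (l.getD c H9.idP)) w = H9.pm (H9.evalW l w) := by
  have hg : H9.GensIn l ⊤ := fun c hc => ⟨h c hc, trivial⟩
  induction w with
  | nil => exact H9.pm_idP.symm
  | cons c w ih =>
    rw [ev_cons, ih, show H9.evalW l (c :: w) = H9.mulP (l.getD c H9.idP) (H9.evalW l w) from
      H9.force_eq _ _, H9.pm_mulP _ (hg.evalW w).1]
    rw [List.getD_eq_getElem?_getD]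
    cases hi : l[c]? with
    | none => exact H9.validP_idP
    | some c => exact h c (List.mem_of_getElem? hi)

theorem iso_M24 {G : Type*} [Group G] [Finite G] [Nontrivial G] {R : List (List ℕ)}
    (hU : UBd (ivOf []) R [0, 1, 2, 3, 4, 5, 6, 7] 244823040) {e : ℕ → G} (i2 : IvOK e (ivOf []))
    (r2 : ∀ r ∈ R, ev e r = 1) (top : gen e [0, 1, 2, 3, 4, 5, 6, 7] = ⊤) (l : List ℕ)
    (W : List (List ℕ)) (h : (∀ c ∈ l, H9.validP c = true) ∧ l.length = 8 ∧
      (∀ c < 8, H9.evalW l [c, c] = H9.idP) ∧ (∀ r ∈ R, H9.evalW l r = H9.idP) ∧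
      ∀ g ∈ H9.g24, ∃ w ∈ W, (∀ c ∈ w, c ∈ [0, 1, 2, 3, 4, 5, 6, 7]) ∧ H9.evalW l w = g) :
    Nonempty (G ≃* Cfsg.M24) := by
  obtain ⟨h1, h2, h3, h4, h5⟩ := h
  refine iso_of_bd hU (σ := fun c => H9.pm (l.getD c H9.idP)) (fun c => ?_) i2
    (fun r hr => by rw [ev_pm h1, h4 r hr, H9.pm_idP]) r2 top ?_ H9.card_M24.ge
    (Or.inl ⟨H9.simple_M24, inferInstance⟩)
  · refine eq_inv_of_mul_eq_one_left ?_
    by_cases hc : c < 8
    · have := ev_pm h1 [c, c]
      rwa [h3 c hc, H9.pm_idP, ev_cons, ev_cons, ev_nil, mul_one] at this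
    · simp [show ivOf [] c = c from rfl, List.getElem?_eq_none (show l.length ≤ c by omega),
        H9.pm_idP]
  · rw [← H9.cl_g24, H9.cl, Subgroup.closure_le]
    rintro _ ⟨g, hg, rfl⟩
    obtain ⟨w, -, w1, rfl⟩ := h5 g hg
    exact ev_pm h1 w ▸ ev_mem_gen w1

theorem iso_pq {G : Type*} [Group G] [Finite G] [Nontrivial G] {e : ℕ → G} (i2 : IvOK e (ivOf []))
    (r2 : ∀ r ∈ HTpq2.R0, ev e r = 1) (top : gen e [0, 1, 2, 3, 4, 5, 6, 7] = ⊤) :
    Nonempty (G ≃* Cfsg.M24) :=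
  iso_M24 ub_pq i2 r2 top [337961337795119356944123990488025290,
    85231263715043887126078356541038288, 960988948515176564080624173740099979,
    29191900318040295081701735214989367, 89128892937823972287259963159895472,
    959861333723341659734814387747900544, 462456193468823665294862323405964480,
    968544145918469516227498182695717379]
    [[1, 0, 7, 5, 6, 3, 5, 7, 6, 4, 0, 7, 5, 6, 4, 2],
      [0, 2, 3, 7, 6, 5, 7, 4, 5, 6, 0, 7, 6, 5, 7, 4], [6, 7, 5, 6, 5, 4, 0, 7, 6, 5, 3, 7, 3, 6]]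
    (by decide +kernel)

theorem iso_qp {G : Type*} [Group G] [Finite G] [Nontrivial G] {e : ℕ → G} (i2 : IvOK e (ivOf []))
    (r2 : ∀ r ∈ HTqp2.R0, ev e r = 1) (top : gen e [0, 1, 2, 3, 4, 5, 6, 7] = ⊤) :
    Nonempty (G ≃* Cfsg.M24) :=
  iso_M24 ub_qp i2 r2 top [337961337795119356944123990488025290,
    144599130205100297312739478106519553, 983560729784791355081511220156579875,
    983948622140014512689648505555363221, 683015967165049639040474235776842994,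
    569434481923312184962238408486393152, 971817203560174814489640116244496480,
    983559493361839570066624664967418912]
    [[1, 4, 0, 5, 6, 3, 5, 4, 5, 6, 7, 4, 5, 4, 3, 6, 7], [0, 1, 6, 1, 0, 4, 3, 6, 5, 0, 4],
      [5, 6, 5, 4, 2, 5, 0, 4, 6, 5, 4, 7, 6, 5, 0, 1]]
    (by decide +kernel)

/-! ### `L₅(2)` -/

theorem card_L5 : Nat.card L5 = 9999360 :=
  (one_mul _).symm.trans ((H7.card_sl (F := ZMod 2) (q := 2) (by simp) 5 (by norm_num)).trans
    (by decide +kernel))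

theorem simple_L5 : IsSimpleGroup L5 := by
  have := H7.psl_simple (ι := Fin 5) (F := ZMod 2) (by simp)
  have h : Subgroup.center L5 = ⊥ := Subgroup.card_eq_one.1
    (H7.card_center_sl (F := ZMod 2) (q := 2) (by simp) 5 (by norm_num))
  exact ((QuotientGroup.quotientMulEquivOfEq h).trans QuotientGroup.quotientBot).symm.isSimpleGroup

/-- the letters as codes. -/
noncomputable def l5 (i : Bool) : ℕ → ℕ := nth id5 (cond i
  [17567809, 17051713, 17043649, 17043523, 25432129, 16916545, 17041537, 17043553]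
  [17043523, 17043649, 17051713, 17567809, 17043553, 17041537, 16916545, 25432129])

theorem l5_sq (i : Bool) (c : ℕ) : mat5 (l5 i c) * mat5 (l5 i c) = 1 := by
  rw [← mat5_mul, show mul5 (l5 i c) (l5 i c) = id5 from nth_forall (p := fun a => mul5 a a = id5)
    (by decide +kernel) (by cases i <;> decide +kernel) c, mat5_id]

/-- the letters as matrices. -/
noncomputable def σ5 (i : Bool) (c : ℕ) : L5 := ⟨mat5 (l5 i c), by
  have h := congrArg det (l5_sq i c)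
  rw [det_mul, det_one] at h
  revert h
  generalize det (mat5 (l5 i c)) = d
  revert d
  decide⟩

theorem σ5_iv (i : Bool) : IvOK (σ5 i) (ivOf []) := fun c =>
  eq_inv_of_mul_eq_one_left (Subtype.ext (l5_sq i c))

/-- the code of a word. -/
noncomputable def ev5 (i : Bool) (w : List ℕ) : ℕ :=
  List.rec (motive := fun _ => ℕ) id5 (fun c _ ih => lit ih (mul5 (l5 i c))) w

theorem ev_σ5 (i : Bool) : ∀ w, (ev (σ5 i) w).1 = mat5 (ev5 i w)
  | [] => mat5_id.symm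
  | c :: w => by
    change mat5 (l5 i c) * (ev (σ5 i) w).1 = _
    rw [ev_σ5 i w]
    exact (mat5_mul _ _).symm

theorem rel5 {i : Bool} {R : List (List ℕ)} (h : ∀ r ∈ R, ev5 i r = id5) :
    ∀ r ∈ R, ev (σ5 i) r = 1 := fun r hr => Subtype.ext (by rw [ev_σ5, h r hr, mat5_id]; rfl)

theorem iso_pp {G : Type*} [Group G] [Finite G] [Nontrivial G] {e : ℕ → G} (i2 : IvOK e (ivOf []))
    (r2 : ∀ r ∈ HTpp2.R0, ev e r = 1) (top : gen e [0, 1, 2, 3, 4, 5, 6, 7] = ⊤) :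
    Nonempty (G ≃* L5) := by
  have h : ∀ (i j : Fin 5) (c : ZMod 2), i ≠ j → ∃ w ∈ [[], [0], [5, 0, 5], [6, 5, 0, 5, 6],
      [7, 3, 6, 5, 0, 5, 6, 3, 7], [4], [1], [6, 1, 6], [5, 6, 3, 6, 5], [5, 4, 5], [5, 1, 5], [2],
      [6, 3, 6], [6, 5, 4, 5, 6], [6, 5, 1, 5, 6], [6, 2, 6], [3], [3, 7, 6, 5, 4, 5, 6, 7, 3],
      [5, 6, 7, 6, 5], [6, 7, 6], [7]], (∀ c ∈ w, c ∈ [0, 1, 2, 3, 4, 5, 6, 7]) ∧
      mat5 (ev5 false w) = 1 + single i j c := by decide +kernel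
  have := simple_L5
  obtain ⟨f⟩ := iso_of_bd ub_pp (σ5_iv false) i2 (rel5 (by decide +kernel)) r2 top (K := ⊤)
    (H7.sl_eq_top_of_transvection_mem _ fun i j hij c => by
      obtain ⟨w, -, w1, w2⟩ := h i j c hij
      exact (show ev (σ5 false) w = SpecialLinearGroup.transvection hij c from
        Subtype.ext ((ev_σ5 _ w).trans w2)) ▸ ev_mem_gen w1).ge
    (by rw [Subgroup.card_top, card_L5])
    (Or.inl ⟨Subgroup.topEquiv.isSimpleGroup, inferInstance⟩)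
  exact ⟨f.trans Subgroup.topEquiv⟩

/-! ### The stabiliser of a vector -/

theorem mem_of_lt {X : Type*} [Group X] {φ : Hc →* X} {K : Subgroup X}
    (h : ∀ c ∈ [0, 1, 2, 3, 5, 6], φ (lt c) ∈ K) (a : Hc) : φ a ∈ K :=
  (gen_le (H := K.comap φ)).2 h (gen_lt ▸ Subgroup.mem_top a)

theorem cj_V {X : Type*} [Group X] [Finite X] {φ : Hc →* X} {K : Subgroup X} {i : Bool} {y : X}
    (hK : ∀ h, φ h ∈ K) (hy : y ∈ K) (e : Cj φ y zc (uu i)) {v : Hc} (hv : v ∈ Vc i) (h1 : v ≠ 1) :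
    ∃ g ∈ K, Cj φ g zc v := by
  obtain ⟨-, a1, a2, a3⟩ := (chk_V i).2.1 v hv
  obtain ⟨k, h, hh⟩ := cj_rep (φ := φ) a1 a2 h1
  have : ∀ k < 8, (cond i 5 3).testBit k → rep k = zc ∨ rep k = uu i := by
    cases i <;> decide +kernel
  rcases this _ k (a3 h1) with e1 | e1 <;> rw [e1] at hh
  exacts [⟨_, hK h, hh⟩, ⟨_, K.mul_mem (hK h) hy, hh.comp e⟩]

theorem card_ge {X : Type*} [Group X] [Finite X] {φ : Hc →* X} (inj : Function.Injective φ)
    {K : Subgroup X} {i : Bool} {y : X} (hK : ∀ h, φ h ∈ K) (hy : y ∈ K) (e : Cj φ y zc (uu i)) :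
    322560 ≤ Nat.card K := by
  choose g g1 g2 using fun v : {a : Hc | a ∈ Vc i ∧ a ≠ 1} => cj_V hK hy e v.2.1 v.2.2
  have h : Function.Injective fun p : {a : Hc | a ∈ Vc i ∧ a ≠ 1} × Hc =>
      (⟨g p.1 * φ p.2, K.mul_mem (g1 _) (hK _)⟩ : K) := fun p q e => by
    replace e : g p.1 * φ p.2 = g q.1 * φ q.2 := congrArg Subtype.val e
    have e1 : p.1 = q.1 := Subtype.ext (inj (Eq.trans (Eq.symm ((g2 p.1).comp (cj_of (zc_comm p.2))))
      (e ▸ (g2 q.1).comp (cj_of (zc_comm q.2)))))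
    exact Prod.ext e1 (inj (mul_left_cancel (e1 ▸ e)))
  have := Nat.card_le_card_of_injective _ h
  rwa [Nat.card_prod, Hc.card, Nat.card_coe_set_eq, ncard_cntP _ (by cases i <;> decide),
    show cntP _ _ = 15 by cases i <;> decide +kernel] at this

/-- the fixed vector. -/
def e0 : Fin 5 → ZMod 2 := ![1, 0, 0, 0, 0]

theorem stab_eq : gen (σ5 false) [0, 1, 2, 3, 5, 6, 7] = MulAction.stabilizer L5 e0 ∧
    322560 ≤ Nat.card (MulAction.stabilizer L5 e0) := by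
  have h1 : 322560 ≤ Nat.card (gen (σ5 false) [0, 1, 2, 3, 5, 6, 7]) :=
    card_ge (φ := (Subgroup.subtype _).comp Hc.equiv.toMonoidHom) (i := false)
      (Subtype.val_injective.comp Hc.equiv.injective) (mem_of_lt fun c hc => by
        have : ∀ c ∈ [0, 1, 2, 3, 5, 6], (lt c).1 = l5 false c := by decide +kernel
        change ((lt c).cen : L5) ∈ _
        rw [show ((lt c).cen : L5) = σ5 false c from Subtype.ext (congrArg mat5 (this c hc))]
        exact mem_gen (List.mem_append_left [7] hc))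
      (ev_mem_gen (w := [3, 7]) (by decide)) (mul_inv_eq_iff_eq_mul.2 (Subtype.ext (by
        change _ * mat5 zc.1 = mat5 (uu false).1 * _
        rw [ev_σ5, ← mat5_mul, ← mat5_mul]
        exact congrArg mat5 (by decide +kernel))))
  have h2 : gen (σ5 false) [0, 1, 2, 3, 5, 6, 7] ≤ MulAction.stabilizer L5 e0 :=
    gen_le.2 (show ∀ c ∈ [0, 1, 2, 3, 5, 6, 7], mat5 (l5 false c) *ᵥ e0 = e0 by decide +kernel)
  refine ⟨Subgroup.eq_of_le_of_card_ge h2 (le_trans ?_ h1), h1.trans (Subgroup.card_le_of_le h2)⟩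
  have h3 : ∀ v : Fin 5 → ZMod 2, v ≠ 0 → ∃ w ∈ [[], [0, 4], [4], [5, 0, 4], [5, 4], [1, 5, 0, 4],
      [1, 5, 4], [6, 5, 0, 4], [6, 5, 4], [6, 1, 5, 0, 4], [6, 1, 5, 4], [2, 6, 5, 0, 4],
      [2, 6, 5, 4], [2, 6, 1, 5, 0, 4], [2, 6, 1, 5, 4], [3, 7, 6, 5, 0, 4], [3, 7, 6, 5, 4],
      [3, 7, 6, 1, 5, 0, 4], [3, 7, 6, 1, 5, 4], [6, 7, 6, 5, 0, 4], [6, 7, 6, 5, 4],
      [6, 7, 6, 1, 5, 0, 4], [6, 7, 6, 1, 5, 4], [7, 6, 5, 0, 4], [7, 6, 5, 4], [7, 6, 1, 5, 0, 4],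
      [7, 6, 1, 5, 4], [7, 2, 6, 5, 0, 4], [7, 2, 6, 5, 4], [7, 2, 6, 1, 5, 0, 4],
      [7, 2, 6, 1, 5, 4]], mat5 (ev5 false w) *ᵥ e0 = v := by decide +kernel
  have h4 : 31 ≤ (MulAction.stabilizer L5 e0).index := by
    rw [MulAction.index_stabilizer, show 31 = (Finset.univ.erase (0 : Fin 5 → ZMod 2)).card by simp,
      ← Set.ncard_coe_finset]
    refine Set.ncard_le_ncard fun v hv => ?_
    obtain ⟨w, -, e⟩ := h3 v (by simpa using hv)
    exact ⟨ev (σ5 false) w, by rw [← e, ← ev_σ5]; rfl⟩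
  have h5 := (MulAction.stabilizer L5 e0).index_mul_card
  rw [card_L5] at h5
  nlinarith

theorem iso_ab {G : Type*} [Group G] [Finite G] (i : Bool) {e : ℕ → G} (i2 : IvOK e (ivOf []))
    (r2 : ∀ r ∈ cond i HTb.R0 HTa.R0, ev e r = 1) (top : gen e (nw i :: [0, 1, 2, 3, 5, 6]) = ⊤)
    (h : 322560 ≤ Nat.card G) : Nonempty (G ≃* MulAction.stabilizer L5 e0) := by
  cases i
  · exact iso_of_bd ub_a (σ5_iv false) i2 (rel5 (by decide +kernel)) r2
      (eq_top_iff.2 (top.ge.trans (gen_mono (by decide)))) stab_eq.1.ge stab_eq.2 (Or.inr h)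
  · refine iso_of_bd ub_b (σ5_iv true) i2 (rel5 (by decide +kernel)) r2
      (eq_top_iff.2 (top.ge.trans (gen_mono (by decide)))) (stab_eq.1.ge.trans (gen_le.2 ?_))
      stab_eq.2 (Or.inr h)
    have : ∀ c ∈ [0, 1, 2, 3, 5, 6, 7], ∃ d ∈ [0, 1, 2, 3, 4, 5, 6], l5 false c = l5 true d := by
      decide +kernel
    intro c hc
    obtain ⟨d, hd, e⟩ := this c hc
    exact (show σ5 true d = σ5 false c from Subtype.ext (congrArg mat5 e.symm)) ▸ mem_gen hd

end Held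

end H28
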