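import Mathlib
import Cfsg.Prelude.Def_SporadicCombinatorics

/-! Monomial automorphism groups of finite linear codes. -/

set_option autoImplicit false

namespace H28

open Cfsg

section

variable {α F : Type*} [Field F]

/-- `(σ, c)` preserves `C`. -/
def MonoOK (C : Submodule F (α → F)) (σ : Equiv.Perm α) (c : α → Fˣ) : Prop :=
  ∀ x ∈ C, monomialMap σ c x ∈ C

theorem mono_comp (σ τ : Equiv.Perm α) (c d : α → Fˣ) (x : α → F) :
    monomialMap σ c (monomialMap τ d x) =
      monomialMap (σ * τ) (c * fun i => d (σ.symm i)) x := by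
  funext i
  simp [monomialMap, mul_assoc, Equiv.Perm.mul_def]

theorem mono_one (x : α → F) : monomialMap 1 1 x = x := by
  funext i
  simp [monomialMap, Equiv.Perm.one_def]

theorem mono_inj (σ : Equiv.Perm α) (c : α → Fˣ) :
    Function.Injective (monomialMap σ c : (α → F) → α → F) := by
  intro x y h
  funext i
  simpa [monomialMap] using congrFun h (σ i)

variable [Finite α] [Finite F]

theorem MonoOK.surj {C : Submodule F (α → F)} {σ : Equiv.Perm α} {c : α → Fˣ} (h : MonoOK C σ c)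
    {y : α → F} (hy : y ∈ C) : ∃ x ∈ C, monomialMap σ c x = y := by
  have : Function.Surjective (fun x : C => (⟨monomialMap σ c x, h x x.2⟩ : C)) :=
    Finite.surjective_of_injective fun x y e =>
      Subtype.ext (mono_inj σ c (congrArg Subtype.val e))
  obtain ⟨x, e⟩ := this ⟨y, hy⟩
  exact ⟨x, x.2, congrArg Subtype.val e⟩

/-- the permutation parts of the monomial automorphisms. -/
def permPart (C : Submodule F (α → F)) : Subgroup (Equiv.Perm α) where
  carrier := {σ | ∃ c, MonoOK C σ c}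
  one_mem' := ⟨1, fun x hx => by rwa [mono_one]⟩
  mul_mem' := fun ⟨c, hc⟩ ⟨d, hd⟩ => ⟨_, fun x hx => mono_comp _ _ c d x ▸ hc _ (hd x hx)⟩
  inv_mem' := fun {σ} ⟨c, hc⟩ => ⟨fun i => (c (σ i))⁻¹, fun y hy => by
    obtain ⟨x, hx, rfl⟩ := hc.surj hy
    convert hx using 1
    funext i
    simp [monomialMap, Equiv.Perm.inv_def]⟩

theorem MonoOK.iff {C : Submodule F (α → F)} {σ : Equiv.Perm α} {c : α → Fˣ} (h : MonoOK C σ c)
    (d : α → Fˣ) : MonoOK C σ (d * c) ↔ MonoOK C 1 d := by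
  have e : ∀ x, monomialMap σ (d * c) x = monomialMap 1 d (monomialMap σ c x) := fun x => by
    rw [mono_comp, one_mul]; rfl
  refine ⟨fun h' y hy => ?_, fun h' x hx => e x ▸ h' _ (h x hx)⟩
  obtain ⟨x, hx, rfl⟩ := h.surj hy
  exact e x ▸ h' x hx

theorem card_mono (C : Submodule F (α → F)) :
    Nat.card {f : Equiv.Perm α × (α → Fˣ) // MonoOK C f.1 f.2} =
      Nat.card (permPart C) * Nat.card {c : α → Fˣ // MonoOK C 1 c} := by
  choose c0 hc0 using fun σ : permPart C => σ.2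
  rw [← Nat.card_prod]
  exact Nat.card_congr
    { toFun := fun f => (⟨f.1.1, f.1.2, f.2⟩, ⟨f.1.2 * (c0 ⟨f.1.1, f.1.2, f.2⟩)⁻¹,
        ((hc0 ⟨f.1.1, f.1.2, f.2⟩).iff _).1 (by simpa using f.2)⟩)
      invFun := fun p => ⟨(p.1, p.2 * c0 p.1), ((hc0 p.1).iff _).2 p.2.2⟩
      left_inv := fun f => by simp
      right_inv := fun p => by simp }

end

/-- value of a word in two permutations. -/
def evW {α : Type*} (a b : Equiv.Perm α) (w : List ℕ) : Equiv.Perm α :=
  w.foldr (fun i g => (if i = 0 then a else b) * g) 1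

theorem evW_mem {α : Type*} {a b : Equiv.Perm α} {K : Subgroup (Equiv.Perm α)} (ha : a ∈ K)
    (hb : b ∈ K) (w : List ℕ) : evW a b w ∈ K := by
  induction w with
  | nil => exact K.one_mem
  | cons i w ih => exact K.mul_mem (by split_ifs <;> assumption) ih

theorem le_of_chain {α : Type*} {G K : Subgroup (Equiv.Perm α)} (hK : K ≤ G) (n : ℕ) (b : ℕ → α)
    (hb : ∀ i < n, ∀ j < i, b i ≠ b j)
    (h : ∀ i < n, ∀ y, (∀ j < i, y ≠ b j) → ∃ k ∈ K, (∀ j < i, k (b j) = b j) ∧ k (b i) = y)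
    (h0 : ∀ g ∈ G, (∀ j < n, g (b j) = b j) → g = 1) : G ≤ K := by
  have key : ∀ m i, i + m = n → ∀ g ∈ G, (∀ j < i, g (b j) = b j) → g ∈ K := by
    intro m
    induction m with
    | zero => intro i e g hg h1; rw [h0 g hg (by simpa [← e] using h1)]; exact K.one_mem
    | succ m ih =>
      intro i e g hg h1
      obtain ⟨k, hk, h2, h3⟩ := h i (by omega) (g (b i)) fun j hj e' =>
        hb i (by omega) j hj (g.injective (e'.trans (h1 j hj).symm))
      have := ih (i + 1) (by omega) (k⁻¹ * g) (G.mul_mem (G.inv_mem (hK hk)) hg) fun j hj => by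
        rw [Equiv.Perm.mul_apply, Equiv.Perm.inv_eq_iff_eq]
        rcases Nat.lt_succ_iff_lt_or_eq.1 hj with h | rfl
        · rw [h1 j h, h2 j h]
        · exact h3.symm
      simpa using K.mul_mem hk this
  exact fun g hg => key n 0 (by simp) g hg (by simp)

theorem le_of_words {α : Type*} {G K : Subgroup (Equiv.Perm α)} (hK : K ≤ G) {a a' : Equiv.Perm α}
    (ha : a ∈ K) (ha' : a' ∈ K) (n : ℕ) (b : ℕ → α) (W : ℕ → List (List ℕ))
    (hb : ∀ i < n, ∀ j < i, b i ≠ b j)
    (h : ∀ i < n, ∀ y, (∀ j < i, y ≠ b j) →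
      ∃ w ∈ W i, (∀ j < i, evW a a' w (b j) = b j) ∧ evW a a' w (b i) = y)
    (h0 : ∀ g ∈ G, (∀ j < n, g (b j) = b j) → g = 1) : G ≤ K :=
  le_of_chain hK n b hb (fun i hi y hy => by
    obtain ⟨w, -, h1⟩ := h i hi y hy
    exact ⟨_, evW_mem ha ha' w, h1⟩) h0

end H28
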