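import Mathlib
import Cfsg.Agent.H28.Mono

/-! The hexacode. -/

set_option autoImplicit false

namespace H28

open Cfsg Finset

/-- addition table of the field of order 4. -/
def ad4 (i j : Fin 4) : Fin 4 := ![![0, 1, 2, 3], ![1, 0, 3, 2], ![2, 3, 0, 1], ![3, 2, 1, 0]] i j

/-- multiplication table of the field of order 4. -/
def mu4 (i j : Fin 4) : Fin 4 := ![![0, 0, 0, 0], ![0, 1, 2, 3], ![0, 2, 3, 1], ![0, 3, 1, 2]] i j

/-- the word with given first three symbols. -/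
def hw (m : Fin 4 × Fin 4 × Fin 4) : Fin 6 → Fin 4 :=
  ![m.1, m.2.1, m.2.2, ad4 (ad4 m.1 m.2.1) m.2.2, ad4 (ad4 (mu4 3 m.1) (mu4 2 m.2.1)) m.2.2,
    ad4 (ad4 (mu4 2 m.1) (mu4 3 m.2.1)) m.2.2]

section

variable {F : Type*} [Field F]

/-- the enumeration `0, 1, ω, ω + 1`. -/
def e4 (ω : F) : Fin 4 → F := ![0, 1, ω, ω + 1]

variable [Fintype F] {ω : F}

theorem two_eq (hF : Fintype.card F = 4) : (2 : F) = 0 := by
  have h := FiniteField.cast_card_eq_zero F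
  rw [hF] at h
  have : (2 : F) ^ 2 = 0 := by rw [← h]; norm_num
  exact pow_eq_zero_iff (by norm_num) |>.1 this

theorem e4_add (hF : Fintype.card F = 4) (i j : Fin 4) : e4 ω (ad4 i j) = e4 ω i + e4 ω j := by
  have h := two_eq hF
  fin_cases i <;> fin_cases j <;> simp [e4, ad4] <;> grind

theorem e4_mul (hF : Fintype.card F = 4) (hω : ω ^ 2 + ω + 1 = 0) (i j : Fin 4) :
    e4 ω (mu4 i j) = e4 ω i * e4 ω j := by
  have h := two_eq hF
  fin_cases i <;> fin_cases j <;> simp [e4, mu4] <;> grind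

theorem e4_eq_zero (hF : Fintype.card F = 4) (hω : ω ^ 2 + ω + 1 = 0) (i : Fin 4) :
    e4 ω i = 0 ↔ i = 0 := by
  have h := two_eq hF
  fin_cases i <;> simp [e4] <;> grind

theorem e4_inj (hF : Fintype.card F = 4) (hω : ω ^ 2 + ω + 1 = 0) : Function.Injective (e4 ω) := by
  intro i j h
  have h1 : e4 ω (ad4 i j) = 0 := by rw [e4_add hF, h, ← two_mul, two_eq hF, zero_mul]
  rw [e4_eq_zero hF hω] at h1
  revert i j
  suffices ∀ i j, ad4 i j = 0 → i = j from fun i j _ => this i j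
  decide

theorem e4_surj (hF : Fintype.card F = 4) (hω : ω ^ 2 + ω + 1 = 0) :
    Function.Surjective (e4 ω) :=
  ((Fintype.bijective_iff_injective_and_card _).2 ⟨e4_inj hF hω, by simp [hF]⟩).2

theorem mem_hexa' (hF : Fintype.card F = 4) (hω : ω ^ 2 + ω + 1 = 0) {x : Fin 6 → F} :
    x ∈ hexacode F ω ↔ x 3 = x 0 + x 1 + x 2 ∧ x 4 = (ω + 1) * x 0 + ω * x 1 + x 2 ∧
      x 5 = ω * x 0 + (ω + 1) * x 1 + x 2 := by
  have h := two_eq hF
  rw [hexacode, Submodule.mem_span_triple]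
  constructor
  · rintro ⟨a, b, c, rfl⟩
    simp
    grind
  · rintro ⟨h3, h4, h5⟩
    refine ⟨ω * x 0 + (ω + 1) * x 1, (ω + 1) * x 0 + (ω + 1) * x 1 + x 2, x 1 + x 2, ?_⟩
    funext i
    fin_cases i <;> simp <;> grind

theorem mem_hexa_e4 (hF : Fintype.card F = 4) (hω : ω ^ 2 + ω + 1 = 0) (y : Fin 6 → Fin 4) :
    (fun i => e4 ω (y i)) ∈ hexacode F ω ↔ y = hw (y 0, y 1, y 2) := by
  rw [mem_hexa' hF hω]
  have e3 : ∀ a, (ω + 1) * e4 ω a = e4 ω (mu4 3 a) := fun a => (e4_mul hF hω 3 a).symm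
  have e2 : ∀ a, ω * e4 ω a = e4 ω (mu4 2 a) := fun a => (e4_mul hF hω 2 a).symm
  simp only [e3, e2, ← e4_add hF, (e4_inj hF hω).eq_iff]
  constructor
  · rintro ⟨h3, h4, h5⟩
    funext i
    fin_cases i
    exacts [rfl, rfl, rfl, h3, h4, h5]
  · exact fun h => ⟨congrFun h 3, congrFun h 4, congrFun h 5⟩

theorem mem_hexa (hF : Fintype.card F = 4) (hω : ω ^ 2 + ω + 1 = 0) {x : Fin 6 → F} :
    x ∈ hexacode F ω ↔ ∃ m, x = fun i => e4 ω (hw m i) := by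
  choose y hy using fun i => e4_surj hF hω (x i)
  constructor
  · intro h
    rw [← funext hy, mem_hexa_e4 hF hω] at h
    exact ⟨_, by rw [← h, funext hy]⟩
  · rintro ⟨m, rfl⟩
    exact (mem_hexa_e4 hF hω _).2 rfl

theorem ncard_hexa (hF : Fintype.card F = 4) (hω : ω ^ 2 + ω + 1 = 0)
    (P : (Fin 6 → F) → Prop) (p : Fin 4 × Fin 4 × Fin 4 → Prop) [DecidablePred p]
    (h : ∀ m, P (fun i => e4 ω (hw m i)) ↔ p m) :
    {x | x ∈ hexacode F ω ∧ P x}.ncard = (univ.filter p).card := by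
  have hi : Function.Injective fun m i => e4 ω (hw m i) := fun m n e =>
    Prod.ext (e4_inj hF hω (congrFun e 0))
      (Prod.ext (e4_inj hF hω (congrFun e 1)) (e4_inj hF hω (congrFun e 2)))
  rw [← Set.ncard_coe_finset, ← Set.ncard_image_of_injective _ hi]
  congr 1
  ext x
  simp only [mem_hexa hF hω, Set.mem_ofPred_eq, coe_filter, mem_univ, true_and, Set.mem_image, ← h]
  exact ⟨fun ⟨⟨m, e⟩, h⟩ => ⟨m, e ▸ h, e.symm⟩, fun ⟨m, h, e⟩ => ⟨⟨m, e.symm⟩, e ▸ h⟩⟩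

theorem s1610 [DecidableEq F] (hF : Fintype.card F = 4) (hω : ω ^ 2 + ω + 1 = 0) :
    Nat.card ↥(hexacode F ω) = 64 ∧ (∀ x ∈ hexacode F ω, x ≠ 0 →
      (univ.filter fun i => x i ≠ 0).card = 4 ∨ (univ.filter fun i => x i ≠ 0).card = 6) ∧
    {x : Fin 6 → F | x ∈ hexacode F ω ∧ (univ.filter fun i => x i ≠ 0).card = 4}.ncard = 45 ∧
    {x : Fin 6 → F | x ∈ hexacode F ω ∧ (univ.filter fun i => x i ≠ 0).card = 6}.ncard = 18 := by
  refine ⟨?_, fun x hx h0 => ?_, ?_, ?_⟩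
  · have := ncard_hexa hF hω (fun _ => True) (fun _ => True) (by simp)
    simp only [and_true, filter_true, card_univ, Fintype.card_prod, Fintype.card_fin] at this
    exact this
  · obtain ⟨m, rfl⟩ := (mem_hexa hF hω).1 hx
    simp only [ne_eq, e4_eq_zero hF hω]
    have h : ∀ m, m = 0 ∨ (univ.filter fun i => ¬ hw m i = 0).card = 4 ∨
      (univ.filter fun i => ¬ hw m i = 0).card = 6 := by decide +kernel
    refine (h m).resolve_left fun e => h0 (funext fun i => ?_)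
    rw [e, Pi.zero_apply, e4_eq_zero hF hω]
    revert i
    decide
  · rw [ncard_hexa hF hω _ (fun m => (univ.filter fun i => ¬ hw m i = 0).card = 4)
      (by simp [e4_eq_zero hF hω])]
    decide +kernel
  · rw [ncard_hexa hF hω _ (fun m => (univ.filter fun i => ¬ hw m i = 0).card = 6)
      (by simp [e4_eq_zero hF hω])]
    decide +kernel

theorem monoOK_iff (hF : Fintype.card F = 4) (hω : ω ^ 2 + ω + 1 = 0) (σ : Equiv.Perm (Fin 6))
    (c : Fin 6 → Fˣ) (d : Fin 6 → Fin 4) (hd : ∀ i, e4 ω (d i) = c i) :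
    MonoOK (hexacode F ω) σ c ↔ ∀ m, (fun i => mu4 (d i) (hw m (σ.symm i))) =
      hw (mu4 (d 0) (hw m (σ.symm 0)), mu4 (d 1) (hw m (σ.symm 1)), mu4 (d 2) (hw m (σ.symm 2))) := by
  have e : ∀ m, monomialMap σ c (fun i => e4 ω (hw m i)) =
      fun i => e4 ω (mu4 (d i) (hw m (σ.symm i))) := fun m => funext fun i => by
    rw [e4_mul hF hω, hd]; rfl
  constructor
  · intro h m
    have := h _ ((mem_hexa hF hω).2 ⟨m, rfl⟩)
    rwa [e, mem_hexa_e4 hF hω] at this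
  · intro h x hx
    obtain ⟨m, rfl⟩ := (mem_hexa hF hω).1 hx
    rw [e, mem_hexa_e4 hF hω]
    exact h m

theorem mem_permPart_hexa (hF : Fintype.card F = 4) (hω : ω ^ 2 + ω + 1 = 0)
    (σ : Equiv.Perm (Fin 6)) (d : Fin 6 → Fin 4) (h0 : ∀ i, d i ≠ 0)
    (h : ∀ m, (fun i => mu4 (d i) (hw m (σ.symm i))) =
      hw (mu4 (d 0) (hw m (σ.symm 0)), mu4 (d 1) (hw m (σ.symm 1)), mu4 (d 2) (hw m (σ.symm 2)))) :
    σ ∈ permPart (hexacode F ω) :=
  ⟨fun i => Units.mk0 _ ((e4_eq_zero hF hω _).not.2 (h0 i)),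
    (monoOK_iff hF hω σ _ d fun _ => rfl).2 h⟩

theorem hexa_diag (hF : Fintype.card F = 4) (hω : ω ^ 2 + ω + 1 = 0) (c : Fin 6 → Fˣ)
    (h : MonoOK (hexacode F ω) 1 c) (i j : Fin 6) : c i = c j := by
  choose d hd using fun i => e4_surj hF hω (c i)
  rw [monoOK_iff hF hω 1 c d hd] at h
  have k : ∀ a b c d e f : Fin 4, mu4 d 1 = hw (mu4 a 1, mu4 b 0, mu4 c 0) 3 →
      mu4 e 3 = hw (mu4 a 1, mu4 b 0, mu4 c 0) 4 → mu4 f 2 = hw (mu4 a 1, mu4 b 0, mu4 c 0) 5 →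
      mu4 d 1 = hw (mu4 a 0, mu4 b 1, mu4 c 0) 3 → mu4 d 1 = hw (mu4 a 0, mu4 b 0, mu4 c 1) 3 →
      ∀ i, ![a, b, c, d, e, f] i = a := by decide +kernel
  have k2 := k (d 0) (d 1) (d 2) (d 3) (d 4) (d 5) (congrFun (h (1, 0, 0)) 3)
    (congrFun (h (1, 0, 0)) 4) (congrFun (h (1, 0, 0)) 5) (congrFun (h (0, 1, 0)) 3)
    (congrFun (h (0, 0, 1)) 3)
  have k3 : ∀ i, d i = d 0 := fun i => by
    rw [← k2 i]; fin_cases i <;> rfl
  apply Units.ext
  rw [← hd, ← hd, k3 i, k3 j]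

theorem hexa_swap (hF : Fintype.card F = 4) (hω : ω ^ 2 + ω + 1 = 0) :
    Equiv.swap 0 1 ∉ permPart (hexacode F ω) := by
  rintro ⟨c, h⟩
  choose d hd using fun i => e4_surj hF hω (c i)
  rw [monoOK_iff hF hω _ c d hd] at h
  have k : ∀ a b c d e : Fin 4, mu4 d 1 = hw (mu4 a 0, mu4 b 1, mu4 c 0) 3 →
      mu4 e 3 = hw (mu4 a 0, mu4 b 1, mu4 c 0) 4 → mu4 d 1 = hw (mu4 a 0, mu4 b 0, mu4 c 1) 3 →
      mu4 e 1 = hw (mu4 a 0, mu4 b 0, mu4 c 1) 4 → d = 0 := by decide +kernel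
  have k2 := k (d 0) (d 1) (d 2) (d 3) (d 4) (congrFun (h (1, 0, 0)) 3)
    (congrFun (h (1, 0, 0)) 4) (congrFun (h (0, 0, 1)) 3) (congrFun (h (0, 0, 1)) 4)
  exact (c 3).ne_zero (by rw [← hd, k2]; rfl)

theorem hexa_permPart (hF : Fintype.card F = 4) (hω : ω ^ 2 + ω + 1 = 0) :
    permPart (hexacode F ω) = alternatingGroup (Fin 6) := by
  have h1 : alternatingGroup (Fin 6) ≤ permPart (hexacode F ω) ⊓ alternatingGroup (Fin 6) :=
    le_of_words (a := c[0, 1, 2]) (a' := c[1, 2, 3, 4, 5]) inf_le_right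
      ⟨mem_permPart_hexa hF hω _ ![1, 1, 1, 1, 3, 2] (by decide) (by decide +kernel),
        Equiv.Perm.mem_alternatingGroup.2 (by decide +kernel)⟩
      ⟨mem_permPart_hexa hF hω _ ![1, 3, 2, 3, 1, 2] (by decide) (by decide +kernel),
        Equiv.Perm.mem_alternatingGroup.2 (by decide +kernel)⟩ 4 (Fin.ofNat 6)
      (fun i => [[[], [0], [0, 0], [1, 0, 0], [1, 1, 0, 0], [1, 1, 1, 0, 0]],
        [[], [1], [1, 1], [1, 1, 1], [1, 1, 1, 1]],
        [[], [1, 0, 1, 0, 1, 1, 1], [0, 1, 0, 1], [1, 1, 0, 1, 0, 0, 1, 0]],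
        [[], [1, 1, 0, 1, 0, 1, 1], [1, 0, 0, 1, 1, 0, 1, 1, 0, 0, 1]]].getD i [])
      (by decide) (by decide +kernel) fun g hg h => by
        have k : ∀ g : Equiv.Perm (Fin 6), ¬ (g 0 = 0 ∧ g 1 = 1 ∧ g 2 = 2 ∧ g 3 = 3 ∧
          Equiv.Perm.sign g = 1) ∨ g = 1 := by decide +kernel
        exact (k g).resolve_left (not_not.2 ⟨h 0 (by norm_num), h 1 (by norm_num),
          h 2 (by norm_num), h 3 (by norm_num), Equiv.Perm.mem_alternatingGroup.1 hg⟩)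
  refine le_antisymm (fun σ hσ => ?_) (h1.trans inf_le_left)
  by_contra hn
  have h2 : Equiv.swap 0 1 * σ ∈ alternatingGroup (Fin 6) := by
    rw [Equiv.Perm.mem_alternatingGroup] at hn ⊢
    rw [Equiv.Perm.sign_mul, Equiv.Perm.sign_swap (by decide),
      (Int.units_eq_one_or _).resolve_left hn]
    decide
  exact hexa_swap hF hω (by simpa using Subgroup.mul_mem _ (h1 h2).1 (Subgroup.inv_mem _ hσ))

theorem s1611 (hF : Fintype.card F = 4) (hω : ω ^ 2 + ω + 1 = 0) :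
    Nat.card {f : Equiv.Perm (Fin 6) × (Fin 6 → Fˣ) //
      (∀ x ∈ hexacode F ω, monomialMap f.1 f.2 x ∈ hexacode F ω)} = 1080 ∧
    (∀ c : Fin 6 → Fˣ, (∀ x ∈ hexacode F ω, monomialMap 1 c x ∈ hexacode F ω) →
      ∀ i j, c i = c j) ∧
    {σ : Equiv.Perm (Fin 6) | ∃ c : Fin 6 → Fˣ,
      (∀ x ∈ hexacode F ω, monomialMap σ c x ∈ hexacode F ω)} =
      (alternatingGroup (Fin 6) : Set (Equiv.Perm (Fin 6))) := by
  refine ⟨(card_mono _).trans ?_, hexa_diag hF hω, by rw [← hexa_permPart hF hω]; rfl⟩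
  have h2 : Nat.card {c : Fin 6 → Fˣ // MonoOK (hexacode F ω) 1 c} = Nat.card Fˣ :=
    Nat.card_congr
      { toFun := fun c => c.1 0
        invFun := fun u => ⟨fun _ => u, fun x hx => (hexacode F ω).smul_mem (u : F) hx⟩
        left_inv := fun c => Subtype.ext (funext fun i => hexa_diag hF hω _ c.2 _ _)
        right_inv := fun _ => rfl }
  have h3 := (alternatingGroup (Fin 6)).index_mul_card
  rw [alternatingGroup.index_eq_two, Nat.card_perm, Nat.card_fin,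
    show Nat.factorial 6 = 720 by decide] at h3
  rw [h2, hexa_permPart hF hω, Nat.card_units, Nat.card_eq_fintype_card (α := F), hF]
  omega

end

end H28
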