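import Mathlib
import Cfsg.Agent.H28.OctL
import Cfsg.Agent.H28.SextetOrb

/-! Trios. -/

set_option autoImplicit false

namespace H28

open Cfsg Finset H9
open scoped symmDiff Pointwise

/-- the trio through two disjoint octads. -/
def tri (a b : Finset GolayPt) : Finset (Finset GolayPt) := {a, b, (a ∪ b)ᶜ}

theorem third_octad {a b : Finset GolayPt} (ha : a ∈ octads) (hb : b ∈ octads)
    (h : Disjoint a b) : (a ∪ b)ᶜ ∈ octads := by
  refine ⟨compl_mem_GC (symmDiff_eq_union' h ▸ symmDiff_mem_GC ha.1 hb.1), ?_⟩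
  rw [card_compl, card_union_of_disjoint h, ha.2, hb.2, card_golayPt]

theorem ne_of_disjoint_octads {a b : Finset GolayPt} (ha : a ∈ octads) (h : Disjoint a b) :
    a ≠ b := by
  rintro rfl
  rw [disjoint_self] at h
  have := ha.2
  rw [h] at this
  simp at this

theorem disjoint_third_left (a b : Finset GolayPt) : Disjoint a (a ∪ b)ᶜ :=
  disjoint_compl_right.mono_left subset_union_left

theorem disjoint_third_right (a b : Finset GolayPt) : Disjoint b (a ∪ b)ᶜ :=
  disjoint_compl_right.mono_left subset_union_right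

theorem tri_mem {a b : Finset GolayPt} (ha : a ∈ octads) (hb : b ∈ octads) (h : Disjoint a b) :
    tri a b ∈ trios := by
  have h1 := disjoint_third_left a b
  have h2 := disjoint_third_right a b
  refine ⟨card_eq_three.2 ⟨_, _, _, ne_of_disjoint_octads ha h, ne_of_disjoint_octads ha h1,
    ne_of_disjoint_octads hb h2, rfl⟩, ?_, ?_⟩
  · simp only [tri, mem_insert, mem_singleton, forall_eq_or_imp, forall_eq]
    exact ⟨ha, hb, third_octad ha hb h⟩
  · simp only [tri, mem_insert, mem_singleton, forall_eq_or_imp, forall_eq]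
    exact ⟨⟨fun h => absurd rfl h, fun _ => h, fun _ => h1⟩,
      ⟨fun _ => h.symm, fun h => absurd rfl h, fun _ => h2⟩,
      fun _ => h1.symm, fun _ => h2.symm, fun h => absurd rfl h⟩

theorem eq_tri {X : Finset (Finset GolayPt)} (hX : X ∈ trios) {a b : Finset GolayPt} (ha : a ∈ X)
    (hb : b ∈ X) (hne : a ≠ b) : X = tri a b := by
  have hd := hX.2.2 a ha b hb hne
  apply eq_of_subset_of_card_le
  · intro c hc
    simp only [tri, mem_insert, mem_singleton]
    by_cases h1 : c = a
    · exact Or.inl h1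
    by_cases h2 : c = b
    · exact Or.inr (Or.inl h2)
    refine Or.inr (Or.inr (eq_of_subset_of_card_le ?_ ?_))
    · rw [subset_compl_iff_disjoint_right, disjoint_union_right]
      exact ⟨hX.2.2 c hc a ha h1, hX.2.2 c hc b hb h2⟩
    · rw [(third_octad (hX.2.1 a ha) (hX.2.1 b hb) hd).2, (hX.2.1 c hc).2]
  · rw [hX.1, (tri_mem (hX.2.1 a ha) (hX.2.1 b hb) hd).1]

theorem exists_eq_tri {X : Finset (Finset GolayPt)} (hX : X ∈ trios) :
    ∃ a ∈ octads, ∃ b ∈ octads, Disjoint a b ∧ X = tri a b := by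
  obtain ⟨a, b, c, h, _, _, e⟩ := card_eq_three.1 hX.1
  have ha : a ∈ X := by simp [e]
  have hb : b ∈ X := by simp [e]
  exact ⟨a, hX.2.1 a ha, b, hX.2.1 b hb, hX.2.2 a ha b hb h, eq_tri hX ha hb h⟩

theorem smul_tri (g : Equiv.Perm GolayPt) (a b : Finset GolayPt) :
    g • tri a b = tri (g • a) (g • b) := by
  simp only [tri, smul_finset_insert, smul_finset_singleton, smul_compl', smul_union']

theorem smul_mem_trios {g : Equiv.Perm GolayPt} (hg : g ∈ M24) {X : Finset (Finset GolayPt)}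
    (hX : X ∈ trios) : g • X ∈ trios := by
  obtain ⟨a, ha, b, hb, h, rfl⟩ := exists_eq_tri hX
  rw [smul_tri]
  exact tri_mem ((smul_mem_octads_iff hg).2 ha) ((smul_mem_octads_iff hg).2 hb)
    ((disjoint_smul' _ _ _).2 h)

theorem smul_mem_trios_iff {g : Equiv.Perm GolayPt} (hg : g ∈ M24)
    {S : Finset (Finset GolayPt)} : g • S ∈ trios ↔ S ∈ trios :=
  ⟨fun h => by simpa using smul_mem_trios (M24.inv_mem hg) h, smul_mem_trios hg⟩

/-- the third mask of a trio. -/
def thd (a b : ℕ) : ℕ := Nat.xor (Nat.lor a b) 16777215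

theorem ofMask_thd (a b : ℕ) : ofMask (thd a b) = (ofMask a ∪ ofMask b)ᶜ := by
  rw [← ofMask_or, ← ofMask_compl]; rfl

theorem thd_lt {a b : ℕ} (ha : a < 2 ^ 24) (hb : b < 2 ^ 24) : thd a b < 2 ^ 24 :=
  xor_lt (or_lt ha hb) (by norm_num)

theorem tri_mask (a b : ℕ) : tri (ofMask a) (ofMask b) = famL [a, b, thd a b] := by
  simp [tri, famL, ofMask_thd]

/-- the standard trio. -/
def T0L : List ℕ := [13062145, 1613974, 2101096]

theorem tri_T0 : tri (ofMask 13062145) (ofMask 1613974) = famL T0L := tri_mask _ _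

theorem mask_octad {n : ℕ} (h : (isCw n && Nat.beq (pcT n) 8) = true) : ofMask n ∈ octads := by
  rw [Bool.and_eq_true, beq_iff, pcT_eq] at h
  exact ⟨mem_GC_of_isCw h.1, by rw [card_ofMask, h.2]⟩

theorem disjoint_mask {a b : ℕ} (h : Nat.land a b = 0) : Disjoint (ofMask a) (ofMask b) := by
  rw [disjoint_iff_inter_eq_empty, ← ofMask_and, show a &&& b = 0 from h, ofMask_zero]

theorem disjoint_mask_iff {a b : ℕ} (ha : a < 2 ^ 24) :
    Disjoint (ofMask a) (ofMask b) ↔ Nat.land a b = 0 := by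
  refine ⟨fun h => ?_, disjoint_mask⟩
  rw [disjoint_iff_inter_eq_empty, ← ofMask_and, ← ofMask_zero] at h
  exact ofMask_inj (lt_of_le_of_lt Nat.and_le_left ha) (by norm_num) h

theorem T0_mem : famL T0L ∈ trios :=
  tri_T0 ▸ tri_mem O0_mem (mask_octad (by decide +kernel)) (disjoint_mask (by decide))

theorem T_oct_pair {a b : Finset GolayPt} (ha : a ∈ octads) (hb : b ∈ octads) (h : Disjoint a b) :
    ∃ g ∈ M24, g • ofMask 13062145 = a ∧ g • ofMask 1613974 = b := by
  obtain ⟨g, hg, rfl⟩ := T_oct ha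
  have h0 : ofMask 1613974 ∈ octads := mask_octad (by decide +kernel)
  obtain ⟨k, hk, h1, h2⟩ := oct_orbits ha ((smul_mem_octads_iff hg).2 h0) hb (by
    rw [card_inter_smul, disjoint_iff_inter_eq_empty.1 h,
      disjoint_iff_inter_eq_empty.1 (disjoint_mask (by decide))])
  exact ⟨k * g, M24.mul_mem hk hg, by rw [mul_smul, h1], by rw [mul_smul, h2]⟩

theorem T_trio {X : Finset (Finset GolayPt)} (hX : X ∈ trios) : ∃ g ∈ M24, g • famL T0L = X := by
  obtain ⟨a, ha, b, hb, h, rfl⟩ := exists_eq_tri hX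
  obtain ⟨g, hg, rfl, rfl⟩ := T_oct_pair ha hb h
  exact ⟨g, hg, by rw [← tri_T0, smul_tri]⟩

theorem orbit_trio {S : Finset (Finset GolayPt)} (hS : S ∈ trios) :
    MulAction.orbit M24 S = trios := by
  ext x
  constructor
  · rintro ⟨g, rfl⟩
    exact smul_mem_trios g.2 hS
  · intro hx
    obtain ⟨g, hg, rfl⟩ := T_trio hS
    obtain ⟨g', hg', rfl⟩ := T_trio hx
    exact ⟨⟨g' * g⁻¹, M24.mul_mem hg' (M24.inv_mem hg)⟩, by simp [mul_smul]⟩

/-- number of trios with a property of two of their masks. -/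
def cntTri (p : ℕ → ℕ → Bool) : ℕ := sumL octInL fun a => sumL octOutL fun b =>
  cond (Nat.beq (Nat.land a b) 0 && (Nat.ble b (thd a b) && p a b)) 1 0

theorem ncard_trios_with (P : Finset (Finset GolayPt) → Prop) (p : ℕ → ℕ → Bool)
    (h : ∀ a b, a < 2 ^ 24 → b < 2 ^ 24 → ofMask a ∈ octads → ofMask b ∈ octads →
      Disjoint (ofMask a) (ofMask b) → (P (tri (ofMask a) (ofMask b)) ↔ p a b = true)) :
    {X | X ∈ trios ∧ P X}.ncard = cntTri p := by
  set F : Finset (ℕ × ℕ) := (octInL.toFinset ×ˢ octOutL.toFinset).filter fun x =>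
    (Nat.beq (Nat.land x.1 x.2) 0 && (Nat.ble x.2 (thd x.1 x.2) && p x.1 x.2)) = true with hF
  have hmem : ∀ x : ℕ × ℕ, x ∈ F ↔ (isCw x.1 = true ∧ pc x.1 = 8 ∧ tb x.1 23 = true) ∧
      (isCw x.2 = true ∧ pc x.2 = 8 ∧ tb x.2 23 = false) ∧ Nat.land x.1 x.2 = 0 ∧
      x.2 ≤ thd x.1 x.2 ∧ p x.1 x.2 = true := by
    intro x
    simp only [hF, mem_filter, mem_product, List.mem_toFinset, mem_octInL, mem_octOutL,
      Bool.and_eq_true, beq_iff, ble_iff, and_assoc]
  have hoct : ∀ n, isCw n = true → pc n = 8 → ofMask n ∈ octads := fun n h1 h2 =>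
    ⟨mem_GC_of_isCw h1, by rw [card_ofMask, h2]⟩
  have hnot : ∀ n, tb n 23 = false ↔ pt 23 ∉ ofMask n := fun n => by
    rw [pt_mem_iff (by norm_num)]; simp
  have e : {X | X ∈ trios ∧ P X} = (fun x : ℕ × ℕ => tri (ofMask x.1) (ofMask x.2)) '' F := by
    ext X
    constructor
    · rintro ⟨hX, hP⟩
      have hcov : ∃ a ∈ X, pt 23 ∈ a := by
        obtain ⟨a, _, b, _, _, rfl⟩ := exists_eq_tri hX
        by_cases h1 : pt 23 ∈ a
        · exact ⟨a, by simp [tri], h1⟩
        by_cases h2 : pt 23 ∈ b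
        · exact ⟨b, by simp [tri], h2⟩
        exact ⟨(a ∪ b)ᶜ, by simp [tri], by simp [h1, h2]⟩
      obtain ⟨a, ha, hp⟩ := hcov
      obtain ⟨b, hb, hne⟩ : ∃ b ∈ X, a ≠ b := by
        obtain ⟨b, hb, hne⟩ := exists_mem_ne (s := X) (by rw [hX.1]; norm_num) a
        exact ⟨b, hb, hne.symm⟩
      have key : ∀ b ∈ X, a ≠ b → toMask b ≤ thd (toMask a) (toMask b) →
          X ∈ (fun x : ℕ × ℕ => tri (ofMask x.1) (ofMask x.2)) '' F := by
        intro b hb hne hle
        have hd := hX.2.2 a ha b hb hne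
        have ha' := hX.2.1 a ha
        have hb' := hX.2.1 b hb
        have e := eq_tri hX ha hb hne
        refine ⟨(toMask a, toMask b), (hmem _).2 ⟨⟨?_, ?_, ?_⟩, ⟨?_, ?_, ?_⟩, ?_, hle, ?_⟩, ?_⟩
        · rw [← ofMask_mem_GC_iff (toMask_lt _), ofMask_toMask]; exact ha'.1
        · rw [← card_ofMask, ofMask_toMask]; exact ha'.2
        · rw [← pt_mem_iff (by norm_num), ofMask_toMask]; exact hp
        · rw [← ofMask_mem_GC_iff (toMask_lt _), ofMask_toMask]; exact hb'.1
        · rw [← card_ofMask, ofMask_toMask]; exact hb'.2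
        · rw [hnot, ofMask_toMask]; exact disjoint_left.1 hd hp
        · rw [← disjoint_mask_iff (toMask_lt _), ofMask_toMask, ofMask_toMask]; exact hd
        · rw [← h _ _ (toMask_lt _) (toMask_lt _)] <;> simp only [ofMask_toMask]
          · exact e ▸ hP
          · exact ha'
          · exact hb'
          · exact hd
        · simp only [ofMask_toMask]; exact e.symm
      by_cases hle : toMask b ≤ thd (toMask a) (toMask b)
      · exact key b hb hne hle
      · have hd := hX.2.2 a ha b hb hne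
        have hc : (a ∪ b)ᶜ ∈ X := by rw [eq_tri hX ha hb hne]; simp [tri]
        refine key _ hc (ne_of_disjoint_octads (hX.2.1 a ha) (disjoint_third_left a b)) ?_
        have e1 : toMask (a ∪ b)ᶜ = thd (toMask a) (toMask b) :=
          ofMask_inj (toMask_lt _) (thd_lt (toMask_lt _) (toMask_lt _))
            (by rw [ofMask_thd]; simp only [ofMask_toMask])
        have e2 : thd (toMask a) (toMask (a ∪ b)ᶜ) = toMask b :=
          ofMask_inj (thd_lt (toMask_lt _) (toMask_lt _)) (toMask_lt _) (by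
            rw [ofMask_thd]; simp only [ofMask_toMask]
            ext q
            have : q ∈ a → q ∉ b := fun h => disjoint_left.1 hd h
            simp only [mem_compl, mem_union]
            tauto)
        rw [e2, e1]
        omega
    · rintro ⟨x, hx, rfl⟩
      obtain ⟨h1, h2, h3, _, h5⟩ := (hmem x).1 hx
      have hd := disjoint_mask h3
      exact ⟨tri_mem (hoct _ h1.1 h1.2.1) (hoct _ h2.1 h2.2.1) hd,
        (h _ _ (lt_of_isCw h1.1) (lt_of_isCw h2.1) (hoct _ h1.1 h1.2.1) (hoct _ h2.1 h2.2.1)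
          hd).2 h5⟩
  rw [e, Set.InjOn.ncard_image, Set.ncard_coe_finset, hF, card_filter, sum_product, cntTri,
    sumL_eq_sum octInL_nodup]
  · refine sum_congr rfl fun a _ => ?_
    rw [sumL_eq_sum octOutL_nodup]
    refine sum_congr rfl fun b _ => ?_
    dsimp only
    cases (Nat.beq (Nat.land a b) 0 && (Nat.ble b (thd a b) && p a b)) <;> rfl
  · rintro ⟨a, b⟩ hx ⟨a', b'⟩ hy hxy
    obtain ⟨h1, h2, h3, h4, _⟩ := (hmem _).1 hx
    obtain ⟨h1', h2', h3', h4', _⟩ := (hmem _).1 hy
    dsimp only at h1 h2 h3 h4 h1' h2' h3' h4' hxy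
    have ha := lt_of_isCw h1.1
    have ha' := lt_of_isCw h1'.1
    have hb := lt_of_isCw h2.1
    have hb' := lt_of_isCw h2'.1
    have p1 := (pt_mem_iff (by norm_num) _).2 h1.2.2
    have p1' := (pt_mem_iff (by norm_num) _).2 h1'.2.2
    have p2 := (hnot _).1 h2.2.2
    have p2' := (hnot _).1 h2'.2.2
    have m1 : ofMask a ∈ tri (ofMask a') (ofMask b') := by rw [← hxy]; simp [tri]
    have m2 : ofMask b ∈ tri (ofMask a') (ofMask b') := by rw [← hxy]; simp [tri]
    have m3 : ofMask b' ∈ tri (ofMask a) (ofMask b) := by rw [hxy]; simp [tri]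
    simp only [tri, mem_insert, mem_singleton] at m1 m2 m3
    have ea : a = a' := by
      rcases m1 with m | m | m
      · exact ofMask_inj ha ha' m
      · exact absurd (m ▸ p1) p2'
      · rw [m] at p1; simp [p1'] at p1
    subst ea
    rcases m2 with m | m | m
    · exact absurd (m ▸ p1) p2
    · rw [ofMask_inj hb hb' m]
    · rcases m3 with m' | m' | m'
      · exact absurd (m' ▸ p1) p2'
      · rw [ofMask_inj hb' hb m']
      · rw [← ofMask_thd] at m m'
        have := ofMask_inj hb (thd_lt ha hb') m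
        have := ofMask_inj hb' (thd_lt ha hb) m'
        have : b = b' := by omega
        rw [this]

theorem ncard_trios : trios.ncard = 3795 := by
  have := ncard_trios_with (fun _ => True) (fun _ _ => true) (by simp)
  simp only [and_true, Set.ofPred_mem_eq] at this
  rw [this]
  decide +kernel

end H28
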