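import Mathlib
import Cfsg.Agent.H28.Iso12
import Cfsg.Agent.H28.Trio

/-! Structure of the octad, sextet and trio stabilisers. -/

set_option autoImplicit false

namespace H28

open Cfsg Finset H9 MulAction
open scoped Pointwise

section Ind

variable {Γ X : Type*} [Group Γ] [MulAction Γ X]

/-- the action of `K` on an invariant finite set. -/
@[reducible] def indAct (K : Subgroup Γ) (S : Finset X) (h : ∀ g ∈ K, ∀ t ∈ S, g • t ∈ S) :
    MulAction K S where
  smul g t := ⟨(g : Γ) • (t : X), h g g.2 t t.2⟩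
  one_smul t := Subtype.ext (one_smul Γ (t : X))
  mul_smul g k t := Subtype.ext (mul_smul (g : Γ) k (t : X))

/-- the permutation representation of `K` on an invariant finite set. -/
def indHom (K : Subgroup Γ) (S : Finset X) (h : ∀ g ∈ K, ∀ t ∈ S, g • t ∈ S) :
    K →* Equiv.Perm S := @MulAction.toPermHom K S _ (indAct K S h)

theorem indHom_apply (K : Subgroup Γ) (S : Finset X) (h : ∀ g ∈ K, ∀ t ∈ S, g • t ∈ S)
    (g : K) (t : S) : ((indHom K S h g t : S) : X) = (g : Γ) • (t : X) := rfl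

theorem mem_ker_indHom (K : Subgroup Γ) (S : Finset X) (h : ∀ g ∈ K, ∀ t ∈ S, g • t ∈ S)
    (g : K) : g ∈ (indHom K S h).ker ↔ ∀ t ∈ S, (g : Γ) • t = t := by
  rw [MonoidHom.mem_ker]
  exact ⟨fun e t ht => by rw [← indHom_apply K S h g ⟨t, ht⟩, e]; rfl,
    fun e => Equiv.ext fun t => Subtype.ext (e t t.2)⟩

theorem card_eq_range_mul (K : Subgroup Γ) (S : Finset X) (h : ∀ g ∈ K, ∀ t ∈ S, g • t ∈ S) :
    Nat.card K = Nat.card (indHom K S h).range * Nat.card {g : K // ∀ t ∈ S, (g : Γ) • t = t} := by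
  rw [← Subgroup.index_ker, ← Subgroup.index_mul_card (indHom K S h).ker]
  congr 1
  exact Nat.card_congr (Equiv.subtypeEquivRight (mem_ker_indHom K S h))

theorem card_of_induces (K : Subgroup Γ) (S : Finset X) (h : ∀ g ∈ K, ∀ t ∈ S, g • t ∈ S)
    (hs : ∀ e : Equiv.Perm S, ∃ g ∈ K, ∀ t : S, g • (t : X) = e t) :
    Nat.card K = S.card.factorial * Nat.card {g : K // ∀ t ∈ S, (g : Γ) • t = t} := by
  have : (indHom K S h).range = ⊤ := by
    rw [eq_top_iff]
    intro e _
    obtain ⟨g, hg, he⟩ := hs e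
    exact ⟨⟨g, hg⟩, Equiv.ext fun t => Subtype.ext (he t)⟩
  rw [card_eq_range_mul K S h, this, Subgroup.card_top, Nat.card_perm, Nat.card_eq_finsetCard]

/-- every transposition of `S` is induced by `K`. -/
def Swaps (K : Subgroup Γ) (S : Finset X) : Prop := ∀ t ∈ S, ∀ u ∈ S, t ≠ u →
  ∃ g ∈ K, g • t = u ∧ g • u = t ∧ ∀ v ∈ S, v ≠ t → v ≠ u → g • v = v

theorem Swaps.induces {K : Subgroup Γ} {S : Finset X} (h : Swaps K S) (e : Equiv.Perm S) :
    ∃ g ∈ K, ∀ t : S, g • (t : X) = e t := by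
  classical
  induction e using Equiv.Perm.swap_induction_on with
  | one => exact ⟨1, K.one_mem, fun t => one_smul _ _⟩
  | swap_mul f x y hxy ih =>
    obtain ⟨g, hg, e⟩ := ih
    obtain ⟨k, hk, h1, h2, h3⟩ := h x x.2 y y.2 (fun h => hxy (Subtype.ext h))
    refine ⟨k * g, K.mul_mem hk hg, fun t => ?_⟩
    rw [mul_smul, e, Equiv.Perm.mul_apply]
    by_cases a : f t = x
    · rw [a, h1, Equiv.swap_apply_left]
    by_cases b : f t = y
    · rw [b, h2, Equiv.swap_apply_right]
    rw [Equiv.swap_apply_of_ne_of_ne a b,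
      h3 _ (f t).2 (fun h => a (Subtype.ext h)) (fun h => b (Subtype.ext h))]

theorem Swaps.conj [DecidableEq X] {K K' : Subgroup Γ} {S : Finset X} (h : Swaps K S) (g : Γ)
    (hK : ∀ k ∈ K, g * k * g⁻¹ ∈ K') : Swaps K' (g • S) := by
  intro t ht u hu htu
  obtain ⟨t, ht', rfl⟩ := mem_smul_finset.1 ht
  obtain ⟨u, hu', rfl⟩ := mem_smul_finset.1 hu
  obtain ⟨k, hk, h1, h2, h3⟩ := h t ht' u hu' (fun e => htu (e ▸ rfl))
  refine ⟨_, hK k hk, conj_smul_eq h1, conj_smul_eq h2, fun v hv a b => ?_⟩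
  obtain ⟨v, hv', rfl⟩ := mem_smul_finset.1 hv
  exact conj_smul_eq (h3 v hv' (fun e => a (e ▸ rfl)) (fun e => b (e ▸ rfl)))

end Ind

/-- transposition check. -/
def swapOK (L cs : List ℕ) : Bool :=
  allL L fun a => allL L fun b => Nat.beq a b || anyL cs fun c => Nat.beq (H9.actM c a) b &&
    Nat.beq (H9.actM c b) a && allL L fun v => Nat.beq v a || Nat.beq v b || Nat.beq (H9.actM c v) v

theorem swaps_of {L cs : List ℕ} {K : Subgroup (Equiv.Perm GolayPt)} (hK : GensIn cs K)
    (h : swapOK L cs = true) : Swaps K (famL L) := by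
  intro t ht u hu htu
  obtain ⟨a, ha, rfl⟩ := mem_famL.1 ht
  obtain ⟨b, hb, rfl⟩ := mem_famL.1 hu
  have := (allL_iff _ _).1 ((allL_iff _ _).1 h a ha) b hb
  simp only [Bool.or_eq_true, beq_iff, anyL_iff, Bool.and_eq_true, allL_iff] at this
  rcases this with rfl | ⟨c, hc, ⟨h1, h2⟩, h3⟩
  · exact absurd rfl htu
  refine ⟨_, (hK c hc).2, by rw [pm_smul_ofMask (hK c hc).1, h1],
    by rw [pm_smul_ofMask (hK c hc).1, h2], fun v hv x y => ?_⟩
  obtain ⟨v, hv', rfl⟩ := mem_famL.1 hv
  rcases h3 v hv' with (rfl | rfl) | h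
  · exact absurd rfl x
  · exact absurd rfl y
  · rw [pm_smul_ofMask (hK c hc).1, h]

theorem sq_cl {gens : List ℕ} {fuel : ℕ} (h : elOK gens fuel = true)
    (h2 : allL (elems gens fuel) (fun c => Nat.beq (mulP c c) H9.idP) = true) :
    ∀ x ∈ cl gens, x * x = 1 := by
  intro x hx
  obtain ⟨c, c1, -, c3, rfl⟩ := forall_cl h _ h2 hx
  rw [← pm_mulP c1 c1, (beq_iff _ _).1 c3, H9.pm_idP]

theorem stab_fam_equiv (L : List ℕ) {g : Equiv.Perm GolayPt} (hg : g ∈ M24) :
    Nonempty (stabilizer M24 (g • famL L) ≃* SG [] [L]) :=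
  nonempty_equiv_of_conj _ _ (SG_le [] [L]) g hg fun x => by
    simp only [mem_SG, conj_mem_M24 hg x, List.forall_mem_cons, conj_smul_eq_iff,
      mem_stabilizer_iff, Subgroup.smul_def]
    simp

theorem card_stab_M24 {X : Type*} [MulAction M24 X] (x : X) {n m : ℕ}
    (h : (orbit M24 x).ncard = n) (hm : n * m = 244823040) : Nat.card (stabilizer M24 x) = m := by
  have := (stabilizer M24 x).index_mul_card
  rw [index_stabilizer, h, card_M24, ← hm] at this
  exact Nat.eq_of_mul_eq_mul_left (Nat.pos_of_ne_zero (by rintro rfl; simp at hm)) this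

theorem induces_stab {L : List ℕ} {K : Subgroup (Equiv.Perm GolayPt)} (hK : K ≤ SG [] [L])
    (h : Swaps K (famL L)) {g : Equiv.Perm GolayPt} (hg : g ∈ M24) (e : Equiv.Perm ↥(g • famL L)) :
    ∃ k ∈ stabilizer M24 (g • famL L), ∀ t : ↥(g • famL L),
      (k : Equiv.Perm GolayPt) • (t : Finset GolayPt) = (e t : Finset GolayPt) := by
  obtain ⟨k, hk, he⟩ := (h.conj (K' := M24 ⊓ stabilizer _ (g • famL L)) g fun k hk =>
    ⟨conj_mem hg (hK hk).1, conj_smul_eq ((hK hk).2.2 L (by simp))⟩).induces e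
  exact ⟨⟨k, hk.1⟩, hk.2, he⟩

/-! ### Trios -/

theorem card_trio_stab {T : Finset (Finset GolayPt)} (hT : T ∈ trios) :
    Nat.card (stabilizer M24 T) = 64512 :=
  card_stab_M24 T (by rw [orbit_trio hT, ncard_trios]) (by norm_num)

/-- generators of `O₂` of the standard trio group. -/
def gNT : List ℕ := [604075621139160352362643989873230924, 943823010772140277630993147295878800,
  522054791933104956808566456531060782, 763516641194923996970141064496520689,
  763689952800461766119403455732006129, 522196531115314291946320343353957870]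

theorem s1558 (T : Finset (Finset GolayPt)) (hT : T ∈ trios) :
    (∀ e : Equiv.Perm ↥T, ∃ g ∈ stabilizer M24 T, ∀ o : ↥T,
      (g : Equiv.Perm GolayPt) • (o : Finset GolayPt) = ((e o : ↥T) : Finset GolayPt)) ∧
    ∃ (N : Subgroup ↥(stabilizer M24 T)) (_ : N.Normal), Nat.card N = 64 ∧ (∀ x ∈ N, x * x = 1) ∧
      Nonempty (↥(stabilizer M24 T) ⧸ N ≃* GL (Fin 3) (ZMod 2) × Equiv.Perm (Fin 3)) := by
  have hc0 := card_trio_stab hT
  obtain ⟨g, hg, rfl⟩ := T_trio hT
  refine ⟨induces_stab le_rfl (swaps_of (mem_SG_of (gens := [102983346014935776199613543889928769,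
    386842880467683709060380537568922211, 611947184035113988660563286693121376])
    (by decide +kernel)) (by decide +kernel)) hg, ?_⟩
  obtain ⟨e⟩ := stab_fam_equiv T0L hg
  have hel : elOK gNT 64 = true := by decide +kernel
  have h64 := (card_cl hel).trans (show _ = 64 by decide +kernel)
  obtain ⟨hc, h⟩ := glT_hom (a0 := 92551750182746544276933076645535247)
    (a1 := 628275115063682059982298987999472979) (P := avoidP (elems gNT 64) 11025)
    (by decide +kernel)
  have hg := mem_SG_of (ms := []) (fs := [T0L]) (gens :=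
    [92551750182746544276933076645535247, 628275115063682059982298987999472979])
    (by decide +kernel)
  have hle := (mem_SG_of (ms := []) (fs := [T0L]) (gens := gNT) (by decide +kernel)).cl_le
  obtain ⟨hN, hq⟩ := TabHom.quot encT_inj hel h _ (hg _ (by simp)).2 (hg _ (by simp)).2 hle
    (by decide +kernel) (by decide +kernel)
    (by rw [← Nat.card_congr e.toEquiv, hc0, h64, hc])
  obtain ⟨N, hN', h1, h2, h3⟩ := transport_quot e _ hq
  refine ⟨N, hN', by rw [h1, Nat.card_congr (Subgroup.subgroupOfEquivOfLe hle).toEquiv, h64],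
    fun x hx => e.injective ?_, h3⟩
  rw [map_mul, map_one]
  exact Subtype.ext (sq_cl hel (by decide +kernel) _ (h2 x hx))

/-! ### Sextets -/

theorem card_sextet_stab {S : Finset (Finset GolayPt)} (hS : S ∈ sextets) :
    Nat.card (stabilizer M24 S) = 138240 :=
  card_stab_M24 S (by rw [orbit_sextet hS, ncard_sextets]) (by norm_num)

/-- generators of `O₂` of the standard sextet group. -/
def gNS : List ℕ := [70892934527919042185996746700784354, 972560815420533050926679905878345760,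
  100823358675240871160630688578919425, 961438956620049001677386430328277024,
  104149153821129901086249850554735617, 976420838754479978627774237199763488]

theorem gNS_ok : elOK gNS 64 = true := by decide +kernel

theorem card_gNS : Nat.card (cl gNS) = 64 := (card_cl gNS_ok).trans (by decide +kernel)

theorem gensIn_norm {gens cs : List ℕ} {fuel : ℕ} (h : elOK gens fuel = true)
    (h2 : allL cs (normOK gens fuel) = true) :
    GensIn cs (Subgroup.normalizer (cl gens : Set (Equiv.Perm GolayPt))) := fun c hc =>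
  have := (allL_iff _ _).1 h2 c hc
  ⟨(Bool.and_eq_true_iff.1 this).1, Subgroup.mem_normalizer_fintype (conj_mem_cl h this)⟩

theorem GensIn.inf' {cs : List ℕ} {K K' : Subgroup (Equiv.Perm GolayPt)} (h : GensIn cs K)
    (h' : GensIn cs K') : GensIn cs (K ⊓ K') := fun c hc => ⟨(h c hc).1, (h c hc).2, (h' c hc).2⟩

theorem sextet_swaps :
    Swaps (SG [] [S0L] ⊓ Subgroup.normalizer (cl gNS : Set (Equiv.Perm GolayPt))) (famL S0L) :=
  swaps_of (cs := [153969132839340109519508329701915173, 485775356683319556383190885464492424,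
    432544777319873519064506803044176361, 893175258733391316701474068767022291,
    665491975222033772327535302640457869, 88525948342317835959825017994501152,
    111924922827553952438411850231045152, 104547081937062814804708796578094112,
    105454165508132726538352078316035104, 111888678172359317585354088582863904,
    88775182303513320083783165208026144, 94258265550772549690533897119587360,
    100787704785956567198495126488996896, 109918236291583403922140915928521760,
    110876496324751904654406257246067744]) (GensIn.inf' (mem_SG_of (by decide +kernel))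
      (gensIn_norm gNS_ok (by decide +kernel))) (by decide +kernel)

theorem card_SGS : Nat.card (SG [] [S0L]) = 138240 := by
  obtain ⟨e⟩ := stab_fam_equiv S0L M24.one_mem
  rw [← Nat.card_congr e.toEquiv, one_smul, card_sextet_stab S0_mem]

theorem SG_fam_mem {L : List ℕ} : ∀ g ∈ SG [] [L], ∀ t ∈ famL L, g • t ∈ famL L :=
  fun g hg t ht => hg.2.2 L (by simp) ▸ smul_mem_smul_finset ht

theorem card_SGK : Nat.card (SG S0L []) = 192 := by
  have h := card_of_induces (SG [] [S0L]) (famL S0L) SG_fam_mem fun e => by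
    obtain ⟨g, hg, h⟩ := sextet_swaps.induces e
    exact ⟨g, hg.1, h⟩
  have e : {g : SG [] [S0L] // ∀ t ∈ famL S0L, (g : Equiv.Perm GolayPt) • t = t} ≃ SG S0L [] :=
    { toFun := fun g => ⟨g.1, g.1.2.1, fun m hm => g.2 _ (mem_famL.2 ⟨m, hm, rfl⟩), by simp⟩
      invFun := fun g =>
        have h : ∀ t ∈ famL S0L, (g : Equiv.Perm GolayPt) • t = t := fun t ht => by
          obtain ⟨m, hm, rfl⟩ := mem_famL.1 ht
          exact g.2.2.1 m hm
        ⟨⟨g.1, g.2.1, by simp, by
          simp only [List.mem_singleton, forall_eq]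
          rw [smul_finset_def, image_congr (g := id) h, image_id]⟩, h⟩
      left_inv := fun _ => rfl
      right_inv := fun _ => rfl }
  rw [card_SGS, card_famL (by decide) (by decide), Nat.card_congr e,
    show Nat.factorial S0L.length = 720 by decide] at h
  omega

theorem SG_le_norm : SG [] [S0L] ≤ Subgroup.normalizer (cl gNS : Set (Equiv.Perm GolayPt)) := by
  have h0 : SG S0L [] ≤ Subgroup.normalizer (cl gNS : Set (Equiv.Perm GolayPt)) := by
    rw [← inf_eq_left]
    apply Subgroup.eq_of_le_of_card_ge inf_le_left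
    have h1 : cl gNS ≤ SG S0L [] ⊓ Subgroup.normalizer (cl gNS : Set (Equiv.Perm GolayPt)) :=
      le_inf (mem_SG_of (by decide +kernel)).cl_le Subgroup.le_normalizer
    have h2 := GensIn.inf' (mem_SG_of (ms := S0L) (fs := [])
      (gens := [100829216512819551905698931947374304]) (by decide +kernel))
      (gensIn_norm gNS_ok (by decide +kernel))
    have h3 := Subgroup.card_dvd_of_le h1
    have h4 := Subgroup.card_dvd_of_le h2.cl_le
    have h5 := Subgroup.card_dvd_of_le (inf_le_left : SG S0L [] ⊓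
      Subgroup.normalizer (cl gNS : Set (Equiv.Perm GolayPt)) ≤ _)
    rw [card_gNS] at h3
    rw [(card_cl (fuel := 3) (by decide +kernel)).trans (show _ = 3 by decide +kernel)] at h4
    rw [card_SGK]
    exact Nat.le_of_dvd Nat.card_pos (Nat.Coprime.mul_dvd_of_dvd_of_dvd (by norm_num) h3 h4)
  intro g hg
  obtain ⟨k, hk, h⟩ := sextet_swaps.induces (indHom _ _ SG_fam_mem ⟨g, hg⟩)
  have : k⁻¹ * g ∈ SG S0L [] := ⟨M24.mul_mem (M24.inv_mem hk.1.1) hg.1, fun m hm => by
    rw [mul_smul, inv_smul_eq_iff]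
    exact (h ⟨_, mem_famL.2 ⟨m, hm, rfl⟩⟩).symm, by simp⟩
  simpa using Subgroup.mul_mem _ hk.2 (h0 this)

theorem s1551 (S : Finset (Finset GolayPt)) (hS : S ∈ sextets) :
    (∀ e : Equiv.Perm ↥S, ∃ g ∈ stabilizer M24 S, ∀ t : ↥S,
      (g : Equiv.Perm GolayPt) • (t : Finset GolayPt) = ((e t : ↥S) : Finset GolayPt)) ∧
    Nat.card {g : ↥(stabilizer M24 S) //
      ∀ t ∈ S, ((g : M24) : Equiv.Perm GolayPt) • t = t} = 192 ∧
    ∃ N : Subgroup ↥(stabilizer M24 S), N.Normal ∧ Nat.card N = 64 ∧ ∀ x ∈ N, x * x = 1 := by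
  have hc0 := card_sextet_stab hS
  obtain ⟨g, hg, rfl⟩ := T_sextet hS
  have h1 := induces_stab inf_le_left sextet_swaps hg
  refine ⟨h1, ?_, ?_⟩
  · have h := card_of_induces (stabilizer M24 (g • famL S0L)) (g • famL S0L)
      (fun k hk t ht => mem_stabilizer_iff.1 hk ▸ smul_mem_smul_finset ht) h1
    rw [hc0, card_smul_finset, card_famL (by decide) (by decide),
      show Nat.factorial S0L.length = 720 by decide] at h
    simp only [Subgroup.smul_def] at h
    omega
  · obtain ⟨e⟩ := stab_fam_equiv S0L hg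
    have hle : cl gNS ≤ SG [] [S0L] := (mem_SG_of (by decide +kernel)).cl_le
    have hN : ((cl gNS).subgroupOf (SG [] [S0L])).Normal :=
      (Subgroup.normal_subgroupOf_iff_le_normalizer hle).2 SG_le_norm
    obtain ⟨N, hN', h1, h2, -⟩ := transport_quot e ((cl gNS).subgroupOf (SG [] [S0L]))
      ⟨MulEquiv.refl _⟩
    refine ⟨N, hN', by rw [h1, Nat.card_congr (Subgroup.subgroupOfEquivOfLe hle).toEquiv, card_gNS],
      fun x hx => e.injective ?_⟩
    rw [map_mul, map_one]
    exact Subtype.ext (sq_cl gNS_ok (by decide +kernel) _ (h2 x hx))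

/-! ### Octads -/

theorem card_octad_stab {o : Finset GolayPt} (ho : o ∈ octads) :
    Nat.card ↥(M24 ⊓ stabilizer (Equiv.Perm GolayPt) o) = 322560 := by
  have h := card_eq_orbit_mul M24 o
  have e : {y | ∃ g ∈ M24, g • o = y} = octads := by
    ext y
    exact ⟨fun ⟨g, hg, h⟩ => h ▸ (smul_mem_octads_iff hg).2 ho, M24_trans_octads ho⟩
  rw [e, ncard_octads, card_M24] at h
  omega

theorem oct_inv (o : Finset GolayPt) : ∀ g ∈ M24 ⊓ stabilizer (Equiv.Perm GolayPt) o,
    ∀ t ∈ o, g • t ∈ o := fun _ hg _ ht => mem_stabilizer_iff.1 hg.2 ▸ smul_mem_smul_finset ht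

theorem fixing_le_stab (o : Finset GolayPt) :
    fixingSubgroup (Equiv.Perm GolayPt) (o : Set GolayPt) ≤ stabilizer _ o := fun g hg => by
  rw [mem_stabilizer_iff, smul_finset_def, image_congr (g := id)
    (fun x hx => (mem_fixingSubgroup_iff _).1 hg x hx), image_id]

theorem octad_range {o : Finset GolayPt} (ho : o ∈ octads) :
    (indHom _ o (oct_inv o)).range = alternatingGroup o := by
  apply Equiv.Perm.eq_alternatingGroup_of_index_eq_two
  have h := card_eq_range_mul _ o (oct_inv o)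
  have e : {g : ↥(M24 ⊓ stabilizer (Equiv.Perm GolayPt) o) //
      ∀ t ∈ o, (g : Equiv.Perm GolayPt) • t = t} ≃
      ↥(M24 ⊓ fixingSubgroup (Equiv.Perm GolayPt) (o : Set GolayPt)) :=
    { toFun := fun g => ⟨g.1, g.1.2.1, (mem_fixingSubgroup_iff _).2 g.2⟩
      invFun := fun g => ⟨⟨g.1, g.2.1, fixing_le_stab o g.2.2⟩, (mem_fixingSubgroup_iff _).1 g.2.2⟩
      left_inv := fun _ => rfl
      right_inv := fun _ => rfl }
  rw [card_octad_stab ho, Nat.card_congr e, (octad_fix ho).1] at h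
  have h2 := (indHom _ o (oct_inv o)).range.index_mul_card
  rw [Nat.card_perm, Nat.card_eq_finsetCard, ho.2, show Nat.factorial 8 = 40320 by decide,
    show Nat.card (indHom _ o (oct_inv o)).range = 20160 by omega] at h2
  omega

theorem s1553 (o : Finset GolayPt) (ho : o ∈ octads) :
    {e : Equiv.Perm ↥o | ∃ g : Equiv.Perm GolayPt, g ∈ M24 ∧
      ∃ h : (∀ x, g x ∈ o ↔ x ∈ o), g.subtypePerm h = e} =
      (alternatingGroup ↥o : Set (Equiv.Perm ↥o)) := by
  rw [← octad_range ho]
  ext e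
  constructor
  · rintro ⟨g, hg, h, rfl⟩
    refine ⟨⟨g, hg, ?_⟩, rfl⟩
    apply eq_of_subset_of_card_le _ (by rw [card_smul_finset])
    intro x hx
    obtain ⟨x, hx', rfl⟩ := mem_smul_finset.1 hx
    exact (h x).2 hx'
  · rintro ⟨⟨g, hg⟩, rfl⟩
    refine ⟨g, hg.1, fun x => ?_, rfl⟩
    conv_lhs => rw [← mem_stabilizer_iff.1 hg.2]
    exact smul_mem_smul_finset_iff g

theorem s1554 (o : Finset GolayPt) (ho : o ∈ octads) (p : GolayPt) (hp : p ∉ o) :
    (M24 ⊓ fixingSubgroup (Equiv.Perm GolayPt) (o : Set GolayPt)) ⊓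
      (M24 ⊓ stabilizer (Equiv.Perm GolayPt) o ⊓ stabilizer (Equiv.Perm GolayPt) p) = ⊥ ∧
    (M24 ⊓ fixingSubgroup (Equiv.Perm GolayPt) (o : Set GolayPt)) ⊔
      (M24 ⊓ stabilizer (Equiv.Perm GolayPt) o ⊓ stabilizer (Equiv.Perm GolayPt) p) =
      (M24 ⊓ stabilizer (Equiv.Perm GolayPt) o) ∧
    Nonempty (↥(M24 ⊓ stabilizer (Equiv.Perm GolayPt) o ⊓ stabilizer (Equiv.Perm GolayPt) p) ≃*
      alternatingGroup (Fin 8)) := by
  have hE : M24 ⊓ fixingSubgroup (Equiv.Perm GolayPt) (o : Set GolayPt) ⊓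
      stabilizer (Equiv.Perm GolayPt) p = ⊥ := by
    obtain ⟨g, hg, rfl⟩ := octad_from0 ho
    obtain ⟨p, rfl⟩ := g.surjective p
    obtain ⟨k, hk, rfl⟩ := gi16.orbPt (b := 4) (by decide) p (by
      rw [show orbPt g16 4 = oct0 ^^^ 16777215 by decide +kernel, ofMask_compl, mem_compl]
      exact fun h => hp (smul_mem_smul_finset h))
    rw [eq_bot_iff]
    rintro x ⟨⟨x1, x2⟩, x3⟩
    have h1 : g⁻¹ * x * g ∈ Stab [5, 3, 2, 1, 0, 23] [] := by
      rw [← fix_oct0_eq]
      refine ⟨conj_mem_M24 hg ⟨x, x1⟩, (mem_fixingSubgroup_iff _).2 fun y hy => ?_⟩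
      rw [conj_smul_eq_iff]
      exact (mem_fixingSubgroup_iff _).1 x2 _ (smul_mem_smul_finset hy)
    have h2 : k⁻¹ * (g⁻¹ * x * g) * k ∈ Stab [4, 5, 3, 2, 1, 0, 23] [] := by
      rw [← Stab_cons_pt]
      refine ⟨Subgroup.mul_mem _ (Subgroup.mul_mem _ (Subgroup.inv_mem _ hk) h1) hk, ?_⟩
      exact (conj_smul_eq_iff _ _ _).2 ((conj_smul_eq_iff _ _ _).2 x3)
    rw [stab7_bot, Subgroup.mem_bot] at h2
    rw [Subgroup.mem_bot]
    have : x = g * (k * (k⁻¹ * (g⁻¹ * x * g) * k) * k⁻¹) * g⁻¹ := by group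
    rw [this, h2]; simp
  have hc : (oᶜ : Finset GolayPt).card = 16 := by rw [card_compl, card_golayPt, ho.2]
  have hout : ∀ g ∈ M24 ⊓ stabilizer (Equiv.Perm GolayPt) o, g • p ∈ (oᶜ : Finset GolayPt) := by
    intro g hg
    rw [mem_compl, ← mem_stabilizer_iff.1 hg.2, smul_mem_smul_finset_iff]
    exact hp
  have hle : M24 ⊓ fixingSubgroup (Equiv.Perm GolayPt) (o : Set GolayPt) ≤
      M24 ⊓ stabilizer (Equiv.Perm GolayPt) o := inf_le_inf_left _ (fixing_le_stab o)
  have horb : {y | ∃ g ∈ M24 ⊓ fixingSubgroup (Equiv.Perm GolayPt) (o : Set GolayPt), g • p = y} =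
      (oᶜ : Finset GolayPt) := by
    have h := card_eq_orbit_mul (M24 ⊓ fixingSubgroup (Equiv.Perm GolayPt) (o : Set GolayPt)) p
    rw [hE, (octad_fix ho).1, Subgroup.card_bot, mul_one] at h
    refine Set.eq_of_subset_of_ncard_le ?_ (by rw [← h, Set.ncard_coe_finset, hc])
    rintro _ ⟨g, hg, rfl⟩
    exact hout g (hle hg)
  refine ⟨?_, ?_, ?_⟩
  · rw [eq_bot_iff, ← hE]
    exact fun x hx => ⟨hx.1, hx.2.2⟩
  · refine le_antisymm (sup_le hle inf_le_left) (le_of_orbit_of_stab (sup_le hle inf_le_left) p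
      (fun g hg => ?_) le_sup_right)
    obtain ⟨k, hk, e⟩ : g • p ∈ {y | ∃ g ∈ M24 ⊓ fixingSubgroup (Equiv.Perm GolayPt)
      (o : Set GolayPt), g • p = y} := horb ▸ hout g hg
    exact ⟨k, Subgroup.mem_sup_left hk, e⟩
  · have h := card_eq_orbit_mul (M24 ⊓ stabilizer (Equiv.Perm GolayPt) o) p
    have e : {y | ∃ g ∈ M24 ⊓ stabilizer (Equiv.Perm GolayPt) o, g • p = y} =
        (oᶜ : Finset GolayPt) := by
      refine subset_antisymm (fun _ ⟨g, hg, e⟩ => e ▸ hout g hg) ?_
      rw [← horb]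
      exact fun _ ⟨g, hg, e⟩ => ⟨g, hle hg, e⟩
    rw [e, card_octad_stab ho, Set.ncard_coe_finset, hc] at h
    have h8 : Nat.card (alternatingGroup o) = 20160 := by
      have := (alternatingGroup o).index_mul_card
      have h2 : Nontrivial o := Fintype.one_lt_card_iff_nontrivial.1 (by simp [ho.2])
      rw [alternatingGroup.index_eq_two, Nat.card_perm, Nat.card_eq_finsetCard, ho.2,
        show Nat.factorial 8 = 40320 by decide] at this
      omega
    obtain ⟨f⟩ := equiv_of_inj_le (alternatingGroup o) ((indHom _ o (oct_inv o)).comp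
      (Subgroup.inclusion (inf_le_left (b := stabilizer (Equiv.Perm GolayPt) p))))
      (fun t => octad_range ho ▸ ⟨_, rfl⟩) (fun t ht => by
        have h1 := (mem_ker_indHom _ o (oct_inv o) _).1 ht
        have h2 : (t : Equiv.Perm GolayPt) ∈ M24 ⊓ fixingSubgroup (Equiv.Perm GolayPt)
            (o : Set GolayPt) ⊓ stabilizer (Equiv.Perm GolayPt) p :=
          ⟨⟨t.2.1.1, (mem_fixingSubgroup_iff _).2 h1⟩, t.2.2⟩
        rw [hE] at h2
        exact Subtype.ext h2) (by omega)
    exact ⟨f.symm.trans (Equiv.altCongrHom (o.equivFinOfCardEq ho.2))⟩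

end H28
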