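import Mathlib
import Cfsg.Agent.H28.Struct

/-! Subgroups of small index in `M24` and `M23`. -/

set_option autoImplicit false

namespace H28

open Cfsg Finset H9 MulAction
open scoped Pointwise

/-! ### Polycyclic certificates for 2-groups -/

/-- product of the members of `l` selected by the bits of the argument. -/
def evalPC (l : List ℕ) : ℕ → ℕ :=
  List.rec (fun _ => H9.idP) (fun b _ r e => force (r (Nat.div e 2)) fun x =>
    cond (Nat.beq (Nat.mod e 2) 1) (mulP b x) x) l

theorem GensIn.tail' {a : ℕ} {l : List ℕ} {K : Subgroup (Equiv.Perm GolayPt)}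
    (h : GensIn (a :: l) K) : GensIn l K := fun c hc => h c (List.mem_cons_of_mem _ hc)

theorem evalPC_mem {l : List ℕ} {K : Subgroup (Equiv.Perm GolayPt)} (h : GensIn l K) (e : ℕ) :
    validP (evalPC l e) = true ∧ H9.pm (evalPC l e) ∈ K := by
  induction l generalizing e with
  | nil => exact ⟨validP_idP, by rw [show evalPC [] e = H9.idP from rfl, H9.pm_idP]; exact K.one_mem⟩
  | cons b l ih =>
    have e1 : evalPC (b :: l) e = force (evalPC l (Nat.div e 2)) fun x =>
      cond (Nat.beq (Nat.mod e 2) 1) (mulP b x) x := rfl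
    have h1 := ih (GensIn.tail' h) (Nat.div e 2)
    have h2 := h b List.mem_cons_self
    rw [e1, force_eq]
    cases Nat.beq (Nat.mod e 2) 1
    · exact h1
    · exact ⟨validP_mulP h2.1 h1.1, by
        rw [cond_true, pm_mulP h2.1 h1.1]; exact K.mul_mem h2.2 h1.2⟩

/-- polycyclic certificate check. -/
def pcOK : List ℕ → List (List ℕ) → Bool
  | [], _ => true
  | _ :: _, [] => false
  | a :: l, c :: cs => validP a && Nat.beq (powP a 8) H9.idP && pcOK l cs &&
      allL l fun n => anyL c fun e => Nat.beq (mulP a n) (mulP (evalPC l e) a)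

theorem cl_cons (a : ℕ) (l : List ℕ) : cl (a :: l) = Subgroup.zpowers (H9.pm a) ⊔ cl l := by
  rw [cl, cl, Subgroup.zpowers_eq_closure, ← Subgroup.closure_union]
  congr 1
  ext g
  simp [or_and_right, exists_or]

theorem pcOK_spec {l : List ℕ} {cs : List (List ℕ)} (h : pcOK l cs = true) :
    GensIn l (cl l) ∧ IsPGroup 2 (cl l) := by
  induction l generalizing cs with
  | nil => exact ⟨by simp [GensIn], by rw [cl_nil]; exact IsPGroup.of_bot⟩
  | cons a l ih =>
    cases cs with
    | nil => simp [pcOK] at h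
    | cons c cs =>
      simp only [pcOK, Bool.and_eq_true, beq_iff, allL_iff, anyL_iff] at h
      obtain ⟨⟨⟨h1, h2⟩, h3⟩, h4⟩ := h
      obtain ⟨h5, h6⟩ := ih h3
      refine ⟨fun x hx => ⟨?_, pm_mem_cl hx⟩, ?_⟩
      · rcases List.mem_cons.1 hx with rfl | hx
        exacts [h1, (h5 x hx).1]
      rw [cl_cons]
      refine IsPGroup.to_sup_of_normal_right' (isPGroup_zpowers (k := 3) (pm_pow_eq_one h1 h2)) h6 ?_
      rw [Subgroup.zpowers_le]
      refine Subgroup.mem_normalizer_fintype fun x hx => ?_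
      refine cl_ind (fun x => H9.pm a * x * (H9.pm a)⁻¹ ∈ cl l) (by simp) ?_ hx
      intro n hn g hg
      obtain ⟨e, -, he⟩ := h4 n hn
      have h7 := evalPC_mem h5 e
      have e2 := congrArg H9.pm he
      rw [pm_mulP h7.1 h1, pm_mulP h1 (h5 n hn).1] at e2
      have : H9.pm a * (H9.pm n * g) * (H9.pm a)⁻¹ =
          H9.pm (evalPC l e) * (H9.pm a * g * (H9.pm a)⁻¹) := by
        rw [← mul_assoc (H9.pm a), e2]; simp [mul_assoc]
      rw [this]
      exact mul_mem h7.2 hg

/-- a Sylow 2-subgroup of `M23`. -/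
def gP1 : List ℕ := [965009332826279549059011843200583681, 984202951082164080105044112956360736,
  977023451795203591179182037798520864, 980224387687010295957922729495201824,
  968708902336673183175954409307867168, 965128854020860192151391391390468128,
  971592882964418941354553515258775584]

/-- a Sylow 2-subgroup of `M24`. -/
def gP0 : List ℕ := 732584651504765820624540012624525413 :: 47602323197725890978489344939164386 ::
  100819083966663436186129096740297760 :: gP1

theorem gP1_pg : IsPGroup 2 (cl gP1) := (pcOK_spec (cs := [[21, 47, 40, 32, 60, 48],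
  [1, 8, 24, 2, 6], [10, 7, 15, 6], [1, 2, 4], [1, 2], [1], []]) (by decide +kernel)).2

theorem gP0_pg : IsPGroup 2 (cl gP0) := (pcOK_spec (cs := [[486, 130, 53, 150, 361, 32, 96, 128,
  288], [170, 249, 4, 8, 240, 32, 160, 96], [3, 2, 46, 8, 24, 32, 96], [21, 47, 40, 32, 60, 48],
  [1, 8, 24, 2, 6], [10, 7, 15, 6], [1, 2, 4], [1, 2], [1], []]) (by decide +kernel)).2

/-! ### Orbits as finite sets -/

/-- the orbit of a point. -/
noncomputable def orbF (K : Subgroup (Equiv.Perm GolayPt)) (x : GolayPt) : Finset GolayPt := by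
  classical exact univ.filter fun y => ∃ g ∈ K, g x = y

theorem mem_orbF {K : Subgroup (Equiv.Perm GolayPt)} {x y : GolayPt} :
    y ∈ orbF K x ↔ ∃ g ∈ K, g x = y := by simp [orbF]

theorem self_mem_orbF (K : Subgroup (Equiv.Perm GolayPt)) (x : GolayPt) : x ∈ orbF K x :=
  mem_orbF.2 ⟨1, K.one_mem, rfl⟩

theorem smul_eq_of_maps {g : Equiv.Perm GolayPt} {s : Finset GolayPt} (h : ∀ x ∈ s, g x ∈ s) :
    g • s = s := by
  apply eq_of_subset_of_card_le _ (by rw [card_smul_finset])
  intro x hx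
  obtain ⟨x, hx', rfl⟩ := mem_smul_finset.1 hx
  exact h x hx'

theorem smul_orbF {K : Subgroup (Equiv.Perm GolayPt)} (x : GolayPt) :
    ∀ g ∈ K, g • orbF K x = orbF K x := fun g hg => smul_eq_of_maps fun y hy => by
  obtain ⟨k, hk, rfl⟩ := mem_orbF.1 hy
  exact mem_orbF.2 ⟨g * k, K.mul_mem hg hk, rfl⟩

theorem card_orbF (K : Subgroup (Equiv.Perm GolayPt)) (x : GolayPt) :
    Nat.card K = (orbF K x).card * Nat.card ↥(K ⊓ stabilizer _ x) := by
  rw [card_eq_orbit_mul K x, ← Set.ncard_coe_finset]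
  congr 2
  ext y
  simp [mem_orbF]

theorem mem_smul_iff_of {g : Equiv.Perm GolayPt} {s : Finset GolayPt} (h : g • s = s)
    (x : GolayPt) : g x ∈ s ↔ x ∈ s := by
  conv_lhs => rw [← h]
  exact smul_mem_smul_finset_iff g

/-- an invariant set is determined by orbit representatives. -/
theorem eq_mask_of_inv {gens reps : List ℕ} {n : ℕ} {X : Finset GolayPt}
    (hc : (allL gens (inStab [] [n]) && allL reps (fun b => Nat.ble b 23) &&
      allLt 24 fun i => anyL reps fun b => tb (orbPt gens b) i) = true)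
    (hX : ∀ g ∈ cl gens, g • X = X) (h : ∀ b ∈ reps, (pt b ∈ X ↔ n.testBit b = true)) :
    X = ofMask n := by
  simp only [Bool.and_eq_true, allLt_iff, anyL_iff] at hc
  obtain ⟨⟨h1, h2⟩, h3⟩ := hc
  have hg := gensIn_Stab h1
  ext x
  obtain ⟨b, hb, h4⟩ := h3 _ (ix_lt x)
  have hb' : b < 24 := Nat.lt_succ_of_le ((ble_iff _ _).1 ((allL_iff _ _).1 h2 b hb))
  obtain ⟨g, h5, rfl⟩ := hg.self.orbPt hb' x (by rwa [mem_ofMask, ← tb_eq])
  rw [Equiv.Perm.smul_def, mem_smul_iff_of (hX g h5), mem_smul_iff_of ((hg.cl_le h5).2.2 n (by simp)),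
    h b hb, pt_mem_ofMask hb']

theorem fix_oct_of {K : Subgroup (Equiv.Perm GolayPt)} (hK : K ≤ M24) {n : ℕ}
    (h : ∀ g ∈ K, g • ofMask n = ofMask n)
    (hn : (Nat.ble 5 (pc (Nat.xor n 16777215)) && Nat.beq (Nat.lor n oct0) 16777215) = true) :
    ∀ g ∈ K, g • ofMask oct0 = ofMask oct0 := by
  intro g hg
  rw [Bool.and_eq_true, ble_iff, beq_iff] at hn
  have h1 : (ofMask n)ᶜ ⊆ ofMask oct0 := by
    intro x hx
    have : x ∈ ofMask (n ||| oct0) := by
      rw [show n ||| oct0 = 16777215 from hn.2, ofMask_full]; exact mem_univ x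
    rw [ofMask_or, mem_union] at this
    exact this.resolve_left (mem_compl.1 hx)
  apply octad_eq_of_five ((H9.smul_mem_octads_iff (hK hg)).2 oct0_mem) oct0_mem
  refine le_trans ?_ (card_le_card (subset_inter ?_ h1))
  · rw [← ofMask_compl, card_ofMask]; exact hn.1
  · rw [← h g hg, ← H9.smul_compl']
    exact smul_finset_subset_smul_finset h1

/-- overgroups of the Sylow 2-subgroup of `M23` of order prime to `11` and `23`. -/
theorem over_P1 {K : Subgroup (Equiv.Perm GolayPt)} (hK : K ≤ Stab [23] []) (hP : cl gP1 ≤ K)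
    (h11 : ¬ 11 ∣ Nat.card K) (h23 : ¬ 23 ∣ Nat.card K) :
    (∀ g ∈ K, g • ofMask oct0 = ofMask oct0) ∨
    ((∀ g ∈ K, g • ofMask 8388615 = ofMask 8388615) ∧ orbF K (pt 4) = ofMask 8388600) ∨
    (∀ g ∈ K, g • ofMask 3 = ofMask 3) := by
  have hM := hK.trans (Stab_le _ _)
  have hd : (orbF K (pt 4)).card ∣ Nat.card K := Dvd.intro _ (card_orbF K _).symm
  have hi := smul_orbF (K := K) (pt 4)
  have h4 := self_mem_orbF K (pt 4)
  have h0 : pt 23 ∉ orbF K (pt 4) := fun h => by
    obtain ⟨g, hg, e⟩ := mem_orbF.1 h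
    rw [← (hK hg).2.1 23 (by simp)] at e
    exact absurd (g.injective e) (by decide)
  have key : ∀ n, (allL gP1 (inStab [] [n]) && allL [0, 2, 3, 4, 23] (fun b => Nat.ble b 23) &&
      allLt 24 fun i => anyL [0, 2, 3, 4, 23] fun b => tb (orbPt gP1 b) i) = true →
      (∀ b ∈ [0, 2, 3, 4, 23], (pt b ∈ orbF K (pt 4) ↔ n.testBit b = true)) →
      orbF K (pt 4) = ofMask n := fun n hc h => eq_mask_of_inv hc (fun g hg => hi g (hP hg)) h
  by_cases a0 : pt 0 ∈ orbF K (pt 4) <;> by_cases a2 : pt 2 ∈ orbF K (pt 4) <;>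
    by_cases a3 : pt 3 ∈ orbF K (pt 4)
  · rw [key 8388607 (by decide +kernel) (by simp [*]; decide), card_ofMask,
      show pc 8388607 = 23 by decide +kernel] at hd
    exact absurd hd h23
  · rw [key 8241111 (by decide +kernel) (by simp [*]; decide)] at hi
    exact Or.inl (fix_oct_of hM hi (by decide +kernel))
  · rw [key 8388603 (by decide +kernel) (by simp [*]; decide), card_ofMask,
      show pc 8388603 = 22 by decide +kernel] at hd
    exact absurd (Dvd.dvd.trans (by norm_num) hd) h11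
  · rw [key 8241107 (by decide +kernel) (by simp [*]; decide)] at hi
    exact Or.inl (fix_oct_of hM hi (by decide +kernel))
  · rw [key 8388604 (by decide +kernel) (by simp [*]; decide)] at hi
    refine Or.inr (Or.inr fun g hg => ?_)
    rw [show ofMask 3 = (ofMask 8388604)ᶜ \ {pt 23} by decide +kernel, smul_sdiff',
      H9.smul_compl', hi g hg, smul_finset_singleton, Equiv.Perm.smul_def,
      (hK hg).2.1 23 (by simp)]
  · rw [key 8241108 (by decide +kernel) (by simp [*]; decide)] at hi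
    exact Or.inl (fix_oct_of hM hi (by decide +kernel))
  · have e := key 8388600 (by decide +kernel) (by simp [*]; decide)
    rw [e] at hi
    refine Or.inr (Or.inl ⟨fun g hg => ?_, e⟩)
    rw [show 8388615 = 8388600 ^^^ 16777215 by decide, ofMask_compl, H9.smul_compl', hi g hg]
  · rw [key 8241104 (by decide +kernel) (by simp [*]; decide)] at hi
    exact Or.inl (fix_oct_of hM hi (by decide +kernel))

theorem card_le_stab_M24 {X : Type*} [MulAction (Equiv.Perm GolayPt) X]
    {K : Subgroup (Equiv.Perm GolayPt)} (hK : K ≤ M24) {x : X} (h : ∀ g ∈ K, g • x = x) :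
    Nat.card K ∣ Nat.card (stabilizer M24 x) := by
  rw [← Nat.card_congr (Subgroup.subgroupOfEquivOfLe hK).toEquiv]
  exact Subgroup.card_dvd_of_le fun g hg => h g hg

/-- overgroups of the Sylow 2-subgroup of `M24`. -/
theorem over_P0 {K : Subgroup (Equiv.Perm GolayPt)} (hK : K ≤ M24) (hP : cl gP0 ≤ K)
    (h11 : ¬ 11 ∣ Nat.card K) (h23 : ¬ 23 ∣ Nat.card K) (hc : 64512 < Nat.card K) :
    (∀ g ∈ K, g • ofMask oct0 = ofMask oct0) ∨ (∀ g ∈ K, g • famL S0L = famL S0L) := by
  have g0 : GensIn gP0 (SG [oct0] [S0L]) := mem_SG_of (by decide +kernel)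
  have t0 : ∀ y ∈ ofMask oct0, ∃ h ∈ cl gP0, h (pt 23) = y := fun y hy =>
    g0.self.orbPt (by decide) y (by rwa [show orbPt gP0 23 = oct0 by decide +kernel])
  have hd := Subgroup.card_dvd_of_le (inf_le_left : K ⊓ stabilizer _ (pt 23) ≤ K)
  have hP1 : cl gP1 ≤ K ⊓ stabilizer _ (pt 23) := le_inf
    ((GensIn.tail' (GensIn.tail' (GensIn.tail' g0.self))).cl_le.trans hP)
    ((gensIn_Stab (pts := [23]) (sets := []) (by decide +kernel)).cl_le.trans
      fun g hg => hg.2.1 23 (by simp))
  rcases over_P1 (K := K ⊓ stabilizer _ (pt 23))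
    (fun g hg => ⟨hK hg.1, by simpa using hg.2, by simp⟩) hP1
    (fun h => h11 (h.trans hd)) (fun h => h23 (h.trans hd)) with h | ⟨h, h'⟩ | h
  · left
    by_contra hne
    simp only [not_forall] at hne
    obtain ⟨g, hg, hne⟩ := hne
    have blk : ∀ k ∈ K, k • ofMask oct0 = ofMask oct0 ∨ Disjoint (ofMask oct0) (k • ofMask oct0) := by
      intro k hk
      rw [or_iff_not_imp_right, not_disjoint_iff]
      rintro ⟨x, hx, hx'⟩
      obtain ⟨y, hy, rfl⟩ := mem_smul_finset.1 hx'
      obtain ⟨a, ha, e⟩ := t0 _ hx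
      obtain ⟨b, hb, rfl⟩ := t0 _ hy
      have := h (a⁻¹ * k * b) ⟨K.mul_mem (K.mul_mem (K.inv_mem (hP ha)) hk) (hP hb), by
        change a⁻¹ (k (b (pt 23))) = pt 23
        rw [Equiv.Perm.inv_eq_iff_eq, e]; rfl⟩
      rwa [mul_smul, mul_smul, (g0.cl_le hb).2.1 _ (by simp), inv_smul_eq_iff,
        (g0.cl_le ha).2.1 _ (by simp)] at this
    have hb := (H9.smul_mem_octads_iff (hK hg)).2 oct0_mem
    have hT := tri_mem oct0_mem hb ((blk g hg).resolve_left hne)
    have mem : ∀ k ∈ K, k • ofMask oct0 ∈ tri (ofMask oct0) (g • ofMask oct0) := by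
      intro k hk
      simp only [tri, mem_insert, mem_singleton]
      rcases blk k hk with h1 | h1
      · exact Or.inl h1
      rcases blk (g⁻¹ * k) (K.mul_mem (K.inv_mem hg) hk) with h2 | h2
      · rw [mul_smul, inv_smul_eq_iff] at h2
        exact Or.inr (Or.inl h2)
      refine Or.inr (Or.inr (eq_of_subset_of_card_le ?_ ?_))
      · rw [← disjoint_smul' (g := g), smul_smul, mul_inv_cancel_left] at h2
        exact subset_compl_iff_disjoint_left.2 (disjoint_union_left.2 ⟨h1, h2⟩)
      · rw [(third_octad oct0_mem hb ((blk g hg).resolve_left hne)).2, card_smul_finset,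
          oct0_mem.2]
    have := card_le_stab_M24 hK (x := tri (ofMask oct0) (g • ofMask oct0)) fun k hk => by
      rw [smul_tri, smul_smul]
      exact (eq_tri hT (mem k hk) (mem _ (K.mul_mem hk hg)) fun e => hne (by
        rw [mul_smul] at e
        exact (MulAction.injective k e).symm)).symm
    rw [card_trio_stab hT] at this
    exact absurd (Nat.le_of_dvd (by norm_num) this) (by omega)
  · right
    have h1 : K ⊓ stabilizer _ (pt 23) ≤ K ⊓ stabilizer _ (famL S0L) := fun g hg =>
      ⟨hg.1, mem_stabilizer_iff.2 (by rw [← sext_S0, smul_sext (hK hg.1), h g hg])⟩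
    have h2 : cl gP0 ≤ K ⊓ stabilizer _ (famL S0L) := fun g hg =>
      ⟨hP hg, (g0.cl_le hg).2.2 _ (by simp)⟩
    refine fun g hg => (le_of_orbit_of_stab inf_le_left (pt 23) (fun g _ => ?_) h1 hg).2
    by_cases hy : g (pt 23) ∈ ofMask oct0
    · obtain ⟨a, ha, e⟩ := t0 _ hy
      exact ⟨a, h2 ha, e⟩
    · have hy' : g (pt 23) ∈ ofMask 8388600 := by
        revert hy
        generalize g (pt 23) = y
        revert y
        decide +kernel
      obtain ⟨a, ha, e⟩ := t0 (pt 3) (by decide +kernel)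
      obtain ⟨b, hb, e1⟩ := mem_orbF.1 (h' ▸ hy')
      obtain ⟨c, hc, e2⟩ := mem_orbF.1 (h' ▸ (show pt 3 ∈ ofMask 8388600 by decide +kernel))
      refine ⟨b * c⁻¹ * a, Subgroup.mul_mem _ (h1 (Subgroup.mul_mem _ hb (Subgroup.inv_mem _ hc)))
        (h2 ha), ?_⟩
      change b (c⁻¹ (a (pt 23))) = _
      rw [e, ← e2, Equiv.Perm.inv_def, Equiv.symm_apply_apply, e1]; rfl
  · exfalso
    have ha := evalPC_mem g0.self 6
    have a1 : H9.pm (evalPC gP0 6) (pt 23) = pt 0 := by rw [H9.pm_pt ha.1 (by decide)]; decide +kernel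
    have a2 : H9.pm (evalPC gP0 6) • ofMask 3 = ofMask 8388612 := by
      rw [pm_smul_ofMask ha.1]; decide +kernel
    generalize H9.pm (evalPC gP0 6) = a at ha a1 a2
    have h1 := card_le_of_orbit K (pt 23) univ (by simp)
    have h2 := card_le_of_orbit (K ⊓ stabilizer _ (pt 23)) (pt 0) (ofMask 3) fun g hg =>
      h g hg ▸ smul_mem_smul_finset (by decide +kernel)
    have h3 : K ⊓ stabilizer _ (pt 23) ⊓ stabilizer _ (pt 0) ≤ Stab [2, 1, 0, 23] [] := by
      rintro g ⟨hg, g0⟩
      have b0 : g (pt 0) = pt 0 := g0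
      have b23 : g (pt 23) = pt 23 := hg.2
      have c1 := h g hg
      have c2 := h (a⁻¹ * g * a) ⟨K.mul_mem (K.mul_mem (K.inv_mem (hP ha.2)) hg.1) (hP ha.2),
        (conj_apply_iff _ _ _).2 (by rw [a1, b0])⟩
      rw [conj_smul_eq_iff, a2] at c2
      have d1 := (mem_smul_iff_of c1 (pt 1)).2 (by decide +kernel)
      have d2 := (mem_smul_iff_of c2 (pt 2)).2 (by decide +kernel)
      rw [show ofMask 3 = {pt 0, pt 1} by decide +kernel, mem_insert, mem_singleton] at d1
      rw [show ofMask 8388612 = {pt 23, pt 2} by decide +kernel, mem_insert, mem_singleton] at d2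
      refine ⟨hK hg.1, ?_, by simp⟩
      simp only [List.forall_mem_cons, b0, b23, List.not_mem_nil, IsEmpty.forall_iff, implies_true,
        and_true]
      refine ⟨d2.resolve_left fun e => ?_, d1.resolve_left fun e => ?_⟩
      · exact absurd (g.injective (e.trans b23.symm)) (by decide)
      · exact absurd (g.injective (e.trans b0.symm)) (by decide)
    have h4 := Subgroup.card_le_of_le h3
    rw [card_s4] at h4
    rw [card_univ, card_golayPt] at h1
    rw [card_ofMask, show pc 3 = 2 by decide +kernel] at h2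
    omega

end H28
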