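import Mathlib
import Cfsg.Agent.H28.Index

/-! Subgroups of index 759, 276, 1771, 253 in `M24` and of index 253 in `M23`. -/

set_option autoImplicit false

namespace H28

open Cfsg Finset H9 MulAction
open scoped Pointwise

section Cj

variable {Γ : Type*} [Group Γ]

/-- the conjugate `g K g⁻¹`. -/
def cjg (g : Γ) (K : Subgroup Γ) : Subgroup Γ := K.comap (MulAut.conj g⁻¹).toMonoidHom

theorem mem_cjg {g x : Γ} {K : Subgroup Γ} : x ∈ cjg g K ↔ g⁻¹ * x * g ∈ K := by
  simp [cjg]

theorem card_cjg (g : Γ) (K : Subgroup Γ) : Nat.card (cjg g K) = Nat.card K := by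
  obtain ⟨e⟩ := nonempty_equiv_of_conj' (cjg g K) K g fun _ => mem_cjg
  exact Nat.card_congr e.toEquiv

theorem cjg_le {g : Γ} {K G : Subgroup Γ} (h : K ≤ G) (hg : g ∈ G) : cjg g K ≤ G := fun x hx => by
  have := G.mul_mem (G.mul_mem hg (h (mem_cjg.1 hx))) (G.inv_mem hg)
  simpa [mul_assoc] using this

theorem fix_of_cjg {X : Type*} [MulAction Γ X] {g : Γ} {K : Subgroup Γ} {y : X}
    (h : ∀ k ∈ cjg g K, k • y = y) : ∀ k ∈ K, k • g⁻¹ • y = g⁻¹ • y := fun k hk => by
  have := h (g * k * g⁻¹) (mem_cjg.2 (by simpa [mul_assoc] using hk))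
  rwa [mul_smul, mul_smul, smul_eq_iff_eq_inv_smul] at this

theorem card_map_subtype {G : Subgroup Γ} (H : Subgroup G) :
    Nat.card (H.map G.subtype) = Nat.card H :=
  Subgroup.card_map_of_injective G.subtype_injective

theorem card_of_index {G : Type*} [Group G] (H : Subgroup G) {n m N : ℕ} (h : H.index = n)
    (hG : Nat.card G = N) (hm : n * m = N) (hn : n ≠ 0) : Nat.card H = m := by
  have := H.index_mul_card
  rw [h, hG, ← hm] at this
  exact Nat.eq_of_mul_eq_mul_left (Nat.pos_of_ne_zero hn) this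

end Cj

theorem odd_index_M24 (H : Subgroup M24) {n m : ℕ} (hn : H.index = n) (hm : n * m = 244823040)
    (h2 : ¬ 2 ∣ n) (h11 : ¬ 11 ∣ m) (h23 : ¬ 23 ∣ m) (hc : 64512 < m) :
    (∃ o ∈ octads, H ≤ stabilizer M24 o) ∨ ∃ S ∈ sextets, H ≤ stabilizer M24 S := by
  have hH := card_of_index H hn card_M24 hm (by rintro rfl; simp at h2)
  have hK : H.map M24.subtype ≤ M24 := Subgroup.map_subtype_le H
  rw [← card_map_subtype] at hH
  obtain ⟨g, hg, h⟩ := exists_conj_le' Nat.prime_two (gensIn_M24 (by decide +kernel)).cl_le hK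
    gP0_pg (n := n) (by rw [card_M24, hH, hm]) h2
  rw [← card_cjg g] at hH
  rcases over_P0 (cjg_le hK hg) (fun x hx => mem_cjg.2 (h x hx)) (hH ▸ h11) (hH ▸ h23) (hH ▸ hc)
    with h | h
  · exact Or.inl ⟨_, (H9.smul_mem_octads_iff (M24.inv_mem hg)).2 oct0_mem,
      fun x hx => fix_of_cjg h _ ⟨x, hx, rfl⟩⟩
  · exact Or.inr ⟨_, smul_mem_sextets (M24.inv_mem hg) S0_mem,
      fun x hx => fix_of_cjg h _ ⟨x, hx, rfl⟩⟩

theorem card_oct_stab {o : Finset GolayPt} (ho : o ∈ octads) :
    Nat.card (stabilizer M24 o) = 322560 :=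
  card_stab_M24 o (by rw [orbit_octad ho, ncard_octads]) (by norm_num)

theorem card_duad_stab {s : Finset GolayPt} (hs : s.card = 2) :
    Nat.card (stabilizer M24 s) = 887040 :=
  card_stab_M24 s (n := 276) (by rw [orbit_sub (fun _ => T_duad) hs, ncard_card]; decide)
    (by norm_num)

/-! ### Fixed points of elements of prime order -/

theorem fix_le_four {g : Equiv.Perm GolayPt} (hg : g ∈ M24) {p : ℕ} (hp : orderOf g = p)
    (h48 : ¬ p ∣ 48) : {x | g x = x}.ncard ≤ 4 := by
  by_contra h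
  obtain ⟨s, hs, h5⟩ := Set.exists_subset_card_eq (n := 5) (s := {x | g x = x}) (by omega)
  obtain ⟨s, rfl⟩ := (Set.toFinite s).exists_finset_coe
  rw [Set.ncard_coe_finset] at h5
  obtain ⟨k, hk, rfl⟩ := T_pentad h5
  have h1 : k⁻¹ * g * k ∈ Stab [3, 2, 1, 0, 23] [] := by
    refine ⟨conj_mem_M24 hk ⟨g, hg⟩, fun i hi => (conj_apply_iff _ _ _).2 (hs ?_), by simp⟩
    refine smul_mem_smul_finset (a := k) ?_
    revert i
    decide +kernel
  have h2 := Subgroup.orderOf_dvd_natCard _ h1
  have h3 : orderOf (k⁻¹ * g * k) = orderOf g := by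
    simpa using (MulAut.conj k⁻¹).orderOf_eq g
  rw [card_s5, h3, hp] at h2
  exact h48 h2

theorem modEq_fix {g : Equiv.Perm GolayPt} {p : ℕ} (hp : p.Prime) (hg : orderOf g = p)
    {X : Finset GolayPt} (hX : g • X = X) :
    X.card % p = {x | x ∈ X ∧ g x = x}.ncard % p := by
  have := card_modEq_fixed hp (g := g) (k := 1) (by rw [pow_one, ← hg, pow_orderOf_eq_one])
    (X : Set GolayPt) X.finite_toSet (fun x hx => (mem_smul_iff_of hX x).2 hx)
  rwa [Set.ncard_coe_finset] at this

theorem fix_eq {g : Equiv.Perm GolayPt} (hg : g ∈ M24) {p : ℕ} (hp : p.Prime) (h : orderOf g = p)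
    (h48 : ¬ p ∣ 48) : {x | g x = x}.ncard % p = 24 % p ∧ {x | g x = x}.ncard ≤ 4 := by
  have := modEq_fix hp h (X := univ) smul_finset_univ
  simp only [mem_univ, true_and, card_univ, card_golayPt] at this
  exact ⟨this.symm, fix_le_four hg h h48⟩

theorem exists_ord {K : Subgroup (Equiv.Perm GolayPt)} {p : ℕ} (hp : p.Prime)
    (h : p ∣ Nat.card K) : ∃ g ∈ K, orderOf g = p := by
  have := Fact.mk hp
  obtain ⟨g, hg⟩ := exists_prime_orderOf_dvd_card' p h
  exact ⟨g, g.2, by rwa [Subgroup.orderOf_coe]⟩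

/-- a subgroup of order divisible by 77 and prime to 23 has an orbit of length 22 or 24. -/
theorem big_orbit {K : Subgroup (Equiv.Perm GolayPt)} (hK : K ≤ M24) (h11 : 11 ∣ Nat.card K)
    (h7 : 7 ∣ Nat.card K) (h23 : ¬ 23 ∣ Nat.card K) :
    ∃ x, (orbF K x).card = 22 ∨ (orbF K x).card = 24 := by
  obtain ⟨a, ha, a1⟩ := exists_ord (by norm_num) h11
  obtain ⟨b, hb, b1⟩ := exists_ord (by norm_num) h7
  obtain ⟨x, hx⟩ : ∃ x, a x ≠ x := by
    by_contra h
    simp only [ne_eq, not_exists, not_not] at h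
    rw [show a = 1 from Equiv.ext h, orderOf_one] at a1
    exact absurd a1 (by norm_num)
  refine ⟨x, ?_⟩
  have h1 := modEq_fix (by norm_num) a1 (smul_orbF x a ha)
  have h2 := modEq_fix (by norm_num) b1 (smul_orbF x b hb)
  have h3 := fix_eq (hK ha) (by norm_num) a1 (by norm_num)
  have h4 := fix_eq (hK hb) (by norm_num) b1 (by norm_num)
  have h5 := Set.ncard_le_ncard (show {y | y ∈ orbF K x ∧ a y = y} ⊆ {y | a y = y} from
    fun _ h => h.2)
  have h6 := Set.ncard_le_ncard (show {y | y ∈ orbF K x ∧ b y = y} ⊆ {y | b y = y} from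
    fun _ h => h.2)
  have h8 := Set.ncard_lt_ncard (show {y | y ∈ orbF K x ∧ a y = y} ⊂ orbF K x from
    ⟨fun _ h => h.1, fun h => hx (h (self_mem_orbF K x)).2⟩)
  have h9 : (orbF K x).card ≤ 24 := card_golayPt ▸ card_le_univ _
  have h10 : (orbF K x).card ≠ 23 := fun h => h23 (h ▸ Dvd.intro _ (card_orbF K _).symm)
  rw [Set.ncard_coe_finset] at h8
  clear h11 h7 h23
  generalize (orbF K x).card = n at *
  interval_cases n <;> omega

theorem index_276 (H : Subgroup M24) (hn : H.index = 276) :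
    ∃ s : Finset GolayPt, s.card = 2 ∧ H = stabilizer M24 s := by
  have hH := card_of_index H hn card_M24 (m := 887040) (by norm_num) (by norm_num)
  have hK : H.map M24.subtype ≤ M24 := Subgroup.map_subtype_le H
  have hH' := (card_map_subtype H).trans hH
  obtain ⟨x, h | h⟩ := big_orbit hK (by rw [hH']; norm_num) (by rw [hH']; norm_num)
    (by rw [hH']; norm_num)
  · have h2 : (orbF (H.map M24.subtype) x)ᶜ.card = 2 := by rw [card_compl, card_golayPt, h]
    refine ⟨_, h2, Subgroup.eq_of_le_of_card_ge (fun g hg => ?_) (by rw [card_duad_stab h2, hH])⟩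
    rw [mem_stab_set, H9.smul_compl', smul_orbF (K := H.map M24.subtype) x g ⟨g, hg, rfl⟩]
  exfalso
  generalize H.map M24.subtype = K at hK hH' h
  have hu : orbF K x = univ := eq_univ_of_card _ (by rw [h, card_golayPt])
  have hc : ∀ p : GolayPt, Nat.card ↥(K ⊓ stabilizer _ p) = 36960 := by
    intro p
    have h1 : orbF K p = univ := by
      rw [eq_univ_iff_forall]
      intro y
      obtain ⟨a, ha, rfl⟩ := mem_orbF.1 (hu ▸ mem_univ p)
      obtain ⟨b, hb, rfl⟩ := mem_orbF.1 (hu ▸ mem_univ y)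
      exact mem_orbF.2 ⟨b * a⁻¹, K.mul_mem hb (K.inv_mem ha), by simp⟩
    have := card_orbF K p
    rw [h1, card_univ, card_golayPt, hH'] at this
    omega
  have key : ∀ p : GolayPt, ∃ p', p' ≠ p ∧ K ⊓ stabilizer _ p = K ⊓ stabilizer _ p' ∧
      ∀ r, K ⊓ stabilizer _ p = K ⊓ stabilizer _ r → r = p ∨ r = p' := by
    intro p
    obtain ⟨y, h⟩ := big_orbit (K := K ⊓ stabilizer _ p) (inf_le_left.trans hK)
      (by rw [hc]; norm_num) (by rw [hc]; norm_num) (by rw [hc]; norm_num)
    have nm : ∀ r : GolayPt, K ⊓ stabilizer _ p ≤ stabilizer _ r → r ∉ orbF (K ⊓ stabilizer _ p) y := by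
      intro r hr hm
      have : orbF (K ⊓ stabilizer _ p) y ⊆ {r} := fun z hz => by
        obtain ⟨a, ha, rfl⟩ := mem_orbF.1 hz
        obtain ⟨b, hb, e⟩ := mem_orbF.1 hm
        have := hr (Subgroup.mul_mem _ ha (Subgroup.inv_mem _ hb))
        rw [mem_stabilizer_iff] at this
        rw [mem_singleton, ← this, ← e]
        simp
      have := card_le_card this
      rw [card_singleton] at this
      omega
    have hp := nm p inf_le_right
    have h22 : (orbF (K ⊓ stabilizer _ p) y).card = 22 := h.resolve_right fun h => hp (by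
      rw [eq_univ_of_card _ (h.trans card_golayPt.symm)]; exact mem_univ p)
    have h2 : (orbF (K ⊓ stabilizer _ p) y)ᶜ.card = 2 := by rw [card_compl, card_golayPt, h22]
    obtain ⟨p', hp', e⟩ : ∃ p', p' ≠ p ∧ (orbF (K ⊓ stabilizer _ p) y)ᶜ = {p, p'} := by
      obtain ⟨a, b, hab, e⟩ := card_eq_two.1 h2
      have : p ∈ ({a, b} : Finset GolayPt) := e ▸ mem_compl.2 hp
      rcases mem_insert.1 this with rfl | h
      · exact ⟨b, hab.symm, e⟩
      · rw [mem_singleton] at h
        subst h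
        exact ⟨a, hab, e.trans (pair_comm _ _)⟩
    refine ⟨p', hp', Subgroup.eq_of_le_of_card_ge (fun g hg => ⟨hg.1, ?_⟩) (by rw [hc, hc]),
      fun r hr => ?_⟩
    · have h1 : g • ({p, p'} : Finset GolayPt) = {p, p'} := by
        rw [← e, H9.smul_compl', smul_orbF y g hg]
      have h3 := (mem_smul_iff_of h1 p').2 (by simp)
      rw [mem_insert, mem_singleton] at h3
      exact h3.resolve_left fun h => hp' (g.injective (h.trans hg.2.symm))
    · have := mem_compl.2 (nm r (hr ▸ inf_le_right))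
      simpa [e] using this
  obtain ⟨p', h1, h2, h3⟩ := key x
  obtain ⟨b, hb, b1⟩ := exists_ord (K := K ⊓ stabilizer _ x) (p := 7) (by norm_num)
    (by rw [hc]; norm_num)
  have h4 := fix_eq (hK hb.1) (by norm_num) b1 (by norm_num)
  have hsub : ({x, p'} : Set GolayPt) ⊆ {y | b y = y} := by
    rintro _ (rfl | rfl)
    exacts [hb.2, (h2 ▸ hb).2]
  obtain ⟨r, hr, hr'⟩ : ∃ r, b r = r ∧ r ∉ ({x, p'} : Set GolayPt) := by
    by_contra h
    simp only [not_exists, not_and, not_not] at h
    have := Set.ncard_le_ncard (show {y | b y = y} ⊆ {x, p'} from h)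
    rw [Set.ncard_pair h1.symm] at this
    omega
  obtain ⟨r', k1, k2, -⟩ := key r
  have hr2 : r' ∉ ({x, p'} : Set GolayPt) := by
    rintro (rfl | rfl)
    · exact hr' (h3 r k2.symm)
    · exact hr' (h3 r (h2.trans k2.symm))
  have h5 := Set.ncard_le_ncard (show insert r' (insert r {x, p'}) ⊆ {y | b y = y} from
    Set.insert_subset (k2.le (⟨hb.1, hr⟩ : b ∈ K ⊓ stabilizer _ r)).2 (Set.insert_subset hr hsub))
  rw [Set.ncard_insert_of_notMem (by rintro (h | h); exacts [k1 h, hr2 h]),
    Set.ncard_insert_of_notMem hr', Set.ncard_pair h1.symm] at h5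
  omega

theorem s1589 : (∀ H : Subgroup ↥M24, H.index = 759 → ∃ o ∈ octads, H = stabilizer M24 o) ∧
    (∀ H : Subgroup ↥M24, H.index = 276 → ∃ s : Finset GolayPt, s.card = 2 ∧ H = stabilizer M24 s) ∧
    (∀ H : Subgroup ↥M24, H.index = 1771 → ∃ S ∈ sextets, H = stabilizer M24 S) ∧
    ∀ H : Subgroup ↥M24, H.index ≠ 253 := by
  refine ⟨fun H hn => ?_, index_276, fun H hn => ?_, fun H hn => ?_⟩
  · have hH := card_of_index H hn card_M24 (m := 322560) (by norm_num) (by norm_num)
    rcases odd_index_M24 H hn (m := 322560) (by norm_num) (by norm_num) (by norm_num) (by norm_num)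
      (by norm_num) with ⟨o, ho, h⟩ | ⟨o, ho, h⟩
    · exact ⟨o, ho, Subgroup.eq_of_le_of_card_ge h (by rw [card_oct_stab ho, hH])⟩
    · have := Subgroup.card_le_of_le h
      rw [hH, card_sextet_stab ho] at this
      omega
  · have hH := card_of_index H hn card_M24 (m := 138240) (by norm_num) (by norm_num)
    rcases odd_index_M24 H hn (m := 138240) (by norm_num) (by norm_num) (by norm_num) (by norm_num)
      (by norm_num) with ⟨o, ho, h⟩ | ⟨o, ho, h⟩
    · have := Subgroup.card_dvd_of_le h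
      rw [hH, card_oct_stab ho] at this
      omega
    · exact ⟨o, ho, Subgroup.eq_of_le_of_card_ge h (by rw [card_sextet_stab ho, hH])⟩
  · have hH := card_of_index H hn card_M24 (m := 967680) (by norm_num) (by norm_num)
    rcases odd_index_M24 H hn (m := 967680) (by norm_num) (by norm_num) (by norm_num) (by norm_num)
      (by norm_num) with ⟨o, ho, h⟩ | ⟨o, ho, h⟩
    · have := Subgroup.card_le_of_le h
      rw [hH, card_oct_stab ho] at this
      omega
    · have := Subgroup.card_le_of_le h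
      rw [hH, card_sextet_stab ho] at this
      omega

/-! ### `M23` -/

theorem up_set {pts : List ℕ} {s b m : ℕ}
    (h : (Nat.ble b 23 && !memL pts b && tb s b &&
      Nat.beq (Nat.land s (Nat.xor (maskL pts) 16777215)) m) = true) :
    Nat.card (Stab pts [s]) ≤ pc m * Nat.card (Stab (b :: pts) [s]) := by
  simp only [Bool.and_eq_true, ble_iff, beq_iff, tb_eq, Bool.not_eq_true', ← Bool.not_eq_true,
    memL_iff] at h
  exact card_level_le (orbit_up (Nat.lt_succ_of_le h.1.1.1) h.1.1.2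
    (fun g hg => hg.2.2 _ (by simp)) h.1.2 h.2)

theorem card_set_le (pts : List ℕ) (s : ℕ) : Nat.card (Stab pts [s]) ≤ Nat.card (Stab pts []) :=
  Subgroup.card_le_of_le (Stab_mono (by simp) (by simp))

theorem card_hept_le : Nat.card (Stab [23] [oct0]) ≤ 40320 := by
  have h1 := up_set (pts := [23]) (s := oct0) (b := 0) (m := 147503) (by decide +kernel)
  have h2 := up_set (pts := [0, 23]) (s := oct0) (b := 1) (m := 147502) (by decide +kernel)
  have h3 := up_set (pts := [1, 0, 23]) (s := oct0) (b := 2) (m := 147500) (by decide +kernel)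
  have h4 := up_set (pts := [2, 1, 0, 23]) (s := oct0) (b := 3) (m := 147496) (by decide +kernel)
  have h5 := card_set_le [3, 2, 1, 0, 23] oct0
  rw [card_s5] at h5
  rw [show pc 147503 = 7 by decide +kernel] at h1
  rw [show pc 147502 = 6 by decide +kernel] at h2
  rw [show pc 147500 = 5 by decide +kernel] at h3
  rw [show pc 147496 = 4 by decide +kernel] at h4
  omega

theorem card_duad_le : Nat.card (Stab [23] [3]) ≤ 40320 := by
  have h1 := up_set (pts := [23]) (s := 3) (b := 0) (m := 3) (by decide +kernel)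
  have h2 := up_set (pts := [0, 23]) (s := 3) (b := 1) (m := 2) (by decide +kernel)
  have h5 := card_set_le [1, 0, 23] 3
  rw [card_s3] at h5
  rw [show pc 3 = 2 by decide +kernel] at h1
  rw [show pc 2 = 1 by decide +kernel] at h2
  omega

theorem card_tet_le : Nat.card (Stab [23] [8388615]) ≤ 5760 := by
  have h1 := up_set (pts := [23]) (s := 8388615) (b := 0) (m := 7) (by decide +kernel)
  have h2 := up_set (pts := [0, 23]) (s := 8388615) (b := 1) (m := 6) (by decide +kernel)
  have h3 := up_set (pts := [1, 0, 23]) (s := 8388615) (b := 2) (m := 4) (by decide +kernel)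
  have h5 := card_set_le [2, 1, 0, 23] 8388615
  rw [card_s4] at h5
  rw [show pc 7 = 3 by decide +kernel] at h1
  rw [show pc 6 = 2 by decide +kernel] at h2
  rw [show pc 4 = 1 by decide +kernel] at h3
  omega

theorem s1609 (x : GolayPt) (H : Subgroup ↥(stabilizer M24 x)) (hH : H.index = 253) :
    (∃ s : Finset GolayPt, s.card = 2 ∧ x ∉ s ∧
      H = (stabilizer M24 s).subgroupOf (stabilizer M24 x)) ∨
    ∃ o ∈ octads, x ∈ o ∧ H = (stabilizer M24 o).subgroupOf (stabilizer M24 x) := by
  have hc := card_of_index H hH (card_of_equiv (stab1_equiv x) card_s1) (m := 40320)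
    (by norm_num) (by norm_num)
  obtain ⟨k, hk, rfl⟩ := T_pt x
  have hK : cjg k⁻¹ ((H.map (stabilizer M24 (k (pt 23))).subtype).map M24.subtype) ≤
      Stab [23] [] := by
    intro y hy
    obtain ⟨_, ⟨z, -, rfl⟩, e⟩ := mem_cjg.1 hy
    have e' : y = k⁻¹ * z * k := by
      rw [show ((z : M24) : Equiv.Perm GolayPt) = _ from e]; simp [mul_assoc]
    rw [e']
    exact ⟨conj_mem_M24 hk z, by simpa using (conj_apply_iff _ _ _).2 z.2, by simp⟩
  have hc' := ((card_cjg k⁻¹ _).trans ((card_map_subtype _).trans (card_map_subtype H))).trans hc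
  obtain ⟨g, hg, h⟩ := exists_conj_le' Nat.prime_two
    (gensIn_Stab (pts := [23]) (sets := []) (by decide +kernel)).cl_le hK gP1_pg (n := 253)
    (by rw [card_s1, hc']) (by norm_num)
  rw [← card_cjg g] at hc'
  have hK' := cjg_le hK hg
  have g23 : g⁻¹ (pt 23) = pt 23 := (Subgroup.inv_mem _ hg).2.1 23 (by simp)
  have fin : ∀ n, Nat.card (Stab [23] [n]) ≤ 40320 → (∀ y ∈ cjg g (cjg k⁻¹
      ((H.map (stabilizer M24 (k (pt 23))).subtype).map M24.subtype)), y • ofMask n = ofMask n) →
      H = (stabilizer M24 (k • g⁻¹ • ofMask n)).subgroupOf (stabilizer M24 (k (pt 23))) := by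
    intro n hn h
    have h1 := fix_of_cjg (fix_of_cjg h)
    rw [inv_inv] at h1
    refine Subgroup.eq_of_le_of_card_ge (fun y hy => h1 _ ⟨_, ⟨y, hy, rfl⟩, rfl⟩) ?_
    rw [hc, ← Subgroup.inf_subgroupOf_right,
      Nat.card_congr (Subgroup.subgroupOfEquivOfLe inf_le_right).toEquiv]
    have hkg := M24.mul_mem hk (M24.inv_mem hg.1)
    refine le_of_eq_of_le (card_of_equiv (nonempty_equiv_of_conj _ _ (Stab_le [23] [n]) _ hkg
      fun y => ?_) rfl) hn
    simp only [mem_Stab, conj_mem_M24 hkg y, List.forall_mem_cons, conj_smul_eq_iff,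
      conj_apply_iff, Subgroup.mem_inf, mem_stab_pt, mem_stab_set,
      List.not_mem_nil, IsEmpty.forall_iff, implies_true, and_true, true_and]
    rw [mul_smul, Equiv.Perm.mul_apply, g23]
    exact and_comm
  rcases over_P1 hK' (fun x hx => mem_cjg.2 (h x hx)) (by rw [hc']; norm_num)
    (by rw [hc']; norm_num) with h | ⟨h, -⟩ | h
  · refine Or.inr ⟨_, (H9.smul_mem_octads_iff hk).2 ((H9.smul_mem_octads_iff
      (M24.inv_mem hg.1)).2 oct0_mem), ?_, fin _ card_hept_le h⟩
    rw [← g23]
    exact smul_mem_smul_finset (smul_mem_smul_finset (by decide +kernel))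
  · have := Subgroup.card_le_of_le (show _ ≤ Stab [23] [8388615] from fun y hy =>
      ⟨(hK' hy).1, (hK' hy).2.1, by simpa using h y hy⟩)
    have := card_tet_le
    omega
  · refine Or.inl ⟨_, by rw [card_smul_finset, card_smul_finset]; decide +kernel, ?_,
      fin _ card_duad_le h⟩
    rw [← g23]
    intro hm
    exact absurd ((smul_mem_smul_finset_iff g⁻¹).1 ((smul_mem_smul_finset_iff k).1 hm))
      (by decide +kernel)

end H28
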