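import Mathlib
import Cfsg.Agent.H28.Index2

/-! `M22` has no subgroups of index 56 or 210. -/

set_option autoImplicit false

namespace H28

open Cfsg Finset H9 MulAction
open scoped Pointwise

/-- dodecads through `0` avoiding `∞`. -/
def Om : Set (Finset GolayPt) := {d | d ∈ dodecads ∧ pt 0 ∈ d ∧ pt 23 ∉ d}

theorem smul_mem_Om {g : Equiv.Perm GolayPt} (hg : g ∈ Stab [0, 23] []) {d : Finset GolayPt}
    (hd : d ∈ Om) : g • d ∈ Om := by
  refine ⟨(H9.smul_mem_dodecads_iff hg.1).2 hd.1, ?_, ?_⟩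
  · rw [← hg.2.1 0 (by simp)]; exact smul_mem_smul_finset hd.2.1
  · rw [← hg.2.1 23 (by simp)]; exact fun h => hd.2.2 ((smul_mem_smul_finset_iff g).1 h)

theorem Om_fix {c : ℕ} {L : List ℕ} (h : (validP c && treeAll (fun m => force (cw m) fun n =>
      cond (Nat.beq (pc n) 12 && tb n 0 && !tb n 23 && Nat.beq (H9.actM c n) n) (memL L n) true)
      12 0) = true) {d : Finset GolayPt} (hd : d ∈ Om) (e : H9.pm c • d = d) : d ∈ famL L := by
  rw [Bool.and_eq_true, treeAll_iff] at h
  obtain ⟨m, hm, rfl⟩ := exists_cw_of_mem hd.1.1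
  have h1 := h.2 m hm
  rw [pm_smul_ofMask h.1] at e
  have h2 := hd.1.2
  rw [card_ofMask] at h2
  rw [force_eq, h2, ofMask_inj (H9.actM_lt h.1 _) (cw_lt m) e, (pt_mem_iff (by norm_num) _).1 hd.2.1,
    (pt_notMem_iff (by norm_num) _).1 hd.2.2, Nat.beq_refl, Nat.beq_refl] at h1
  exact mem_famL.2 ⟨_, memL_iff.1 h1, rfl⟩

theorem Stab_swap : Stab [23, 0] [dod0] = Stab [0, 23] [dod0] :=
  le_antisymm (Stab_mono (by simp) (by simp)) (Stab_mono (by simp) (by simp))

/-- multiplication by 2. -/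
def g11c : ℕ := 983435072843990828779021698901151808

/-- an element of order 5 of `L₂(11)`. -/
def g5c : ℕ := 964699148693276493679772495092255776

theorem m22_no_sub {K : Subgroup (Equiv.Perm GolayPt)} (hK : K ≤ Stab [0, 23] [])
    (hc : Nat.card K = 7920 ∨ Nat.card K = 2112) : False := by
  have v11 : GensIn [g11c] (Stab [0, 23] [dod0]) := gensIn_Stab (by decide +kernel)
  have v5 : GensIn [g5c] (Stab [0, 23] [dod0]) := gensIn_Stab (by decide +kernel)
  have hL : Stab [0, 23] [dod0] ≤ Stab [0, 23] [] := Stab_mono (by simp) (by simp)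
  have p11 : H9.pm g11c ^ 11 ^ 1 = 1 := pm_pow_eq_one (v11 _ (by simp)).1 (by decide +kernel)
  obtain ⟨n, hn, hn'⟩ : ∃ n, Nat.card (Stab [0, 23] []) = n * Nat.card K ∧ ¬ 11 ∣ n := by
    rw [card_s2]
    rcases hc with h | h
    exacts [⟨56, by rw [h], by norm_num⟩, ⟨210, by rw [h], by norm_num⟩]
  obtain ⟨g, hg, h⟩ := exists_conj_le' (by norm_num) (Subgroup.zpowers_le.2
    (hL (v11 _ List.mem_cons_self).2)) hK (isPGroup_zpowers p11) hn hn'
  have h1 := mem_cjg.2 (h _ (Subgroup.mem_zpowers _))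
  rw [← card_cjg g] at hc
  have hK' := cjg_le hK hg
  generalize cjg g K = K at hK' hc h1
  clear hK h hn hn' hg g n
  have hD : ofMask dod0 ∈ Om := ⟨dod0_mem, by decide +kernel, by decide +kernel⟩
  have h2 := card_eq_orbit_mul K (ofMask dod0)
  have hX : {y | ∃ g ∈ K, g • ofMask dod0 = y} ⊆ Om := fun _ ⟨g, hg, e⟩ =>
    e ▸ smul_mem_Om (hK' hg) hD
  have hinv : ∀ k ∈ K, ∀ y ∈ {y | ∃ g ∈ K, g • ofMask dod0 = y},
      k • y ∈ {y | ∃ g ∈ K, g • ofMask dod0 = y} := fun k hk _ ⟨g, hg, e⟩ =>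
    ⟨k * g, K.mul_mem hk hg, by rw [mul_smul, e]⟩
  have hS : K ⊓ stabilizer _ (ofMask dod0) ≤ Stab [0, 23] [dod0] := fun g hg =>
    ⟨(hK' hg.1).1, (hK' hg.1).2.1, by simpa using hg.2⟩
  have h3 := Subgroup.card_dvd_of_le hS
  rw [← Stab_swap, card_c1] at h3
  have h4 := Subgroup.card_dvd_of_le (show cl [g11c] ≤ K ⊓ stabilizer _ (ofMask dod0) from
    GensIn.cl_le fun c hc => by
      rw [List.mem_singleton.1 hc]
      exact ⟨(v11 _ (by simp)).1, h1, (v11 _ (by simp)).2.2.2 _ (by simp)⟩)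
  rw [(card_cl (fuel := 11) (by decide +kernel)).trans (show _ = 11 by decide +kernel)] at h4
  have h5 := card_modEq_fixed (by norm_num) p11 _ (Set.toFinite _) (hinv _ h1)
  have h6 : {x | x ∈ {y | ∃ g ∈ K, g • ofMask dod0 = y} ∧ H9.pm g11c • x = x} = {ofMask dod0} := by
    ext x
    constructor
    · rintro ⟨a, b⟩
      simpa [eq_comm] using (mem_famL.1 (Om_fix (L := [dod0]) (by decide +kernel) (hX a) b))
    · rintro rfl
      exact ⟨⟨1, K.one_mem, one_smul _ _⟩, (v11 _ (by simp)).2.2.2 _ (by simp)⟩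
  rw [h6, Set.ncard_singleton] at h5
  have key : ({y | ∃ g ∈ K, g • ofMask dod0 = y}.ncard = 144 ∧ Nat.card K = 7920) ∨
      ({y | ∃ g ∈ K, g • ofMask dod0 = y}.ncard = 12 ∧
        Nat.card ↥(K ⊓ stabilizer _ (ofMask dod0)) = 660) := by
    generalize {y | ∃ g ∈ K, g • ofMask dod0 = y}.ncard = a at h2 h5
    generalize Nat.card ↥(K ⊓ stabilizer _ (ofMask dod0)) = s at h2 h3 h4
    generalize Nat.card K = n at h2 hc
    have : s ∈ Nat.divisors 660 := by simpa using h3
    rw [show Nat.divisors 660 = {1, 2, 3, 4, 5, 6, 10, 11, 12, 15, 20, 22, 30, 33, 44, 55, 60, 66,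
      110, 132, 165, 220, 330, 660} by decide +kernel] at this
    simp only [mem_insert, mem_singleton] at this
    unfold Nat.ModEq at h5
    rcases this with h | h | h | h | h | h | h | h | h | h | h | h | h | h | h | h | h | h | h | h |
      h | h | h | h <;> subst h <;> omega
  have e5 : elOK [g5c] 5 = true := by decide +kernel
  rcases key with ⟨k1, k2⟩ | ⟨k1, k2⟩
  · obtain ⟨f, hf, f5⟩ := exists_ord (K := K) (p := 5) (by norm_num) (by rw [k2]; norm_num)
    have p5 : f ^ 5 ^ 1 = 1 := by rw [pow_one, ← f5, pow_orderOf_eq_one]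
    obtain ⟨g, hg, h⟩ := exists_conj_le' (by norm_num) (Subgroup.zpowers_le.2 (hK' hf))
      (v5.cl_le.trans hL) (isPGroup_zpowers p5) (n := 88704)
      (by rw [card_s2, card_cl e5]; decide +kernel) (by norm_num)
    obtain ⟨c, -, -, c3, e⟩ := forall_cl e5 (fun c => Nat.beq c H9.idP ||
      (validP c && treeAll (fun m => force (cw m) fun n =>
      cond (Nat.beq (pc n) 12 && tb n 0 && !tb n 23 && Nat.beq (H9.actM c n) n)
        (memL [340831, 4623581] n) true) 12 0)) (by decide +kernel) (h f (Subgroup.mem_zpowers f))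
    rw [Bool.or_eq_true, beq_iff] at c3
    rcases c3 with rfl | c3
    · rw [H9.pm_idP, eq_comm, mul_assoc, inv_mul_eq_one, eq_comm, mul_eq_right] at e
      rw [e, orderOf_one] at f5
      exact absurd f5 (by norm_num)
    have h7 := card_modEq_fixed (by norm_num) p5 _ (Set.toFinite _) (hinv _ hf)
    have h8 := Set.ncard_le_ncard (show {x | x ∈ {y | ∃ g ∈ K, g • ofMask dod0 = y} ∧ f • x = x} ⊆
        (g • famL [340831, 4623581] : Finset _) from fun x ⟨a, b⟩ => by
      rw [mem_coe, ← inv_smul_mem_iff]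
      refine Om_fix c3 (smul_mem_Om (Subgroup.inv_mem _ hg) (hX a)) ?_
      rw [e, mul_smul, mul_smul, smul_inv_smul, b])
    rw [Set.ncard_coe_finset, card_smul_finset, card_famL (by decide) (by decide)] at h8
    rw [k1] at h7
    unfold Nat.ModEq at h7
    simp only [List.length_cons, List.length_nil] at h8
    omega
  · have hL' : Stab [0, 23] [dod0] ≤ K :=
      (Subgroup.eq_of_le_of_card_ge hS (by rw [k2, ← Stab_swap, card_c1])).ge.trans inf_le_left
    have p5 : H9.pm g5c ^ 5 ^ 1 = 1 := pm_pow_eq_one (v5 _ (by simp)).1 (by decide +kernel)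
    have h7 := card_modEq_fixed (by norm_num) p5 _ (Set.toFinite _)
      (hinv _ (hL' (v5 _ List.mem_cons_self).2))
    have h8 : ofMask 4623581 ∈ {y | ∃ g ∈ K, g • ofMask dod0 = y} := by
      by_contra hn
      have := Set.ncard_le_ncard (show {x | x ∈ {y | ∃ g ∈ K, g • ofMask dod0 = y} ∧
          H9.pm g5c • x = x} ⊆ {ofMask 340831} from fun x ⟨a, b⟩ => by
        have := mem_famL.1 (Om_fix (L := [340831, 4623581]) (by decide +kernel) (hX a) b)
        simp only [List.mem_cons, List.not_mem_nil, or_false, exists_eq_or_imp,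
          exists_eq_left] at this
        exact this.elim Eq.symm fun e => absurd (e ▸ a) hn)
      rw [k1] at h7
      rw [Set.ncard_singleton] at this
      unfold Nat.ModEq at h7
      omega
    have h9 := Set.ncard_le_ncard (show (famL [4623581, 5671785, 7033131, 6201741, 4703533,
        2610325, 1223157, 7241839, 1787687, 2343399, 4312697, 2717923, 5800935] : Set _) ⊆
        {y | ∃ g ∈ K, g • ofMask dod0 = y} from fun x hx => by
      obtain ⟨m, hm, rfl⟩ := mem_famL.1 hx
      have hh : force (orbCw g11a 4623581) (fun S => allL [4623581, 5671785, 7033131, 6201741,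
          4703533, 2610325, 1223157, 7241839, 1787687, 2343399, 4312697, 2717923, 5800935]
          fun m => tb S (m % 4096) && Nat.beq (cw (m % 4096)) m) = true := by decide +kernel
      rw [force_eq, allL_iff] at hh
      have h3 := hh m hm
      rw [Bool.and_eq_true, tb_eq, beq_iff] at h3
      obtain ⟨g, hg, e⟩ := gi11a.orbCw (Stab_le _ _) (x0 := 4623581) (by decide +kernel) _ h3.1
      rw [h3.2] at e
      exact e ▸ hinv g (hL' (Stab_swap ▸ hg)) _ h8)
    rw [k1, Set.ncard_coe_finset, card_famL (by decide) (by decide)] at h9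
    simp at h9

theorem s1606 (p q : GolayPt) (hpq : p ≠ q)
    (H : Subgroup ↥(stabilizer M24 p ⊓ stabilizer M24 q)) : H.index ≠ 56 ∧ H.index ≠ 210 := by
  obtain ⟨e⟩ := stab2_equiv hpq
  have hc := card_of_equiv ⟨e⟩ card_s2
  have h1 : Nat.card ((H.map e.toMonoidHom).map (Stab [0, 23] []).subtype) = Nat.card H := by
    rw [card_map_subtype, Subgroup.card_map_of_injective e.injective]
  exact ⟨fun h => m22_no_sub (Subgroup.map_subtype_le _) (Or.inl (h1.trans
    (card_of_index H h hc (by norm_num) (by norm_num)))),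
    fun h => m22_no_sub (Subgroup.map_subtype_le _) (Or.inr (h1.trans
    (card_of_index H h hc (by norm_num) (by norm_num))))⟩

end H28
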