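import Mathlib
import Cfsg.Agent.H28.M22sub

/-! `L₂(23)` is maximal in `M24` and `23:11` is maximal in `M23`. -/

set_option autoImplicit false

namespace H28

open Cfsg Finset H9 MulAction
open scoped Pointwise

theorem sylow_count {Γ : Type*} [Group Γ] [Finite Γ] {p : ℕ} (hp : p.Prime) {H P : Subgroup Γ}
    (hPH : P ≤ H) (hP : Nat.card P = p) (h2 : ¬ p * p ∣ Nat.card H) :
    ∃ n, Nat.card H = n * Nat.card ↥(H ⊓ Subgroup.normalizer (P : Set Γ)) ∧ n % p = 1 % p := by
  have := Fact.mk hp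
  have h1 : Nat.card (P.subgroupOf H) = p := by
    rw [Nat.card_congr (Subgroup.subgroupOfEquivOfLe hPH).toEquiv, hP]
  have h3 : ¬ p ∣ (P.subgroupOf H).index := fun h => h2 (by
    rw [← (P.subgroupOf H).index_mul_card, h1]; exact Nat.mul_dvd_mul_right h p)
  let S : Sylow p H := (IsPGroup.of_card (n := 1) (by rw [h1, pow_one])).toSylow h3
  refine ⟨_, ?_, card_sylow_modEq_one p H⟩
  rw [S.card_eq_index_normalizer, ← (Subgroup.normalizer (S : Set H)).index_mul_card]
  congr 1
  have : Subgroup.normalizer (S : Set H) = (Subgroup.normalizer (P : Set Γ)).subgroupOf H :=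
    (Subgroup.subgroupOf_normalizer_eq hPH).symm
  rw [this, ← Subgroup.inf_subgroupOf_left,
    Nat.card_congr (Subgroup.subgroupOfEquivOfLe inf_le_left).toEquiv]

theorem isCoatom_comap {A Γ : Type*} [Group A] [Group Γ] (f : A →* Γ) (hf : Function.Injective f)
    {F G : Subgroup Γ} (hG : f.range = G) (hF : F ≤ G) (hne : F ≠ G)
    (h : ∀ H, F ≤ H → H ≤ G → H = F ∨ H = G) : IsCoatom (F.comap f) := by
  subst hG
  refine ⟨fun e => hne (le_antisymm hF ?_), fun b hb => ?_⟩
  · rintro _ ⟨x, rfl⟩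
    exact (e.ge (Subgroup.mem_top x) : x ∈ F.comap f)
  rcases h (b.map f) ((Subgroup.map_comap_eq_self hF).ge.trans (Subgroup.map_mono hb.le))
    (Subgroup.map_le_range f b) with h | h
  · exact absurd (by rw [← h, Subgroup.comap_map_eq_self_of_injective hf]) hb.ne
  · rw [← Subgroup.comap_map_eq_self_of_injective hf b, h, eq_top_iff]
    exact fun x _ => ⟨x, rfl⟩

theorem code_of (σ : Equiv.Perm GolayPt) (f : ℕ → ℕ) (hf : ∀ i < 24, σ (pt i) = pt (f i))
    (hf' : ∀ i < 24, f i < 24) : validP (mkP f) = true ∧ H9.pm (mkP f) = σ := by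
  have hd : ∀ i < 24, dig (mkP f) i = f i := fun i hi =>
    dig_mkP _ (fun i hi => (hf' i hi).trans (by norm_num)) hi
  have hv : validP (mkP f) = true := by
    rw [validP_iff]
    refine ⟨fun i hi => by rw [hd i hi]; exact hf' i hi,
      fun j hj => ⟨ix (σ.symm (pt j)), ix_lt _, ?_⟩⟩
    rw [hd _ (ix_lt _)]
    apply pt_inj (hf' _ (ix_lt _)) hj
    rw [← hf _ (ix_lt _)]
    simp
  exact ⟨hv, pm_eq hv σ fun p => by rw [hd _ (ix_lt p), ← hf _ (ix_lt p), pt_ix]⟩

theorem isM24_of_mem {c : ℕ} (hc : validP c = true) (h : H9.pm c ∈ M24) : H9.isM24 c = true := by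
  rw [H9.isM24, hc, Bool.true_and, allL_iff]
  intro b hb
  rw [force_eq, ← ofMask_mem_GC_iff (H9.actM_lt hc b), ← pm_smul_ofMask hc]
  exact H9.smul_mem_GC h (basL_mem b hb)

/-- `t ↦ t + 1`. -/
def shc : ℕ := 956302485175575353788796878166559809

/-- `t ↦ -1/t`. -/
def invc : ℕ := 1795248432537898728475572672376535

theorem F_ok : elOK [shc, g11c] 253 = true := by decide +kernel

theorem card_F : Nat.card (cl [shc, g11c]) = 253 := (card_cl F_ok).trans (by decide +kernel)

theorem F_le : cl [shc, g11c] ≤ Stab [23] [] := (gensIn_Stab (by decide +kernel)).cl_le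

theorem P23_ok : elOK [shc] 23 = true := by decide +kernel

theorem Q11_ok : elOK [g11c] 11 = true := by decide +kernel

theorem norm23 : Stab [23] [] ⊓ Subgroup.normalizer (cl [shc] : Set (Equiv.Perm GolayPt)) =
    cl [shc, g11c] := by
  refine le_antisymm ?_ (le_inf F_le (gensIn_norm P23_ok (by decide +kernel)).cl_le)
  rintro h ⟨h1, h2⟩
  have hh : forceL (elems [shc, g11c] 253) (fun L => allL (elems [shc] 23) fun c => allLt 24 fun b =>
      force (mkP fun i => cond (Nat.beq i 23) 23 (Nat.rec b (fun _ r => dig c r) i)) fun d =>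
        !H9.isM24 d || memL L d) = true := by decide +kernel
  rw [forceL_eq] at hh
  obtain ⟨c, c1, -, c3, e⟩ := forall_cl P23_ok _ hh ((h2 _).1 (pm_mem_cl List.mem_cons_self))
  have c4 := (allLt_iff _ _).1 c3 _ (ix_lt (h (pt 0)))
  have hs : ∀ i < 22, H9.pm shc (pt i) = pt (i + 1) := by
    intro i hi
    rw [H9.pm_pt (by decide +kernel) (by omega)]
    revert i
    decide +kernel
  have k : ∀ i < 23, h (pt i) = pt (Nat.rec (ix (h (pt 0))) (fun _ r => dig c r) i) ∧
      (Nat.rec (ix (h (pt 0))) (fun _ r => dig c r) i : ℕ) < 24 := by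
    intro i hi
    induction i with
    | zero => exact ⟨(pt_ix _).symm, ix_lt _⟩
    | succ i ih =>
      obtain ⟨a, b⟩ := ih (by omega)
      refine ⟨?_, dig_lt c1 b⟩
      rw [← hs i (by omega), ← H9.pm_pt c1 b, ← a, e]
      simp
  obtain ⟨d1, d2⟩ := code_of h (fun i => cond (Nat.beq i 23) 23
      (Nat.rec (ix (h (pt 0))) (fun _ r => dig c r) i)) (fun i hi => by
      by_cases e : i = 23
      · rw [e]; exact h1.2.1 23 (by simp)
      · rw [Bool.eq_false_iff.2 fun h => e ((beq_iff _ _).1 h)]; exact (k i (by omega)).1)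
    (fun i hi => by
      by_cases e : i = 23
      · rw [e]; exact (by norm_num : 23 < 24)
      · rw [Bool.eq_false_iff.2 fun h => e ((beq_iff _ _).1 h)]; exact (k i (by omega)).2)
  rw [force_eq, isM24_of_mem d1 (d2.symm ▸ h1.1), Bool.not_true, Bool.false_or, memL_iff] at c4
  exact (mem_cl_iff F_ok).2 ⟨_, c4, d2⟩

theorem norm11 : Nat.card ↥(Stab [23] [] ⊓
    Subgroup.normalizer (cl [g11c] : Set (Equiv.Perm GolayPt))) = 55 := by
  have v11 : GensIn [g11c] (Stab [0, 23] [dod0]) := gensIn_Stab (by decide +kernel)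
  have hv := (v11 _ List.mem_cons_self).1
  have h1 : Stab [23] [] ⊓ Subgroup.normalizer (cl [g11c] : Set (Equiv.Perm GolayPt)) =
      Stab [0, 23] [dod0] ⊓ Subgroup.normalizer (cl [g11c] : Set (Equiv.Perm GolayPt)) := by
    refine le_antisymm (fun h hh => ⟨?_, hh.2⟩) (inf_le_inf_right _ (Stab_mono (by simp) (by simp)))
    have h2 := v11.cl_le ((Subgroup.inv_mem _ hh.2 _).1 (pm_mem_cl List.mem_cons_self))
    rw [inv_inv] at h2
    have h23 : h (pt 23) = pt 23 := hh.1.2.1 23 (by simp)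
    have h3 := (conj_apply_iff _ _ _).1 (h2.2.1 0 (by simp))
    have h4 : ∀ y, H9.pm g11c y = y → y = pt 0 ∨ y = pt 23 := by
      simp only [H9.pm_apply hv]
      decide +kernel
    have h0 : h (pt 0) = pt 0 := (h4 _ h3).resolve_right fun e =>
      absurd (h.injective (e.trans h23.symm)) (by decide)
    have h5 : h ∈ Stab [0, 23] [] := ⟨hh.1.1, by simp [h0, h23], by simp⟩
    have h6 := mem_famL.1 (Om_fix (L := [dod0]) (c := g11c) (by decide +kernel)
      (smul_mem_Om h5 ⟨dod0_mem, by decide +kernel, by decide +kernel⟩)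
      ((conj_smul_eq_iff _ _ _).1 (h2.2.2 dod0 (by simp))))
    exact ⟨h5.1, h5.2.1, by simpa [eq_comm] using h6⟩
  obtain ⟨n, h2, h3⟩ := sylow_count (p := 11) (by norm_num) v11.cl_le
    ((card_cl Q11_ok).trans (by decide +kernel)) (by rw [← Stab_swap, card_c1]; norm_num)
  have h4 := Subgroup.card_dvd_of_le (le_inf v11.cl_le Subgroup.le_normalizer)
  rw [(card_cl Q11_ok).trans (show _ = 11 by decide +kernel)] at h4
  have h5 : Nat.card ↥(Stab [0, 23] [dod0] ⊓
      Subgroup.normalizer (cl [g11c] : Set (Equiv.Perm GolayPt))) ≠ 660 := by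
    intro e
    have := Subgroup.eq_of_le_of_card_ge (inf_le_left : Stab [0, 23] [dod0] ⊓
      Subgroup.normalizer (cl [g11c] : Set (Equiv.Perm GolayPt)) ≤ _)
      (by rw [e, ← Stab_swap, card_c1])
    have ha := gi11a _ List.mem_cons_self
    obtain ⟨c, c1, -, c3, e⟩ := forall_cl Q11_ok (fun c => !Nat.beq
      (mulP c 978042712644977497017376040487033216)
      (mulP 978042712644977497017376040487033216 g11c)) (by decide +kernel)
      (((this.ge (Stab_swap ▸ ha.2)).2 _).1 (pm_mem_cl List.mem_cons_self))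
    rw [code_inj (validP_mulP c1 ha.1) (validP_mulP ha.1 hv) (mulP_lt _ _) (mulP_lt _ _)
      (by rw [pm_mulP c1 ha.1, pm_mulP ha.1 hv, e]; simp), Nat.beq_refl] at c3
    exact absurd c3 (by simp)
  rw [h1]
  rw [← Stab_swap, card_c1, Stab_swap] at h2
  obtain ⟨s, hs⟩ := h4
  rw [hs] at h2 h5 ⊢
  have : s ≤ 60 := Nat.le_of_dvd (by norm_num) ⟨n, by nlinarith⟩
  interval_cases s <;> omega

theorem F_max (H : Subgroup (Equiv.Perm GolayPt)) (h1 : cl [shc, g11c] ≤ H)
    (h2 : H ≤ Stab [23] []) : H = cl [shc, g11c] ∨ H = Stab [23] [] := by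
  have hd := Subgroup.card_dvd_of_le h2
  rw [card_s1] at hd
  have v : GensIn [shc, g11c] H := fun c hc =>
    ⟨((gensIn_Stab (pts := [23]) (sets := []) (by decide +kernel)) c hc).1, h1 (pm_mem_cl hc)⟩
  obtain ⟨m, a1, a2⟩ := sylow_count (p := 23) (H := H) (P := cl [shc]) (by norm_num)
    (GensIn.cl_le fun c hc => v c (by simp at hc; simp [hc]))
    ((card_cl P23_ok).trans (by decide +kernel)) (fun h => absurd (h.trans hd) (by norm_num))
  obtain ⟨n, b1, b2⟩ := sylow_count (p := 11) (H := H) (P := cl [g11c]) (by norm_num)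
    (GensIn.tail' v).cl_le
    ((card_cl Q11_ok).trans (by decide +kernel)) (fun h => absurd (h.trans hd) (by norm_num))
  have a3 : H ⊓ Subgroup.normalizer (cl [shc] : Set (Equiv.Perm GolayPt)) = cl [shc, g11c] :=
    le_antisymm ((inf_le_inf_right _ h2).trans norm23.le)
      (le_inf h1 (norm23.ge.trans inf_le_right))
  have b3 := Subgroup.card_dvd_of_le (inf_le_inf_right
    (Subgroup.normalizer (cl [g11c] : Set (Equiv.Perm GolayPt))) h2)
  have b4 := Subgroup.card_dvd_of_le (le_inf (GensIn.tail' v).cl_le Subgroup.le_normalizer)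
  rw [(card_cl Q11_ok).trans (show _ = 11 by decide +kernel)] at b4
  rw [norm11] at b3
  rw [a3, card_F] at a1
  have c1 : m ∣ 40320 := by
    rw [a1, show 10200960 = 40320 * 253 by norm_num] at hd
    exact Nat.dvd_of_mul_dvd_mul_right (by norm_num) hd
  have c2 : m % 11 = 1 ∨ m % 11 = 5 := by
    generalize Nat.card ↥(H ⊓ Subgroup.normalizer (cl [g11c] : Set (Equiv.Perm GolayPt))) = s
      at b1 b3 b4
    have := Nat.le_of_dvd (by norm_num) b3
    obtain ⟨t, rfl⟩ := b4
    have : t ≤ 5 := by omega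
    interval_cases t <;> omega
  have c3 : m = 1 ∨ m = 40320 := by
    have hh : allLt 1754 (fun k => force (23 * k + 1) fun m => !Nat.beq (40320 % m) 0 ||
        (!Nat.beq (m % 11) 1 && !Nat.beq (m % 11) 5) || Nat.beq m 1 || Nat.beq m 40320) = true := by
      decide +kernel
    have := Nat.le_of_dvd (by norm_num) c1
    have h := (allLt_iff _ _).1 hh (m / 23) (by omega)
    rw [force_eq, show 23 * (m / 23) + 1 = m by omega, Nat.eq_zero_of_dvd_of_lt
      ((Nat.dvd_mod_iff dvd_rfl).2 c1) (Nat.mod_lt _ (by omega))] at h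
    rcases c2 with c2 | c2 <;> simpa [c2, beq_iff] using h
  rcases c3 with rfl | rfl
  · exact Or.inl (Subgroup.eq_of_le_of_card_ge h1 (by rw [card_F, a1])).symm
  · exact Or.inr (Subgroup.eq_of_le_of_card_ge h2 (by rw [card_s1, a1]))

theorem L_le : cl [shc, invc, g11c] ≤ M24 := (gensIn_M24 (by decide +kernel)).cl_le

theorem F_le_L : cl [shc, g11c] ≤ cl [shc, invc, g11c] :=
  Subgroup.closure_mono fun _ ⟨c, hc, e⟩ => ⟨c, by simp at hc; rcases hc with h | h <;> simp [h], e⟩

theorem L_stab : cl [shc, invc, g11c] ⊓ stabilizer _ (pt 23) = cl [shc, g11c] := by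
  refine (F_max _ (le_inf F_le_L fun g hg => (F_le hg).2.1 23 (by simp))
    fun g hg => ⟨L_le hg.1, by simpa using hg.2, by simp⟩).resolve_right fun e => ?_
  have v : GensIn [shc, invc, g11c] M24 := gensIn_M24 (by decide +kernel)
  have hh : force (orbCw [shc, invc, g11c] dod0) (fun B => tb B (dod0 % 4096) &&
      !tb B (H9.actM 955837927910459063655794781286600258 dod0 % 4096) &&
      treeAll (fun m => !tb B m || allL [shc, invc, g11c] fun c =>
        tb B (H9.actM c (cw m) % 4096)) 12 0) = true := by decide +kernel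
  rw [force_eq, Bool.and_eq_true, Bool.and_eq_true, treeAll_iff] at hh
  generalize orbCw [shc, invc, g11c] dod0 = B at hh
  have ha := gi23 _ List.mem_cons_self
  obtain ⟨n, n1, n2, n3⟩ := cl_ind (fun g => ∃ n, isCw n = true ∧ tb B (n % 4096) = true ∧
      g • ofMask dod0 = ofMask n) ⟨dod0, by decide +kernel, hh.1.1, one_smul _ _⟩
    (fun c hc g ⟨n, n1, n2, n3⟩ => ⟨H9.actM c n, by
      rw [← ofMask_mem_GC_iff (H9.actM_lt (v c hc).1 _), ← pm_smul_ofMask (v c hc).1]
      exact H9.smul_mem_GC (v c hc).2 (mem_GC_of_isCw n1), by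
      have := hh.2 (n % 4096) (Nat.mod_lt _ (by norm_num))
      rw [n2, cw_mod, isCw_iff_eq.1 n1, Bool.not_true, Bool.false_or, allL_iff] at this
      exact this c hc, by rw [mul_smul, n3, pm_smul_ofMask (v c hc).1]⟩) (e.ge ha.2).1
  rw [pm_smul_ofMask ha.1] at n3
  rw [ofMask_inj (H9.actM_lt ha.1 _) (lt_of_isCw n1) n3, n2] at hh
  exact absurd hh.1.2 (by simp)

theorem L_trans : orbF (cl [shc, invc, g11c]) (pt 23) = univ := by
  rw [eq_univ_iff_forall]
  intro y
  exact mem_orbF.2 ((gensIn_M24 (by decide +kernel)).self.orbPt (by decide) y (by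
    rw [show orbPt [shc, invc, g11c] 23 = 16777215 by decide +kernel, ofMask_full]
    exact mem_univ y))

theorem card_L : Nat.card (cl [shc, invc, g11c]) = 6072 := by
  rw [card_orbF _ (pt 23), L_trans, L_stab, card_F, card_univ, card_golayPt]

theorem L_max (H : Subgroup (Equiv.Perm GolayPt)) (h1 : cl [shc, invc, g11c] ≤ H) (h2 : H ≤ M24) :
    H = cl [shc, invc, g11c] ∨ H = M24 := by
  have tr : ∀ y, ∃ k ∈ cl [shc, invc, g11c], k • pt 23 = y := fun y =>
    mem_orbF.1 (L_trans ▸ mem_univ y)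
  rcases F_max (H ⊓ stabilizer _ (pt 23))
    (le_inf (F_le_L.trans h1) fun g hg => (F_le hg).2.1 23 (by simp))
    (fun g hg => ⟨h2 hg.1, by simpa using hg.2, by simp⟩) with h | h
  · exact Or.inl (le_antisymm (le_of_orbit_of_stab h1 (pt 23) (fun g _ => tr _)
      (h.le.trans F_le_L)) h1)
  · refine Or.inr (le_antisymm h2 (le_of_orbit_of_stab h2 (pt 23) (fun g _ => ?_) ?_))
    · obtain ⟨k, hk, e⟩ := tr (g • pt 23)
      exact ⟨k, h1 hk, e⟩
    · rw [← Stab_nil, Stab_cons_pt, ← h]
      exact inf_le_left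

theorem closure_sq : Subgroup.closure {g : Equiv.Perm GolayPt | ∃ u : (ZMod 23)ˣ, IsSquare u ∧
    g = Equiv.optionCongr (Units.mulLeft u)} = cl [g11c] := by
  apply le_antisymm
  · rw [Subgroup.closure_le]
    rintro _ ⟨_, ⟨r, rfl⟩, rfl⟩
    have h1 : ∀ r : ZMod 23, r ≠ 0 → mulCode (r * r).val ∈ elems [g11c] 11 := by decide +kernel
    have : Fact (Nat.Prime 23) := ⟨by norm_num⟩
    exact (mem_cl_iff Q11_ok).2 ⟨_, h1 r r.ne_zero, pm_mulCode (r * r)⟩
  · rw [cl, Subgroup.closure_le]
    rintro _ ⟨c, hc, rfl⟩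
    rw [List.mem_singleton.1 hc]
    refine Subgroup.subset_closure ⟨⟨5, 14, by decide, by decide⟩ * ⟨5, 14, by decide, by decide⟩,
      ⟨_, rfl⟩, ?_⟩
    rw [← pm_mulCode]
    congr 1

theorem closure_F : Subgroup.closure ({Equiv.optionCongr (Equiv.addRight (1 : ZMod 23))} ∪
    {g : Equiv.Perm GolayPt | ∃ u : (ZMod 23)ˣ, IsSquare u ∧
      g = Equiv.optionCongr (Units.mulLeft u)}) = cl [shc, g11c] := by
  rw [Subgroup.closure_union, closure_sq, cl_cons shc, ← Subgroup.zpowers_eq_closure, ← pm_shift]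
  rfl

theorem closure_L : Subgroup.closure ({Equiv.optionCongr (Equiv.addRight (1 : ZMod 23)), projInv} ∪
    {g : Equiv.Perm GolayPt | ∃ u : (ZMod 23)ˣ, IsSquare u ∧
      g = Equiv.optionCongr (Units.mulLeft u)}) = cl [shc, invc, g11c] := by
  rw [Subgroup.closure_union, closure_sq, cl_cons shc, cl_cons invc, ← sup_assoc,
    Subgroup.zpowers_eq_closure, Subgroup.zpowers_eq_closure, ← Subgroup.closure_union, ← pm_shift,
    ← pm_projInv]
  rfl

theorem L_coatom : IsCoatom ((cl [shc, invc, g11c]).subgroupOf M24) :=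
  isCoatom_comap _ M24.subtype_injective M24.range_subtype L_le
    (fun e => by have := card_L; rw [e, card_M24] at this; omega) L_max

theorem F_coatom : IsCoatom (((cl [shc, g11c]).subgroupOf M24).subgroupOf
    (stabilizer M24 (none : GolayPt))) :=
  isCoatom_comap (M24.subtype.comp (stabilizer M24 (none : GolayPt)).subtype)
    (M24.subtype_injective.comp (Subgroup.subtype_injective _)) (G := Stab [23] []) (by
      ext g
      constructor
      · rintro ⟨x, rfl⟩
        exact ⟨x.1.2, fun i hi => by rw [List.mem_singleton.1 hi]; exact x.2, by simp⟩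
      · intro hg
        exact ⟨⟨⟨g, hg.1⟩, hg.2.1 23 (by simp)⟩, rfl⟩) F_le
    (fun e => by have := card_F; rw [e, card_s1] at this; omega) F_max

end H28
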