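import Mathlib
import Cfsg.Agent.H9.LB1
import Cfsg.Agent.H10.U43P

/-!
# The subgroups `3 ^ 4 < 3 ^ 4 : A₆` and `D₈` of `U₄(3)`, from relations between words
-/

set_option autoImplicit false
set_option maxRecDepth 100000
set_option Elab.async false
set_option linter.all false

namespace H28.LU

open H29 Subgroup
open H9.R (clo_ind imp imp_true or2 or2_true)

variable {U : Type*} [Group U] (y : ℕ → U)

def e4 (i j k l : ℕ) : U := y 0 ^ i * y 1 ^ j * y 2 ^ k * y 3 ^ l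
def dg (n i : ℕ) : ℕ := n / 3 ^ i % 3
def ep (n : ℕ) : U := e4 y (dg n 0) (dg n 1) (dg n 2) (dg n 3)
def cw (n : ℕ) : List ℕ := List.replicate (dg n 0) 0 ++ List.replicate (dg n 1) 1 ++
  List.replicate (dg n 2) 2 ++ List.replicate (dg n 3) 3

theorem ev_rep (c : ℕ) : ∀ k, ev y (List.replicate k c) = y c ^ k
  | 0 => by simp
  | k + 1 => by rw [List.replicate_succ, ev_cons, ev_rep c k, pow_succ']

theorem ev_cw (n : ℕ) : ev y (cw n) = ep y n := by simp only [cw, ev_append, ev_rep, ep, e4]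

def TB : ℕ := 0xa962eedcba50a53c4850d8b2600c2053e80f0c1a3a6cb991a3c566d1a880c1d0a246447909f4271a3065ebe78a95ac3a6ce0a1626449944ca126cddc264895fc082bd6ae020805082ee1bd92da5c584f24389b1e7c074de6469cfdcc47d2959c62799a45ea51a06a9972844a8db05a9d0ac3ac8fb44a1890c2e4410a0864b100224198105070b0a683931a54780
/-- The action of the letters `4`, `5` on codes. -/
def T (c n : ℕ) : ℕ := Nat.land (Nat.shiftRight TB (Nat.mul 7 (Nat.add (Nat.mul 81 (Nat.sub c 4)) n))) 127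
noncomputable def act (w : List ℕ) (n : ℕ) : ℕ := List.rec (motive := fun _ => ℕ) n (fun c _ ih => seqN ih (T c)) w
theorem act_cons (c : ℕ) (w : List ℕ) (n : ℕ) : act (c :: w) n = T c (act w n) := seqN_eq _ _

theorem cT : ∀ c ∈ [4, 5], ∀ n < 81, T c n < 81 ∧ ∀ j < 4, dg (T c n) j =
    (dg n 0 * dg (T c 1) j + dg n 1 * dg (T c 3) j + dg n 2 * dg (T c 9) j + dg n 3 * dg (T c 27) j) % 3 := by
  decide +kernel

def lin (s0 s1 s2 s3 : ZMod 3) (n : ℕ) : ZMod 3 :=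
  (dg n 0 : ℕ) * s0 + (dg n 1 : ℕ) * s1 + (dg n 2 : ℕ) * s2 + (dg n 3 : ℕ) * s3

def WH : List (List ℕ) := [[], [4], [5], [5, 4], [4, 5], [5, 5], [4, 5, 4], [5, 5, 4], [5, 4, 5], [4, 5, 5],
  [5, 5, 5], [5, 4, 5, 4], [4, 5, 5, 4], [5, 5, 5, 4], [4, 5, 4, 5], [5, 5, 4, 5], [5, 4, 5, 5], [4, 5, 5, 5],
  [4, 5, 4, 5, 4], [5, 5, 4, 5, 4], [5, 4, 5, 5, 4], [4, 5, 5, 5, 4]]
def TV : List ℕ := [1, 3, 9, 27, 4, 7, 10, 19, 28, 55, 12, 21, 30, 57, 36, 63]

theorem cH : ∀ s0 s1 s2 s3 : ZMod 3, (s0 = 0 ∧ s1 = 0 ∧ s2 = 0 ∧ s3 = 0) ∨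
    7 ≤ (WH.map fun w => TV.map fun n => decide (lin s0 s1 s2 s3 (act w n) = 0)).dedup.length := by
  decide +kernel

/-- The alternating form with the six given values. -/
def bf (a b c d e f : ZMod 3) (n m : ℕ) : ZMod 3 :=
  lin (lin 0 a b c m) (lin (-a) 0 d e m) (lin (-b) (-d) 0 f m) (lin (-c) (-e) (-f) 0 m) n

theorem cA : ∀ a b c d e f : ZMod 3, (∀ t ∈ [4, 5], bf a b c d e f (T t 1) (T t 3) = a ∧
    bf a b c d e f (T t 1) (T t 9) = b ∧ bf a b c d e f (T t 1) (T t 27) = c ∧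
    bf a b c d e f (T t 3) (T t 9) = d ∧ bf a b c d e f (T t 3) (T t 27) = e ∧
    bf a b c d e f (T t 9) (T t 27) = f) → a = 0 ∧ b = 0 ∧ c = 0 ∧ d = 0 ∧ e = 0 ∧ f = 0 := by
  decide +kernel

def a2 (c m : ℕ) : ℕ := Nat.add (Nat.mul 81 (T c (Nat.div m 81))) (T c (Nat.mod m 81))

theorem cI : 360 ≤ popc 13 (H9.orbSet a2 (fun m => m) [4, 5] 400 253) := by decide +kernel


/-! ### The oracles -/

def wl : List (List ℕ) := [[3, 3, 0], [3, 4, 0, 2], [5, 3, 3, 0, 5], [4, 3, 3, 0, 4], [2, 0, 4, 0, 5, 4, 0, 3],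
  [5, 0, 4, 3, 3, 0, 2, 5], [2, 4, 2, 2, 1, 5, 3, 4, 2, 1], [2, 4, 2, 2, 0, 2, 4, 2, 2, 0], [0], [1], [2], [3],
  [4], [5]]
noncomputable def nets : ℕ → Net := wNets (nth Net.nil H10.U43T0.nl) wl
theorem hn : NetsOK 280 nets := H10.U43T0.hn.wNets wl
noncomputable def EQ (u v : List ℕ) : Bool := allN 9 (chkEq 280 9 nets u v)
noncomputable def IM (u : List ℕ) : ℕ :=
  pullW nets u 0xd5e3415c6e433715ba2bdd177219d30e7a269fd95bafc8f2a4d27bdcf4bb99f4bea973

def wT : List (List ℕ) := [[0, 0, 6, 2, 6], [6, 2, 2, 6, 0], [6, 3, 1, 5, 4, 6, 4, 0, 6, 4, 0],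
  [6, 3, 6, 3, 6, 4, 2, 0, 6, 5, 1], [6, 0, 4, 6, 5, 2, 5, 4, 6], [6, 1, 6, 2, 4, 6, 1, 6, 0]]
def wP : List (List ℕ × List ℕ) := [([5], [0]), ([5, 5], [1]), ([4, 5], [0, 0, 3]), ([5], [0, 0, 2]),
  ([5, 4, 5, 4, 5, 5], [4, 5, 5, 4, 5, 4, 5]), ([4, 5, 4], [4, 5, 5, 4, 5, 4, 5, 5, 4, 5])]
def wD : List (List ℕ) := [[], [5], [7], [5, 5], [7, 5], [5, 7], [5, 5, 5], [7, 5, 5]]

theorem q1 : ∀ i < 4, EQ [i, i, i] [] = true ∧ (∀ j < 4, EQ [i, j] [j, i] = true) ∧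
    ∀ c ∈ [4, 5], EQ [c, i] (cw (T c (3 ^ i)) ++ [c]) = true := by decide +kernel
theorem q2 : ∀ i < 6, EQ [8 + i] (nth [] wT i) = true ∧ (∀ c ∈ nth [] wT i, c < 7) ∧
    EQ ((nth ([], []) wP i).1 ++ (nth ([], []) wP i).2) (i :: ((nth ([], []) wP i).2 ++ (nth ([], []) wP i).1)) = true ∧
    ∀ c ∈ (nth ([], []) wP i).1 ++ (nth ([], []) wP i).2, c ∈ [0, 1, 2, 3, 4, 5] := by decide +kernel
theorem q3 : EQ [7] [4, 5, 5, 5, 4, 5, 4, 5, 5, 4, 5, 4, 5, 5, 4] = true ∧ EQ [6, 6] [] = true ∧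
    EQ [6, 5] [5, 6] = true ∧ EQ [6, 7] [7, 6] = true ∧ EQ (powW 3 (6 :: cw 30)) [] = true ∧
    EQ (powW 5 (6 :: cw 4)) [] = true ∧ EQ (powW 9 (6 :: cw 10)) [] = true ∧
    IM (powW 3 (6 :: cw 10)) ≠ IM [] := by decide +kernel
theorem q4 : (∀ w ∈ wD, ∀ c ∈ [5, 7], ∃ v ∈ wD, EQ (w ++ [c]) v = true) ∧ (wD.map IM).Nodup := by
  decide +kernel
theorem q5 : ((List.range 81).map fun n => IM (cw n)).Nodup := by decide +kernel


theorem m45 : ∀ c ∈ [4, 5], c ∈ [0, 1, 2, 3, 4, 5] := by decide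

/-- The letters satisfy the relations, and only these. -/
structure OK : Prop where
  eq : ∀ {u v}, EQ u v = true → ev y u = ev y v
  im : ∀ {u v}, ev y u = ev y v → IM u = IM v

variable {y}

namespace OK

variable (h : OK y)
include h

theorem c3 {i : ℕ} (hi : i < 4) : y i ^ 3 = 1 := by
  simpa [pow_succ, mul_assoc] using h.eq (q1 i hi).1
theorem cm {i j : ℕ} (hi : i < 4) (hj : j < 4) : Commute (y i) (y j) := by
  simpa [Commute, SemiconjBy] using h.eq ((q1 i hi).2.1 j hj)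

theorem e4_mul (i j k l i' j' k' l' : ℕ) :
    e4 y i j k l * e4 y i' j' k' l' = e4 y (i + i') (j + j') (k + k') (l + l') := by
  have c := fun a b (ha : a < 4) (hb : b < 4) m n => (h.cm ha hb).pow_pow m n
  simp only [e4, pow_add]
  rw [Commute.mul_mul_mul_comm, Commute.mul_mul_mul_comm (a := y 0 ^ i * y 1 ^ j), Commute.mul_mul_mul_comm (a := y 0 ^ i)]
  · exact c 1 0 (by decide) (by decide) _ _
  · exact (c 2 0 (by decide) (by decide) _ _).mul_right (c 2 1 (by decide) (by decide) _ _)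
  · exact ((c 3 0 (by decide) (by decide) _ _).mul_right (c 3 1 (by decide) (by decide) _ _)).mul_right
      (c 3 2 (by decide) (by decide) _ _)

theorem e4_pow (i j k l : ℕ) : ∀ n, e4 y i j k l ^ n = e4 y (n * i) (n * j) (n * k) (n * l)
  | 0 => by simp [e4]
  | n + 1 => by rw [pow_succ, e4_pow i j k l n, h.e4_mul]; simp only [Nat.succ_mul]

theorem e4_mod (i j k l : ℕ) : e4 y i j k l = e4 y (i % 3) (j % 3) (k % 3) (l % 3) := by
  simp only [e4]
  rw [pow_eq_pow_mod i (h.c3 (by decide)), pow_eq_pow_mod j (h.c3 (by decide)),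
    pow_eq_pow_mod k (h.c3 (by decide)), pow_eq_pow_mod l (h.c3 (by decide))]

omit h in
theorem e4_mem (i j k l : ℕ) : e4 y i j k l ∈ gen y [0, 1, 2, 3] :=
  mul_mem (mul_mem (mul_mem (pow_mem (mem_gen (by decide)) _) (pow_mem (mem_gen (by decide)) _))
    (pow_mem (mem_gen (by decide)) _)) (pow_mem (mem_gen (by decide)) _)

omit h in
theorem ep_mem (n : ℕ) : ep y n ∈ gen y [0, 1, 2, 3] := e4_mem _ _ _ _

theorem ex_ep [Finite U] {a : U} (ha : a ∈ gen y [0, 1, 2, 3]) : ∃ n < 81, a = ep y n := by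
  have : ∃ i j k l, a = e4 y i j k l := by
    refine clo_ind (p := fun a => ∃ i j k l, a = e4 y i j k l) ⟨0, 0, 0, 0, by simp [e4]⟩ ?_ ha
    rintro x _ ⟨c, hc, rfl⟩ ⟨i, j, k, l, rfl⟩
    have : ∃ i j k l, y c = e4 y i j k l := by
      simp only [Set.mem_setOf_eq, List.mem_cons, List.not_mem_nil, or_false] at hc
      rcases hc with rfl | rfl | rfl | rfl
      exacts [⟨1, 0, 0, 0, by simp [e4]⟩, ⟨0, 1, 0, 0, by simp [e4]⟩, ⟨0, 0, 1, 0, by simp [e4]⟩,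
        ⟨0, 0, 0, 1, by simp [e4]⟩]
    obtain ⟨i', j', k', l', e⟩ := this
    exact ⟨_, _, _, _, by rw [e, h.e4_mul]⟩
  obtain ⟨i, j, k, l, rfl⟩ := this
  refine ⟨i % 3 + 3 * (j % 3) + 9 * (k % 3) + 27 * (l % 3), by omega, ?_⟩
  rw [h.e4_mod, ep]
  congr 1 <;> simp only [dg] <;> omega

theorem ep_inj {n m : ℕ} (hn : n < 81) (hm : m < 81) (e : ep y n = ep y m) : n = m :=
  List.inj_on_of_nodup_map q5 (List.mem_range.2 hn) (List.mem_range.2 hm)
    (h.im (by rw [ev_cw, ev_cw, e]))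

theorem comm [Finite U] {a b : U} (ha : a ∈ gen y [0, 1, 2, 3]) (hb : b ∈ gen y [0, 1, 2, 3]) : a * b = b * a := by
  obtain ⟨n, -, rfl⟩ := h.ex_ep ha
  obtain ⟨m, -, rfl⟩ := h.ex_ep hb
  simp only [ep, h.e4_mul, add_comm]

theorem cardE [Finite U] : Nat.card (gen y [0, 1, 2, 3]) = 81 := by
  have : (gen y [0, 1, 2, 3] : Set U) = ep y '' (Finset.range 81 : Finset ℕ) := Set.ext fun a =>
    ⟨fun ha => let ⟨n, h1, h2⟩ := h.ex_ep ha; ⟨n, by simpa using h1, h2.symm⟩, by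
      rintro ⟨n, -, rfl⟩; exact ep_mem n⟩
  rw [← SetLike.coe_sort_coe, this, Nat.card_coe_set_eq, Set.InjOn.ncard_image fun a ha b hb =>
    h.ep_inj (by simpa using ha) (by simpa using hb), Set.ncard_coe_finset, Finset.card_range]

theorem cj {c n : ℕ} (hc : c ∈ [4, 5]) (hn : n < 81) : y c * ep y n * (y c)⁻¹ = ep y (T c n) := by
  have k : ∀ i < 4, MulAut.conj (y c) (y i) = ep y (T c (3 ^ i)) := fun i hi => by
    have := h.eq ((q1 i hi).2.2 c hc)
    simp only [ev_cons, ev_nil, mul_one, ev_append, ev_cw] at this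
    rw [MulAut.conj_apply, this, mul_inv_cancel_right]
  obtain ⟨-, h2⟩ := cT c hc n hn
  rw [← MulAut.conj_apply, ep, e4, map_mul, map_mul, map_mul, map_pow, map_pow, map_pow, map_pow,
    k 0 (by decide), k 1 (by decide), k 2 (by decide), k 3 (by decide)]
  simp only [ep, h.e4_pow, h.e4_mul]
  rw [h.e4_mod, h2 0 (by decide), h2 1 (by decide), h2 2 (by decide), h2 3 (by decide)]
  rfl

theorem cjw : ∀ {w : List ℕ}, (∀ c ∈ w, c ∈ [4, 5]) → ∀ {n}, n < 81 →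
    act w n < 81 ∧ ev y w * ep y n * (ev y w)⁻¹ = ep y (act w n)
  | [], _, n, hn => ⟨hn, by simp [show act [] n = n from rfl]⟩
  | c :: w, hw, n, hn => by
    obtain ⟨h1, h2⟩ := cjw (w := w) (fun c hc => hw c (by simp [hc])) hn
    rw [act_cons, ← h.cj (hw c (by simp)) h1, ← h2, ev_cons]
    exact ⟨(cT c (hw c (by simp)) _ h1).1, by group⟩

theorem norm [Finite U] {g : U} (hg : g ∈ gen y [0, 1, 2, 3, 4, 5]) :
    ∀ a ∈ gen y [0, 1, 2, 3], g * a * g⁻¹ ∈ gen y [0, 1, 2, 3] := by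
  refine clo_ind (p := fun g => ∀ a ∈ gen y [0, 1, 2, 3], g * a * g⁻¹ ∈ gen y [0, 1, 2, 3])
    (by simp) ?_ hg
  rintro x _ ⟨c, hc, rfl⟩ hx a ha
  rw [show x * y c * a * (x * y c)⁻¹ = x * (y c * a * (y c)⁻¹) * x⁻¹ by group]
  refine hx _ ?_
  by_cases h1 : c ∈ [0, 1, 2, 3]
  · exact mul_mem (mul_mem (mem_gen h1) ha) (inv_mem (mem_gen h1))
  · obtain ⟨n, hn, rfl⟩ := h.ex_ep ha
    rw [h.cj ((by decide : ∀ c ∈ [0, 1, 2, 3, 4, 5], c ∉ [0, 1, 2, 3] → c ∈ [4, 5]) c hc h1) hn]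
    exact ep_mem _

omit h in
theorem add_ep {f : U → ZMod 3} (hf : ∀ a ∈ gen y [0, 1, 2, 3], ∀ b ∈ gen y [0, 1, 2, 3], f (a * b) = f a + f b)
    (n : ℕ) : f (ep y n) = lin (f (y 0)) (f (y 1)) (f (y 2)) (f (y 3)) n := by
  have k : ∀ c ∈ [0, 1, 2, 3], ∀ m : ℕ, f (y c ^ m) = m * f (y c) := fun c hc m => by
    induction m with
    | zero => simpa using hf 1 (one_mem _) 1 (one_mem _)
    | succ m ih => rw [pow_succ, hf _ (pow_mem (mem_gen hc) _) _ (mem_gen hc), ih]; push_cast; ring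
  have p := fun c (hc : c ∈ [0, 1, 2, 3]) (m : ℕ) => pow_mem (mem_gen (e := y) hc) m
  rw [ep, e4, hf _ (mul_mem (mul_mem (p 0 (by decide) _) (p 1 (by decide) _)) (p 2 (by decide) _)) _
    (p 3 (by decide) _), hf _ (mul_mem (p 0 (by decide) _) (p 1 (by decide) _)) _ (p 2 (by decide) _),
    hf _ (p 0 (by decide) _) _ (p 1 (by decide) _), k 0 (by decide), k 1 (by decide), k 2 (by decide),
    k 3 (by decide), lin]

omit h in
theorem ep_pow : ep y 1 = y 0 ∧ ep y 3 = y 1 ∧ ep y 9 = y 2 ∧ ep y 27 = y 3 := by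
  simp [ep, e4, dg]

theorem alt [Finite U] (f : U → U → ZMod 3)
    (h1 : ∀ a ∈ gen y [0, 1, 2, 3], ∀ b ∈ gen y [0, 1, 2, 3], ∀ e ∈ gen y [0, 1, 2, 3], f a (b * e) = f a b + f a e)
    (h2 : ∀ a ∈ gen y [0, 1, 2, 3], ∀ b ∈ gen y [0, 1, 2, 3], ∀ e ∈ gen y [0, 1, 2, 3], f (a * b) e = f a e + f b e)
    (h3 : ∀ a ∈ gen y [0, 1, 2, 3], f a a = 0)
    (h4 : ∀ g ∈ gen y [0, 1, 2, 3, 4, 5], ∀ a ∈ gen y [0, 1, 2, 3], ∀ b ∈ gen y [0, 1, 2, 3],
      f (g * a * g⁻¹) (g * b * g⁻¹) = f a b) :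
    ∀ a ∈ gen y [0, 1, 2, 3], ∀ b ∈ gen y [0, 1, 2, 3], f a b = 0 := by
  have m : ∀ c ∈ [0, 1, 2, 3], y c ∈ gen y [0, 1, 2, 3] := fun c hc => mem_gen hc
  have a : ∀ a ∈ [0, 1, 2, 3], ∀ b ∈ [0, 1, 2, 3], f (y b) (y a) = -f (y a) (y b) := fun a ha b hb => by
    have := h3 _ (mul_mem (m a ha) (m b hb))
    rw [h2 _ (m a ha) _ (m b hb) _ (mul_mem (m a ha) (m b hb)), h1 _ (m a ha) _ (m a ha) _ (m b hb),
      h1 _ (m b hb) _ (m a ha) _ (m b hb), h3 _ (m a ha), h3 _ (m b hb)] at this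
    linear_combination this
  have k : ∀ n l, f (ep y n) (ep y l) = bf (f (y 0) (y 1)) (f (y 0) (y 2)) (f (y 0) (y 3)) (f (y 1) (y 2))
      (f (y 1) (y 3)) (f (y 2) (y 3)) n l := fun n l => by
    rw [add_ep (f := fun u => f u (ep y l)) fun a ha b hb => h2 a ha b hb _ (ep_mem l),
      add_ep (f := f (y 0)) (h1 _ (m 0 (by decide))), add_ep (f := f (y 1)) (h1 _ (m 1 (by decide))),
      add_ep (f := f (y 2)) (h1 _ (m 2 (by decide))), add_ep (f := f (y 3)) (h1 _ (m 3 (by decide))),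
      h3 _ (m 0 (by decide)), h3 _ (m 1 (by decide)), h3 _ (m 2 (by decide)), h3 _ (m 3 (by decide)),
      a 0 (by decide) 1 (by decide), a 0 (by decide) 2 (by decide), a 0 (by decide) 3 (by decide),
      a 1 (by decide) 2 (by decide), a 1 (by decide) 3 (by decide), a 2 (by decide) 3 (by decide), bf]
  have k2 : ∀ t ∈ [4, 5], ∀ n < 81, ∀ l < 81, f (ep y (T t n)) (ep y (T t l)) = f (ep y n) (ep y l) :=
    fun t ht n hn l hl => by
      rw [← h.cj ht hn, ← h.cj ht hl, h4 _ (mem_gen (by revert t; decide)) _ (ep_mem _) _ (ep_mem _)]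
  obtain ⟨p0, p1, p2, p3⟩ := ep_pow (y := y)
  obtain ⟨z1, z2, z3, z4, z5, z6⟩ := cA (f (y 0) (y 1)) (f (y 0) (y 2)) (f (y 0) (y 3)) (f (y 1) (y 2))
    (f (y 1) (y 3)) (f (y 2) (y 3)) fun t ht => by
      simp only [← k, k2 t ht 1 (by decide) 3 (by decide), k2 t ht 1 (by decide) 9 (by decide),
        k2 t ht 1 (by decide) 27 (by decide), k2 t ht 3 (by decide) 9 (by decide),
        k2 t ht 3 (by decide) 27 (by decide), k2 t ht 9 (by decide) 27 (by decide), p0, p1, p2, p3, and_self]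
  intro u hu v hv
  obtain ⟨n, -, rfl⟩ := h.ex_ep hu
  obtain ⟨l, -, rfl⟩ := h.ex_ep hv
  simp [k, z1, z2, z3, z4, z5, z6, bf, lin]

theorem idx [Finite U] :
    360 ≤ (centralizer (gen y [0, 1, 2, 3] : Set U)).relIndex (gen y [0, 1, 2, 3, 4, 5]) := by
  let Q : ℕ → Prop := fun m => m / 81 < 81 ∧ ∃ g ∈ gen y [0, 1, 2, 3, 4, 5],
    g * ep y 3 * g⁻¹ = ep y (m / 81) ∧ g * ep y 10 * g⁻¹ = ep y (m % 81)
  have h1 : 360 ≤ {m | Q m}.ncard := by
    refine cI.trans (popc_le_ncard ((Set.finite_lt_nat 6561).subset fun m hm => ?_) fun i hi => ?_)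
    · have := hm.1
      change m < 6561
      omega
    · obtain ⟨m, h2, rfl⟩ := H9.orbSet_sound _ _ _ _ _ Q ⟨by decide, 1, one_mem _, by simp⟩ (by
        rintro c hc m ⟨h2, g, hg, h3, h4⟩
        have h5 : m % 81 < 81 := Nat.mod_lt _ (by decide)
        have h6 := (cT c hc _ h2).1
        have h7 := (cT c hc _ h5).1
        have e1 : a2 c m / 81 = T c (m / 81) := by
          change (81 * T c (m / 81) + T c (m % 81)) / 81 = _; omega
        have e2 : a2 c m % 81 = T c (m % 81) := by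
          change (81 * T c (m / 81) + T c (m % 81)) % 81 = _; omega
        refine ⟨e1 ▸ h6, y c * g, mul_mem (mem_gen (m45 c hc)) hg, ?_, ?_⟩
        · rw [e1, ← h.cj hc h2, ← h3]; group
        · rw [e2, ← h.cj hc h5, ← h4]; group) i hi
      exact h2
  refine h1.trans ?_
  rw [← Nat.card_coe_set_eq]
  have h2 : ∀ m : {m | Q m}, ∃ g : gen y [0, 1, 2, 3, 4, 5],
      (g : U) * ep y 3 * (g : U)⁻¹ = ep y (m / 81) ∧ (g : U) * ep y 10 * (g : U)⁻¹ = ep y (m % 81) :=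
    fun m => let ⟨g, h1, h2⟩ := m.2.2; ⟨⟨g, h1⟩, h2⟩
  choose g h3 h4 using h2
  refine Nat.card_le_card_of_injective (fun m => (QuotientGroup.mk (g m) : _ ⧸ (centralizer
    (gen y [0, 1, 2, 3] : Set U)).subgroupOf _)) fun m m' e => Subtype.ext ?_
  have h5 : ∀ n, (g m : U) * ep y n * (g m : U)⁻¹ = g m' * ep y n * (g m' : U)⁻¹ := fun n => by
    have := mem_subgroupOf.1 (QuotientGroup.eq.1 e) _ (ep_mem (y := y) n)
    simp only [coe_mul, coe_inv] at this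
    calc _ = (g m : U) * (ep y n * ((g m : U)⁻¹ * g m')) * (g m' : U)⁻¹ := by group
      _ = _ := by rw [this]; group
  have h6 := h.ep_inj m.2.1 m'.2.1 (by rw [← h3, ← h3, h5])
  have h7 := h.ep_inj (Nat.mod_lt m.1 (by decide)) (Nat.mod_lt m'.1 (by decide)) (by rw [← h4, ← h4, h5])
  omega

theorem hyp [Finite U] {A : Subgroup U} (hA : A ≤ gen y [0, 1, 2, 3]) (hc : Nat.card A = 27) :
    7 ≤ {B : Subgroup U | ∃ g ∈ gen y [0, 1, 2, 3, 4, 5], B = A.map (MulAut.conj g).toMonoidHom}.ncard := by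
  classical
  haveI : (A.subgroupOf (gen y [0, 1, 2, 3])).Normal := ⟨fun a ha g => by
    rwa [show g * a * g⁻¹ = a from Subtype.ext (by
      rw [coe_mul, coe_mul, h.comm g.2 a.2, coe_inv, mul_inv_cancel_right])]⟩
  haveI : Fact (Nat.Prime 3) := ⟨by norm_num⟩
  have h1 : Nat.card (gen y [0, 1, 2, 3] ⧸ A.subgroupOf (gen y [0, 1, 2, 3])) = 3 := by
    have := (A.subgroupOf (gen y [0, 1, 2, 3])).card_eq_card_quotient_mul_card_subgroup
    rw [h.cardE, Nat.card_congr (subgroupOfEquivOfLe hA).toEquiv, hc] at this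
    omega
  let φ := mulEquivOfPrimeCardEq h1 (show Nat.card (Multiplicative (ZMod 3)) = 3 by simp)
  let f : U → ZMod 3 := fun u => if hu : u ∈ gen y [0, 1, 2, 3] then
    (φ (QuotientGroup.mk ⟨u, hu⟩)).toAdd else 0
  have f1 : ∀ a ∈ gen y [0, 1, 2, 3], ∀ b ∈ gen y [0, 1, 2, 3], f (a * b) = f a + f b := fun a ha b hb => by
    simp only [f, dif_pos ha, dif_pos hb, dif_pos (mul_mem ha hb), ← toAdd_mul, ← map_mul]; rfl
  have f2 : ∀ n, ep y n ∈ A ↔ lin (f (y 0)) (f (y 1)) (f (y 2)) (f (y 3)) n = 0 := fun n => by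
    rw [← add_ep f1]
    simp only [f, dif_pos (ep_mem (y := y) n), toAdd_eq_zero, map_eq_one_iff _ φ.injective,
      QuotientGroup.eq_one_iff, mem_subgroupOf]
  rcases cH (f (y 0)) (f (y 1)) (f (y 2)) (f (y 3)) with ⟨z0, z1, z2, z3⟩ | h2
  · have : gen y [0, 1, 2, 3] ≤ A := fun a ha => by
      obtain ⟨n, -, rfl⟩ := h.ex_ep ha
      simp [f2, z0, z1, z2, z3, lin]
    have := card_le_of_le this
    rw [h.cardE, hc] at this
    omega
  rw [← List.card_toFinset, ← Set.ncard_coe_finset] at h2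
  refine h2.trans ((Set.ncard_le_ncard ?_ (Set.toFinite _)).trans (Set.ncard_image_le
    (f := fun B : Subgroup U => TV.map fun n => decide (ep y n ∈ B)) (Set.toFinite _)))
  intro l hl
  simp only [List.coe_toFinset, Set.mem_setOf_eq, List.mem_map] at hl
  obtain ⟨w, hw, rfl⟩ := hl
  have h3 : ∀ c ∈ w, c ∈ [4, 5] := by revert w; decide
  refine ⟨_, ⟨(ev y w)⁻¹, inv_mem (ev_mem_gen fun c hc => m45 c (h3 c hc)),
    rfl⟩, List.map_congr_left fun n hn => ?_⟩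
  rw [decide_eq_decide, ← f2, ← (h.cjw h3 (by revert n; decide : n < 81)).2, mem_map_equiv]
  simp

theorem cardD [Finite U] : Nat.card (gen y [5, 7]) = 8 := by
  classical
  have : (gen y [5, 7] : Set U) = (wD.map (ev y)).toFinset := Set.ext fun a => by
    simp only [SetLike.mem_coe, List.coe_toFinset, Set.mem_setOf_eq, List.mem_map]
    refine ⟨fun ha => clo_ind (p := fun a => ∃ w ∈ wD, ev y w = a) ⟨[], by decide, rfl⟩ ?_ ha, ?_⟩
    · rintro _ _ ⟨c, hc, rfl⟩ ⟨w, hw, rfl⟩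
      obtain ⟨v, h1, h2⟩ := q4.1 w hw c hc
      exact ⟨v, h1, by simpa using (h.eq h2).symm⟩
    · rintro ⟨w, hw, rfl⟩
      exact ev_mem_gen (by revert w; decide)
  rw [← SetLike.coe_sort_coe, this, Nat.card_coe_set_eq, Set.ncard_coe_finset, List.toFinset_card_of_nodup]
  · rfl
  · exact (List.nodup_map_iff_inj_on (by decide)).2 fun u hu v hv e =>
      List.inj_on_of_nodup_map q4.2 hu hv (h.im e)

theorem ud [Finite U] (top : gen y [8, 9, 10, 11, 12, 13] = ⊤) (card : Nat.card U = 3265920) :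
    H9.L.UD (gen y [0, 1, 2, 3]) (gen y [0, 1, 2, 3, 4, 5]) (gen y [5, 7]) (y 6) := by
  obtain ⟨r1, r2, r3, r4, r5, r6, r7, r8⟩ := q3
  have k : ∀ m n, ev y (powW m (6 :: cw n)) = (y 6 * ep y n) ^ m := fun m n => by
    rw [ev_powW, ev_cons, ev_cw]
  refine ⟨h.cardE, fun a ha => ?_, fun a ha b hb => h.comm ha hb, gen_mono (by decide), fun g hg => h.norm hg,
    le_antisymm (commutator_le_self _) (gen_le.2 fun c hc => ?_), h.idx, fun A => h.hyp, h.alt,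
    gen_le.2 fun c hc => ?_, h.cardD, by simpa using h.eq r2, fun a ha => ?_,
    ⟨_, ep_mem 30, k 3 30 ▸ h.eq r5⟩, ⟨_, ep_mem 4, k 5 4 ▸ h.eq r6⟩,
    ⟨_, ep_mem 10, k 9 10 ▸ h.eq r7, fun e => r8 (h.im (by rw [k, e, ev_nil]))⟩,
    top_le_iff.1 (top ▸ gen_le.2 fun c hc => ?_), card⟩
  · obtain ⟨n, -, rfl⟩ := h.ex_ep ha
    rw [ep, h.e4_pow, h.e4_mod]; simp [e4]
  · obtain ⟨-, -, h1, h2⟩ := q2 c (by revert c; decide)
    have h3 := h.eq h1
    rw [ev_cons, ev_append, ev_append] at h3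
    have h4 := commutator_mem_commutator (ev_mem_gen (e := y) fun c hc => h2 c (List.mem_append_left _ hc))
      (ev_mem_gen (e := y) fun c hc => h2 c (List.mem_append_right _ hc))
    rwa [commutatorElement_def, h3, show ∀ a b c : U, a * (b * c) * c⁻¹ * b⁻¹ = a by intros; group] at h4
  · simp only [List.mem_cons, List.not_mem_nil, or_false] at hc
    rcases hc with rfl | rfl
    · exact mem_gen (by decide)
    · have := h.eq r1
      rw [ev_cons, ev_nil, mul_one] at this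
      exact this ▸ ev_mem_gen (by decide)
  · refine (gen_le (H := centralizer {y 6})).2 (fun c hc => mem_centralizer_singleton_iff.2 ?_) ha _ rfl
    simp only [List.mem_cons, List.not_mem_nil, or_false] at hc
    rcases hc with rfl | rfl
    exacts [by simpa using (h.eq r3).symm, by simpa using (h.eq r4).symm]
  · obtain ⟨i, hi, rfl⟩ : ∃ i < 6, c = 8 + i := by revert c; decide
    obtain ⟨h1, h2, -⟩ := q2 i hi
    have h3 := h.eq h1
    rw [ev_cons, ev_nil, mul_one] at h3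
    rw [h3]
    refine ev_mem fun c hc => ?_
    by_cases h4 : c = 6
    · exact h4 ▸ mem_sup_right (mem_zpowers _)
    · exact mem_sup_left (mem_gen ((by decide : ∀ c < 7, c ≠ 6 → c ∈ [0, 1, 2, 3, 4, 5]) c (h2 c hc) h4))

end OK

theorem exists_ud {U : Type*} [Group U] (φ : H10.U43P.S ≃* U) : ∃ (E P D : Subgroup U) (x : U), H9.L.UD E P D x := by
  have card : Nat.card U = 3265920 := (Nat.card_congr φ.toEquiv).symm.trans H10.U43P.card.1
  haveI : Finite U := Nat.finite_of_card_ne_zero (by rw [card]; decide)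
  let y := wE (H9.MX.pe H10.U43T0.nl) wl
  have k : ∀ u, (H9.MX.PG H10.U43T0.nl).subtype (ev y u) = ev (sg nets) u := fun u =>
    map_ev_sg fun c _ => map_wE (H9.MX.pe_rho _) wl c
  have k2 : ∀ u, ev (fun c => φ (y c)) u = φ (ev y u) := fun u => (map_ev φ.toMonoidHom y u).symm
  refine ⟨_, _, _, _, OK.ud (y := fun c => φ (y c)) ⟨fun {u v} e => ?_, fun {u v} e => ?_⟩ ?_ card⟩
  · rw [k2, k2]
    refine congrArg φ (Subtype.ext ((k u).trans (Eq.trans ?_ (k v).symm)))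
    exact ev_eq_of_planeEq hn (k := 9) (by decide) fun j hj => chkEq_sound hn (by decide) (allN_true.1 e j hj)
  · rw [k2, k2] at e
    refine Nat.eq_of_testBit_eq fun i => ?_
    rw [IM, IM, testBit_pullW hn, testBit_pullW hn, ← k, ← k, φ.injective e]
  · refine (map_gen φ.toMonoidHom y _).symm.trans ?_
    rw [← map_top_of_surjective φ.toMonoidHom φ.surjective, ← H10.U43P.top]
    refine congrArg _ (le_antisymm (gen_le.2 fun c hc => ev_mem_gen (by revert c; decide))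
      (gen_le.2 fun c hc => ?_))
    have : y (8 + c) = H9.MX.pe H10.U43T0.nl c := by
      have : nth [] wl (8 + c) = [c] := by revert c; decide +kernel
      simp only [y, wE, this, ev_cons, ev_nil, mul_one]
    exact this ▸ mem_gen ((by decide : ∀ c ∈ H10.U43T0.cols, 8 + c ∈ [8, 9, 10, 11, 12, 13]) c hc)

end H28.LU
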