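import Mathlib
import Cfsg.Agent.H28.ND0
import Cfsg.Agent.H28.NDF

set_option autoImplicit false
set_option linter.unusedSectionVars false

namespace H28.ND

open Subgroup Equiv Equiv.Perm Cfsg H24 H23 H25.LB H5.Ly H20.So
open scoped commutatorElement

variable {G : Type*} [Group G] [Finite G] {n : ℕ} {t x y g k a b : G}
  {K K' L H D Q Q' R T P : Subgroup G} {J J' : G → Subgroup G} {ι : SS →* G}

namespace NDNx

open NDFx

variable {θ : SS →* G} {A : Subgroup G}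

theorem two_cover {X : Subgroup G} (h : ∀ a ∈ A, ∀ b ∈ A, a ∉ X → b ∉ X → b * a ∈ X) :
    Nat.card A ≤ 2 * Nat.card ↥(A ⊓ X) := by
  by_cases hA : A ≤ X
  · rw [inf_eq_left.2 hA]; omega
  obtain ⟨a, ha, aX⟩ := SetLike.not_le_iff_exists.1 hA
  have h2 : X.relIndex A = 2 := relIndex_eq_two_iff_exists_notMem_and.2
    ⟨a, ha, aX, fun b hb => (em (b ∈ X)).elim Or.inr fun bX => Or.inl (h a ha b hb aX bX)⟩
  have h3 := (X.subgroupOf A).index_mul_card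
  rw [← relIndex, h2, ← inf_subgroupOf_right,
    Nat.card_congr (subgroupOfEquivOfLe (inf_le_right : X ⊓ A ≤ A)).toEquiv, inf_comm] at h3
  omega

/-- `D₁ = E₁⟨z₂⟩` -/
abbrev D1 (t : G) (θ : SS →* G) : Subgroup G := EE θ ⊔ zpowers (t * θ zS * t)

/-- `N_{H₀}(S)` -/
abbrev N0 (t : G) (θ : SS →* G) : Subgroup G := HH t θ ⊓ N[S12 t θ]

/-- the first projection of `A ∩ S` -/
def pr (w : Wr t J ι θ) (ht : t * t = 1) (A : Subgroup G) : Subgroup SS :=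
  (A.comap (Ψ w ht)).map (MonoidHom.fst SS SS)

theorem t_N0 (w : Wr t J ι θ) (ht : t * t = 1) : t ∈ N[N0 t θ] :=
  zpowers_le.1 (norm_inf (zpowers_le.2 (t_H ht)) (norm_N (zpowers_le.2 (t_S w ht))))

theorem tat (w : Wr t J ι θ) (ht : t * t = 1) (ha : a ∈ N0 t θ) : t * a * t ∈ N0 t θ := by
  have := conj_mem (t_N0 w ht) ha
  rwa [tinv ht] at this

theorem mem_cjt' (ht : t * t = 1) : a ∈ cj t H ↔ t * a * t ∈ H := by rw [mem_cj, tinv ht]

theorem dich (w : Wr t J ι θ) (m : Md t K J ι) (ht : t * t = 1) (ha : a ∈ N0 t θ) (h : a ∉ N[D1 t θ]) :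
    cj a (D1 t θ) = E₁.map θ ⊔ zpowers (t * θ zS * t) ∧
      cj a (E₁.map θ ⊔ zpowers (t * θ zS * t)) = D1 t θ :=
  (w.dichD ht (w.nT m ht ha) ha.1.2).resolve_left h

theorem swsw (w : Wr t J ι θ) (m : Md t K J ι) (ht : t * t = 1) (ha : a ∈ N0 t θ) (hb : b ∈ N0 t θ)
    (h : a ∉ N[D1 t θ]) (h' : b ∉ N[D1 t θ]) : b * a ∈ N[D1 t θ] := by
  rw [mem_N_iff_cj, cj_mul, (dich w m ht ha h).1, (dich w m ht hb h').2]

theorem idx1 (w : Wr t J ι θ) (m : Md t K J ι) (ht : t * t = 1) (hA : A ≤ N0 t θ) :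
    Nat.card A ≤ 2 * Nat.card ↥(A ⊓ N[D1 t θ]) :=
  two_cover fun _ ha _ hb => swsw w m ht (hA ha) (hA hb)

theorem idx2 (w : Wr t J ι θ) (m : Md t K J ι) (ht : t * t = 1) (hA : A ≤ N0 t θ) :
    Nat.card A ≤ 2 * Nat.card ↥(A ⊓ cj t N[D1 t θ]) :=
  two_cover fun a ha b hb h h' => by
    rw [mem_cjt' ht] at h h' ⊢
    have := swsw w m ht (tat w ht (hA ha)) (tat w ht (hA hb)) h h'
    rwa [show t * b * t * (t * a * t) = t * (b * a) * t by
      calc _ = t * b * (t * t) * a * t := by group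
        _ = _ := by rw [ht]; group] at this

theorem pr_sq (w : Wr t J ι θ) (ht : t * t = 1) (h2 : ∀ x ∈ A, x * x = 1) :
    ∀ u ∈ pr w ht A, u * u = 1 := by
  rintro _ ⟨⟨u, v⟩, h, rfl⟩
  have := h2 _ h
  rw [← map_mul] at this
  exact congrArg Prod.fst (Ψ_inj w ht (this.trans (map_one _).symm))

theorem le_prod (w : Wr t J ι θ) (ht : t * t = 1) :
    A ⊓ S12 t θ ≤ ((pr w ht A).prod (pr w ht (cj t A))).map (Ψ w ht) := by
  rw [S_eq w ht]
  rintro _ ⟨h, ⟨u, v⟩, rfl⟩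
  refine ⟨(u, v), ⟨⟨(u, v), h, rfl⟩, ⟨(v, u), ?_, rfl⟩⟩, rfl⟩
  change Ψ w ht (v, u) ∈ cj t A
  rw [mem_cjt' ht, Ψ_t]; exact h

theorem card_prod' (w : Wr t J ι θ) (ht : t * t = 1) (B C : Subgroup SS) :
    Nat.card ((B.prod C).map (Ψ w ht)) = Nat.card B * Nat.card C := by
  rw [card_map_of_injective (Ψ_inj w ht), Nat.card_congr (B.prodEquiv _).toEquiv, Nat.card_prod]

theorem small {B : Subgroup SS} (h : ∀ x ∈ B, x * x = 1) (h0 : ∀ x ∈ B, x ∈ E₀ ↔ x ∈ E₁) :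
    Nat.card B ≤ 4 := by
  by_cases hJ : B ≤ J₀
  · exact (card_le_filter (fun w => w ∈ J₀ ∧ w * w = 1 ∧ (w ∈ E₀ ↔ w ∈ E₁))
      fun w hw => ⟨hJ hw, h w hw, h0 w hw⟩).trans (by decide +kernel)
  obtain ⟨x, hx, xJ⟩ := SetLike.not_le_iff_exists.1 hJ
  have key : ∀ x : SS, x * x = 1 → x ∉ J₀ → (Finset.univ.filter fun w => w * w = 1 ∧ w * x = x * w ∧
      (w ∈ E₀ ↔ w ∈ E₁) ∧ (w * x ∈ E₀ ↔ w * x ∈ E₁)).card ≤ 4 := by decide +kernel
  exact (card_le_filter _ fun w hw =>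
    ⟨h w hw, comm_of_sq h hw hx, h0 w hw, h0 _ (mul_mem hw hx)⟩).trans (key x (h x hx) xJ)

theorem pr_small (w : Wr t J ι θ) (m : Md t K J ι) (ht : t * t = 1) (hA : A ≤ N0 t θ)
    (h2 : ∀ x ∈ A, x * x = 1) (h : ¬ A ≤ N[D1 t θ]) : Nat.card (pr w ht A) ≤ 4 := by
  obtain ⟨a, ha, aX⟩ := SetLike.not_le_iff_exists.1 h
  obtain ⟨e1, e2⟩ := dich w m ht (hA ha) aX
  refine small (pr_sq w ht h2) ?_
  rintro _ ⟨⟨u, v⟩, huv, rfl⟩
  change Ψ w ht (u, v) ∈ A at huv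
  change u ∈ E₀ ↔ u ∈ E₁
  have hT := w.nT m ht (tat w ht (hA ha))
  have hv : θ v ∈ θ.range ⊔ zpowers (t * θ zS * t) := mem_sup_left ⟨v, rfl⟩
  have h3 := conj_mem hT hv
  rw [MonoidHom.range_eq_map, D_eq w ht] at h3
  obtain ⟨⟨v', δ⟩, ⟨-, hδ⟩, e3⟩ := h3
  have e4 : a * Ψ w ht (1, v) * a⁻¹ = Ψ w ht (δ, v') := by
    rw [← Ψ_t w ht v' δ, e3, Ψ_r, mul_inv_rev, mul_inv_rev, tinv ht]
    calc _ = (t * t) * a * t * θ v * t * a⁻¹ * (t * t) := by rw [ht]; group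
      _ = _ := by group
  have key : ∀ B B' : Subgroup SS, zS ∈ B' →
      cj a (B.map θ ⊔ zpowers (t * θ zS * t)) = B'.map θ ⊔ zpowers (t * θ zS * t) → u ∈ B → u ∈ B' := by
    intro B B' hz e hu
    have h5 : a * θ u * a⁻¹ ∈ B'.map θ ⊔ zpowers (t * θ zS * t) :=
      e ▸ conj_mem_cj a (mem_sup_left ⟨u, hu, rfl⟩)
    rw [D_eq w ht] at h5
    obtain ⟨⟨u', ε⟩, ⟨hu', -⟩, e5⟩ := h5
    have e6 : Ψ w ht (u, v) = Ψ w ht (u' * δ, ε * v') := by
      rw [← Prod.mk_mul_mk, map_mul, e5, ← e4, ← Ψ_l w ht]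
      calc _ = a * Ψ w ht (u, v) * a⁻¹ := by rw [comm_of_sq h2 ha huv]; group
        _ = a * (Ψ w ht (u, 1) * Ψ w ht (1, v)) * a⁻¹ := by
          rw [← map_mul, Prod.mk_mul_mk, mul_one, one_mul]
        _ = _ := by group
    have e7 : u = u' * δ := congrArg Prod.fst (Ψ_inj w ht e6)
    have hδ' : δ ∈ zpowers zS := hδ
    have hu'' : u' ∈ B' := hu'
    rw [e7]
    exact mul_mem hu'' (zpowers_le.2 hz hδ')
  exact ⟨key E₀ E₁ (by decide) e1, key E₁ E₀ (by decide) e2⟩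

theorem D_sup (w : Wr t J ι θ) (ht : t * t = 1) : D1 t θ ⊔ cj t (D1 t θ) = FF t θ := by
  have hz : θ zS ∈ EE θ := ⟨zS, (by decide : zS ∈ E₀), rfl⟩
  rw [FF, E1_eq, cj_sup, cj_zpowers, tinv ht, tt_cancel ht]
  refine le_antisymm (sup_le (sup_le le_sup_left (zpowers_le.2 (mem_sup_right ?_)))
    (sup_le le_sup_right (zpowers_le.2 (mem_sup_left hz)))) (sup_le_sup le_sup_left le_sup_left)
  rw [mem_cjt' ht, tt_cancel ht]; exact hz

end NDNx

/-! ### NDN -/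

open NDFx NDNx in
theorem Wr.nS12 {θ : SS →* G} (w : Wr t J ι θ) (m : Md t K J ι) (c : In n t K J) (p : P0 t θ P) :
    P ≤ N[S12 t θ] := by
  have ht := c.tt
  have hS : S12 t θ ≤ P := sup_le p.s1 (cj_le_of_mem_N p.s1 p.tN)
  have hF : P ⊓ N[FF t θ] ≤ S12 t θ := w.sylF m c (p.two.to_le inf_le_left)
    (inf_le_inf_right _ p.le) (le_inf hS ((w.S_le ht).trans inf_le_right))
  have hS1 : S12 t θ ≤ P ⊓ N[S12 t θ] := le_inf hS (norm_self _)
  suffices h : P ⊓ N[(P ⊓ N[S12 t θ] : Subgroup G)] ≤ P ⊓ N[S12 t θ] from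
    (((isPi_of_isPGroup Nat.prime_two p.two).nil Nat.prime_two).eq_of_norm_le inf_le_left h).ge.trans
      inf_le_right
  rintro g ⟨hgP, hg⟩
  refine ⟨hgP, ?_⟩
  have hFS : FF t θ ≤ S12 t θ := by
    rw [F_eq w ht, S_eq w ht]; exact map_le_range _ _
  have hA1 : cj g (FF t θ) ≤ P ⊓ N[S12 t θ] := cj_le_of_mem_N (hFS.trans hS1) hg
  have hc : Nat.card (cj g (FF t θ)) = 256 := by
    rw [card_cj, F_eq w ht, card_prod', NDFx.card_E₀]
  have h2 : ∀ x ∈ cj g (FF t θ), x * x = 1 := by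
    intro x hx
    obtain ⟨y, hy, rfl⟩ := mem_cj'.1 hx
    rw [F_eq w ht] at hy
    obtain ⟨⟨u, v⟩, ⟨hu, hv⟩, rfl⟩ := hy
    calc g * Ψ w ht (u, v) * g⁻¹ * (g * Ψ w ht (u, v) * g⁻¹)
        = g * (Ψ w ht (u, v) * Ψ w ht (u, v)) * g⁻¹ := by group
      _ = 1 := by rw [← map_mul, Prod.mk_mul_mk, sq_E₀ u hu, sq_E₀ v hv, Prod.mk_one_one, map_one]; group
  have key : S12 t θ ≤ N[cj g (FF t θ)] := by
    generalize cj g (FF t θ) = A at hA1 hc h2
    have hA : A ≤ N0 t θ := hA1.trans (inf_le_inf_right _ p.le)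
    have hA' : cj t A ≤ N0 t θ := cj_le_of_mem_N hA (t_N0 w ht)
    have h2' : ∀ x ∈ cj t A, x * x = 1 := by
      intro x hx
      obtain ⟨y, hy, rfl⟩ := mem_cj'.1 hx
      calc t * y * t⁻¹ * (t * y * t⁻¹) = t * (y * y) * t⁻¹ := by group
        _ = 1 := by rw [h2 y hy]; group
    have hk : A ⊓ N[D1 t θ] ⊓ cj t N[D1 t θ] ≤ A ⊓ S12 t θ := by
      refine le_inf (inf_le_left.trans inf_le_left) (le_trans (le_inf
        (inf_le_left.trans (inf_le_left.trans (hA1.trans inf_le_left))) ?_) hF)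
      rw [← D_sup w ht, cj_N]
      exact norm_sup (inf_le_left.trans inf_le_right) inf_le_right
    have n2 := (card_le hk).trans (card_le (le_prod w ht))
    rw [card_prod'] at n2
    have n0 := idx1 w m ht hA
    have n1 := idx2 w m ht ((inf_le_left : A ⊓ N[D1 t θ] ≤ A).trans hA)
    have b1 := el16 (pr_sq w ht h2)
    have b2 := el16 (pr_sq w ht h2')
    have s2 : ¬ A ≤ cj t N[D1 t θ] → Nat.card (pr w ht (cj t A)) ≤ 4 := fun h =>
      pr_small w m ht hA' h2' fun h' => h fun x hx => (mem_cjt' ht).2 (h' (by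
        rw [mem_cjt' ht, tt_cancel ht]; exact hx))
    have a1 : A ≤ N[D1 t θ] := by
      by_contra h
      have s1 := pr_small w m ht hA h2 h
      by_cases h' : A ≤ cj t N[D1 t θ]
      · rw [inf_eq_left.2 (inf_le_left.trans h')] at n2
        have := Nat.mul_le_mul s1 b2.1
        omega
      · have := Nat.mul_le_mul s1 (s2 h')
        omega
    rw [inf_eq_left.2 a1] at n1 n2 hk
    have a2 : A ≤ cj t N[D1 t θ] := by
      by_contra h'
      have := Nat.mul_le_mul b1.1 (s2 h')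
      omega
    rw [inf_eq_left.2 a2] at n2 hk
    have c1 : 16 ≤ Nat.card (pr w ht A) := by
      by_contra h
      have := Nat.mul_le_mul (show Nat.card (pr w ht A) ≤ 15 by omega) b2.1
      omega
    have c2 : 16 ≤ Nat.card (pr w ht (cj t A)) := by
      by_contra h
      have := Nat.mul_le_mul b1.1 (show Nat.card (pr w ht (cj t A)) ≤ 15 by omega)
      omega
    have e : A = ((pr w ht A).prod (pr w ht (cj t A))).map (Ψ w ht) :=
      eq_of_card_ge (hk.trans (le_prod w ht)) (by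
        rw [card_prod', hc]; exact Nat.mul_le_mul b1.1 b2.1)
    haveI : (pr w ht A).Normal := by rcases b1.2 c1 with e | e <;> rw [e] <;> infer_instance
    haveI : (pr w ht (cj t A)).Normal := by rcases b2.2 c2 with e | e <;> rw [e] <;> infer_instance
    rw [e]
    exact norm_prod w ht _ _
  have hg' : g⁻¹ ∈ N[(P ⊓ N[S12 t θ] : Subgroup G)] := Subgroup.inv_mem _ hg
  have h5 : cj g⁻¹ (S12 t θ) ≤ P ⊓ N[FF t θ] := by
    refine le_inf ((cj_le_of_mem_N hS1 hg').trans inf_le_left) ?_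
    have := cj_mono g⁻¹ key
    rwa [← cj_N, cj_inv_cj] at this
  have h6 : g⁻¹ ∈ N[S12 t θ] := mem_N_of_cj_le (h5.trans hF)
  exact (Subgroup.inv_mem_iff _).1 h6

end H28.ND
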