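import Mathlib
import Cfsg.Agent.H28.ND0
import Cfsg.Agent.H28.NDN

set_option autoImplicit false
set_option linter.unusedSectionVars false

namespace H28.ND

open Subgroup Equiv Equiv.Perm Cfsg H24 H23 H25.LB H5.Ly H20.So
open scoped commutatorElement

variable {G : Type*} [Group G] [Finite G] {n : ℕ} {t x y g k a b : G}
  {K K' L H D Q Q' R T P : Subgroup G} {J J' : G → Subgroup G} {ι : SS →* G}

namespace NDGx

variable {θ : SS →* G}

theorem zz : zS * zS = 1 := by decide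
theorem zc : ∀ s, zS * s = s * zS := by decide +kernel

theorem zp2 (hy : y * y = 1) (hx : x ∈ zpowers y) : x = 1 ∨ x = y := by
  obtain ⟨k, rfl⟩ := hx
  have e : ∀ j : ℤ, y ^ (2 * j) = 1 := fun j => by rw [zpow_mul, zpow_two, hy, one_zpow]
  obtain ⟨j, rfl | rfl⟩ := Int.even_or_odd' k
  · exact .inl (e j)
  · exact .inr (by simp only [zpow_add, e, zpow_one, one_mul])

theorem mem_sup2 (hA : H ≤ C{y}) (hy : y * y = 1) : x ∈ H ⊔ zpowers y ↔ ∃ a ∈ H, Md1 y x a := by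
  rw [mem_sup_of_norm (norm_of_cent (zpowers_le.2 (mem_C_iff_le_C1.2 hA)))]
  constructor
  · rintro ⟨a, ha, b, hb, rfl⟩
    rcases zp2 hy hb with rfl | rfl
    exacts [⟨a, ha, .inl (mul_one _)⟩, ⟨a, ha, .inr rfl⟩]
  · rintro ⟨a, ha, rfl | rfl⟩
    exacts [⟨x, ha, 1, one_mem _, (mul_one _).symm⟩, ⟨a, ha, y, mem_zpowers _, rfl⟩]

theorem odd_mem (ho : Odd (orderOf x)) (h : x * x ∈ H) : x ∈ H := by
  obtain ⟨j, hj⟩ := ho
  have : x = ((x * x) ^ j)⁻¹ := by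
    rw [eq_inv_iff_mul_eq_one, ← sq, ← pow_mul, ← pow_succ', ← hj, pow_orderOf_eq_one]
  rw [this]; exact inv_mem (pow_mem h j)

theorem E0_le {Y : Subgroup SS} (h0 : zS ∈ Y) (h1 : ζS ∈ Y) (h2 : eS ∈ Y) (h3 : wS ∈ Y) : E₀ ≤ Y := by
  have : ∀ a ∈ E₀, ∃ i j k l : Fin 2, a = zS ^ i.1 * ζS ^ j.1 * eS ^ k.1 * wS ^ l.1 := by
    decide +kernel
  intro a ha
  obtain ⟨i, j, k, l, rfl⟩ := this a ha
  exact mul_mem (mul_mem (mul_mem (pow_mem h0 _) (pow_mem h1 _)) (pow_mem h2 _)) (pow_mem h3 _)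

theorem top_le {Y : Subgroup SS} (h0 : E₀ ≤ Y) (h1 : E₁ ≤ Y) (h2 : σS ∈ Y) (s : SS) : s ∈ Y := by
  have : ∀ s : SS, ∃ a ∈ E₀, ∃ b ∈ E₁, s = a * b ∨ s = a * b * σS := by decide +kernel
  obtain ⟨a, ha, b, hb, rfl | rfl⟩ := this s
  exacts [mul_mem (h0 ha) (h1 hb), mul_mem (mul_mem (h0 ha) (h1 hb)) h2]

/-- `⟨z₁, z₂⟩` -/
abbrev ZZ (t : G) (θ : SS →* G) : Subgroup G := zpowers (θ zS) ⊔ zpowers (t * θ zS * t)
/-- `E₁ ⟨z₂⟩` -/
abbrev DD (t : G) (θ : SS →* G) : Subgroup G := EE θ ⊔ zpowers (t * θ zS * t)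
/-- `C(S₂) ∩ C(z₁) ∩ N(D)` -/
abbrev N2 (t : G) (θ : SS →* G) : Subgroup G := C[cj t θ.range] ⊓ C{θ zS} ⊓ N[DD t θ]

theorem CZ : C[ZZ t θ] = HH t θ := by rw [C_sup, C_zpowers, C_zpowers]
theorem z1Z : θ zS ∈ ZZ t θ := mem_sup_left (mem_zpowers _)
theorem z2Z : t * θ zS * t ∈ ZZ t θ := mem_sup_right (mem_zpowers _)
theorem z1sq : θ zS * θ zS = 1 := by rw [← map_mul, zz, map_one]
theorem z2sq (ht : t * t = 1) : t * θ zS * t * (t * θ zS * t) = 1 := by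
  rw [← tt_mul ht, z1sq, mul_one, ht]
theorem tS2 (ht : t * t = 1) (s : SS) : t * θ s * t ∈ cj t θ.range := by
  rw [mem_cjt ht, tt_tt ht]; exact ⟨s, rfl⟩
theorem S1z1 : θ.range ≤ C{θ zS} := by
  rintro _ ⟨s, rfl⟩; rw [H24.mem_C1, ← map_mul, ← map_mul, zc]
theorem E_le : EE θ ≤ θ.range := map_le_range _ _
theorem S1NE : θ.range ≤ N[EE θ] := le_N_iff.2 (by
  rintro _ ⟨s, rfl⟩ _ ⟨a, ha, rfl⟩
  exact ⟨_, e0_conj s a ha, by simp⟩)
theorem mdZ (h : Md1 a x y) (ha : a ∈ H) : y⁻¹ * x ∈ H := by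
  rcases h with rfl | rfl
  · simp
  · simpa using ha
theorem N2H (ht : t * t = 1) : N2 t θ ≤ HH t θ := fun _ h => ⟨h.1.2, C_le_C1 (tS2 ht zS) h.1.1⟩
theorem F_eq (ht : t * t = 1) : FF t θ = DD t θ ⊔ cj t (EE θ) := by
  rw [FF, E1_eq]
  refine le_antisymm (sup_le_sup_right le_sup_left _) (sup_le (sup_le le_sup_left
    (zpowers_le.2 (mem_sup_right ?_))) le_sup_right)
  rw [mem_cjt ht, tt_tt ht]; exact ⟨zS, show zS ∈ E₀ by decide, rfl⟩

variable (w : Wr t J ι θ) (ht : t * t = 1)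
include w ht

theorem inj : Function.Injective θ :=
  (injective_iff_map_eq_one θ).2 fun s hs => w.dj s 1 (by rw [hs, map_one, mul_one, ht])
theorem S1S2 : θ.range ≤ C[cj t θ.range] := le_C_iff.2 (by
  rintro _ ⟨s, rfl⟩ y hy
  obtain ⟨u, hu⟩ := (mem_cjt ht).1 hy
  rw [← tt_tt ht y, ← hu, w.cm])
theorem S1z2 : θ.range ≤ C{t * θ zS * t} := (S1S2 w ht).trans (C_le_C1 (tS2 ht zS))
theorem S1H : θ.range ≤ HH t θ := le_inf S1z1 (S1z2 w ht)
theorem mem_map2 {B : Subgroup SS} :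
    x ∈ B.map θ ⊔ zpowers (t * θ zS * t) ↔ ∃ a ∈ B, Md1 (t * θ zS * t) x (θ a) := by
  rw [mem_sup2 ((map_le_range _ _).trans (S1z2 w ht)) (z2sq ht)]
  exact ⟨fun ⟨_, ⟨a, ha, e⟩, h⟩ => ⟨a, ha, e ▸ h⟩, fun ⟨a, ha, h⟩ => ⟨_, ⟨a, ha, rfl⟩, h⟩⟩
theorem memT (hx : x ∈ θ.range ⊔ zpowers (t * θ zS * t)) : ∃ a, Md1 (t * θ zS * t) x (θ a) := by
  obtain ⟨_, ⟨a, rfl⟩, h⟩ := (mem_sup2 (S1z2 w ht) (z2sq ht)).1 hx
  exact ⟨a, h⟩
theorem ne_z2 (a b : SS) : θ a ≠ θ b * (t * θ zS * t) := fun h => by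
  have e : θ (b⁻¹ * a) = t * θ zS * t := by rw [map_mul, map_inv, h]; group
  have := w.dj _ _ e
  rw [this, map_one] at e
  have e' : θ zS = 1 := by rw [← tt_tt ht (θ zS), ← e, mul_one, ht]
  exact absurd (inj w ht (e'.trans (map_one θ).symm)) (by decide)
theorem inf_S1 (B : Subgroup SS) : (B.map θ ⊔ zpowers (t * θ zS * t)) ⊓ θ.range = B.map θ := by
  refine le_antisymm ?_ (le_inf le_sup_left (map_le_range _ _))
  rintro _ ⟨h, s, rfl⟩
  obtain ⟨a, ha, e | e⟩ := (mem_map2 w ht).1 h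
  exacts [⟨a, ha, e.symm⟩, (ne_z2 w ht _ _ e).elim]
theorem memZ (hx : x ∈ ZZ t θ) : ∃ a, (a = 1 ∨ a = zS) ∧ Md1 (t * θ zS * t) x (θ a) := by
  obtain ⟨a, ha, h⟩ := (mem_sup2 (zpowers_le.2 (S1z2 w ht ⟨zS, rfl⟩)) (z2sq ht)).1 hx
  rcases zp2 z1sq ha with rfl | rfl
  exacts [⟨1, .inl rfl, (map_one θ).symm ▸ h⟩, ⟨zS, .inr rfl, h⟩]
theorem θZ {s : SS} (h : θ s ∈ ZZ t θ) : s = 1 ∨ s = zS := by
  obtain ⟨a, ha, e | e⟩ := memZ w ht h
  · rwa [inj w ht e]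
  · exact (ne_z2 w ht _ _ e).elim
theorem sqZ (hx : x ∈ ZZ t θ) : x * x = 1 := by
  obtain ⟨a, rfl | rfl, rfl | rfl⟩ := memZ w ht hx
  · simp
  · rw [map_one, one_mul, z2sq ht]
  · exact z1sq
  · rw [mul_assoc, ← mul_assoc (t * θ zS * t), ← w.cm, mul_assoc (θ zS), z2sq ht, mul_one, z1sq]
theorem S1N2 : θ.range ≤ N2 t θ :=
  le_inf (le_inf (S1S2 w ht) S1z1) (norm_sup S1NE (norm_zpowers_of_cent (S1z2 w ht)))
theorem DC : DD t θ ≤ C[DD t θ] := by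
  have : DD t θ ≤ FF t θ := by rw [F_eq ht]; exact le_sup_left
  exact this.trans ((w.db.toDb0.F_le_C ht).trans (C_anti this))
omit w in
theorem N2F : N2 t θ ≤ N[FF t θ] := by
  rw [F_eq ht]
  exact norm_sup inf_le_right (norm_of_cent (inf_le_left.trans (inf_le_left.trans
    (C_anti (cj_mono t E_le)))))

omit ht in
theorem trU (m : Md t K J ι) (c : In n t K J) {u : G} (hu : u ∈ N2 t θ)
    (h : ∀ d ∈ DD t θ, u * d * u⁻¹ * d⁻¹ ∈ ZZ t θ) : u ∈ C[DD t θ] := by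
  have ht := c.tt
  have h2 : u * u ∈ C[DD t θ] := mem_C'.2 fun d hd => by
    have e := conj_eq_of_mem_C (CZ.ge (N2H ht hu)) (h d hd)
    have s := sqZ w ht (h d hd)
    calc u * u * d = u * (u * d * u⁻¹ * d⁻¹) * u⁻¹ * (u * d * u⁻¹ * d⁻¹) * (d * (u * u)) := by group
      _ = d * (u * u) := by rw [e, s, one_mul]
  obtain ⟨v, o, e, hv, ho, ⟨j, hj⟩, od⟩ := two_odd u
  have oC : o ∈ C[DD t θ] := odd_mem od (by
    obtain ⟨i, rfl⟩ := ho
    exact (Commute.refl u).mul_zpow i ▸ zpow_mem h2 i)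
  have vN : zpowers v ≤ N2 t θ := zpowers_le.2 (zpowers_le.2 hu hv)
  obtain ⟨T, hT, hS⟩ := mx_ex (pg_range θ) (S1N2 w ht)
  have S2 : cj t θ.range ≤ C[T] := cents_symm (hT.2.1.trans (inf_le_left.trans inf_le_left))
  have TS : T ≤ S12 t θ := le_sup_left.trans (w.sylF m c
    (pg_sup hT.1 ((pg_range θ).map _) (norm_of_cent S2))
    (sup_le (hT.2.1.trans (le_inf (N2H ht) (N2F ht))) (le_sup_right.trans (w.S_le ht)))
    (sup_le_sup_right hS _))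
  obtain ⟨g, hg, hv'⟩ := hT.conj (R := zpowers v) (pg_of_te (by
    rintro _ ⟨i, rfl⟩
    exact ⟨j, by simp only [← zpow_natCast, ← zpow_mul, mul_comm i]; rw [zpow_mul, zpow_natCast, hj, one_zpow]⟩)) vN
  have m1 := hv' (conj_mem_cj g (mem_zpowers v))
  obtain ⟨s, hs⟩ := w.cS2 ht (TS m1) (hT.2.1 m1).1.1
  have k : ∀ a ∈ E₀, s * a * s⁻¹ * a⁻¹ = 1 ∨ s * a * s⁻¹ * a⁻¹ = zS := fun a ha => θZ w ht (by
    have d1 : θ a ∈ DD t θ := mem_sup_left ⟨a, ha, rfl⟩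
    have d2 := conj_mem' hg.2 d1
    have e1 := conj_mem (C_le_N _ (CZ.ge (N2H ht hg))) (h _ d2)
    have e2 : v * (g⁻¹ * θ a * g) * v⁻¹ = u * (g⁻¹ * θ a * g) * u⁻¹ := by
      rw [e, ← conj_eq_of_mem_C oC d2]
      nth_rw 2 [conj_eq_of_mem_C oC d2]
      group
    have e3 : g * v * g⁻¹ * θ a * (g * v * g⁻¹)⁻¹ = θ s * θ a * (θ s)⁻¹ := by
      rcases hs with hs | hs <;> rw [hs]
      rw [mul_assoc (θ s), ← w.cm]; group
    rw [← e2] at e1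
    simp only [map_mul, map_inv]
    rw [← e3]
    convert e1 using 1
    group)
  have sE : s ∈ E₀ := by clear hs; revert s; decide +kernel
  have vC : g * v * g⁻¹ ∈ C[DD t θ] := DC w ht ((mem_map2 w ht).2 ⟨s, sE, hs⟩)
  rw [e]
  exact mul_mem ((conj_mem_iff (N_le_NC _ hg.2)).1 vC) oC

omit ht in
theorem N2E (m : Md t K J ι) (c : In n t K J) : N2 t θ ≤ N[EE θ] := fun g hg => by
  have ht := c.tt
  obtain ⟨M, -, hM, -, gl⟩ := w.m1
  have MN : M ≤ N2 t θ := le_inf (hM.trans inf_le_left) (norm_sup (hM.trans inf_le_right)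
    (norm_zpowers_of_cent (hM.trans (inf_le_left.trans (inf_le_left.trans (C_le_C1 (tS2 ht zS)))))))
  have nZ : ∀ x ∈ N2 t θ, x ∈ N[ZZ t θ] := fun x hx => C_le_N _ (CZ.ge (N2H ht hx))
  have nθ : ∀ s, θ s ∈ N[ZZ t θ] := fun s => nZ _ (S1N2 w ht ⟨s, rfl⟩)
  have ex : ∀ a ∈ E₀, ∃ b ∈ E₀, (θ b)⁻¹ * (g * θ a * g⁻¹) ∈ ZZ t θ := fun a ha => by
    obtain ⟨b, hb, h⟩ := (mem_map2 w ht).1 (conj_mem hg.2 (mem_sup_left ⟨a, ha, rfl⟩))
    exact ⟨b, hb, mdZ h z2Z⟩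
  have mu : ∀ {a b a' b' : SS}, (θ b)⁻¹ * (g * θ a * g⁻¹) ∈ ZZ t θ →
      (θ b')⁻¹ * (g * θ a' * g⁻¹) ∈ ZZ t θ → (θ (b * b'))⁻¹ * (g * θ (a * a') * g⁻¹) ∈ ZZ t θ :=
    fun {a b a' b'} h h' => by
      convert mul_mem (conj_mem' (nθ b') h) h' using 1
      simp only [map_mul]; group
  have ke : ∀ {a b : SS}, (θ b)⁻¹ * (g * θ a * g⁻¹) ∈ ZZ t θ → ¬ (a = 1 ∨ a = zS) → b ≠ 1 ∧ b ≠ zS :=
    fun {a b} h ha => not_or.1 fun hb => ha (θZ w ht ((conj_mem_iff (nZ g hg)).1 (by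
      have : θ b ∈ ZZ t θ := by
        rcases hb with rfl | rfl
        exacts [map_one θ ▸ one_mem _, z1Z]
      simpa using mul_mem this h)))
  obtain ⟨b1, e1, r1⟩ := ex ζS (by decide)
  obtain ⟨b2, e2, r2⟩ := ex eS (by decide)
  obtain ⟨b3, e3, r3⟩ := ex wS (by decide)
  obtain ⟨k, hk, k1, k2, k3⟩ := gl b1 b2 b3 ⟨e1, e2, e3, by
    simp only [List.forall_mem_cons, List.not_mem_nil, false_imp_iff, implies_true, and_true]
    exact ⟨ke r1 (by decide), ke r2 (by decide), ke r3 (by decide), ke (mu r1 r2) (by decide),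
      ke (mu r1 r3) (by decide), ke (mu r2 r3) (by decide), ke (mu (mu r1 r2) r3) (by decide)⟩⟩
  have hu : k⁻¹ * g ∈ N2 t θ := mul_mem (inv_mem (MN hk)) hg
  let X : Subgroup G :=
    { carrier := {d | d ∈ N[ZZ t θ] ∧ k⁻¹ * g * d * (k⁻¹ * g)⁻¹ * d⁻¹ ∈ ZZ t θ}
      one_mem' := ⟨one_mem _, by simp⟩
      mul_mem' := fun {x y} hx hy => ⟨mul_mem hx.1 hy.1, by
        convert mul_mem hx.2 (conj_mem hx.1 hy.2) using 1; group⟩
      inv_mem' := fun {x} hx => ⟨inv_mem hx.1, by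
        convert conj_mem' hx.1 (inv_mem hx.2) using 1; group⟩ }
  have c0 : ∀ x ∈ ZZ t θ, x ∈ X := fun x hx => ⟨norm_self _ hx,
    mul_mem (conj_mem (nZ _ hu) hx) (inv_mem hx)⟩
  have c1 : ∀ {a b : SS}, (θ b)⁻¹ * (g * θ a * g⁻¹) ∈ ZZ t θ → Md1 (θ zS) (k * θ a * k⁻¹) (θ b) →
      a ∈ X.comap θ := fun {a b} h h' => ⟨nθ a, by
    convert conj_mem' (nZ k (MN hk)) (conj_mem (nθ b) (mul_mem h (inv_mem (mdZ h' z1Z)))) using 1
    group⟩
  have DX : DD t θ ≤ X := sup_le (map_le_iff_le_comap.2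
    (E0_le (c0 _ z1Z) (c1 r1 k1) (c1 r2 k2) (c1 r3 k3))) (zpowers_le.2 (c0 _ z2Z))
  have := C_le_N _ (C_anti le_sup_left (trU w m c hu fun d hd => (DX hd).2))
  simpa using mul_mem (hM hk).2 this

omit ht in
theorem PT (m : Md t K J ι) (c : In n t K J) (p : P0 t θ P) :
    P ≤ N[(θ.range ⊔ zpowers (t * θ zS * t) : Subgroup G)] :=
  (le_inf p.le (w.nS12 m c p)).trans (w.nT m c.tt)

omit w in
theorem Pt (p : P0 t θ P) (hx : x ∈ P) : t * x * t ∈ P := by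
  have := conj_mem p.tN hx
  rwa [inv_eq_of_mul_eq_one_right ht] at this

omit ht in
theorem plus (m : Md t K J ι) (c : In n t K J) (p : P0 t θ P) (hx : x ∈ P) (hD : x ∈ N[DD t θ]) :
    x ∈ N[θ.range] := by
  have ht := c.tt
  obtain ⟨M, pf, hM, hS, -⟩ := w.m1
  have n2 : x ∈ N[(cj t θ.range ⊔ zpowers (θ zS) : Subgroup G)] := by
    have := (mem_cjt ht).2 (PT w m c p (Pt ht p hx))
    rwa [cj_N, cj_sup, cj_zpowers, inv_eq_of_mul_eq_one_right ht, tt_tt ht] at this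
  have h1 : M ≤ C[(cj t θ.range ⊔ zpowers (θ zS) : Subgroup G)] := by
    rw [C_sup, C_zpowers]; exact hM.trans inf_le_left
  have h2 := cj_le_of_mem_N h1 (N_le_NC _ n2)
  rw [C_sup, C_zpowers] at h2
  have h3 : cj x M ≤ N2 t θ := le_inf h2 (cj_le_of_mem (norm_sup (hM.trans inf_le_right)
    (norm_zpowers_of_cent (hM.trans (inf_le_left.trans (inf_le_left.trans
      (C_le_C1 (tS2 ht zS))))))) hD)
  refine mem_N_of_finite fun y hy => ?_
  obtain ⟨a, e | e⟩ := memT w ht (conj_mem (PT w m c p hx) (mem_sup_left hy))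
  · exact ⟨a, e.symm⟩
  · exact absurd (w.pf _ (pf_cj pf x) (le_inf (h3.trans (N2E w m c))
      (h2.trans (inf_le_left.trans (C_anti (cj_mono t E_le))))) a zS (e ▸ conj_mem_cj x (hS hy)))
      (by decide)

omit ht in
theorem invol (m : Md t K J ι) (c : In n t K J) (p : P0 t θ P) {r : G} (hr : r ∈ P) (hc : r ∈ C{t}) :
    r ∈ N[θ.range] := by
  have ht := c.tt
  have k : ∀ a : SS, a * a = 1 → a ∈ (cj r⁻¹ θ.range).comap θ := fun a ha => by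
    rw [mem_comap, mem_cj, inv_inv]
    by_cases a1 : a = 1
    · simp [a1]
    obtain ⟨b, e | e⟩ := memT w ht (conj_mem (PT w m c p hr) (mem_sup_left ⟨a, rfl⟩))
    · exact ⟨b, e.symm⟩
    exfalso
    have rt : ∀ y, r * (t * y * t) * r⁻¹ = t * (r * y * r⁻¹) * t := fun y => by
      have := mem_C1_iff_conj.1 hc
      calc r * (t * y * t) * r⁻¹ = r * t * r⁻¹ * (r * y * r⁻¹) * (r * t * r⁻¹) := by group
        _ = _ := by rw [this]
    have e1 : r * ι a * r⁻¹ = ι (b * zS) := by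
      rw [← w.dg, ← w.dg, show r * (θ a * (t * θ a * t)) * r⁻¹ =
        r * θ a * r⁻¹ * (r * (t * θ a * t) * r⁻¹) by group, rt, e, tt_mul ht, tt_tt ht, ← zc, map_mul,
        ← w.cm, tt_mul ht, ← map_mul, zc, map_mul, mul_assoc, mul_assoc (θ b), ← mul_assoc _ (θ zS),
        ← w.cm, mul_assoc (θ zS)]
    have o1 := m.ord ha a1
    have h1 : θ b * (t * θ zS * t) ∈ cz (J (ι (b * zS))) := by
      rw [← e1, ← c.jcj (m.memK c a) o1 hc, cz_cj, ← e]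
      exact conj_mem_cj r (w.sp a ha a1)
    have s2 : b * zS * (b * zS) = 1 := m.inj (by
      rw [map_mul, ← e1, cj_sq (by rw [← map_mul, ha, map_one]), map_one])
    have n1 : b * zS ≠ 1 := fun h => a1 (m.inj (by
      rw [h, map_one] at e1; rw [map_one]; simpa using e1))
    have h2 : ι zS ∈ cz (J (ι (b * zS))) := by
      convert mul_mem (inv_mem (w.sp _ s2 n1)) h1 using 1
      rw [← w.dg, map_mul, mul_inv_rev, inv_eq_of_mul_eq_one_right (z1sq (θ := θ))]; group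
    rcases c.czJ (m.memK c _) (m.ord s2 n1) (m.inJ c s2 n1 (zc _)) h2
      (te_of_pg (pg_range ι) ⟨zS, rfl⟩) with h | h
    · exact absurd (m.inj (h.trans (map_one ι).symm)) (by decide)
    · have hb : b = 1 := by simpa using m.inj h
      rw [hb, map_one, one_mul] at e
      have := mem_C1_iff_conj.1 (p.le hr).2
      exact a1 (w.dj a zS (by simpa using e.trans this.symm))
  refine mem_N_of_finite ?_
  rintro _ ⟨s, rfl⟩
  have := top_le (fun a ha => k a (e0_sq a ha)) (fun a ha => k a (by revert a; decide +kernel))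
    (k σS (by decide)) s
  rwa [mem_comap, mem_cj, inv_inv] at this

omit ht in
theorem ker (m : Md t K J ι) (c : In n t K J) (p : P0 t θ P) :
    P ⊓ N[EE θ] ⊓ N[cj t (EE θ)] ≤ S12 t θ := by
  have SP : S12 t θ ≤ P := sup_le p.s1 (cj_le_of_mem_N p.s1 p.tN)
  refine le_trans (le_inf (inf_le_left.trans inf_le_left) ?_) (w.sylF m c (R := P ⊓ N[FF t θ])
    (p.two.to_le inf_le_left) (inf_le_inf_right _ p.le) (le_inf SP ((w.S_le c.tt).trans inf_le_right)))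
  rw [FF, E1_eq]
  exact norm_sup (inf_le_left.trans inf_le_right) inf_le_right

end NDGx

/-! ### NDG -/
theorem Wr.nS1 {θ : SS →* G} (w : Wr t J ι θ) (m : Md t K J ι) (c : In n t K J) (p : P0 t θ P) :
    P ≤ N[θ.range] := fun x hx => by
  have ht := c.tt
  have SP : S12 t θ ≤ P := sup_le p.s1 (cj_le_of_mem_N p.s1 p.tN)
  rcases w.dichD ht (NDGx.PT w m c p hx) (p.le hx).2 with h | h
  · exact NDGx.plus w m c p hx h
  by_cases hP : P ≤ S12 t θ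
  · exact sup_le (norm_self _) (norm_of_cent (cents_symm (NDGx.S1S2 w ht))) (hP hx)
  obtain ⟨r, ⟨⟨r1, r2⟩, -⟩, r3⟩ := w.cov ht p.two p.tN SP hP
  have r4 := NDGx.invol w m c p r1 r2
  rcases w.dichD ht (NDGx.PT w m c p r1) (p.le r1).2 with h' | h'
  · have r5 : r ∈ N[EE θ] := by
      rw [EE, ← NDGx.inf_S1 w ht E₀]
      exact norm_inf (X := N[NDGx.DD t θ] ⊓ N[θ.range]) inf_le_left inf_le_right ⟨h', r4⟩
    refine (r3 (NDGx.ker w m c p (mem_inf.2 ⟨⟨r1, r5⟩, ?_⟩))).elim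
    rw [← cj_N, mem_cj, mul_assoc, H24.mem_C1.1 r2, inv_mul_cancel_left]
    exact r5
  · have := NDGx.plus w m c p (mul_mem (inv_mem r1) hx)
      (mem_N_iff_cj.2 (by rw [cj_mul, h.1, ← h'.1, cj_inv_cj]))
    simpa using mul_mem r4 this

end H28.ND
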