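import Mathlib
import Cfsg.Agent.H28.ND0
import Cfsg.Agent.H28.NDG

set_option autoImplicit false
set_option linter.unusedSectionVars false

namespace H28.ND

open Subgroup Equiv Equiv.Perm Cfsg H24 H23 H25.LB H5.Ly H20.So
open scoped commutatorElement

variable {G : Type*} [Group G] [Finite G] {n : ℕ} {t x y g k a b : G}
  {K K' L H D Q Q' R T P : Subgroup G} {J J' : G → Subgroup G} {ι : SS →* G}

namespace NDHx

open NDGx

variable {θ : SS →* G}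

theorem E_ne (hi : Function.Injective θ) : EE θ ≠ E₁.map θ := fun h =>
  absurd ((mem_map_iff_mem hi).1 (h.le ⟨eS, show eS ∈ E₀ by decide, rfl⟩)) (by decide : eS ∉ E₁)

theorem exists_aut (hi : Function.Injective θ) (hx : x ∈ N[θ.range]) :
    ∃ α : SS →* SS, Function.Injective α ∧ ∀ s, θ (α s) = x * θ s * x⁻¹ := by
  choose f hf using fun s => conj_mem hx (⟨s, rfl⟩ : θ s ∈ θ.range)
  refine ⟨MonoidHom.mk' f fun a b => hi (by rw [map_mul, hf, hf, hf, map_mul]; group),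
    fun a b e => hi ?_, hf⟩
  have := congrArg θ e
  simpa [hf] using this

theorem flag : ∀ x1 ∈ Z₀, ∀ x2 ∈ E₀, x2.a1 = false → ∀ x3 ∈ E₀, Ind x1 x2 x3 → ∃ s : SS,
    (s * x1 * s⁻¹ = ζS ∨ s * x1 * s⁻¹ = ζS * zS) ∧ (s * x2 * s⁻¹ = eS ∨ s * x2 * s⁻¹ = eS * zS) ∧
    (s * x3 * s⁻¹ = wS ∨ s * x3 * s⁻¹ = wS * zS) := by decide +kernel

theorem md_mul (hy : y * y = 1) {u v u' v' : G} (hc : y * v' = v' * y) (h : Md1 y u v)
    (h' : Md1 y u' v') : Md1 y (u * u') (v * v') := by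
  rcases h with rfl | rfl <;> rcases h' with rfl | rfl
  · exact .inl rfl
  · exact .inr (mul_assoc _ _ _).symm
  · exact .inr (by rw [mul_assoc, hc, mul_assoc])
  · exact .inl (by rw [mul_assoc, ← mul_assoc y, hc, mul_assoc v', hy, mul_one])

variable (w : Wr t J ι θ) (m : Md t K J ι) (c : In n t K J) (p : P0 t θ P)
include w m c p

theorem dich (hx : x ∈ P) : x ∈ N[EE θ] ∨ cj x (EE θ) = E₁.map θ ∧ cj x (E₁.map θ) = EE θ := by
  have ht := c.tt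
  have n := cj_of_mem_N (w.nS1 m c p hx)
  have k : ∀ B B' : Subgroup SS, cj x (B.map θ ⊔ zpowers (t * θ zS * t)) =
      B'.map θ ⊔ zpowers (t * θ zS * t) → cj x (B.map θ) = B'.map θ := fun B B' h => by
    rw [← inf_S1 w ht B, cj_inf, h, n, inf_S1 w ht]
  rcases w.dichD ht (PT w m c p hx) (p.le hx).2 with h | h
  · exact .inl (mem_N_iff_cj.2 (k _ _ (cj_of_mem_N h)))
  · exact .inr ⟨k _ _ h.1, k _ _ h.2⟩

theorem nS2 (hx : x ∈ P) : x ∈ N[cj t θ.range] := by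
  rw [← cj_N, mem_cjt c.tt]
  exact w.nS1 m c p (Pt c.tt p hx)

theorem chi {u : G} (hu : u ∈ P) (hE : u ∈ N[EE θ])
    (h : ∀ a ∈ E₀, Md1 (θ zS) (u * θ a * u⁻¹) (θ a)) : u ∈ C[EE θ] := by
  have ht := c.tt
  obtain ⟨M, -, hM, -, gl⟩ := w.m1
  have uz := mem_C1_iff_conj.1 (p.le hu).1
  have h' : ∀ y ∈ EE θ, Md1 (θ zS) (u * y * u⁻¹) y := by
    rintro _ ⟨a, ha, rfl⟩; exact h a ha
  have h1 : ∀ y ∈ EE θ, Md1 (θ zS) (u⁻¹ * y * u) y := fun y hy => by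
    rcases h' _ (conj_mem' hE hy) with e | e
    · exact .inl (by rw [← e]; group)
    · refine .inr ?_
      rw [show u * (u⁻¹ * y * u) * u⁻¹ = y by group] at e
      nth_rw 2 [e]
      rw [mul_assoc _ (θ zS), z1sq, mul_one]
  have key : ∀ k ∈ M, ∀ y ∈ EE θ, u * y * u⁻¹ = y → u * (k * y * k⁻¹) * u⁻¹ = k * y * k⁻¹ :=
    fun k hk y hy e => by
      have kz := mem_C1_iff_conj.1 (hM hk).1.2
      have g : u * k * u⁻¹ * k⁻¹ ∈ C[EE θ] := by
        have kE : k ∈ N[EE θ] := (hM hk).2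
        have kC : k ∈ C[cj t θ.range] := (hM hk).1.1
        refine w.tv _ (mem_inf.2 ⟨mul_mem (mul_mem (mul_mem hE kE) (inv_mem hE)) (inv_mem kE),
          C_anti (cj_mono t E_le) (mul_mem (conj_mem (N_le_NC _ (nS2 w m c p hu)) kC)
            (inv_mem kC))⟩) fun a ha => ?_
        have a1 : θ a ∈ EE θ := ⟨a, ha, rfl⟩
        have e1 : u * k * u⁻¹ * k⁻¹ * θ a * (u * k * u⁻¹ * k⁻¹)⁻¹ =
            u * (k * (u⁻¹ * (k⁻¹ * θ a * k) * u) * k⁻¹) * u⁻¹ := by group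
        rw [e1]
        rcases h1 _ (conj_mem' (hM hk).2 a1) with e2 | e2 <;> rw [e2]
        · rw [show k * (k⁻¹ * θ a * k) * k⁻¹ = θ a by group]; exact h a ha
        · rw [show u * (k * (k⁻¹ * θ a * k * θ zS) * k⁻¹) * u⁻¹ =
            u * θ a * u⁻¹ * (u * (k * θ zS * k⁻¹) * u⁻¹) by group, kz, uz]
          rcases h a ha with e3 | e3 <;> rw [e3]
          · exact .inr rfl
          · exact .inl (by rw [mul_assoc, z1sq, mul_one])
      have := conj_eq_of_mem_C g (conj_mem (hM hk).2 hy)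
      have e' : u⁻¹ * y * u = y := by nth_rw 1 [← e]; group
      calc u * (k * y * k⁻¹) * u⁻¹ = u * (k * (u⁻¹ * y * u) * k⁻¹) * u⁻¹ := by rw [e']
        _ = _ := by rw [← this]; group
  have zC : θ zS ∈ C{u} := H24.mem_C1_comm.1 (p.le hu).1
  have fx : ∀ y, y ∈ C{u} ↔ u * y * u⁻¹ = y := fun y => by rw [H24.mem_C1_comm, mem_C1_iff_conj]
  have tr : ∀ b b2 b3, Ind b b2 b3 → (θ ζS ∈ C{u} ↔ θ b ∈ C{u}) := fun b b2 b3 hb => by
    obtain ⟨k, hk, e, -⟩ := gl b b2 b3 hb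
    have a1 : θ ζS ∈ EE θ := ⟨ζS, show ζS ∈ E₀ by decide, rfl⟩
    have : θ ζS ∈ C{u} ↔ k * θ ζS * k⁻¹ ∈ C{u} := by
      rw [fx, fx]
      refine ⟨key k hk _ a1, fun e => ?_⟩
      simpa [mul_assoc] using key k⁻¹ (inv_mem hk) _ (conj_mem (hM hk).2 a1) e
    rw [this]
    rcases e with e | e <;> rw [e]
    exact mul_mem_cancel_right zC
  have t1 := tr eS ζS wS (by decide)
  have t2 := tr wS ζS eS (by decide)
  have t3 := tr (ζS * eS) ζS wS (by decide)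
  have hζ : θ ζS ∈ C{u} := by
    by_contra hn
    have e1 := (h ζS (by decide)).resolve_left (mt (fx _).2 hn)
    have e2 := (h eS (by decide)).resolve_left (mt (fx _).2 (mt t1.2 hn))
    refine hn (t3.2 ((fx _).2 ?_))
    rw [map_mul, show u * (θ ζS * θ eS) * u⁻¹ = u * θ ζS * u⁻¹ * (u * θ eS * u⁻¹) by group, e1, e2]
    simp only [← map_mul]
    exact congrArg θ (by decide)
  exact mem_C_iff_le_C1.2 (map_le_iff_le_comap.2 (E0_le zC hζ (t1.1 hζ) (t2.1 hζ)))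

theorem lemA (hx : x ∈ P) (hE : x ∈ N[EE θ]) : ∃ s, θ s * x ∈ C[EE θ] := by
  have ht := c.tt
  have hi := inj w ht
  obtain ⟨α, ai, hα⟩ := exists_aut hi (w.nS1 m c p hx)
  have az : α zS = zS := hi (by rw [hα]; exact mem_C1_iff_conj.1 (p.le hx).1)
  have aE : ∀ a ∈ E₀, α a ∈ E₀ := fun a ha =>
    (mem_map_iff_mem hi).1 (hα a ▸ conj_mem hE ⟨a, ha, rfl⟩)
  have k1 : ∀ a ∈ E₀, ∀ s, (a * s * a⁻¹ * s⁻¹).a1 = false := by decide +kernel
  have k2 : ∀ a ∈ E₀, a.a1 = false → ∀ s, a * s * a⁻¹ * s⁻¹ ∈ Z₀ := by decide +kernel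
  have e2 : (α eS).a1 = false := by
    rw [show eS = wS * σS * wS⁻¹ * σS⁻¹ by decide]
    simp only [map_mul, map_inv]
    exact k1 _ (aE wS (by decide)) _
  have e1 : α ζS ∈ Z₀ := by
    rw [show ζS = eS * wS' * eS⁻¹ * wS'⁻¹ by decide]
    simp only [map_mul, map_inv]
    exact k2 _ (aE eS (by decide)) e2 _
  have ke : ∀ a, a ≠ 1 ∧ a ≠ zS → α a ≠ 1 ∧ α a ≠ zS := fun a h =>
    ⟨fun e => h.1 (ai (e.trans (map_one α).symm)), fun e => h.2 (ai (e.trans az.symm))⟩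
  obtain ⟨s, h1, h2, h3⟩ := flag _ e1 _ (aE eS (by decide)) e2 _ (aE wS (by decide))
    ⟨e1.1, aE eS (by decide), aE wS (by decide), by
      simp only [List.forall_mem_cons, List.not_mem_nil, false_imp_iff, implies_true, and_true,
        ← map_mul]
      exact ⟨ke _ (by decide), ke _ (by decide), ke _ (by decide), ke _ (by decide),
        ke _ (by decide), ke _ (by decide), ke _ (by decide)⟩⟩
  refine ⟨s, chi w m c p (mul_mem (p.s1 ⟨s, rfl⟩) hx) (mul_mem (S1NE ⟨s, rfl⟩) hE) fun a ha => ?_⟩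
  let Y : Subgroup SS :=
    { carrier := {a | Md1 zS (s * α a * s⁻¹) a}
      one_mem' := .inl (by simp)
      mul_mem' := fun {a b} ha hb => by
        have := md_mul zz (zc b) ha hb
        rwa [show s * α a * s⁻¹ * (s * α b * s⁻¹) = s * α (a * b) * s⁻¹ by rw [map_mul]; group] at this
      inv_mem' := fun {a} ha => by
        change Md1 zS (s * α a⁻¹ * s⁻¹) a⁻¹
        rw [show s * α a⁻¹ * s⁻¹ = (s * α a * s⁻¹)⁻¹ by rw [map_inv]; group]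
        rcases ha with e | e <;> rw [e]
        · exact .inl rfl
        · exact .inr (by rw [mul_inv_rev, inv_eq_of_mul_eq_one_right zz, zc]) }
  have := E0_le (Y := Y) (.inl (by rw [az, ← zc]; group)) h1 h2 h3 ha
  have e : θ s * x * θ a * (θ s * x)⁻¹ = θ (s * α a * s⁻¹) := by
    simp only [map_mul, map_inv, hα]; group
  rw [e]
  rcases this with e | e <;> rw [e]
  exacts [.inl rfl, .inr (map_mul _ _ _)]

theorem inn (hx : x ∈ P) (hE : x ∈ N[EE θ]) : ∃ s, θ s * x ∈ C[θ.range] := by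
  have ht := c.tt
  have hi := inj w ht
  by_cases h2 : x ∈ N[cj t (EE θ)]
  · obtain ⟨u, v, rfl⟩ := (w.mem_S ht).1 (ker w m c p ⟨⟨hx, hE⟩, h2⟩)
    exact ⟨u⁻¹, by simpa using cents_symm (S1S2 w ht) (tS2 ht v)⟩
  have hq := Pt ht p hx
  obtain ⟨q1, q2⟩ := (dich w m c p hq).resolve_left fun h => h2 (by rwa [← cj_N, mem_cjt ht])
  set q := t * x * t
  have hx' : q⁻¹ * x * q ∈ P := mul_mem (mul_mem (inv_mem hq) hx) hq
  obtain ⟨s1, h1⟩ := lemA w m c p hx hE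
  obtain ⟨s2, h2⟩ := lemA w m c p hx' ((dich w m c p hx').resolve_right fun h => E_ne hi (by
    rw [← h.2, cj_mul, cj_mul, q2, cj_of_mem_N hE, cj_eq_iff, inv_inv] ; exact q2.symm))
  obtain ⟨s3, e3⟩ := conj_mem (w.nS1 m c p hq) (⟨s2, rfl⟩ : θ s2 ∈ θ.range)
  have h3 : θ s3 * x ∈ C[E₁.map θ] := by
    rw [← q1, ← cj_C, e3]
    convert conj_mem_cj q h2 using 1
    group
  have k1 : ∀ s : SS, s * ζS = ζS * s → ∃ a ∈ E₀, ∃ b ∈ E₁, s = b * a := by decide +kernel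
  obtain ⟨a, ha, b, hb, e⟩ := k1 (s3 * s1⁻¹) (hi (by
    have := mul_mem (C_le_C1 (⟨ζS, show ζS ∈ E₁ by decide, rfl⟩ : θ ζS ∈ E₁.map θ) h3)
      (inv_mem (C_le_C1 (⟨ζS, show ζS ∈ E₀ by decide, rfl⟩ : θ ζS ∈ EE θ) h1))
    simpa [H24.mem_C1, mul_assoc] using this))
  have ab : ∀ (B : Subgroup SS), (∀ u ∈ B, ∀ v ∈ B, u * v = v * u) → ∀ u ∈ B, θ u ∈ C[B.map θ] :=
    fun B h u hu => mem_C'.2 (by rintro _ ⟨v, hv, rfl⟩; rw [← map_mul, h u hu v hv, map_mul])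
  have c0 : θ (a * s1) * x ∈ C[EE θ] := by
    rw [map_mul, mul_assoc]; exact mul_mem (ab _ e0_comm a ha) h1
  have c1 : θ (a * s1) * x ∈ C[E₁.map θ] := by
    rw [show a * s1 = b⁻¹ * s3 by rw [eq_inv_mul_iff_mul_eq, ← mul_assoc, ← e]; group, map_mul,
      mul_assoc]
    exact mul_mem (ab _ (by decide +kernel) _ (inv_mem hb)) h3
  obtain ⟨α, -, hα⟩ := exists_aut hi (w.nS1 m c p (mul_mem (p.s1 ⟨a * s1, rfl⟩) hx))
  have f0 : ∀ u ∈ E₀, α u = u := fun u hu => hi (by rw [hα]; exact conj_eq_of_mem_C c0 ⟨u, hu, rfl⟩)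
  have f1 : ∀ u ∈ E₁, α u = u := fun u hu => hi (by rw [hα]; exact conj_eq_of_mem_C c1 ⟨u, hu, rfl⟩)
  have k2 : ∀ y : SS, y * y = 1 → y * wS * y⁻¹ = σS * wS * σS⁻¹ → y * wS' * y⁻¹ = σS * wS' * σS⁻¹ →
      y * eS * y⁻¹ = σS * eS * σS⁻¹ → y * eS' * y⁻¹ = σS * eS' * σS⁻¹ →
      ∃ d ∈ Z₀, d * y * d⁻¹ = σS := by decide +kernel
  have g0 : ∀ u ∈ E₀, α σS * u * (α σS)⁻¹ = σS * u * σS⁻¹ := fun u hu => by
    rw [← f0 _ (e0_conj σS u hu), map_mul, map_mul, map_inv, f0 u hu]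
  have g1 : ∀ u ∈ E₁, σS * u * σS⁻¹ ∈ E₁ → α σS * u * (α σS)⁻¹ = σS * u * σS⁻¹ := fun u hu h => by
    rw [← f1 _ h, map_mul, map_mul, map_inv, f1 u hu]
  obtain ⟨d, hd, e⟩ := k2 (α σS) (by rw [← map_mul, show σS * σS = 1 by decide, map_one])
    (g0 _ (by decide)) (g1 _ (by decide) (by decide)) (g0 _ (by decide)) (g1 _ (by decide) (by decide))
  refine ⟨d * (a * s1), mem_C_iff_le_C1.2 ?_⟩
  rintro _ ⟨s, rfl⟩
  rw [map_mul, mul_assoc]
  refine top_le (Y := (C{θ d * (θ (a * s1) * x)}).comap θ)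
    (map_le_iff_le_comap.1 (mem_C_iff_le_C1.1 (mul_mem (ab _ e0_comm d hd.1) c0)))
    (map_le_iff_le_comap.1 (mem_C_iff_le_C1.1 (mul_mem (ab _ (by decide +kernel) d hd.2) c1))) ?_ s
  rw [mem_comap, H24.mem_C1_comm, mem_C1_iff_conj]
  nth_rw 2 [← e]
  simp only [map_mul, map_inv, hα]
  group

end NDHx

/-! ### NDH -/
theorem Wr.pe' {θ : SS →* G} (w : Wr t J ι θ) (m : Md t K J ι) (c : In n t K J) (p : P0 t θ P) :
    Pe t θ P := by
  refine ⟨p, w.nS1 m c p, fun x hx => NDHx.dich w m c p hx, NDGx.ker w m c p, fun x hx => ?_⟩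
  obtain ⟨s, hs⟩ := NDHx.inn w m c p (inv_mem hx.1) (inv_mem hx.2)
  exact ⟨s⁻¹, by simpa using inv_mem hs⟩

end H28.ND
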