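import Mathlib
import Cfsg.Agent.H28.ND0
import Cfsg.Agent.H28.NDF
import Cfsg.Agent.H16.NDJ0

/-! # S1739, doubling end: copies of the model group in `P` with centre `z₂` -/

set_option autoImplicit false
set_option linter.unusedSectionVars false

namespace H28.ND

open Subgroup Equiv Equiv.Perm Cfsg H24 H23 H25.LB H5.Ly H20.So
open scoped commutatorElement

variable {G : Type*} [Group G] [Finite G] {n : ℕ} {t x y g k a b : G}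
  {K K' L H D Q Q' R T P : Subgroup G} {J J' : G → Subgroup G} {ι : SS →* G}

namespace NDIx

open NDJx

variable {θ : SS →* G}

theorem s1 : ∀ u : SS, u ≠ 1 → u ≠ zS → ∃ v, v * u * v⁻¹ = u * zS := by decide +kernel
theorem s2 : ∀ u : SS, (∀ v, v * u = u * v) → u = 1 ∨ u = zS := by decide +kernel
theorem s3 : ∀ u : SS, u ≠ 1 → u ≠ zS → (∃ v : SS, ⁅u, v⁆ ≠ 1 ∧ ⁅u, v⁆ ≠ zS) ∨ ∃ a b : SS, u = ⁅a, b⁆ := by
  decide +kernel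
theorem s4 : ∀ v : SS, v * zS = zS * v := by decide +kernel
theorem s5 : ∀ x : SS, x ∈ E₀ ∨ x ∈ E₁ → ∀ u : SS, ⁅x, u⁆ * ⁅x, u⁆ = 1 := by decide +kernel
theorem s6 : ∀ e1 : SS, e1 ∈ E₁ → e1 ∉ E₀ → ∀ e0 : SS, e0 ∈ E₀ → e0 ∉ E₁ → ∀ b : SS, b * b = 1 →
    ¬ (b * (e1 * e0⁻¹)⁻¹ = 1 ∨ b * (e1 * e0⁻¹)⁻¹ = zS) := by decide +kernel
theorem s7 : ∀ u : SS, ∃ a, a ∈ E₀ ∧ ∃ b, b ∈ E₁ ∧ (u = a * b ∨ u = a * b * σS) := by decide +kernel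
theorem s8 : ∀ a b : SS, ⁅a, b⁆ ∈ J₀ ∧ (a ∈ J₀ ∨ b ∈ J₀ ∨ a * b ∈ J₀) := by decide +kernel
theorem s9 : ∀ c : SS, c ∈ J₀ → c ∉ Z₀ → ∀ a : SS, a ∈ J₀ → ⁅c, a⁆ = 1 → ∀ b : SS, b ∈ J₀ → ⁅c, b⁆ = 1 →
    ⁅a, b⁆ = 1 := by decide +kernel
set_option synthInstance.maxSize 4096 in
set_option synthInstance.maxHeartbeats 200000 in
theorem s10 : ∀ c : SS, c ∈ Z₀ → ¬ (c = 1 ∨ c = zS) → ∀ a : SS, ⁅c, a⁆ = 1 → (a * a = 1 ∨ a * a = zS) →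
    ¬ (a = 1 ∨ a = zS) → ¬ (c * a = 1 ∨ c * a = zS) → a ∉ Z₀ ∧ ∀ b : SS, ⁅c, b⁆ = 1 → ⁅a, b⁆ = 1 →
    (b * b = 1 ∨ b * b = zS) → ¬ (b = 1 ∨ b = zS) → ¬ (c * b = 1 ∨ c * b = zS) →
    ¬ (a * b = 1 ∨ a * b = zS) → ¬ (c * (a * b) = 1 ∨ c * (a * b) = zS) → a ∈ E₀ ∨ a ∈ E₁ := by
  decide +kernel
theorem s11 : ∀ a b : SS, a * b⁻¹ = 1 ∨ a * b⁻¹ = zS → (a ∈ E₀ ↔ b ∈ E₀) := by decide +kernel

theorem two_comm {A : Subgroup G} (h : ∀ x ∈ P, ∀ y ∈ P, x ∉ A → y ∉ A → x * y ∈ A) (hx : x ∈ P)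
    (hy : y ∈ P) : ⁅x, y⁆ ∈ A := by
  have cj : ∀ a ∈ P, ∀ b ∈ P, a ∈ A → b * a * b⁻¹ ∈ A := fun a ha b hb hA => by
    by_cases hb' : b ∈ A
    · exact mul_mem (mul_mem hb' hA) (inv_mem hb')
    · exact h _ (mul_mem hb ha) _ (inv_mem hb) (fun e => hb' ((mul_mem_cancel_right hA).1 e))
        fun e => hb' (inv_mem_iff.1 e)
  rw [commutatorElement_def]
  by_cases h2 : y ∈ A
  · exact mul_mem (cj y hy x hx h2) (inv_mem h2)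
  by_cases h1 : x ∈ A
  · rw [mul_assoc, mul_assoc, ← mul_assoc y]
    exact mul_mem h1 (cj _ (inv_mem hx) y hy (inv_mem h1))
  · rw [mul_assoc]
    exact mul_mem (h x hx y hy h1 h2) (h _ (inv_mem hx) _ (inv_mem hy) (fun e => h1 (inv_mem_iff.1 e))
      fun e => h2 (inv_mem_iff.1 e))

theorem cnt {Q : Type*} [Group Q] [Finite Q] {f g : SS →* Q} (hk : f.ker = g.ker) :
    (f.range ≤ g.range → g.range ≤ f.range) ∧
      ((∀ x y, x ∉ g.range → y ∉ g.range → x * y ∈ g.range) →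
        ∀ x y, x ∉ f.range → y ∉ f.range → x * y ∈ f.range) := by
  have hc : Nat.card f.range = Nat.card g.range := by rw [← index_ker, ← index_ker, hk]
  refine ⟨fun h => (eq_of_le_of_card_ge h hc.ge).ge, fun h x y hx hy => ?_⟩
  have hi : f.range.index = g.range.index :=
    mul_left_cancel₀ Nat.card_pos.ne' (by rw [card_mul_index, hc, card_mul_index])
  by_cases ht : g.range = ⊤
  · rw [ht, index_top, index_eq_one] at hi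
    exact absurd (hi ▸ mem_top x) hx
  · obtain ⟨a, ha⟩ := not_forall.1 (fun e => ht ((eq_top_iff' _).2 e))
    have : g.range.index = 2 := index_eq_two_iff.2 ⟨a, fun b => by
      by_cases hb : b ∈ g.range
      · exact Or.inr ⟨hb, fun e => ha ((mul_mem_cancel_left hb).1 e)⟩
      · exact Or.inl ⟨h _ _ hb ha, hb⟩⟩
    exact (mul_mem_iff_of_index_two (hi.trans this)).2 (iff_of_false hx hy)

theorem cnt2 (hn : P ≤ N[D]) {ψ φ : SS →* G} (h1 : ∀ u, ψ u ∈ P) (h2 : ∀ u, φ u ∈ P)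
    (hk : ∀ u, ψ u ∈ D ↔ φ u ∈ D) :
    ((∀ u, ∃ c, ψ u * (φ c)⁻¹ ∈ D) → ∀ c, ∃ u, ψ u * (φ c)⁻¹ ∈ D) ∧
      ((∀ x ∈ P, ∀ y ∈ P, (¬ ∃ c, x * (φ c)⁻¹ ∈ D) → (¬ ∃ c, y * (φ c)⁻¹ ∈ D) →
        ∃ c, x * y * (φ c)⁻¹ ∈ D) → ∀ a b, (∃ u, ψ u * (φ a)⁻¹ ∈ D) ∨ (∃ u, ψ u * (φ b)⁻¹ ∈ D) ∨
          ∃ u, ψ u * (φ (a * b))⁻¹ ∈ D) := by
  haveI : (D.subgroupOf P).Normal := normal_subgroupOf_of_le_normalizer hn
  let π := QuotientGroup.mk' (D.subgroupOf P)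
  have hπ : ∀ x y : P, π x = π y ↔ (x : G) * (y : G)⁻¹ ∈ D := fun x y => by
    rw [QuotientGroup.mk'_apply, QuotientGroup.mk'_apply, QuotientGroup.eq_iff_div_mem, div_eq_mul_inv]
    rfl
  obtain ⟨c1, c2⟩ := cnt (f := π.comp (ψ.codRestrict P h1)) (g := π.comp (φ.codRestrict P h2)) (by
    ext u
    have e1 := hπ ⟨_, h1 u⟩ 1
    have e2 := hπ ⟨_, h2 u⟩ 1
    simp only [map_one, OneMemClass.coe_one, inv_one, mul_one] at e1 e2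
    exact e1.trans ((hk u).trans e2.symm))
  refine ⟨fun h c => ?_, fun h a b => ?_⟩
  · obtain ⟨u, hu⟩ := c1 (by
      rintro _ ⟨u, rfl⟩
      obtain ⟨c, hc⟩ := h u
      exact ⟨c, ((hπ ⟨_, h1 u⟩ ⟨_, h2 c⟩).2 hc).symm⟩) ⟨c, rfl⟩
    exact ⟨u, (hπ ⟨_, h1 u⟩ ⟨_, h2 c⟩).1 hu⟩
  · by_contra hc
    push Not at hc
    obtain ⟨u, hu⟩ := c2 (fun x y hx hy => by
      obtain ⟨x, rfl⟩ := QuotientGroup.mk'_surjective _ x
      obtain ⟨y, rfl⟩ := QuotientGroup.mk'_surjective _ y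
      obtain ⟨c, hc⟩ := h x x.2 y y.2 (fun ⟨c, hc⟩ => hx ⟨c, ((hπ x ⟨_, h2 c⟩).2 hc).symm⟩)
        fun ⟨c, hc⟩ => hy ⟨c, ((hπ y ⟨_, h2 c⟩).2 hc).symm⟩
      exact ⟨c, ((hπ (x * y) ⟨_, h2 c⟩).2 hc).symm.trans (map_mul π x y)⟩)
      (π ⟨_, h2 a⟩) (π ⟨_, h2 b⟩) (fun ⟨u, hu⟩ => hc.1 u ((hπ ⟨_, h1 u⟩ ⟨_, h2 a⟩).1 hu))
      fun ⟨u, hu⟩ => hc.2.1 u ((hπ ⟨_, h1 u⟩ ⟨_, h2 b⟩).1 hu)
    rw [← map_mul] at hu
    exact hc.2.2 u (map_mul φ a b ▸ (hπ ⟨_, h1 u⟩ _).1 hu)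

theorem c0 (p : Pe t θ P) (w : Wr t J ι θ) (ht : t * t = 1) (hx : x ∈ P) (hy : y ∈ P)
    (hc : y ∈ C[cj t θ.range]) (hn : y ∈ N[EE θ]) : ⁅x, y⁆ ∈ θ.range := by
  obtain ⟨u, hu⟩ := c1 p w ht hy hc hn
  have h1 : θ u ∈ θ.range := ⟨u, rfl⟩
  have h2 : ⁅x, θ u⁆ ∈ θ.range := mul_mem (conj_mem (p.nS hx) h1) (inv_mem h1)
  rcases hu with rfl | rfl
  · exact h2
  · have z := pz2 p.toP0 (inv_mem hx)
    generalize t * θ zS * t = z2 at *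
    rw [commutatorElement_def, ← mul_assoc, mul_assoc _ z2, ← z, mul_inv_rev, ← mul_assoc, ← mul_assoc,
      mul_inv_cancel_right]
    exact h2

theorem c22 (p : Pe t θ P) (w : Wr t J ι θ) (ht : t * t = 1) (hx : x ∈ P) (hx' : x ∈ C[cj t θ.range])
    (hy : y ∈ P) (hy' : y ∈ C[cj t θ.range]) : ⁅x, y⁆ ∈ θ.range := by
  by_cases h2 : y ∈ N[EE θ]
  · exact c0 p w ht hx hy hy' h2
  by_cases h1 : x ∈ N[EE θ]
  · exact commutatorElement_inv y x ▸ inv_mem (c0 p w ht hy hx hx' h1)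
  have := conj_mem (p.nS hx) (c0 p w ht hx (mul_mem (inv_mem hx) hy) (mul_mem (inv_mem hx') hy')
    (sw1 p (inv_mem hx) hy (fun e => h1 (inv_mem_iff.1 e)) h2))
  convert this using 1
  simp only [commutatorElement_def]; group

theorem l3 (p : Pe t θ P) (w : Wr t J ι θ) (m : Md t K J ι) (ht : t * t = 1) {ψ : SS →* G}
    (hP : ∀ u, ψ u ∈ P) (hz : ψ zS = t * θ zS * t) (u : SS) (hu : ψ u ∈ C[cj t θ.range]) :
    u = 1 ∨ u = zS := by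
  have A : ∀ u, ψ u ∈ C[cj t θ.range] → ψ u ∈ N[EE θ] → u ≠ 1 → u ≠ zS → False := fun u hu hn h1 h2 => by
    obtain ⟨v, hv⟩ := s1 u h1 h2
    obtain ⟨a, ha⟩ := c1 p w ht (hP u) hu hn
    have e := congrArg ψ hv
    rw [map_mul, map_mul, map_inv, map_mul, hz] at e
    have h1 : θ a ∈ θ.range := ⟨a, rfl⟩
    refine nz2 w m ht ((mul_mem_cancel_left h1).1 ?_)
    have z := pz2 p.toP0 (inv_mem (hP v))
    generalize t * θ zS * t = z2 at *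
    have : ψ v * θ a * (ψ v)⁻¹ = θ a * z2 := by
      rcases ha with ha | ha <;> rw [ha] at e
      · exact e
      · rw [← mul_assoc, mul_assoc _ z2, ← z, ← mul_assoc] at e
        exact mul_right_cancel e
    exact this ▸ conj_mem (p.nS (hP v)) h1
  have B : ∀ a b, ψ ⁅a, b⁆ ∈ N[EE θ] := fun a b => map_commutatorElement ψ a b ▸
    two_comm (fun _ hx _ hy => sw1 p hx hy) (hP a) (hP b)
  by_contra h
  push Not at h
  rcases s3 u h.1 h.2 with ⟨v, h1, h2⟩ | ⟨a, b, rfl⟩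
  · refine A _ ?_ (B u v) h1 h2
    rw [map_commutatorElement, commutatorElement_def, mul_assoc, mul_assoc, ← mul_assoc (ψ v)]
    exact mul_mem hu (conj_mem (N_le_NC _ (nS2 p ht (hP v))) (inv_mem hu))
  · exact A _ hu (B a b) h.1 h.2

end NDIx

/-! ### NDI -/
open NDJx NDIx in
theorem Pe.lemW {θ : SS →* G} (p : Pe t θ P) (w : Wr t J ι θ) (m : Md t K J ι) (ht : t * t = 1)
    {ψ : SS →* G} (hi : Function.Injective ψ) (hP : ψ.range ≤ P) (hz : ψ zS = t * θ zS * t) :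
    (∀ u, ψ u ∈ N[cj t (EE θ)]) ∧ (∀ v, ∃ u, ψ u * (t * θ v * t) ∈ C[cj t θ.range]) ∧
      ∀ u, ψ u ∈ C[cj t θ.range] → u = 1 ∨ u = zS := by
  have i2 := cg_inj t (inj w m ht)
  have ψP : ∀ u, ψ u ∈ P := fun u => hP ⟨u, rfl⟩
  have m2 : ∀ u, cg t θ u ∈ cj t θ.range := fun u => cg_range t θ ▸ ⟨u, rfl⟩
  have φP : ∀ u, cg t θ u ∈ P := fun u => s2P p.toP0 (m2 u)
  have nC : P ≤ N[C[cj t θ.range]] := fun x hx => N_le_NC _ (nS2 p ht hx)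
  have cφ : ∀ c, cg t θ c ∈ C[cj t θ.range] ↔ c = 1 ∨ c = zS := fun c =>
    ⟨fun h => s2 c fun v => i2 (by rw [map_mul, map_mul]; exact h _ (m2 v)), fun h y hy => by
      obtain ⟨v, rfl⟩ := cg_range t θ ▸ hy
      rw [← map_mul, ← map_mul]
      rcases h with rfl | rfl
      · rw [mul_one, one_mul]
      · rw [s4]⟩
  have cψ : ∀ u, ψ u ∈ C[cj t θ.range] ↔ u = 1 ∨ u = zS := fun u => ⟨l3 p w m ht ψP hz u, fun h => by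
    rcases h with rfl | rfl
    · rw [map_one]; exact one_mem _
    · rw [hz, ← cg_t ht]; exact (cφ _).2 (Or.inr rfl)⟩
  have φN : ∀ c, cg t θ c ∈ N[cj t (EE θ)] := fun c => mem_N_of_cj_le (by
    rw [cg_map t θ E₀]
    rintro _ ⟨_, ⟨v, hv, rfl⟩, rfl⟩
    exact ⟨c * v * c⁻¹, (by decide +kernel : ∀ c v : SS, v ∈ E₀ → c * v * c⁻¹ ∈ E₀) c v hv, by
      rw [map_mul, map_mul, map_inv]; rfl⟩)
  have inn : ∀ x ∈ P, x ∈ N[cj t (EE θ)] ↔ ∃ c, x * (cg t θ c)⁻¹ ∈ C[cj t θ.range] := fun x hx =>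
    ⟨fun h => by
      obtain ⟨s, hs⟩ := inn2 p ht hx h
      exact ⟨s⁻¹, by rwa [map_inv, inv_inv, cg_t ht]⟩,
    fun ⟨c, hc⟩ => (mul_mem_cancel_right (inv_mem (φN c))).1 (cN2 hc)⟩
  obtain ⟨k1, k2⟩ := cnt2 nC ψP φP fun u => (cψ u).trans (cφ u).symm
  suffices h : ∀ u, ψ u ∈ N[cj t (EE θ)] by
    refine ⟨h, fun v => ?_, fun u => (cψ u).1⟩
    obtain ⟨u, hu⟩ := k1 (fun u => (inn _ (ψP u)).1 (h u)) v⁻¹
    exact ⟨u, by rwa [map_inv, inv_inv, cg_t ht] at hu⟩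
  replace k2 := k2 fun x hx y hy h1 h2 => (inn _ (mul_mem hx hy)).1
    (sw2 p ht hx hy (mt (inn x hx).1 h1) (mt (inn y hy).1 h2))
  set φ := cg t θ with hφ
  set C := C[cj t θ.range] with hC
  have Rm : ∀ {u c v d}, ψ u * (φ c)⁻¹ ∈ C → ψ v * (φ d)⁻¹ ∈ C → ψ (u * v) * (φ (c * d))⁻¹ ∈ C :=
    fun {u c v d} h1 h2 => by
      convert mul_mem h1 (conj_mem (nC (φP c)) h2) using 1
      rw [map_mul, map_mul]; group
  have Ri : ∀ {u c}, ψ u * (φ c)⁻¹ ∈ C → ψ u⁻¹ * (φ c⁻¹)⁻¹ ∈ C := fun {u c} h1 => by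
    convert conj_mem (nC (inv_mem (ψP u))) (inv_mem h1) using 1
    rw [map_inv, map_inv]; group
  have Rk : ∀ {u c}, ψ u * (φ c)⁻¹ ∈ C → (u = 1 ∨ u = zS ↔ c = 1 ∨ c = zS) := fun {u c} h => by
    rw [← cψ, ← cφ]
    exact ⟨fun e => inv_mem_iff.1 ((mul_mem_cancel_left e).1 h), fun e => (mul_mem_cancel_right (inv_mem e)).1 h⟩
  have Rc : ∀ {u c v d}, ψ u * (φ c)⁻¹ ∈ C → ψ v * (φ d)⁻¹ ∈ C → (⁅u, v⁆ = 1 ↔ ⁅c, d⁆ = 1) :=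
    fun {u c v d} h1 h2 => by
      have e := c22 p w ht (mul_mem (ψP u) (inv_mem (φP c))) h1 (mul_mem (ψP v) (inv_mem (φP d))) h2
      have e' : ⁅ψ u * (φ c)⁻¹, ψ v * (φ d)⁻¹⁆ * φ ⁅c, d⁆ = ψ ⁅u, v⁆ := by
        have a1 := h2 _ (m2 c)
        have a2 := inv_mem h1 _ (inv_mem (m2 d))
        have a3 := mul_mem (inv_mem h1) (inv_mem h2) _ (m2 ⁅c, d⁆)
        rw [map_commutatorElement ψ, ← inv_mul_cancel_right (ψ u) (φ c), ← inv_mul_cancel_right (ψ v) (φ d),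
          mul_inv_cancel_right, mul_inv_cancel_right]
        generalize ψ u * (φ c)⁻¹ = r at *
        generalize ψ v * (φ d)⁻¹ = r' at *
        calc _ = r * r' * (r⁻¹ * r'⁻¹ * φ ⁅c, d⁆) := by rw [commutatorElement_def]; group
          _ = r * (r' * φ c) * φ d * (φ c)⁻¹ * ((φ d)⁻¹ * r⁻¹) * r'⁻¹ := by
            rw [← a3, map_commutatorElement, commutatorElement_def]; group
          _ = _ := by rw [← a1, a2, commutatorElement_def]; group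
      refine ⟨fun h => i2 ?_, fun h => ?_⟩
      · rw [h, map_one] at e'
        rw [map_one]
        exact dj12 w ht ((mul_mem_cancel_left e).1 (e' ▸ one_mem _)) (m2 _)
      · rw [h, map_one, mul_one] at e'
        rw [e'] at e
        exact ((cψ _).1 (s12 w ht e)).resolve_right fun f => nz2 w m ht (by rwa [f, hz] at e)
  have Al : ∀ x, ψ x ∉ N[cj t (EE θ)] → ∃ α : SS → SS, (∀ y ∈ E₀, α y ∈ E₁) ∧ (∀ y, α y ∈ E₀ ↔ y ∈ E₁) ∧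
      ∀ u c, ψ u * (φ c)⁻¹ ∈ C → ψ (x * u * x⁻¹) * (φ (α c))⁻¹ ∈ C := fun x hx => by
    obtain ⟨d1, d2⟩ := (dich2 p ht (ψP x)).resolve_left hx
    rw [cg_map t θ E₀, cg_map t θ E₁] at d1 d2
    have : ∀ u, ∃ v, φ v = ψ x * φ u * (ψ x)⁻¹ := fun u =>
      (cg_range t θ ▸ conj_mem (nS2 p ht (ψP x)) (m2 u) : _ ∈ (cg t θ).range)
    choose α hα using this
    refine ⟨α, fun y hy => (mem_map_iff_mem i2).1 ?_, fun y => ?_, fun u c h => ?_⟩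
    · rw [hα, ← d1]; exact conj_mem_cj _ (mem_map_of_mem _ hy)
    · rw [← mem_map_iff_mem (K := E₀) i2, ← mem_map_iff_mem (K := E₁) i2, hα, ← d2, mem_cj]
      simp only [mul_assoc, inv_mul_cancel_left, inv_mul_cancel, mul_one, hφ]
    · convert conj_mem (nC (ψP x)) h using 1
      rw [hα, map_mul, map_mul, map_inv]; group
  have E01 : ∀ x, x ∈ E₀ ∨ x ∈ E₁ → ψ x ∈ N[cj t (EE θ)] := fun x hx => by
    by_contra hn
    obtain ⟨α, a1, a2, a3⟩ := Al x hn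
    obtain ⟨e0, b1, b2, u, hu⟩ : ∃ e0 ∈ E₀, e0 ∉ E₁ ∧ ∃ u, ψ u * (φ e0)⁻¹ ∈ C := by
      rcases k2 eS wS with h | h | h
      exacts [⟨_, by decide, by decide, h⟩, ⟨_, by decide, by decide, h⟩, ⟨_, by decide, by decide, h⟩]
    have r := Rm (a3 u e0 hu) (Ri hu)
    rw [← commutatorElement_def] at r
    obtain ⟨a, b, e⟩ := (w.mem_S ht).1 (p.ker (x := ψ ⁅x, u⁆) ⟨⟨ψP _, map_commutatorElement ψ x u ▸
      two_comm (fun _ hx _ hy => sw1 p hx hy) (ψP x) (ψP u)⟩, map_commutatorElement ψ x u ▸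
      two_comm (fun _ hx _ hy => sw2 p ht hx hy) (ψP x) (ψP u)⟩)
    have sq : θ (a * a) * (t * θ (b * b) * t) = θ 1 * (t * θ 1 * t) := by
      have := congrArg ψ (s5 x hx u)
      rw [map_mul, e, map_one, mul_assoc, ← mul_assoc (t * θ b * t), ← w.cm] at this
      rw [map_one, mul_one, one_mul, ht, ← this, map_mul, map_mul, tmul ht]; group
    rw [e, ← cg_t ht, mul_assoc, mul_mem_cancel_left (s12 w ht ⟨a, rfl⟩), ← map_inv, ← map_mul, cφ] at r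
    exact s6 _ (a1 _ b1) (fun f => b2 ((a2 _).1 f)) _ b1 b2 b (w.uq m ht sq).2 r
  by_contra hn
  have hσ : ψ σS ∉ N[cj t (EE θ)] := fun f => hn fun u => by
    obtain ⟨a, ha, b, hb, rfl | rfl⟩ := s7 u <;> simp only [map_mul]
    exacts [mul_mem (E01 a (.inl ha)) (E01 b (.inr hb)), mul_mem (mul_mem (E01 a (.inl ha)) (E01 b (.inr hb))) f]
  obtain ⟨α, a1, a2, a3⟩ := Al _ hσ
  obtain ⟨c2, r2⟩ := (inn _ (ψP eS)).1 (E01 _ (by decide))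
  obtain ⟨c3, r3⟩ := (inn _ (ψP wS)).1 (E01 _ (by decide))
  obtain ⟨c4, r4⟩ := (inn _ (ψP eS')).1 (E01 _ (by decide))
  obtain ⟨c5, r5⟩ := (inn _ (ψP wS')).1 (E01 _ (by decide))
  have r1 : ψ ⁅wS, eS'⁆ * (φ ⁅c3, c4⁆)⁻¹ ∈ C := Rm (Rm (Rm r3 r4) (Ri r3)) (Ri r4)
  have z1 : ⁅c3, c4⁆ ∈ Z₀ := by
    by_contra hc
    obtain ⟨u, a, h1, h2, h3, h4⟩ : ∃ u a, u ∈ E₀ ∧ u ∉ E₁ ∧ a ∈ J₀ ∧ ψ u * (φ a)⁻¹ ∈ C := by
      rcases (s8 c2 c3).2 with h | h | h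
      exacts [⟨_, _, by decide, by decide, h, r2⟩, ⟨_, _, by decide, by decide, h, r3⟩,
        ⟨_, _, by decide, by decide, h, Rm r2 r3⟩]
    obtain ⟨v, b, g1, g2, g3, g4⟩ : ∃ v b, v ∈ E₁ ∧ v ∉ E₀ ∧ b ∈ J₀ ∧ ψ v * (φ b)⁻¹ ∈ C := by
      rcases (s8 c4 c5).2 with h | h | h
      exacts [⟨_, _, by decide, by decide, h, r4⟩, ⟨_, _, by decide, by decide, h, r5⟩,
        ⟨_, _, by decide, by decide, h, Rm r4 r5⟩]
    have q : ∀ u : SS, u ∈ E₀ ∨ u ∈ E₁ → ⁅⁅wS, eS'⁆, u⁆ = 1 := by decide +kernel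
    have q' : ∀ u : SS, u ∈ E₀ → u ∉ E₁ → ∀ v : SS, v ∈ E₁ → v ∉ E₀ → ⁅u, v⁆ ≠ 1 := by decide +kernel
    exact q' u h1 h2 v g1 g2 ((Rc h4 g4).2 (s9 _ (s8 c3 c4).1 hc a h3 ((Rc r1 h4).1 (q u (.inl h1))) b g3
      ((Rc r1 g4).1 (q v (.inr g1)))))
  obtain ⟨f1, f2⟩ := s10 _ z1 (mt (Rk r1).2 (by decide)) c2 ((Rc r1 r2).1 (by decide))
    ((Rk (Rm r2 r2)).1 (by decide)) (mt (Rk r2).2 (by decide)) (mt (Rk (Rm r1 r2)).2 (by decide))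
  have f3 := f2 c3 ((Rc r1 r3).1 (by decide)) ((Rc r2 r3).1 (by decide)) ((Rk (Rm r3 r3)).1 (by decide))
    (mt (Rk r3).2 (by decide)) (mt (Rk (Rm r1 r3)).2 (by decide)) (mt (Rk (Rm r2 r3)).2 (by decide))
    (mt (Rk (Rm r1 (Rm r2 r3))).2 (by decide))
  have f4 := (s11 _ _ ((Rk (Rm (a3 _ _ r2) (Ri r2))).1 (by decide))).symm.trans (a2 c2)
  exact f1 (f3.elim (fun h => ⟨h, f4.1 h⟩) fun h => ⟨f4.2 h, h⟩)
open NDJx NDIx in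
theorem Pe.c2 {θ : SS →* G} (p : Pe t θ P) (w : Wr t J ι θ) (m : Md t K J ι) (ht : t * t = 1)
    (hx : x ∈ P ⊓ C[cj t θ.range]) (hy : y ∈ P ⊓ N[cj t (EE θ)]) : ⁅x, y⁆ ∈ θ.range := by
  obtain ⟨s, hs⟩ := inn2 p ht hy.1 hy.2
  have h := c22 p w ht hx.1 hx.2 (mul_mem hy.1 (s2P p.toP0 (z2m ht s))) hs
  have e := inv_mem (mem_inf.1 hx).2 _ (z2m ht s)
  generalize t * θ s * t = q at *
  rwa [commutatorElement_def, ← mul_assoc, mul_assoc _ q, e, mul_inv_rev, ← mul_assoc, ← mul_assoc,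
    mul_inv_cancel_right, ← commutatorElement_def] at h

end H28.ND
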