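import Mathlib
import Cfsg.Agent.H28.ND0
import Cfsg.Agent.H28.NDI
import Cfsg.Agent.H16.NDJ0

/-! # S1739, doubling end: the strongly closed subgroup -/

set_option autoImplicit false
set_option linter.unusedSectionVars false

namespace H28.ND

open Subgroup Equiv Equiv.Perm Cfsg H24 H23 H25.LB H5.Ly H20.So
open scoped commutatorElement

variable {G : Type*} [Group G] [Finite G] {n : ℕ} {t x y g k a b : G}
  {K K' L H D Q Q' R T P : Subgroup G} {J J' : G → Subgroup G} {ι : SS →* G}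

namespace NDJx

variable {θ : SS →* G}

theorem ss1 : ∀ u : SS, u ≠ 1 → u ≠ zS → ∃ v, v * u * v⁻¹ = u * zS := by decide +kernel
theorem ss2 : ∀ u : SS, (∀ v, v * u = u * v) → u = 1 ∨ u = zS := by decide +kernel
theorem ss3 : ∀ u : SS, u ∈ E₁ → u * eS⁻¹ ≠ 1 ∧ u * eS⁻¹ ≠ zS := by decide +kernel
theorem ss4 : ∀ a1 : SS, a1 ∈ E₁ → a1 ∉ E₀ → ∀ a2 : SS, a2 ∈ E₁ → a2 ∉ E₀ → a1 * a2 ∉ E₀ →
    ⁅eS, a2⁆ = ⁅a1, wS⁆ → a1 * eS = zS * (eS * a1) ∨ a2 * wS = zS * (wS * a2) ∨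
      a1 * a2 * (eS * wS) = zS * (eS * wS * (a1 * a2)) := by decide +kernel
theorem ss5 : ∀ u : SS, u ∈ E₀ → u ∈ E₁ → u = 1 ∨ u = zS ∨ u = ζS ∨ u = zS * ζS := by decide +kernel
theorem ss6 : ∀ a : SS, a ∈ E₁ → ∀ e : SS, e ∈ E₀ → ⁅e, a⁆ ∈ E₀ ∧ ⁅e, a⁆ ∈ E₁ := by decide +kernel
theorem ss8 : ∀ v : SS, v * zS = zS * v := by decide +kernel
theorem ss7 : ∀ u : SS, ∀ e : SS, e ∈ E₀ → u * e * u⁻¹ ∈ E₀ := by decide +kernel

/-- the two central involutions outside `S₁` -/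
def Cc (t : G) (θ : SS →* G) (c : G) : Prop := c = t * θ zS * t ∨ c = θ zS * (t * θ zS * t)

theorem Cc.not (w : Wr t J ι θ) (m : Md t K J ι) (ht : t * t = 1) {c : G} (h : Cc t θ c) :
    c ∉ θ.range := fun e => nz2 w m ht (by
  rcases h with rfl | rfl
  · exact e
  · exact (mul_mem_cancel_left (⟨zS, rfl⟩ : θ zS ∈ θ.range)).1 e)

theorem Cc.cen {c : G} (h : Cc t θ c) (hg : g ∈ HH t θ) : g * c = c * g := by
  rcases h with rfl | rfl
  · exact H24.mem_C1.1 hg.2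
  · have e1 := H24.mem_C1.1 hg.1
    have e2 := H24.mem_C1.1 hg.2
    generalize t * θ zS * t = y at *
    rw [← mul_assoc, e1, mul_assoc, e2, mul_assoc]

theorem Cc.sq (w : Wr t J ι θ) (ht : t * t = 1) {c : G} (h : Cc t θ c) : c * c = 1 := by
  have e1 : θ zS * θ zS = 1 := by rw [← map_mul, show zS * zS = 1 by decide, map_one]
  have e2 : t * θ zS * t * (t * θ zS * t) = 1 := by rw [← tmul ht, e1, mul_one, ht]
  rcases h with rfl | rfl
  · exact e2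
  · rw [mul_assoc, ← mul_assoc (t * θ zS * t), ← w.cm, mul_assoc, e2, mul_one, e1]

/-- step (b) -/
theorem stepB (p : Pe t θ P) (w : Wr t J ι θ) (m : Md t K J ι) (ht : t * t = 1) (hx : x ∈ P)
    (hn : x ∉ TT t θ P) (h2 : x * x ∈ C[cj t θ.range]) :
    ∃ q ∈ P, ∃ c, Cc t θ c ∧ q * x * q⁻¹ = x * c := by
  have i1 := inj w m ht
  have i2 := cg_inj t i1
  have nS2' := nS2 p ht
  have m2 : ∀ u, cg t θ u ∈ cj t θ.range := fun u => cg_range t θ ▸ ⟨u, rfl⟩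
  by_cases h1 : x ∈ C[cj t θ.range]
  · have : ¬ ∀ q ∈ P ⊓ C[θ.range], q * x = x * q := fun e => hn ⟨⟨hx, h1⟩, e⟩
    push Not at this
    obtain ⟨q, hq, ne⟩ := this
    have cP : ⁅q, x⁆ ∈ P := mul_mem (mul_mem (mul_mem hq.1 hx) (inv_mem hq.1)) (inv_mem hx)
    have c2 : ⁅q, x⁆ ∈ C[cj t θ.range] := mul_mem (conj_mem (N_le_NC _ (nS2' hq.1)) h1) (inv_mem h1)
    have c1' : ⁅q, x⁆ ∈ C[θ.range] := by
      rw [commutatorElement_def, mul_assoc, mul_assoc, ← mul_assoc x]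
      exact mul_mem hq.2 (conj_mem (N_le_NC _ (p.nS hx)) (inv_mem hq.2))
    have ec : q * x * q⁻¹ = x * ⁅q, x⁆ := by
      rw [← c2c p w ht cP c1' (cN2 c2) hx h1, commutatorElement_def, inv_mul_cancel_right]
    have xn : x ∉ N[EE θ] := fun e => ne (c1c p w ht hx h1 e hq.1 hq.2).symm
    have qn : q ∉ N[cj t (EE θ)] := fun e => ne (c2c p w ht hq.1 hq.2 e hx h1)
    refine ⟨q, hq.1, _, ?_, ec⟩
    have z2c : t * θ zS * t ∈ C[θ.range] := s21 w ht (z2m ht zS)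
    have cen : ∀ u, θ u ∈ C[θ.range] → u = 1 ∨ u = zS := fun u h => ss2 u fun v =>
      i1 (by rw [map_mul, map_mul]; exact h _ ⟨v, rfl⟩)
    obtain ⟨u, e | e⟩ := c1 p w ht cP c2 (cN1 c1')
    · exfalso
      rcases cen u (e ▸ c1') with rfl | rfl
      · exact ne (commutatorElement_eq_one_iff_mul_comm.1 (e.trans (map_one θ)))
      have qP := tP p.toP0 ht hq.1
      have xP := tP p.toP0 ht hx
      have u1 : t * q * t * x⁻¹ ∈ P := mul_mem qP (inv_mem hx)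
      have u2 : t * q * t * x⁻¹ ∈ C[cj t θ.range] := mul_mem ((tC' ht).2 hq.2) (inv_mem h1)
      have u3 := sw1 p qP (inv_mem hx) (fun e => qn ((tN ht).2 e)) fun e => xn (by simpa using inv_mem e)
      have v1 : t * x * t * q⁻¹ ∈ P := mul_mem xP (inv_mem hq.1)
      have v2 : t * x * t * q⁻¹ ∈ C[θ.range] := mul_mem ((tC ht).1 h1) (inv_mem hq.2)
      have v3 := sw2 p ht xP (inv_mem hq.1) (fun e => xn ((tN' ht).1 e)) fun e => qn (by simpa using inv_mem e)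
      have a1 := c1c p w ht u1 u2 u3 hq.1 hq.2
      have a2 := c1c p w ht u1 u2 u3 v1 v2
      have a3 := c2c p w ht v1 v2 v3 hx h1
      have a4 := pz1 p.toP0 u1
      have a5 := pz1 p.toP0 v1
      have e1 : t * θ zS * t = ⁅t * q * t * x⁻¹ * x, t * x * t * q⁻¹ * q⁆ := by
        rw [inv_mul_cancel_right, inv_mul_cancel_right, ← e]
        simp only [commutatorElement_def, mul_inv_rev, iv_inv ht, tmul ht, mul_assoc]
      generalize t * q * t * x⁻¹ = U at *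
      generalize t * x * t * q⁻¹ = V at *
      have e2 : ⁅x, q⁆ = θ zS := by
        rw [← commutatorElement_inv, e, ← map_inv, show zS⁻¹ = zS by decide]
      refine nz2 w m ht ⟨zS, Eq.symm ?_⟩
      rw [e1]
      calc _ = U * (x * V) * q * x⁻¹ * (q * U)⁻¹ * V⁻¹ := by rw [commutatorElement_def]; group
        _ = U * V * ⁅x, q⁆ * U⁻¹ * V⁻¹ := by rw [← a3, ← a1, commutatorElement_def]; group
        _ = θ zS * (U * V) * (V * U)⁻¹ := by rw [e2, mul_assoc U, a5, ← mul_assoc U, a4]; group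
        _ = _ := by rw [a2, mul_inv_cancel_right]
    · rcases cen u ((mul_mem_cancel_right z2c).1 (e ▸ c1')) with rfl | rfl
      · exact Or.inl (by rw [e, map_one, one_mul])
      · exact Or.inr e
  by_cases h3 : x ∈ N[cj t (EE θ)]
  · obtain ⟨s, hs⟩ := inn2 p ht hx h3
    rw [← cg_t ht] at hs
    have zc : ∀ u, u = 1 ∨ u = zS → cg t θ u ∈ C[cj t θ.range] := fun u hu y hy => by
      obtain ⟨v, rfl⟩ := cg_range t θ ▸ hy
      rw [← map_mul, ← map_mul]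
      rcases hu with rfl | rfl
      · rw [mul_one, one_mul]
      · rw [ss8]
    obtain ⟨v, hv⟩ := ss1 s⁻¹ (fun e => h1 (by simpa using mul_mem hs (zc _ (Or.inl e))))
      fun e => h1 (by simpa using mul_mem hs (zc _ (Or.inr e)))
    refine ⟨cg t θ v, s2P p.toP0 (m2 v), _, Or.inl rfl, ?_⟩
    calc _ = cg t θ v * (x * cg t θ s) * (cg t θ s)⁻¹ * (cg t θ v)⁻¹ := by group
      _ = x * cg t θ s * cg t θ (v * s⁻¹ * v⁻¹) := by
        rw [hs _ (m2 v), map_mul, map_mul, map_inv, map_inv]; group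
      _ = _ := by rw [hv, map_mul, map_inv, cg_t ht zS]; group
  obtain ⟨d1, d2⟩ := (dich2 p ht hx).resolve_left h3
  rw [cg_map t θ E₀, cg_map t θ E₁] at d1 d2
  have : ∀ u, ∃ v, cg t θ v = x * cg t θ u * x⁻¹ := fun u =>
    (cg_range t θ ▸ conj_mem (nS2' hx) (m2 u) : _ ∈ (cg t θ).range)
  choose α hα using this
  have am : ∀ u v, α (u * v) = α u * α v := fun u v => i2 (by rw [map_mul, hα, hα, hα, map_mul]; group)
  have ai : ∀ u, α u⁻¹ = (α u)⁻¹ := fun u => i2 (by rw [map_inv, hα, hα, map_inv]; group)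
  have aa : ∀ u, α (α u) = u := fun u => i2 (by
    rw [hα, hα]
    calc _ = x * x * cg t θ u * (x * x)⁻¹ := by group
      _ = _ := by rw [← h2 _ (m2 u), mul_inv_cancel_right])
  have az : α zS = zS := i2 (by rw [hα, cg_t ht, pz2 p.toP0 hx, mul_inv_cancel_right])
  have a1 : α 1 = 1 := i2 (by rw [hα, map_one, mul_one, mul_inv_cancel])
  have b0 : ∀ u ∈ E₀, α u ∈ E₁ := fun u hu => (mem_map_iff_mem i2).1
    (by rw [hα, ← d1]; exact conj_mem_cj x (mem_map_of_mem _ hu))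
  have b1 : ∀ u ∈ E₁, α u ∈ E₀ := fun u hu => (mem_map_iff_mem i2).1
    (by rw [hα, ← d2]; exact conj_mem_cj x (mem_map_of_mem _ hu))
  suffices h : ∃ v, α v = zS * v by
    obtain ⟨v, hv⟩ := h
    refine ⟨cg t θ v⁻¹, s2P p.toP0 (m2 _), _, Or.inl rfl, ?_⟩
    have := hα v
    rw [hv, map_mul, cg_t ht zS] at this
    rw [map_inv, inv_inv, mul_assoc, inv_mul_eq_iff_eq_mul, ← mul_assoc, pz2 p.toP0
      (mul_mem (s2P p.toP0 (m2 v)) hx), ← mul_assoc, this, inv_mul_cancel_right]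
  rcases ss5 _ (b1 ζS (by decide)) (b0 ζS (by decide)) with e | e | e | e
  · exact absurd ((aa ζS).symm.trans (by rw [e, a1]) : ζS = 1) (by decide)
  · exact absurd ((aa ζS).symm.trans (by rw [e, az]) : ζS = zS) (by decide)
  swap
  · exact ⟨ζS, e⟩
  have fz : ∀ u, u ∈ E₀ ∧ u ∈ E₁ → α u = u := fun u hu => by
    rcases ss5 u hu.1 hu.2 with rfl | rfl | rfl | rfl
    exacts [a1, az, e, by rw [am, az, e]]
  have nb : ∀ u ∈ E₀, u ∉ E₁ → α u ∉ E₀ := fun u hu h h' => h (aa u ▸ b0 _ h')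
  have hc : ⁅eS, α wS⁆ = ⁅α eS, wS⁆ := by
    rw [← fz _ (ss6 _ (b0 wS (by decide)) eS (by decide))]
    simp only [commutatorElement_def, am, ai, aa]
  rcases ss4 _ (b0 eS (by decide)) (nb eS (by decide) (by decide)) _ (b0 wS (by decide))
    (nb wS (by decide) (by decide)) (am eS wS ▸ nb _ (by decide) (by decide)) hc with e | e | e
  · exact ⟨eS * α eS, by rw [am, aa, e]⟩
  · exact ⟨wS * α wS, by rw [am, aa, e]⟩
  · exact ⟨eS * wS * α (eS * wS), by rw [am, aa, am, e]⟩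

/-- the elements moving `s` at most to `s c` -/
def Cst (H : Subgroup G) (s c : G) (hc : ∀ g ∈ H, g * c = c * g) (cc : c * c = 1) : Subgroup G where
  carrier := {g | g ∈ H ∧ (g * s * g⁻¹ = s ∨ g * s * g⁻¹ = s * c)}
  one_mem' := ⟨one_mem _, Or.inl (by group)⟩
  mul_mem' := fun {a b} ha hb => ⟨mul_mem ha.1 hb.1, by
    have e : a * b * s * (a * b)⁻¹ = a * (b * s * b⁻¹) * a⁻¹ := by group
    have e' : a * (s * c) * a⁻¹ = a * s * a⁻¹ * c := by
      rw [← mul_assoc, mul_assoc _ c, ← hc _ (inv_mem ha.1), ← mul_assoc]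
    rcases hb.2 with f | f <;> rw [e, f]
    · exact ha.2
    · rw [e']
      rcases ha.2 with f' | f' <;> rw [f']
      · exact Or.inr rfl
      · exact Or.inl (by rw [mul_assoc, cc, mul_one])⟩
  inv_mem' := fun {a} ha => ⟨inv_mem ha.1, by
    rcases ha.2 with f | f
    · exact Or.inl (by rw [← f]; nth_rw 2 [f]; group)
    · refine Or.inr ?_
      have : s = a⁻¹ * s * a * c := by
        rw [mul_assoc, hc _ ha.1, ← mul_assoc, mul_assoc _ s, ← f]; group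
      rw [inv_inv]
      nth_rw 2 [this]
      rw [mul_assoc _ c, cc, mul_one]⟩

theorem stepX0 {s c : G} (p : Pe t θ P) (w : Wr t J ι θ) (m : Md t K J ι) (ht : t * t = 1)
    (hs : s ∈ TT t θ P) (hg : g ∈ HH t θ) (hc : Cc t θ c) (e : g * s * g⁻¹ = s * c) :
    ∃ h ∈ HH t θ, cj h (P ⊓ C[θ.range]) ≤ P ∧ h * s * h⁻¹ ∈ P ∧
      ∃ g1 ∈ P, g1 * (h * s * h⁻¹) * g1⁻¹ = h * s * h⁻¹ * c := by
  have c1 : ¬ s = s * c := fun e => hc.not w m ht (by rw [left_eq_mul.1 e]; exact one_mem _)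
  set X := Cst (HH t θ) s c (fun _ h => hc.cen h) (hc.sq w ht) with hX
  have gX : g ∈ X := ⟨hg, Or.inr e⟩
  obtain ⟨a, b, rfl, ha, hb, a2, b2⟩ := two_odd g
  have aX : a ∈ X := zpowers_le.2 gX ha
  have bX : b ∈ X := zpowers_le.2 gX hb
  have b3 : b * s * b⁻¹ = s := bX.2.resolve_right fun f => by
    have h1 : b ^ 2 ∈ C{s} := H24.mem_C1.2 (by
      have : b * (b * s * b⁻¹) * b⁻¹ = s := by
        rw [f, ← mul_assoc, mul_assoc _ c, ← hc.cen (inv_mem bX.1), ← mul_assoc, f, mul_assoc, hc.sq w ht,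
          mul_one]
      rw [pow_two]
      calc _ = b * (b * s * b⁻¹) * b⁻¹ * (b * b) := by group
        _ = _ := by rw [this])
    have h2 : b ∈ zpowers (b ^ 2) := mem_zpowers_pow_iff.2 (Nat.coprime_two_left.2 b2)
    have := H24.mem_C1.1 (zpowers_le.2 h1 h2)
    exact c1 (by rw [← f, this, mul_inv_cancel_right])
  have a3 : a * s * a⁻¹ = s * c := by rw [← e]; nth_rw 1 [← b3]; group
  have BX : P ⊓ C[θ.range] ⊔ zpowers s ≤ X := sup_le
    (fun y hy => ⟨p.le hy.1, Or.inl (by rw [hs.2 y hy, mul_inv_cancel_right])⟩)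
    (zpowers_le.2 ⟨p.le hs.1.1, Or.inl (by group)⟩)
  obtain ⟨U, hU, BU⟩ := mx_ex (p.two.to_le (sup_le inf_le_left (zpowers_le.2 hs.1.1))) BX
  have ap : IsPGroup 2 (zpowers a) := pg_of_te fun y hy => by
    obtain ⟨j, rfl⟩ := mem_zpowers_iff.1 hy
    obtain ⟨k, hk⟩ := a2
    exact ⟨k, by rw [← zpow_natCast, ← zpow_mul, mul_comm, zpow_mul, zpow_natCast, hk, one_zpow]⟩
  obtain ⟨k, hk, kU⟩ := hU.conj ap (zpowers_le.2 aX)
  have aU : k * a * k⁻¹ ∈ U := kU (conj_mem_cj k (mem_zpowers a))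
  have a4 : k * a * k⁻¹ * s * (k * a * k⁻¹)⁻¹ = s * c := (hU.2.1 aU).2.resolve_left fun f => by
    have f' : a * (k⁻¹ * s * k⁻¹⁻¹) * a⁻¹ = k⁻¹ * s * k⁻¹⁻¹ := by rw [← f]; nth_rw 1 [f]; group
    rcases (inv_mem hk : k⁻¹ ∈ X).2 with f1 | f1 <;> rw [f1] at f'
    · exact c1 (f'.symm.trans a3)
    · rw [← mul_assoc, mul_assoc _ c, ← hc.cen (inv_mem aX.1), ← mul_assoc, a3] at f'
      exact c1 (mul_right_cancel f').symm
  obtain ⟨h, hh, hP⟩ := Mx.conj (T := P) (H := HH t θ) ⟨p.two, p.le, p.max⟩ hU.1 fun y hy => (hU.2.1 hy).1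
  refine ⟨h, hh, (cj_mono h (le_sup_left.trans BU)).trans hP,
    hP (conj_mem_cj h (BU (mem_sup_right (mem_zpowers s)))), _, hP (conj_mem_cj h aU), ?_⟩
  calc _ = h * (k * a * k⁻¹ * s * (k * a * k⁻¹)⁻¹) * h⁻¹ := by group
    _ = _ := by rw [a4, ← mul_assoc, mul_assoc _ c, ← hc.cen (inv_mem hh), ← mul_assoc]

/-- step (X) -/
theorem stepX {s c : G} (p : Pe t θ P) (w : Wr t J ι θ) (m : Md t K J ι) (ht : t * t = 1)
    (hs : s ∈ TT t θ P) (hg : g ∈ HH t θ) (hc : Cc t θ c) (e : g * s * g⁻¹ = s * c) : False := by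
  obtain ⟨h, hh, BP, sP, g1, gP, e1⟩ := stepX0 p w m ht hs hg hc e
  have i2 := cg_inj t (inj w m ht)
  have m2 : ∀ u, cg t θ u ∈ cj t θ.range := fun u => cg_range t θ ▸ ⟨u, rfl⟩
  have mB : ∀ u, cg t θ u ∈ P ⊓ C[θ.range] := fun u => ⟨s2P p.toP0 (m2 u), s21 w ht (m2 u)⟩
  have ψP : ∀ u, cg h (cg t θ) u ∈ P := fun u => BP (conj_mem_cj h (mB u))
  obtain ⟨l1, l2, l3⟩ := p.lemW w m ht (cg_inj h i2) (by rintro _ ⟨u, rfl⟩; exact ψP u)
    (by rw [cg_ap, cg_t ht, H24.mem_C1.1 hh.2, mul_inv_cancel_right])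
  have cB : ∀ q ∈ P ⊓ C[θ.range], h * q * h⁻¹ * (h * s * h⁻¹) = h * s * h⁻¹ * (h * q * h⁻¹) := fun q hq => by
    calc _ = h * (q * s) * h⁻¹ := by group
      _ = _ := by rw [hs.2 q hq]; group
  have cψ : ∀ u, cg h (cg t θ) u * (h * s * h⁻¹) = h * s * h⁻¹ * cg h (cg t θ) u := fun u => cB _ (mB u)
  generalize h * s * h⁻¹ = s1 at *
  have n2 := nS2 p ht sP
  have k1 : ∀ v, ∃ r ∈ P ⊓ C[cj t θ.range], ⁅r, s1⁆ = (cg t θ v)⁻¹ * (s1 * cg t θ v * s1⁻¹) := fun v => by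
    obtain ⟨u, hu⟩ := l2 v
    rw [← cg_t ht] at hu
    refine ⟨_, inv_mem ⟨mul_mem (ψP u) (mB v).1, hu⟩, ?_⟩
    calc _ = (cg t θ v)⁻¹ * (cg h (cg t θ) u)⁻¹ * (s1 * cg h (cg t θ) u) * cg t θ v * s1⁻¹ := by
          rw [commutatorElement_def]; group
      _ = _ := by rw [← cψ]; group
  have k2 : ∀ v, (cg t θ v)⁻¹ * (s1 * cg t θ v * s1⁻¹) ∈ cj t θ.range := fun v =>
    mul_mem (inv_mem (m2 v)) (conj_mem n2 (m2 v))
  have sN : s1 ∈ N[cj t (EE θ)] := by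
    refine mem_N_of_cj_le ?_
    rw [cg_map t θ E₀]
    rintro _ ⟨_, ⟨v, hv, rfl⟩, rfl⟩
    obtain ⟨r, hr, er⟩ := k1 v
    obtain ⟨u, hu⟩ := cg_range t θ ▸ k2 v
    have cc : cg t θ u ∈ C[cj t θ.range] := by
      rw [hu, ← er, commutatorElement_def, mul_assoc, mul_assoc, ← mul_assoc s1]
      exact mul_mem hr.2 (conj_mem (N_le_NC _ n2) (inv_mem hr.2))
    have u0 : u ∈ E₀ := by
      rcases ss2 u fun v => i2 (by rw [map_mul, map_mul]; exact cc _ (m2 v)) with rfl | rfl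
      exacts [one_mem _, by decide]
    exact ⟨v * u, mul_mem hv u0, by rw [map_mul, hu, mul_inv_cancel_left]; rfl⟩
  have sC : s1 ∈ C[cj t θ.range] := fun y hy => by
    obtain ⟨v, rfl⟩ := cg_range t θ ▸ hy
    obtain ⟨r, hr, er⟩ := k1 v
    have := dj12 w ht (er ▸ p.c2 w m ht hr ⟨sP, sN⟩) (k2 v)
    rw [inv_mul_eq_one] at this
    nth_rw 1 [this]
    rw [inv_mul_cancel_right]
  have key : ∀ y ∈ P, y ∈ N[cj t (EE θ)] → ¬ y * s1 * y⁻¹ = s1 * c := fun y hy hn f => by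
    have := inv_mem (p.c2 w m ht ⟨sP, sC⟩ ⟨hy, hn⟩)
    rw [commutatorElement_inv, commutatorElement_def, f, hc.cen (p.le sP),
      mul_inv_cancel_right] at this
    exact hc.not w m ht this
  have gn : g1 ∉ N[cj t (EE θ)] := fun f => key g1 gP f e1
  have sn : s1 ∉ N[EE θ] := fun f => by
    obtain ⟨u, hu⟩ := c1 p w ht sP sC f
    have : g1 * θ u * g1⁻¹ = θ u * c := by
      rcases hu with rfl | rfl
      · exact e1
      · have z := pz2 p.toP0 (inv_mem gP)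
        have z' := hc.cen (p.le (s2P p.toP0 (z2m ht zS)))
        generalize t * θ zS * t = z2 at *
        rw [← mul_assoc, mul_assoc _ z2, ← z, mul_assoc _ z2, z', ← mul_assoc, ← mul_assoc] at e1
        exact mul_right_cancel e1
    have h1 : θ u ∈ θ.range := ⟨u, rfl⟩
    exact hc.not w m ht ((mul_mem_cancel_left h1).1 (this ▸ conj_mem (p.nS gP) h1))
  have qB : t * s1 * t ∈ P ⊓ C[θ.range] := ⟨tP p.toP0 ht sP, (tC ht).1 sC⟩
  have qn : t * s1 * t ∉ N[cj t (EE θ)] := fun f => sn ((tN' ht).1 f)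
  have qc := cB _ qB
  generalize t * s1 * t = q at *
  have qP : h * q * h⁻¹ ∈ P := BP (conj_mem_cj h qB)
  by_cases hq : h * q * h⁻¹ ∈ N[cj t (EE θ)]
  swap
  · refine key _ (mul_mem gP qP) (sw2 p ht gP qP gn hq) ?_
    rw [← e1, mul_assoc g1, qc]; group
  obtain ⟨v, hv⟩ := inn2 p ht qP hq
  obtain ⟨u, hu⟩ := l2 v
  have rC := mul_mem hv (inv_mem hu)
  rw [mul_inv_rev, mul_assoc, mul_inv_cancel_left] at rC
  obtain ⟨d1, -⟩ := (dich2 p ht qB.1).resolve_left qn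
  rw [cg_map t θ E₀, cg_map t θ E₁] at d1
  obtain ⟨e', he', ee⟩ : _ ∈ E₁.map (cg t θ) :=
    d1 ▸ conj_mem_cj q (mem_map_of_mem (cg t θ) (ss7 u⁻¹ eS (by decide)))
  have := p.c2 w m ht (mem_inf.2 ⟨mul_mem qP (inv_mem (ψP u)), rC⟩) (mem_inf.2 ⟨ψP eS, l1 eS⟩)
  have e3 : ⁅h * q * h⁻¹ * (cg h (cg t θ) u)⁻¹, cg h (cg t θ) eS⁆ = cg h (cg t θ) (e' * eS⁻¹) := by
    simp only [map_mul, map_inv, cg_ap h, ee, commutatorElement_def]
    group
  rcases l3 _ (s12 w ht (e3 ▸ this)) with f | f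
  exacts [(ss3 e' he').1 f, (ss3 e' he').2 f]

end NDJx

/-! ### NDJ -/
theorem Pe.sc {θ : SS →* G} (p : Pe t θ P) (w : Wr t J ι θ) (m : Md t K J ι) (ht : t * t = 1)
    (hx : x ∈ TT t θ P) (hg : g ∈ HH t θ) (h : g * x * g⁻¹ ∈ P) : g * x * g⁻¹ ∈ TT t θ P := by
  obtain ⟨k, hk⟩ := te_of_pg p.two hx.1.1
  induction k generalizing x with
  | zero =>
    rw [pow_zero, pow_one] at hk
    rw [hk, mul_one, mul_inv_cancel]
    exact one_mem _
  | succ k ih =>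
    have e : g * (x * x) * g⁻¹ = g * x * g⁻¹ * (g * x * g⁻¹) := by group
    have := ih (mul_mem hx hx) (e ▸ mul_mem h h) (by rw [← pow_two, ← pow_mul, ← pow_succ', hk])
    by_contra hn
    obtain ⟨q, hq, c, hc, f⟩ := NDJx.stepB p w m ht h hn (e ▸ this.1.2)
    refine NDJx.stepX p w m ht hx (mul_mem (mul_mem (inv_mem hg) (p.le hq)) hg) hc ?_
    calc _ = g⁻¹ * (q * (g * x * g⁻¹) * q⁻¹) * g := by group
      _ = x * (g⁻¹ * c) * g := by rw [f]; group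
      _ = _ := by rw [hc.cen (inv_mem hg)]; group

end H28.ND
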