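import Mathlib
import Cfsg.Agent.H28.ND0
import Cfsg.Agent.H28.NDA
import Cfsg.Agent.H16.NMV
import Cfsg.Agent.H8.PCB
import Cfsg.Agent.S1250

/-! # S1739, doubling end: the final contradiction -/

set_option autoImplicit false
set_option linter.unusedSectionVars false

namespace H28.ND

open Subgroup Equiv Equiv.Perm Cfsg H24 H23 H25.LB H5.Ly H20.So
open scoped commutatorElement

variable {G : Type*} [Group G] [Finite G] {n : ℕ} {t x y g k a b : G}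
  {K K' L H D Q Q' R T P : Subgroup G} {J J' : G → Subgroup G} {ι : SS →* G}

namespace NDLx

theorem cz_of_comm (hL : IsPCompOf 2 L H) (hx : x ∈ H) (h : ∀ l ∈ L, ⁅l, x⁆ ∈ opp 2 H) : x ∈ cz L :=
  mem_cz_of hL (mem_N_of_cj_le (le_of_pGen_of_le_sup_cop (opp_le_normalizer_pcomp hL) (opp_cop 2 H)
    (pcomp_pGen_eq (pc_cj_mem hL hx)) fun y hy => by
      obtain ⟨l, hl, rfl⟩ := mem_cj'.1 hy
      rw [show x * l * x⁻¹ = ⁅l, x⁆⁻¹ * l by rw [commutatorElement_def]; group]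
      exact mul_mem (mem_sup_right (inv_mem (h l hl))) (mem_sup_left hl))) h

theorem same_z (hn : 8 ≤ n) (ty : Ty n L) (hx : x ∈ L) (cx : x ∈ cz L) (x2 : orderOf x = 2)
    (hy : y ∈ L) (cy : y ∈ cz L) (y2 : orderOf y = 2) : x * y ∈ opp 2 L := by
  obtain ⟨A⟩ := exists_act hn ty
  have e : ∀ {w : G}, w ∈ L → w ∈ cz L → orderOf w = 2 → A.π w = zz := fun hw cw w2 =>
    (pr_eq_one (by rw [← A.φ_π hw, (A.φ_one (norm_self _ hw)).2 cw])).resolve_left
      fun e => iv_ne w2 (A.a_one hw (a_sq (iv_mul w2)) e)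
  exact (A.π_one (mul_mem hx hy)).1 (by rw [A.π_mul hx hy, e hx cx x2, e hy cy y2, zz_mul_zz])

/-- the consequence of Goldschmidt's product theorem -/
theorem gold {U V : Subgroup G} (hP : Mx P H) (hT : T ≤ P) (hU : U ≤ P)
    (sc : ∀ x ∈ T, ∀ g ∈ H, g * x * g⁻¹ ∈ P → g * x * g⁻¹ ∈ T)
    (sc' : ∀ x ∈ U, ∀ g ∈ H, g * x * g⁻¹ ∈ P → g * x * g⁻¹ ∈ U) (hc : T ≤ C[U]) (hV : V ≤ U)
    (hV1 : H ≤ C[V]) (hi : T ⊓ U ≤ V) (hL : IsPCompOf 2 L H) : T ≤ cz L ∨ U ≤ cz L := by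
  obtain ⟨S, hS⟩ := hP.syl.exists_sylow Nat.prime_two
  have mS : ∀ x : H, x ∈ (S : Subgroup H) ↔ (x : G) ∈ P := fun x => by
    rw [← hS]; exact (mem_map_iff_mem H.subtype_injective).symm
  have h1 : ∀ {T : Subgroup G}, T ≤ P → (∀ x ∈ T, ∀ g ∈ H, g * x * g⁻¹ ∈ P → g * x * g⁻¹ ∈ T) →
      IsStronglyClosed (T.subgroupOf H) (S : Subgroup H) := fun hT sc =>
    ⟨fun x hx => (mS x).2 (hT hx), fun x hx g hg => sc x hx g g.2 ((mS _).1 hg)⟩
  have hVH : V ≤ H := hV.trans (hU.trans hP.2.1)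
  haveI : (V.subgroupOf H).Normal := (Nml.mk hVH (norm_of_cent hV1)).normal
  set φ := QuotientGroup.mk' (V.subgroupOf H) with hφ
  have hN := H8.PC.comm_le_oddCore' (S.mapSurjective (QuotientGroup.mk'_surjective _))
    (Cfsg.Agent.S1250.result S _ (h1 hT sc) (V.subgroupOf H))
    (Cfsg.Agent.S1250.result S _ (h1 hU sc') (V.subgroupOf H))
    (by
      rintro _ ⟨a, ha, rfl⟩ _ ⟨b, hb, rfl⟩
      rw [← map_mul, ← map_mul]
      exact congrArg _ (Subtype.ext (hc ha b hb).symm))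
    (eq_bot_iff.2 (by
      rintro _ ⟨⟨a, ha, rfl⟩, b, hb, e⟩
      have h2 : (a : G) ∈ U := by
        have := mul_mem hb (hV (QuotientGroup.eq.1 e))
        rwa [mul_inv_cancel_left] at this
      exact (QuotientGroup.eq_one_iff _).2 (hi ⟨ha, h2⟩)))
  have k : ∀ {X : Subgroup G}, X ≤ H → ¬ X ≤ cz L →
      (L.subgroupOf H).map φ ≤ normalClosure ((X.subgroupOf H).map φ : Set (H ⧸ V.subgroupOf H)) :=
    fun {X} hX h => by
      rw [coe_map, ← map_normalClosure _ φ (QuotientGroup.mk'_surjective _)]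
      refine map_mono ((IsPComponent.le_or_comm_le hL.2 (Normal.isSubnormal inferInstance)).resolve_right
        fun e => h fun x hx => cz_of_comm hL (hX hx) fun l hl => ?_)
      exact mem_map_of_mem H.subtype (e (commutator_mem_commutator
        (show (⟨l, hL.1 hl⟩ : H) ∈ L.subgroupOf H from hl)
        (subset_normalClosure (show (⟨x, hX hx⟩ : H) ∈ X.subgroupOf H from hx))))
  by_contra hh
  push Not at hh
  have h3 := (commutator_mono (k (hT.trans hP.2.1) hh.1) (k (hU.trans hP.2.1) hh.2)).trans hN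
  have h4 : ⁅L.subgroupOf H, L.subgroupOf H⁆ = L.subgroupOf H := by
    apply map_injective H.subtype_injective
    rw [map_commutator, map_subgroupOf_eq_of_le hL.1, hL.perfect]
  rw [← map_commutator, h4] at h3
  have h5 : Sol ((L.subgroupOf H).map φ) :=
    (sol_of_odd (cop_two_iff_odd.1 (H2.pPrimeCore_coprime 2 _))).of_le h3
  have h6 : Sol (V.subgroupOf H) := (abl_iff.2 fun a ha b hb =>
    Subtype.ext (hV1 a.2 b hb)).sol
  have h7 : Sol (L.subgroupOf H) := by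
    haveI := h6.of_le (inf_le_left : V.subgroupOf H ⊓ L.subgroupOf H ≤ _)
    refine Group.isSolvable_of_ker_le_range (inclusion (inf_le_right : V.subgroupOf H ⊓ L.subgroupOf H ≤ _))
      (φ.subgroupMap (L.subgroupOf H)) fun x hx => ⟨⟨x, (QuotientGroup.eq_one_iff _).1
        (congrArg Subtype.val hx), x.2⟩, rfl⟩
  exact not_sol hL (map_subgroupOf_eq_of_le hL.1 ▸ h7.map H.subtype)

end NDLx

open NDLx

/-! ### NDL -/
theorem two_pc (hn : 8 ≤ n) (hs : NM.SolH G) (hno : NM.Hno n G) {L' : Subgroup G}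
    (p : Pc n (C{a} ⊓ C{b}) a L) (p' : Pc n (C{a} ⊓ C{b}) b L') (hne : L ≠ L') : False := by
  obtain ⟨J2, c⟩ := hs n hn _ _ _ p'
  obtain ⟨L0, hL0, -, hle0⟩ := NM.tri (iv_mul p'.iv) (p'.comp.1 p'.mem).1 p.comp
  have m3 : b ∈ J2 := c.le p'.mem
  have l0 := hle0 (pc_le_N hL0 c.comp m3)
  by_cases e : L0 = J2
  · exact hne (pcomp_eq_of_le p.comp p'.comp
      (Cn.le_pgen p' c (e ▸ l0) (p.comp.1.trans inf_le_right) (pcomp_pGen_eq p.comp)))
  · exact hno a L0 (NM.NMVx.up hn (iv_mul p'.iv) (ne_le_cz hL0 c.comp e m3) hL0 p l0)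

theorem fin_end (c : In n t K J) (hs : NM.SolH G) (hno : NM.Hno n G) {z z1 u u1 : G}
    (hz : z ∈ K) (z2 : orderOf z = 2) (s1 : Sp t J z z1) (hu : u ∈ K ⊓ C{z}) (u2 : orderOf u = 2)
    (uz : u ≠ z) (hu1 : u1 * (t * u1 * t) = u) (hP : Mx P (C{z1} ⊓ C{t * z1 * t})) (hT : T ≤ P)
    (sc : ∀ x ∈ T, ∀ g ∈ C{z1} ⊓ C{t * z1 * t}, g * x * g⁻¹ ∈ P → g * x * g⁻¹ ∈ T) (h1 : u1 ∈ T)
    (tP : t ∈ N[P]) (hz1 : z1 ∈ T) (hz2 : t * z1 * t ∈ T) (hc : T ≤ C[cj t T])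
    (hi : ∀ x ∈ T ⊓ cj t T, x = 1 ∨ x = z1 ∨ x = t * z1 * t ∨ x = z) : False := by
  have h8 := c.h8
  have tt := c.tt
  have ti := iv_inv tt
  have zz2 := iv_mul z2
  obtain ⟨e1, e2, e3⟩ := s1.comm c hz z2
  set H0 : Subgroup G := C{z1} ⊓ C{t * z1 * t} with hH
  have t3 : ∀ w : G, t * (t * w * t) * t = w := fun w => by
    rw [← mul_assoc, ← mul_assoc, tt, one_mul, mul_assoc, tt, mul_one]
  have tH : t ∈ N[H0] := mem_N_iff_cj.2 (by rw [hH, cj_inf, cj_C1, cj_C1, ti, t3, inf_comm])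
  have Hz : H0 ≤ C{z} := fun x hx => H24.mem_C1_comm.1 (by
    have := mul_mem (inv_mem (H24.mem_C1_comm.1 hx.1)) (H24.mem_C1_comm.1 hx.2)
    rwa [e2, inv_mul_cancel_left] at this)
  have tz : t ∈ C{z} := H24.mem_C1_comm.1 (c.Kle hz)
  set W := H0 ⊔ zpowers t with hW
  have Wz : W ≤ C{z} := sup_le Hz (zpowers_le.2 tz)
  have tW : t ∈ W := mem_sup_right (mem_zpowers t)
  have nW : W ≤ N[H0] := sup_le (norm_self _) (zpowers_le.2 tH)
  have mT : ∀ {w : G}, w ∈ T → t * w * t ∈ cj t T := fun hw => by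
    have := conj_mem_cj t hw; rwa [ti] at this
  have gd : ∀ {L : Subgroup G}, IsPCompOf 2 L H0 → T ≤ cz L ∨ cj t T ≤ cz L := fun hL =>
    gold (V := zpowers z1 ⊔ zpowers (t * z1 * t)) hP hT (cj_le_of_mem_N hT tP) sc (fun x hx g hg h => by
      have := sc _ (mem_cj.1 hx) _ (conj_mem' tH hg) (by
        have := conj_mem' tP h
        convert this using 1; group)
      rw [mem_cj]
      convert this using 1; group) hc
      (sup_le (zpowers_le.2 (t3 z1 ▸ mT hz2)) (zpowers_le.2 (mT hz1)))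
      (by rw [C_sup, C_zpowers, C_zpowers])
      (fun x hx => by
        rcases hi x hx with e | e | e | e <;> rw [e]
        · exact one_mem _
        · exact mem_sup_left (mem_zpowers _)
        · exact mem_sup_right (mem_zpowers _)
        · exact s1.2.2 ▸ mul_mem (mem_sup_left (mem_zpowers _)) (mem_sup_right (mem_zpowers _))) hL
  have cv := cover1 (a_sq s1.2.1) s1.1
  have p0 := (c.pc z hz z2).kx h8 cv (H24.mem_C1_comm.1 (H24.mem_C1.2 e1))
  have cv' := (kx_comp (c.pc z hz z2).comp cv).2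
  set J0 := Kx (J z) C{z1} with hJ0
  have l0 : J0 ≤ J z := (pGen_le 2 _).trans inf_le_left
  have eX : (C{t} ⊓ C{z} ⊓ C{z1} : Subgroup G) = H0 ⊓ C{t} := le_antisymm
    (fun x hx => ⟨⟨hx.2, H24.mem_C1_comm.1 (e2 ▸ mul_mem (H24.mem_C1_comm.1 hx.2)
      (H24.mem_C1_comm.1 hx.1.2))⟩, hx.1.1⟩) fun x hx => ⟨⟨hx.2, Hz hx.1⟩, hx.1.1⟩
  rw [eX] at p0
  have p1 : Pc n (W ⊓ C{t}) z J0 := ⟨z2, p0.mem, p0.comp.trans (inf_le_inf_right _ le_sup_left)
    (isSubnormal_subgroupOf_of_le_normalizer (norm_inf (inf_le_left.trans nW) (norm_of_le inf_le_right))),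
    inf_le_left.trans Wz, p0.ty⟩
  clear hc
  obtain ⟨L, hL, hc, hle⟩ := NM.tri tt tW p1.comp
  have kH : ∀ {L : Subgroup G}, IsPCompOf 2 L W → IsPCompOf 2 L H0 := fun {L} hL => hL.of_le
    (hL.perfect.ge.trans ((der1_mono hL.1).trans (by
      rw [hW, der1_sup (zpowers_le.2 tH), der1_eq_bot.2 (abl_zpowers t), sup_bot_eq]
      exact sup_le (der1_le _) (comm_le_left (zpowers_le.2 tH))))) le_sup_left
  by_cases hN : t ∈ N[L]
  · have k : ∀ {w : G}, w ∈ cz L → t * w * t ∈ cz L := fun hw => by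
      have := conj_mem (N_le_N_cz L hN) hw
      rwa [ti] at this
    have k1 : u1 ∈ cz L := (gd (kH hL)).elim (fun h => h h1) fun h => t3 u1 ▸ k (h (mT h1))
    have k2 : u ∈ J0 := mem_pGen ⟨c.two hz z2 hu.1 hu.2 ⟨1, a_sq (iv_mul u2)⟩,
      hu1 ▸ mul_mem (hP.2.1 (hT h1)).1 (hP.2.1 (cj_le_of_mem_N hT tP (mT h1))).1⟩ (a_sq (iv_mul u2))
    exact (t1 h8 p1 k2 (cz_sub (hle hN) (hu1 ▸ mul_mem k1 (k k1)) (norm_self _ k2))
      (a_sq (iv_mul u2))).elim (iv_ne u2) uz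
  obtain ⟨ty, a, m1, o1, c1, m2, o2, c2⟩ := NM.diag_pc h8 tt tW Wz p1 hL hN hc
  have hL2 := pc_cj_mem hL tW
  have hne : L ≠ cj t L := fun e => hN (mem_N_iff_cj.2 e.symm)
  have nO : W ≤ N[opp 2 W] := le_normalizer_opp 2 (norm_self W)
  have az : a * z = z * a := H24.mem_C1.1 (Wz (hL.1 m1))
  have r1 : z * (a * t) ^ 2 ∈ opp 2 W := by
    have := opp_le_opp hL2 (same_z h8 (ty_cj ty t) m2 c2 o2 (conj_mem_cj t m1)
      (cz_cj t L ▸ conj_mem_cj t c1) (iv_conj o1 t))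
    rw [ti] at this
    simpa only [sq, mul_assoc] using this
  have zc : ∀ {w : G}, w ∈ W → Commute z w := fun hw => (H24.mem_C1.1 (Wz hw)).symm
  obtain ⟨o, ho, r2⟩ := dh2 (odd_opp W) (iv_mul o1) tt (by
    have := pow_mem r1 2
    rwa [(zc (pow_mem (mul_mem (hL.1 m1) tW) 2)).mul_pow, sq z, zz2, one_mul, ← pow_mul] at this)
  have oW := opp_le 2 W ho
  have m1' : o * a * o⁻¹ ∈ L := conj_mem (opp_le_normalizer_pcomp hL ho) m1
  have c1' : o * a * o⁻¹ ∈ cz L := mul_mem (mul_mem (opp_le_cz hL ho) c1) (inv_mem (opp_le_cz hL ho))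
  have o1' := iv_conj o1 o
  have r3 : z * (o * a * o⁻¹ * t) ^ 2 ∈ opp 2 W := by
    have e : z * (o * a * o⁻¹ * t) ^ 2 = o * (a * o⁻¹ * a⁻¹) * (a * t * o * (a * t)⁻¹) *
        (a * t * a * o⁻¹ * (a * t * a)⁻¹) * (z * (a * t) ^ 2) := by
      rw [(zc (pow_mem (mul_mem (hL.1 m1') tW) 2)).eq, (zc (pow_mem (mul_mem (hL.1 m1) tW) 2)).eq]
      simp only [sq]; group
    have aW := hL.1 m1
    rw [e]
    exact mul_mem (mul_mem (mul_mem (mul_mem ho (conj_mem (nO aW) (inv_mem ho)))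
      (conj_mem (nO (mul_mem aW tW)) ho)) (conj_mem (nO (mul_mem (mul_mem aW tW) aW)) (inv_mem ho))) r1
  generalize o * a * o⁻¹ = d at m1' c1' o1' r2 r3
  have dW := hL.1 m1'
  have dH := (kH hL).1 m1'
  have d2 := iv_mul o1'
  have r4 : d * (t * d * t) = z := by
    have := sb_odd.1 (odd_opp W) _ r3 (by
      rw [← sq, (zc (pow_mem (mul_mem dW tW) 2)).mul_pow, sq z, zz2, one_mul, ← pow_mul, r2])
    rw [← iv_inv zz2, ← eq_inv_of_mul_eq_one_right this]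
    simp only [sq, mul_assoc]
  have dz : d * z = z * d := H24.mem_C1.1 (Wz dW)
  have dJ : d ∈ N[J z] := c.nJ hz z2 (Wz dW) (Or.inr (by
    rw [iv_inv d2, H24.mem_C1.1 tz, ← r4]
    simp only [mul_assoc, tt, mul_one]))
  have dJ0 : d ∈ N[J0] := normalizer_le_normalizer_pGen 2 _
    (norm_inf (zpowers_le.2 dJ) (norm_of_le (zpowers_le.2 dH.1)) (mem_zpowers d))
  have kk : ∀ {X : Subgroup G}, IsPCompOf 2 X W → d ∈ cz X → ⁅zpowers d, X⁆ ≤ opp 2 W := fun hX h =>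
    (commC _ _).le.trans ((comm_mono_right (zpowers_le.2 h)).trans ((t2_comm_le _).trans (opp_le_opp hX)))
  have sd : Sp t J z d := ⟨cz_of_cover l0 cv' dJ (H20.So.mem_cz.2 ⟨dJ0, fun j hj =>
    opp_inf_le (p1.comp.1.trans inf_le_left) ⟨((commC _ _).le.trans (comm_sup_le (kk hL c1')
      (kk hL2 (ne_le_cz hL2 hL hne.symm m1')) (hL.1.trans nO) (hL2.1.trans nO)))
      (commutator_mem_commutator (NM.diag_le tt tW p1.comp hL hN hc hj) (mem_zpowers d)),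
      t2_comm dJ0 hj⟩⟩), d2, r4⟩
  have m2' : t * d * t ∈ cj t L := by have := conj_mem_cj t m1'; rwa [ti] at this
  have o2' : orderOf (t * d * t) = 2 := by have := iv_conj o1' t; rwa [ti] at this
  have cd : Commute z1 d := (H24.mem_C1.1 dH.1).symm
  rcases s1.uniq sd c hz z2 ⟨1, a_sq (by rw [← sq, cd.mul_pow, sq, sq, s1.2.1, d2, one_mul])⟩ with e | e
  · subst e
    exact two_pc h8 hs hno ⟨o1', m1', kH hL, inf_le_left, ty⟩
      ⟨o2', m2', kH hL2, inf_le_right, ty_cj ty t⟩ hne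
  · rw [← e2] at e
    subst e
    rw [t3] at m2' o2'
    exact two_pc h8 hs hno ⟨o2', m2', kH hL2, inf_le_left, ty_cj ty t⟩
      ⟨o1', m1', kH hL, inf_le_right, ty⟩ hne.symm

end H28.ND
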