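import Mathlib
import Cfsg.Agent.H28.ND0
import Cfsg.Agent.H28.NDE

set_option autoImplicit false
set_option linter.unusedSectionVars false

namespace H28.ND

open Subgroup Equiv Equiv.Perm Cfsg H24 H23 H25.LB H5.Ly H20.So
open scoped commutatorElement

variable {G : Type*} [Group G] [Finite G] {n : ℕ} {t x y g k a b : G}
  {K K' L H D Q Q' R T P : Subgroup G} {J J' : G → Subgroup G} {ι : SS →* G}

/-! ### NDW -/
section
variable {θ : SS → G} {w w' g' : G}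

theorem cjt_W1 (ht : t * t = 1) : cj t (W1 t θ) = N[cj t (E1 θ)] ⊓ C[E1 θ] := by
  rw [cj_inf, cj_N, cj_C, cjt_cjt ht]
theorem W1_le_N0 : W1 t θ ≤ N[E1 θ] ⊓ N[cj t (E1 θ)] := inf_le_inf_left _ (C_le_N _)
theorem N0_le_NF : N[E1 θ] ⊓ N[cj t (E1 θ)] ≤ N[FF t θ] := norm_sup inf_le_left inf_le_right
theorem N0_le_NW : N[E1 θ] ⊓ N[cj t (E1 θ)] ≤ N[W1 t θ] :=
  norm_inf (norm_N inf_le_left) (norm_C inf_le_right)
theorem ct_N0 (hk : k ∈ C{t} ⊓ N[E1 θ]) : k ∈ N[E1 θ] ⊓ N[cj t (E1 θ)] :=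
  ⟨hk.2, mem_N_iff_cj.2 (by rw [← cj_mul, H24.mem_C1.1 hk.1, cj_mul, cj_of_mem_N hk.2])⟩
theorem CF_eq : C[FF t θ] = C[E1 θ] ⊓ C[cj t (E1 θ)] := C_sup _ _
theorem Db.splitF (d : Db t J ι θ) (hg : g ∈ C[FF t θ]) :
    ∃ f ∈ FF t θ, ∃ o ∈ opp 2 C[FF t θ], g = f * o := by
  obtain ⟨f, hf, o, ho, e, -⟩ := split2 (le_CC _) d.cF hg
  exact ⟨f, hf, o, ho, e⟩
theorem NF_le_NO : N[FF t θ] ≤ N[opp 2 C[FF t θ]] := le_normalizer_opp 2 (N_le_NC _)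

theorem Sm.mul (h : Sm ι θ g w) (h' : Sm ι θ g' w') (hg : g' ∈ N[EE ι]) : Sm ι θ (g * g') (w * w') :=
  fun a ha b hb => by
    obtain ⟨a', ha', e⟩ := H24.conj_mem hg (⟨a, ha, rfl⟩ : ι a ∈ EE ι)
    have e1 : g * g' * ι a * (g * g')⁻¹ = g * ι a' * g⁻¹ := by rw [e]; group
    have e2 : w * w' * θ a * (w * w')⁻¹ = w * θ a' * w⁻¹ := by rw [← (h' a ha a' ha').1 e.symm]; group
    rw [e1, e2, h a' ha' b hb]
theorem Sm.inv (h : Sm ι θ g w) : Sm ι θ g⁻¹ w⁻¹ := fun a ha b hb => by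
  have key : ∀ x y z : G, x⁻¹ * y * x⁻¹⁻¹ = z ↔ x * z * x⁻¹ = y := fun x y z =>
    ⟨fun e => by rw [← e]; group, fun e => by rw [← e]; group⟩
  rw [key, key, h b hb a ha]
theorem Db0.sm_cent (d : Db0 t J ι θ) (m : Md t K J ι) (hg : g ∈ C[EE ι]) (hw : w ∈ C[E1 θ]) :
    Sm ι θ g w := fun a ha b hb => by
  rw [← mem_C.1 hg _ ⟨a, ha, rfl⟩, ← mem_C.1 hw _ (d.mem_E1.2 ⟨a, ha, rfl⟩), mul_inv_cancel_right,
    mul_inv_cancel_right]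
  exact ⟨fun e => congrArg θ (m.inj e), fun e => congrArg ι (d.inj1 m ha hb e)⟩
theorem Db0.cent_of_sm (d : Db0 t J ι θ) (h : Sm ι θ g w) (hg : g ∈ C[EE ι]) : w ∈ C[E1 θ] :=
  mem_C'.2 fun x hx => by
    obtain ⟨a, ha, rfl⟩ := d.mem_E1.1 hx
    exact mul_inv_eq_iff_eq_mul.1 ((h a ha a ha).1 (by
      rw [← mem_C.1 hg _ ⟨a, ha, rfl⟩, mul_inv_cancel_right]))
theorem Db0.sm_self (d : Db0 t J ι θ) (m : Md t K J ι) (s : SS) : Sm ι θ (ι s) (ι s) := fun a ha b hb => by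
  rw [d.eqv s a ha, ← map_inv, ← map_mul, ← map_mul]
  exact ⟨fun e => congrArg θ (m.inj e), fun e => congrArg ι (d.inj1 m (e0_conj s a ha) hb e)⟩
theorem Db0.range_N (d : Db0 t J ι θ) (s : SS) : ι s ∈ N[E1 θ] := mem_N_of_finite fun x hx => by
  obtain ⟨a, ha, rfl⟩ := d.mem_E1.1 hx
  exact d.mem_E1.2 ⟨_, e0_conj s a ha, (d.eqv s a ha).symm⟩
theorem range_NE (s : SS) : ι s ∈ N[EE ι] := mem_N_of_finite (by
  rintro _ ⟨a, ha, rfl⟩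
  exact ⟨_, e0_conj s a ha, by rw [map_mul, map_mul, map_inv]⟩)

theorem Md.oz (m : Md t K J ι) : orderOf (ι zS) = 2 := m.ord (by decide) (by decide)

theorem md1_all (h : ∀ e ∈ [zS, ζS, eS, wS], Md1 (ι zS) (g * ι e * g⁻¹) (ι e)) :
    ∀ e ∈ E₀, Md1 (ι zS) (g * ι e * g⁻¹) (ι e) := by
  have zc : ∀ s : SS, zS * s = s * zS := by decide +kernel
  have mul : ∀ a b, Md1 (ι zS) (g * ι a * g⁻¹) (ι a) → Md1 (ι zS) (g * ι b * g⁻¹) (ι b) →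
      Md1 (ι zS) (g * ι (a * b) * g⁻¹) (ι (a * b)) := fun a b h1 h2 => by
    have e : g * ι (a * b) * g⁻¹ = g * ι a * g⁻¹ * (g * ι b * g⁻¹) := by rw [map_mul]; group
    rw [e]
    rcases h1 with h1 | h1 <;> rcases h2 with h2 | h2 <;> rw [h1, h2] <;> simp only [← map_mul]
    · exact Or.inl rfl
    · exact Or.inr (by rw [← map_mul, mul_assoc])
    · exact Or.inr (by rw [← map_mul, mul_assoc, zc, mul_assoc])
    · exact Or.inl (by rw [mul_assoc, ← mul_assoc zS, zc, mul_assoc b, show zS * zS = 1 by decide, mul_one])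
  have one : Md1 (ι zS) (g * ι 1 * g⁻¹) (ι 1) := Or.inl (by rw [map_one, mul_one, mul_inv_cancel])
  have key : ∀ e ∈ E₀, ∃ a ∈ [1, zS], ∃ b ∈ [1, ζS], ∃ c ∈ [1, eS], ∃ d ∈ [1, wS], e = a * b * c * d := by
    decide +kernel
  intro e he
  obtain ⟨a, ha, b, hb, c, hc, d, hd, rfl⟩ := key e he
  simp only [List.mem_cons, List.not_mem_nil, or_false] at ha hb hc hd
  refine mul _ _ (mul _ _ (mul _ _ ?_ ?_) ?_) ?_
  · rcases ha with rfl | rfl; exacts [one, h _ (by simp)]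
  · rcases hb with rfl | rfl; exacts [one, h _ (by simp)]
  · rcases hc with rfl | rfl; exacts [one, h _ (by simp)]
  · rcases hd with rfl | rfl; exacts [one, h _ (by simp)]

/-- a group inducing `GL₃(2)` induces the whole action of `C(t, z) ∩ N(E)` on `E` -/
theorem Md.inM (m : Md t K J ι) (c : In n t K J) {M : Subgroup G} (hM : M ≤ C{t} ⊓ C{ι zS})
    (h3 : GL3 ι M) (hg : g ∈ C{t} ⊓ C{ι zS} ⊓ N[EE ι]) : ∃ y ∈ M, y⁻¹ * g ∈ C[EE ι] := by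
  obtain ⟨b1, h1, e1⟩ := H24.conj_mem hg.2 (mem_map_of_mem ι (show ζS ∈ E₀ by decide))
  obtain ⟨b2, h2, e2⟩ := H24.conj_mem hg.2 (mem_map_of_mem ι (show eS ∈ E₀ by decide))
  obtain ⟨b3, h3', e3⟩ := H24.conj_mem hg.2 (mem_map_of_mem ι (show wS ∈ E₀ by decide))
  have ez := mem_C1_iff_conj.1 hg.1.2
  have key : ∀ b a, ι b = g * ι a * g⁻¹ → a ≠ 1 ∧ a ≠ zS → b ≠ 1 ∧ b ≠ zS := fun b a e h =>
    ⟨fun e' => h.1 (by rwa [e', map_one, eq_comm, conj_eq_one_iff, map_eq_one_iff _ m.inj] at e),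
      fun e' => h.2 (by rw [e', ← ez] at e; exact (m.inj (by simpa using e)).symm)⟩
  have km : ∀ {b a b' a'}, ι b = g * ι a * g⁻¹ → ι b' = g * ι a' * g⁻¹ → ι (b * b') = g * ι (a * a') * g⁻¹ :=
    fun e e' => by rw [map_mul, map_mul, e, e']; group
  obtain ⟨y, hy, f1, f2, f3⟩ := h3 b1 b2 b3 ⟨h1, h2, h3', by
    simp only [List.mem_cons, List.not_mem_nil, or_false, forall_eq_or_imp, forall_eq]
    exact ⟨key _ _ e1 (by decide), key _ _ e2 (by decide), key _ _ e3 (by decide),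
      key _ _ (km e1 e2) (by decide), key _ _ (km e1 e3) (by decide), key _ _ (km e2 e3) (by decide),
      key _ _ (km (km e1 e2) e3) (by decide)⟩⟩
  have hz : y⁻¹ * g ∈ C{ι zS} := mul_mem (inv_mem (hM hy).2) hg.1.2
  have ey := mem_C1_iff_conj.1 (inv_mem (hM hy).2)
  have aux : ∀ {a b}, ι b = g * ι a * g⁻¹ → Md1 (ι zS) (y * ι a * y⁻¹) (ι b) →
      Md1 (ι zS) (y⁻¹ * g * ι a * (y⁻¹ * g)⁻¹) (ι a) := fun {a b} e h => by
    have e' : y⁻¹ * g * ι a * (y⁻¹ * g)⁻¹ = y⁻¹ * ι b * y := by rw [e]; group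
    rw [e']
    rcases h with h | h
    · left; rw [← h]; group
    · right
      rw [← ey, eq_mul_inv_of_mul_eq h.symm, iv_inv (iv_mul m.oz)]; group
  refine ⟨y, hy, m.noTv _ (c.nJ m.zK m.oz hz (Or.inl (mem_C1_iff_conj.1
    (mul_mem (inv_mem (hM hy).1) hg.1.1)))) (md1_all ?_)⟩
  simp only [List.mem_cons, List.not_mem_nil, or_false, forall_eq_or_imp, forall_eq]
  exact ⟨Or.inl (mem_C1_iff_conj.1 hz), aux e1 f1, aux e2 f2, aux e3 f3⟩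

theorem Db.lift0 (d : Db t J ι θ) (m : Md t K J ι) (c : In n t K J) (hk : k ∈ C{t} ⊓ N[EE ι]) :
    ∃ y ∈ C{t} ⊓ N[E1 θ], y * k⁻¹ ∈ C[EE ι] ∧ Sm ι θ k y := by
  obtain ⟨o, ho, h⟩ := d.lift m c hk (R := ⊥) IsPGroup.of_bot bot_le (by rw [C_bot]; trivial)
  have h1 : o * k ∈ C{t} ⊓ N[E1 θ] := ⟨mul_mem ho.1.1 hk.1, h⟩
  refine ⟨_, h1, by rw [mul_inv_cancel_right]; exact ho.1.2, ?_⟩
  have := (d.sm_cent m (inv_mem ho.1.2) (one_mem _)).mul (d.act m c h1).2 (d.act m c h1).1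
  rwa [inv_mul_cancel_left, one_mul] at this
end

theorem Db.diag {θ : SS → G} (d : Db t J ι θ) (m : Md t K J ι) (c : In n t K J) (hg : g ∈ W1 t θ) :
    ∃ k ∈ C{t} ⊓ N[E1 θ], k⁻¹ * g ∈ C[E1 θ] := by
  have h1 : t * g * t ∈ N[cj t (E1 θ)] ∧ t * g * t ∈ C[E1 θ] := by
    rw [← mem_inf, ← cjt_W1 c.tt, mem_cjt c.tt, tt_tt c.tt]; exact hg
  replace hg := mem_inf.1 hg
  have n1 : t * g * t ∈ N[E1 θ] := C_le_N _ h1.2
  have e : ⁅g * (t * g * t), t⁆ = g * (t * g * t) * g⁻¹ * (t * g * t)⁻¹ := by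
    simp only [commutatorElement_def, mul_inv_rev, iv_inv c.tt]
    calc _ = g * (t * g * t) * (t * t) * g⁻¹ * (t * g⁻¹ * t) := by group
      _ = _ := by rw [c.tt]; group
  obtain ⟨f, hf, h⟩ := d.ct m c (g := g * (t * g * t))
    (N0_le_NF (mul_mem (W1_le_N0 hg) ⟨n1, h1.1⟩)) (by
      rw [e, CF_eq]
      refine mem_inf.2 ⟨mul_mem (H24.conj_mem (N_le_NC _ hg.1) h1.2) (inv_mem h1.2), ?_⟩
      have := mul_mem hg.2 (H24.conj_mem (N_le_NC _ h1.1) (inv_mem hg.2))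
      simpa only [mul_assoc] using this)
  rw [CF_eq, mem_inf] at hf
  refine ⟨_, ⟨h, mul_mem (C_le_N _ hf.1) (mul_mem hg.1 n1)⟩, ?_⟩
  have := mul_mem (inv_mem h1.2) (H24.conj_mem' (N_le_NC _ hg.1) (inv_mem hf.1))
  convert this using 1
  group

theorem Db.tv {θ : SS → G} (d : Db t J ι θ) (m : Md t K J ι) (c : In n t K J) (hg : g ∈ W1 t θ)
    (h : ∀ e ∈ E₀, Md1 (θ zS) (g * θ e * g⁻¹) (θ e)) : g ∈ C[E1 θ] := by
  obtain ⟨k, hk, h1⟩ := d.diag m c hg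
  have s : Sm ι θ k g := by
    have := (d.act m c hk).2.mul (d.sm_cent m (one_mem _) h1) (one_mem _)
    rwa [mul_one, mul_inv_cancel_left] at this
  have h2 : ∀ e ∈ E₀, Md1 (ι zS) (k * ι e * k⁻¹) (ι e) := fun e he => (h e he).imp (s e he e he).2
    fun h => by rw [← map_mul]; exact (s e he _ (mul_mem he (by decide))).2 (by rw [h, d.mul e he _ (by decide)])
  have hz : k ∈ C{ι zS} := mem_C1_iff_conj.2 ((h2 zS (by decide)).resolve_right fun e => by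
    rw [iv_mul m.oz, conj_eq_one_iff] at e
    exact iv_ne m.oz e)
  exact d.cent_of_sm s (m.noTv k (c.nJ m.zK m.oz hz (Or.inl (mem_C1_iff_conj.1 hk.1))) h2)

theorem Db.w_comm1 {θ : SS → G} (d : Db t J ι θ) (c : In n t K J) :
    ⁅pcr (W1 t θ), cj t (W1 t θ)⁆ ≤ E1 θ ⊔ opp 2 C[FF t θ] := by
  have n0 : N[E1 θ] ⊓ N[cj t (E1 θ)] ≤ N[(E1 θ ⊔ opp 2 C[FF t θ] : Subgroup G)] :=
    norm_sup inf_le_left (N0_le_NF.trans NF_le_NO)
  have n1 := W1_le_N0.trans n0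
  have n2 : cj t (W1 t θ) ≤ N[(E1 θ ⊔ opp 2 C[FF t θ] : Subgroup G)] := by
    rw [cjt_W1 c.tt]; exact (le_inf (inf_le_right.trans (C_le_N _)) inf_le_left).trans n0
  have p := pcr_le (W1 t θ)
  have h1 : ⁅W1 t θ, cj t (W1 t θ)⁆ ≤ C[FF t θ] := by
    rw [CF_eq, cjt_W1 c.tt]
    exact le_inf ((comm_mono_right inf_le_right).trans (comm_le_right (norm_C inf_le_left)))
      ((comm_mono_left inf_le_right).trans (comm_le_left (norm_C inf_le_left)))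
  have h2 : ⁅W1 t θ, C[FF t θ]⁆ ≤ E1 θ ⊔ opp 2 C[FF t θ] := by
    refine (comm_mono_right (B := (E1 θ ⊔ opp 2 C[FF t θ]) ⊔ cj t (E1 θ)) fun g hg => ?_).trans
      (comm_sup_le (comm_le_right n1) (by rw [comm_eq_bot.2 inf_le_right]; exact bot_le) (norm_self _)
        ((le_inf (norm_of_cent (d.E2_le_C c.tt)) (norm_self _)).trans n0))
    obtain ⟨f, hf, o, ho, rfl⟩ := d.splitF hg
    exact mul_mem (SetLike.le_def.1 (sup_le_sup_right le_sup_left _) hf) (mem_sup_left (mem_sup_right ho))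
  have h3 : ⁅⁅pcr (W1 t θ), cj t (W1 t θ)⁆, pcr (W1 t θ)⁆ ≤ E1 θ ⊔ opp 2 C[FF t θ] := by
    rw [commC]; exact (commutator_mono p ((comm_mono_left p).trans h1)).trans h2
  rw [← pcr_pf]
  exact three_subgroup_mod (p.trans n1) n2 (p.trans n1) h3 (by rwa [commC (cj t _)])

theorem Db.F_inf_O {θ : SS → G} (d : Db t J ι θ) (ht : t * t = 1) (hx : x ∈ FF t θ)
    (ho : x ∈ opp 2 C[FF t θ]) : x = 1 := sb_odd.1 (odd_opp _) x ho (d.elem ht hx hx).1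

theorem Db.w_comm {θ : SS → G} (d : Db t J ι θ) (m : Md t K J ι) (c : In n t K J) :
    ⁅pcr (W1 t θ), cj t (pcr (W1 t θ))⁆ ≤ opp 2 C[FF t θ] := fun x hx => by
  have h1 := d.w_comm1 c (comm_mono_right (cj_mono t (pcr_le _)) hx)
  have h2 := cj_mono t (d.w_comm1 c)
  rw [cj_comm, cjt_cjt c.tt, cj_sup, cj_of_mem_N (NF_le_NO (t_nF c.tt)), commC] at h2
  have h3 := h2 (comm_mono_left (pcr_le _) hx)
  obtain ⟨e, he, o, ho, rfl⟩ := (mem_sup_of_norm' (le_sup_left.trans ((norm_self _).trans NF_le_NO))).1 h1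
  obtain ⟨e', he', o', ho', e1⟩ := (mem_sup_of_norm' (le_sup_right.trans ((norm_self _).trans NF_le_NO))).1 h3
  have e2 : e'⁻¹ * e = 1 := d.F_inf_O c.tt (mul_mem (inv_mem (mem_sup_right he')) (mem_sup_left he)) (by
    rw [eq_mul_inv_of_mul_eq e1, mul_assoc, inv_mul_cancel_left]; exact mul_mem ho' (inv_mem ho))
  obtain ⟨u, hu, rfl⟩ := d.mem_E1.1 he
  obtain ⟨v, hv, rfl⟩ := (d.mem_E2 c.tt).1 he'
  rwa [(d.inj m c hu hv (inv_mul_eq_one.1 e2).symm).1, d.one, one_mul]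

theorem Tw.xW {θ : SS → G} (w : Tw t J ι θ x) (hx : x ∈ C[cj t (E1 θ)]) (d : Db t J ι θ)
    (m : Md t K J ι) (c : In n t K J) : x ∈ W1 t θ ∧ Sm ι θ (ι eS') x := by
  have h1 : x * ι eS' ∈ C[E1 θ] := by
    rw [← (w.sp.comm c (m.memK c _) (m.ord (by decide) (by decide))).2.1, ← mem_cjt c.tt, cj_C]
    exact hx
  have e : x = x * ι eS' * ι eS' := by rw [mul_assoc, ← map_mul, show eS' * eS' = 1 by decide, map_one, mul_one]
  refine ⟨⟨e ▸ mul_mem (C_le_N _ h1) (d.range_N _), hx⟩, ?_⟩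
  have := (d.sm_cent m (one_mem _) h1).mul (d.sm_self m eS') (range_NE _)
  rwa [one_mul, ← e] at this

theorem Tw.w_act {θ : SS → G} (w : Tw t J ι θ x) (hx : x ∈ C[cj t (E1 θ)]) (d : Db t J ι θ)
    (m : Md t K J ι) (c : In n t K J) (hg : g ∈ C{t} ⊓ C{ι zS} ⊓ N[EE ι]) :
    ∃ v ∈ pcr (W1 t θ ⊓ C{θ zS}), Sm ι θ g v := by
  obtain ⟨M, p, hM, -, h3, hY⟩ := m.m0
  have hM1 : M ≤ C{t} ⊓ C{ι zS} := (hM.trans inf_le_left).trans (c.pc _ m.zK m.oz).comp.1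
  have hM2 : M ≤ C{t} ⊓ N[EE ι] := le_inf (hM1.trans inf_le_left) (hM.trans inf_le_right)
  let Y : Subgroup G :=
    { carrier := {g | g ∈ N[EE ι] ∧ ∃ v ∈ W1 t θ, Sm ι θ g v}
      mul_mem' := fun ⟨a1, v, a2, a3⟩ ⟨b1, v', b2, b3⟩ => ⟨mul_mem a1 b1, _, mul_mem a2 b2, a3.mul b3 b1⟩
      one_mem' := ⟨one_mem _, 1, one_mem _, d.sm_cent m (one_mem _) (one_mem _)⟩
      inv_mem' := fun ⟨a1, v, a2, a3⟩ => ⟨inv_mem a1, _, inv_mem a2, a3.inv⟩ }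
  have h4 : M ≤ Y := (hY Y (fun y hy => mem_N_of_finite fun a ⟨a1, v, a2, a3⟩ => by
    obtain ⟨k, hk, -, s⟩ := d.lift0 m c (hM2 hy)
    exact ⟨mul_mem (mul_mem (hM hy).2 a1) (inv_mem (hM hy).2), _, H24.conj_mem (N0_le_NW (ct_N0 hk)) a2,
      (s.mul a3 a1).mul s.inv (inv_mem (hM hy).2)⟩) ⟨range_NE _, x, w.xW hx d m c⟩).trans
    (sup_le le_rfl fun a ha => ⟨C_le_N _ ha, 1, one_mem _, d.sm_cent m ha (one_mem _)⟩)
  have zE : zS ∈ E₀ := by decide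
  have h5 : ∀ g ∈ C{t} ⊓ C{ι zS} ⊓ N[EE ι], ∃ v ∈ W1 t θ ⊓ C{θ zS}, Sm ι θ g v := fun g hg => by
    obtain ⟨y, hy, h⟩ := m.inM c hM1 h3 hg
    obtain ⟨-, v, hv, s⟩ := h4 hy
    have s' := s.mul (d.sm_cent m h (one_mem _)) (C_le_N _ h)
    rw [mul_inv_cancel_left, mul_one] at s'
    exact ⟨v, ⟨hv, mem_C1_iff_conj.2 ((s' _ zE _ zE).1 (mem_C1_iff_conj.1 hg.1.2))⟩, s'⟩
  have nA : C{t} ⊓ C{ι zS} ⊓ N[E1 θ] ≤ N[EE ι] := fun k hk => (d.act m c ⟨hk.1.1, hk.2⟩).1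
  have h6 : M ≤ C[EE ι] ⊔ pcr (C{t} ⊓ C{ι zS} ⊓ N[E1 θ]) := pcr_cover p (norm_C nA) fun y hy => by
    obtain ⟨k, hk, h, s⟩ := d.lift0 m c (hM2 hy)
    have : k ∈ C{ι zS} := by
      have := mul_mem (C_le_C1 (⟨_, zE, rfl⟩ : ι zS ∈ EE ι) h) (hM1 hy).2
      rwa [inv_mul_cancel_right] at this
    have := mul_mem (mem_sup_left (inv_mem h) : _ ∈ C[EE ι] ⊔ (C{t} ⊓ C{ι zS} ⊓ N[E1 θ]))
      (mem_sup_right ⟨⟨hk.1, this⟩, hk.2⟩)
    rwa [mul_inv_rev, inv_inv, inv_mul_cancel_right] at this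
  have nU : W1 t θ ⊓ C{θ zS} ≤ N[E1 θ] := inf_le_left.trans inf_le_left
  have h7 : pcr (C{t} ⊓ C{ι zS} ⊓ N[E1 θ]) ≤ C[E1 θ] ⊔ pcr (W1 t θ ⊓ C{θ zS}) :=
    pcr_cover (pcr_pf _) (norm_C nU) fun k hk => by
      have hk' := pcr_le _ hk
      obtain ⟨v, hv, s⟩ := h5 k ⟨hk'.1, nA hk'⟩
      have s' := (d.act m c ⟨hk'.1.1, hk'.2⟩).2.mul s.inv (inv_mem (nA hk'))
      have := mul_mem (mem_sup_left (d.cent_of_sm s' (by rw [mul_inv_cancel]; exact one_mem _)) :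
        _ ∈ C[E1 θ] ⊔ (W1 t θ ⊓ C{θ zS})) (mem_sup_right hv)
      rwa [inv_mul_cancel_right] at this
  obtain ⟨y, hy, h⟩ := m.inM c hM1 h3 hg
  obtain ⟨a, ha, k, hk, rfl⟩ := (mem_sup_of_norm ((pcr_le _).trans (norm_C nA))).1 (h6 hy)
  obtain ⟨b, hb, v, hv, e⟩ := (mem_sup_of_norm ((pcr_le _).trans (norm_C nU))).1 (h7 hk)
  have hk' := pcr_le _ hk
  have s := ((d.sm_cent m ha (inv_mem hb)).mul (d.act m c ⟨hk'.1.1, hk'.2⟩).2 (nA hk')).mul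
    (d.sm_cent m h (one_mem _)) (C_le_N _ h)
  refine ⟨v, hv, ?_⟩
  rw [mul_inv_cancel_left, mul_one] at s
  rwa [e, inv_mul_cancel_left] at s

theorem Md.range_C (m : Md t K J ι) (c : In n t K J) (s : SS) : ι s ∈ C{t} ⊓ C{ι zS} ⊓ N[EE ι] :=
  ⟨(c.pc _ m.zK m.oz).comp.1 (m.mem s), range_NE s⟩

theorem Tw.w_E {θ : SS → G} (w : Tw t J ι θ x) (hx : x ∈ C[cj t (E1 θ)]) (d : Db t J ι θ)
    (m : Md t K J ι) (c : In n t K J) : E1 θ ≤ pcr (W1 t θ ⊓ C{θ zS}) := by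
  have hU : ∀ a ∈ E₀, θ a ∈ W1 t θ ⊓ C{θ zS} := fun a ha =>
    ⟨⟨norm_self _ (d.mem_E1.2 ⟨a, ha, rfl⟩), centsC.1 (d.E2_le_C c.tt) (d.mem_E1.2 ⟨a, ha, rfl⟩)⟩,
      H24.mem_C1.2 (d.cm1 ha (by decide))⟩
  have h1 : ∀ s, ∀ a ∈ E₀, θ (a * (s * a * s⁻¹)) ∈ pcr (W1 t θ ⊓ C{θ zS}) := fun s a ha => by
    obtain ⟨v, hv, h⟩ := w.w_act hx d m c (m.range_C c s)
    rw [d.mul a ha _ (e0_conj s a ha), ← (h a ha _ (e0_conj s a ha)).1 (by rw [map_mul, map_mul, map_inv])]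
    have := mul_mem (H24.conj_mem (norm_pcr (norm_self _) (hU a ha)) hv) (inv_mem hv)
    rw [iv_inv (d.sq ha)] at this
    simpa only [mul_assoc] using this
  have hz : θ zS ∈ _ := (show eS * (eS' * eS * eS'⁻¹) = zS by decide) ▸ h1 eS' eS (by decide)
  have he : θ eS ∈ _ := (show wS * (σS * wS * σS⁻¹) = eS by decide) ▸ h1 σS wS (by decide)
  have hm : ∀ u ∈ E₀, (∀ w ∈ [ζS * eS * u, u, ζS * eS * u * u], w ≠ 1 ∧ w ≠ zS) ∨
      (∀ w ∈ [ζS, u, ζS * u], w ≠ 1 ∧ w ≠ zS) ∨ (∀ w ∈ [wS, u, wS * u], w ≠ 1 ∧ w ≠ zS) ∨ u = 1 ∨ u = zS := by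
    decide +kernel
  have h2 : ∀ a ∈ E₀, ∀ u ∈ E₀, (∀ w ∈ [a, u, a * u], w ≠ 1 ∧ w ≠ zS) → θ u ∈ pcr (W1 t θ ⊓ C{θ zS}) :=
    fun a ha u hu h => by
      obtain ⟨k, hk, -, e⟩ := m.tri_tr c ha hu h
      obtain ⟨v, hv, s⟩ := w.w_act hx d m c hk
      rw [← (s _ (by decide) u hu).1 e]
      exact mul_mem (mul_mem hv he) (inv_mem hv)
  intro y hy
  obtain ⟨u, hu, rfl⟩ := d.mem_E1.1 hy
  rcases hm u hu with h | h | h | rfl | rfl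
  exacts [h2 _ (mul_mem (by decide) hu) u hu h, h2 _ (by decide) u hu h, h2 _ (by decide) u hu h,
    d.one ▸ one_mem _, hz]

theorem Tw.w_pe {θ : SS → G} (w : Tw t J ι θ x) (hx : x ∈ C[cj t (E1 θ)]) (d : Db t J ι θ)
    (m : Md t K J ι) (c : In n t K J) : pcr (W1 t θ) ⊓ FF t θ ≤ E1 θ := fun f hf => by
  obtain ⟨u, hu, v, hv, rfl⟩ := (d.mem_F c.tt).1 hf.2
  have h0 := d.mem_E1.2 ⟨u, hu, rfl⟩
  have h1 : t * θ v * t ∈ pcr (W1 t θ) := by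
    have := mul_mem (inv_mem (pcr_mono inf_le_left (w.w_E hx d m c h0))) hf.1
    rwa [inv_mul_cancel_left] at this
  have h2 : θ v ∈ C[pcr (W1 t θ)] := mem_C.2 fun y hy => by
    have hy' : t * y * t ∈ cj t (pcr (W1 t θ)) := by rw [mem_cjt c.tt, tt_tt c.tt]; exact hy
    have n : t * y * t ∈ N[FF t θ] := mul_mem (mul_mem (t_nF c.tt) (N0_le_NF (W1_le_N0 (pcr_le _ hy))))
      (t_nF c.tt)
    have := commutatorElement_eq_one_iff_mul_comm.1 (d.F_inf_O c.tt (t2_comm n (d.θF' c.tt hv))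
      (d.w_comm m c (commutator_mem_commutator h1 hy')))
    rw [← tt_mul c.tt, ← tt_mul c.tt] at this
    exact (mul_left_cancel (mul_right_cancel this)).symm
  by_cases v1 : v = 1
  · rw [v1, d.one, mul_one, c.tt, mul_one]; exact h0
  exfalso
  obtain ⟨a, ha, a1, a2⟩ : ∃ a ∈ E₀, a ≠ 1 ∧ a ≠ v := by
    by_cases e : v = zS
    exacts [⟨ζS, by decide, by decide, by rw [e]; decide⟩, ⟨zS, by decide, by decide, Ne.symm e⟩]
  obtain ⟨k, hk, -, e⟩ := m.two_tr c ha hv a1 v1 a2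
  obtain ⟨y, hy, -, s⟩ := d.lift0 m c hk
  have h3 : θ ζS ∈ C[pcr (W1 t θ)] := by
    rw [← (s _ (by decide) v hv).1 e] at h2
    exact (conj_mem_iff (norm_C (norm_pcr N0_le_NW) (ct_N0 hy))).1 h2
  obtain ⟨r, hr, s'⟩ := w.w_act hx d m c (m.range_C c σS)
  have e1 := (s' ζS (by decide) (σS * ζS * σS⁻¹) (by decide)).1 (by rw [map_mul, map_mul, map_inv])
  rw [mem_C.1 h3 r (pcr_mono inf_le_left hr), mul_inv_cancel_right] at e1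
  exact absurd (d.inj1 m (by decide) (by decide) e1) (by decide)

end H28.ND
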