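import Mathlib
import Cfsg.Agent.H28.ND0
import Cfsg.Agent.H28.NDW

set_option autoImplicit false
set_option linter.unusedSectionVars false

namespace H28.ND

open Subgroup Equiv Equiv.Perm Cfsg H24 H23 H25.LB H5.Ly H20.So
open scoped commutatorElement

variable {G : Type*} [Group G] [Finite G] {n : ℕ} {t x y g k a b : G}
  {K K' L H D Q Q' R T P : Subgroup G} {J J' : G → Subgroup G} {ι : SS →* G}

/-! ### NDS -/
namespace NDSx

theorem nml : ∀ a ∈ E₀, ∀ s : SS, s * a * s⁻¹ ∈ E₀ := by decide +kernel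
theorem selfc : ∀ w : SS, (∀ a ∈ E₀, w * a * w⁻¹ = a) → w ∈ E₀ := by decide +kernel
theorem sqZ : ∀ a ∈ E₀, eS' * a * (eS' * a) = 1 → a ∈ Z₀ := by decide +kernel
theorem sqE : ∀ a ∈ E₀, a * a = 1 := by decide +kernel

variable {θ θ' : SS → G}

theorem mem_cjt (ht : t * t = 1) : x ∈ cj t H ↔ t * x * t ∈ H := by rw [mem_cj, iv_inv ht]

theorem cjt (ht : t * t = 1) (hx : x ∈ H) : t * x * t ∈ cj t H := by
  have := conj_mem_cj t hx
  rwa [iv_inv ht] at this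

theorem cjj (ht : t * t = 1) (H : Subgroup G) : cj t (cj t H) = H := by rw [← cj_mul, ht, cj_one]

theorem tm (ht : t * t = 1) (x y : G) : t * (x * y) * t = t * x * t * (t * y * t) := by
  rw [show t * x * t * (t * y * t) = t * x * (t * t) * y * t by group, ht]; group

theorem tt (ht : t * t = 1) (x : G) : t * (t * x * t) * t = x := by
  rw [show t * (t * x * t) * t = t * t * x * (t * t) by group, ht]; group

theorem mem_zpowers_iv (ht : t * t = 1) : x ∈ zpowers t ↔ x = 1 ∨ x = t := by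
  refine ⟨fun h => ?_, by rintro (rfl | rfl); exacts [one_mem _, mem_zpowers _]⟩
  obtain ⟨j, rfl⟩ := mem_powers_iff_mem_zpowers.2 h
  clear h
  induction j with
  | zero => exact .inl (pow_zero t)
  | succ j ih =>
    rcases ih with e | e <;> simp only [pow_succ] at e ⊢ <;> rw [e]
    exacts [.inr (one_mul t), .inl ht]

theorem E1_congr (h : ∀ a ∈ E₀, θ' a = θ a) : E1 θ' = E1 θ := congrArg Subgroup.closure (Set.image_congr h)

theorem FF_congr (h : ∀ a ∈ E₀, θ' a = θ a) : FF t θ' = FF t θ := by rw [FF, FF, E1_congr h]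

theorem db_congr (h : ∀ a ∈ E₀, θ' a = θ a) (d : Db t J ι θ) : Db t J ι θ' where
  mul a ha b hb := by rw [h _ (mul_mem ha hb), h a ha, h b hb, d.mul a ha b hb]
  dg a ha := by rw [h a ha, d.dg a ha]
  cm a ha b hb := by rw [h a ha, h b hb, d.cm a ha b hb]
  sp a ha a1 := by rw [h a ha]; exact d.sp a ha a1
  eqv s a ha := by rw [h a ha, h _ (nml a ha s), d.eqv s a ha]
  nm := by rw [FF_congr h, E1_congr h]; exact d.nm
  fr := by rw [FF_congr h]; exact d.fr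
  cF := by rw [FF_congr h]; exact d.cF

theorem tw_congr (h : ∀ a ∈ E₀, θ' a = θ a) (w : Tw t J ι θ x) : Tw t J ι θ' x where
  sp := w.sp
  nF := by rw [FF_congr h]; exact w.nF
  c1 a ha := by rw [h a ha.1]; exact w.c1 a ha
  cm a ha := by
    obtain ⟨b, hb, c, hc, e⟩ := w.cm a ha
    exact ⟨b, hb, c, hc, by rw [h a ha, h _ (mul_mem ha hb.1), h c hc.1, e]⟩
  sg := w.sg
  two := by rw [FF_congr h]; exact w.two

theorem mem_C_E1 (d : Db0 t J ι θ) : g ∈ C[E1 θ] ↔ ∀ a ∈ E₀, g * θ a * g⁻¹ = θ a :=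
  ⟨fun h a ha => conj_eq_of_mem_C h (d.mem_E1.2 ⟨a, ha, rfl⟩), fun h => mem_C'.2 fun y hy => by
    obtain ⟨a, ha, rfl⟩ := d.mem_E1.1 hy
    exact mul_inv_eq_iff_eq_mul.1 (h a ha)⟩

theorem ι_N (d : Db0 t J ι θ) (s : SS) : ι s ∈ N[E1 θ] := mem_N_of_finite fun y hy => by
  obtain ⟨a, ha, rfl⟩ := d.mem_E1.1 hy
  exact d.mem_E1.2 ⟨_, nml a ha s, (d.eqv s a ha).symm⟩

theorem θ_inj (d : Db0 t J ι θ) (m : Md t K J ι) {u v : SS} (hu : u ∈ E₀) (hv : v ∈ E₀) (h : θ u = θ v) :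
    u = v := m.inj (by rw [← d.dg u hu, ← d.dg v hv, h])

theorem F_C (d : Db0 t J ι θ) (ht : t * t = 1) : FF t θ ≤ C[FF t θ] :=
  fun _ hx => mem_C.2 fun _ hy => (d.elem ht hy hx).2

theorem mem_CF (h1 : g ∈ C[E1 θ]) (h2 : g ∈ C[cj t (E1 θ)]) : g ∈ C[FF t θ] := by
  rw [FF, C_sup]; exact ⟨h1, h2⟩

/-- `W₁ᵗ` centralises `E₁` -/
theorem tW (ht : t * t = 1) (hg : g ∈ C[cj t H]) : t * g * t ∈ C[H] := by
  have := cjt ht hg
  rwa [cj_C, cjj ht] at this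

end NDSx

open NDSx in
theorem Tw.w0 {θ : SS → G} (w : Tw t J ι θ x) (hx : x ∈ C[cj t (E1 θ)]) (d : Db t J ι θ)
    (m : Md t K J ι) (c : In n t K J) : ∃ θ' : SS →* G, W0 t J ι θ' x := by
  have ht := c.tt
  have d0 := d.toDb0
  have ti := iv_inv ht
  set N0 := N[E1 θ] ⊓ N[cj t (E1 θ)] with hN0
  have tN : t ∈ N[N0] := mem_N_iff_cj.2 (by rw [hN0, cj_inf, cj_N, cj_N, cjj ht, inf_comm])
  have HN : N0 ⊔ zpowers t ≤ N[N0] := sup_le (norm_self _) (zpowers_le.2 tN)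
  have ιN : ∀ s, ι s ∈ N0 := fun s => ⟨ι_N d0 s, by
    have := cjt ht (ι_N d0 s)
    rwa [cj_N, m.ct c, mul_assoc, ht, mul_one] at this⟩
  have xe : x * ι eS' ∈ C[E1 θ] := by
    rw [← (w.sp.comm c (m.memK c _) (m.ord (by decide) (by decide))).2.1]; exact tW ht hx
  have xN : x ∈ N0 := ⟨(mul_mem_cancel_right (ι_N d0 eS')).1 (C_le_N _ xe), C_le_N _ hx⟩
  have FN : FF t θ ≤ N0 :=
    (F_C d0 ht).trans (le_inf (norm_of_cent (C_anti le_sup_left)) (norm_of_cent (C_anti le_sup_right)))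
  obtain ⟨T, hT, BT⟩ := mx_ex w.two (H := N0 ⊔ zpowers t) (sup_le (sup_le (sup_le (FN.trans le_sup_left)
    (by rintro _ ⟨s, rfl⟩; exact mem_sup_left (ιN s))) le_sup_right) (zpowers_le.2 (mem_sup_left xN)))
  have tT : t ∈ T := BT (mem_sup_left (mem_sup_right (mem_zpowers t)))
  have xT : x ∈ T := BT (mem_sup_right (mem_zpowers x))
  have ιT : ∀ s, ι s ∈ T := fun s => BT (mem_sup_left (mem_sup_left (mem_sup_right ⟨s, rfl⟩)))
  have FT : FF t θ ≤ T := le_trans (le_sup_left.trans (le_sup_left.trans le_sup_left)) BT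
  set Wo := pcr (W1 t θ) with hWo
  have WW : Wo ≤ W1 t θ := pcr_le _
  have WN : Wo ≤ N0 := WW.trans (inf_le_inf_left _ (C_le_N _))
  have cm : ∀ y ∈ T ⊓ Wo, ∀ y' ∈ T ⊓ Wo, y * (t * y' * t) = t * y' * t * y := fun y hy y' hy' => by
    have m1 : t * y' * t ∈ T := mul_mem (mul_mem tT hy'.1) tT
    obtain ⟨k, hk⟩ := te_of_pg hT.1 (x := ⁅y, t * y' * t⁆)
      (mul_mem (mul_mem (mul_mem hy.1 m1) (inv_mem hy.1)) (inv_mem m1))
    exact commutatorElement_eq_one_iff_mul_comm.1 (eq_one_of_two_odd hk (odd_orderOf_of_mem (odd_opp _)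
      (d.w_comm m c (commutator_mem_commutator hy.2 (cjt ht hy'.2)))))
  have dj : ∀ y ∈ T ⊓ Wo, ∀ y' ∈ T ⊓ Wo, y = t * y' * t → y = 1 := fun y hy y' hy' e => by
    have f1 : y ∈ FF t θ := d.cF y (mem_CF (e ▸ tW ht (WW hy'.2).2) (WW hy.2).2) (te_of_pg hT.1 hy.1)
    have f2 : y' ∈ FF t θ := d.cF y' (mem_CF (by rw [← tt ht y', ← e]; exact tW ht (WW hy.2).2)
      (WW hy'.2).2) (te_of_pg hT.1 hy'.1)
    obtain ⟨u, hu, rfl⟩ := d0.mem_E1.1 (w.w_pe hx d m c ⟨hy.2, f1⟩)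
    obtain ⟨v, hv, rfl⟩ := d0.mem_E1.1 (w.w_pe hx d m c ⟨hy'.2, f2⟩)
    obtain ⟨rfl, -⟩ := d0.inj m c hu hv e
    exact left_eq_mul.1 ((congrArg θ (mul_one 1).symm).trans (d0.mul 1 hu 1 hu))
  have uq : ∀ y1 ∈ T ⊓ Wo, ∀ y2 ∈ T ⊓ Wo, ∀ y3 ∈ T ⊓ Wo, ∀ y4 ∈ T ⊓ Wo,
      y1 * (t * y2 * t) = y3 * (t * y4 * t) → y1 = y3 := fun y1 h1 y2 h2 y3 h3 y4 h4 e =>
    (inv_mul_eq_one.1 (dj _ (mul_mem (inv_mem h3) h1) _ (mul_mem h4 (inv_mem h2)) (by
      rw [tm ht, inv_mul_eq_iff_eq_mul, ← mul_assoc, ← e, mul_assoc, ← tm ht, mul_inv_cancel, mul_one, ht,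
        mul_one]))).symm
  have dm : ∀ y ∈ T ⊓ Wo, ∀ y' ∈ T ⊓ Wo,
      y * y' * (t * (y * y') * t) = y * (t * y * t) * (y' * (t * y' * t)) := fun y hy y' hy' => by
    rw [tm ht, mul_assoc, ← mul_assoc y', cm y' hy' y hy]; simp only [mul_assoc]
  have ES : ∀ a ∈ E₀, θ a ∈ T ⊓ Wo := fun a ha =>
    have := d0.mem_E1.2 ⟨a, ha, rfl⟩
    ⟨FT (mem_sup_left this), pcr_mono inf_le_left (w.w_E hx d m c this)⟩
  have tS : zpowers t ≤ N[ι.range] := norm_of_cent (zpowers_le.2 (mem_C'.2 (by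
    rintro _ ⟨s, rfl⟩; exact m.ct c s)))
  have ctr : T ⊓ C{t} ≤ ι.range ⊔ zpowers t := by
    have h1 : ι.range ⊔ zpowers t ≤ T ⊓ C{t} := sup_le
      (by rintro _ ⟨s, rfl⟩; exact ⟨ιT s, H24.mem_C1.2 (m.ct c s).symm⟩) (zpowers_le.2 ⟨tT, self_mem_C1 t⟩)
    have tE : t ∈ N[EE ι] := C_le_N _ (mem_C'.2 (by rintro _ ⟨s, -, rfl⟩; exact m.ct c s))
    have NF : N0 ⊔ zpowers t ≤ N[FF t θ] := sup_le (norm_sup inf_le_left inf_le_right)
      (zpowers_le.2 (mem_N_iff_cj.2 (by rw [FF, cj_sup, cjj ht, sup_comm])))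
    have h2 := m.ord2 (T ⊓ C{t}) (fun k hk => ⟨hk.2, by
      rcases d.nm k ⟨hk.2, NF (hT.2.1 hk.1)⟩ with h | h
      · exact (d0.act m c ⟨hk.2, h⟩).1
      · exact (mul_mem_cancel_right tE).1 (d0.act m c ⟨mul_mem hk.2 (self_mem_C1 t), h⟩).1⟩)
      (hT.1.to_le inf_le_left)
    have h3 : Nat.card (ι.range ⊔ zpowers t : Subgroup G) = 256 := by
      rw [card_sup_of_inf tS, Nat.card_zpowers, c.iv, ← Nat.card_congr (MonoidHom.ofInjective m.inj).toEquiv,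
        SS.card_SS]
      refine eq_bot_iff.2 fun y hy => ?_
      rcases (mem_zpowers_iv ht).1 hy.2 with rfl | rfl
      · exact one_mem _
      · obtain ⟨s, hs⟩ := hy.1
        exact absurd (hs ▸ m.memK c s) c.tK
    exact (eq_of_le_of_card_ge h1 (h3 ▸ h2)).ge
  have dS : ∀ y ∈ T ⊓ Wo, ∃ u, y * (t * y * t) = ι u := fun y hy => by
    obtain ⟨_, ⟨u, rfl⟩, r, hr, e⟩ := (mem_sup_of_norm tS).1 (ctr (x := y * (t * y * t))
      ⟨mul_mem hy.1 (mul_mem (mul_mem tT hy.1) tT), H24.mem_C1.2 (by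
        nth_rewrite 1 [cm y hy y hy]
        simp only [mul_assoc])⟩)
    rcases (mem_zpowers_iv ht).1 hr with rfl | rfl
    · exact ⟨u, by rw [e, mul_one]⟩
    exfalso
    have h1 : r ∈ N[E1 θ] := (mul_mem_cancel_left (ι_N d0 u)).1
      (e ▸ mul_mem (WW hy.2).1 (C_le_N _ (tW ht (WW hy.2).2)))
    have z0 : zS ∈ E₀ := by decide
    have := conj_mem h1 (d0.mem_E1.2 ⟨zS, z0, rfl⟩)
    rw [ti] at this
    obtain ⟨v, hv, e⟩ := d0.mem_E1.1 this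
    exact absurd (d0.inj m c hv z0 e).2 (by decide)
  have onto : ∀ u, ∃ y ∈ T ⊓ Wo, y * (t * y * t) = ι u := fun u => by
    obtain ⟨v, hv, sm⟩ := w.w_act hx d m c (g := ι u) ⟨⟨H24.mem_C1.2 (m.ct c u).symm, H24.mem_C1.2 (by
      rw [← map_mul, ← map_mul]; congr 1; revert u; decide +kernel)⟩, mem_N_of_finite (by
        rintro _ ⟨a, ha, rfl⟩; exact ⟨_, nml a ha u, by simp⟩)⟩
    have hv' : v ∈ Wo := pcr_mono inf_le_left hv
    have l1 : v⁻¹ * ι u ∈ N0 ⊓ C[E1 θ] := mem_inf.2 ⟨mul_mem (inv_mem (WN hv')) (ιN u), (mem_C_E1 d0).2 fun a ha => by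
      rw [show v⁻¹ * ι u * θ a * (v⁻¹ * ι u)⁻¹ = v⁻¹ * (ι u * θ a * (ι u)⁻¹) * v by group, d.eqv u a ha,
        ← (sm a ha _ (nml a ha u)).1 (by simp)]
      group⟩
    obtain ⟨y, hy, l, hl, e⟩ := (hT.inf le_sup_left HN).split WN
      (norm_pcr (norm_inf (norm_N inf_le_left) (norm_C inf_le_right))) inf_le_left
      (norm_inf (norm_self _) (norm_C inf_le_left)) (x := ι u) ⟨ιT u, ιN u⟩
      (by simpa using mul_mem_sup hv' l1)
    have hy' : y ∈ T ⊓ Wo := ⟨hy.1.1, hy.2⟩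
    obtain ⟨u', e'⟩ := dS y hy'
    have h1 : ι (u'⁻¹ * u) ∈ C[E1 θ] := by
      rw [map_mul, map_inv, ← e', e, show (y * (t * y * t))⁻¹ * (y * l) = (t * y * t)⁻¹ * l by group]
      exact mul_mem (inv_mem (tW ht (WW hy.2).2)) hl.2.2
    have h2 : u'⁻¹ * u ∈ E₀ := selfc _ fun a ha =>
      θ_inj d0 m (nml a ha _) ha ((d.eqv _ a ha).symm.trans ((mem_C_E1 d0).1 h1 a ha))
    exact ⟨y * θ (u'⁻¹ * u), mul_mem hy' (ES _ h2), by
      rw [dm y hy' _ (ES _ h2), e', d.dg _ h2, ← map_mul, mul_inv_cancel_left]⟩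
  choose θ0 h0 e0 using onto
  let θ' : SS →* G := MonoidHom.mk' θ0 fun a b =>
    uq _ (h0 _) _ (h0 _) _ (mul_mem (h0 a) (h0 b)) _ (mul_mem (h0 a) (h0 b)) (by
      rw [e0, dm _ (h0 a) _ (h0 b), e0, e0, map_mul])
  have h0' : ∀ a, θ' a ∈ T ⊓ Wo := h0
  have e0' : ∀ a, θ' a * (t * θ' a * t) = ι a := e0
  have eq : ∀ a ∈ E₀, θ' a = θ a := fun a ha =>
    uq _ (h0' a) _ (h0' a) _ (ES a ha) _ (ES a ha) ((e0' a).trans (d.dg a ha).symm)
  have inj : ∀ a, θ' a = 1 → a = 1 := fun a h => m.inj (by rw [← e0', h, one_mul, mul_one, ht, map_one])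
  refine ⟨θ', db_congr eq d, tw_congr eq w, by rwa [E1_congr eq], e0', fun a b => cm _ (h0' a) _ (h0' b),
    fun a b h => inj a (dj _ (h0' a) _ (h0' b) h), ?_, ?_⟩
  · rintro _ ⟨s, rfl⟩
    rw [W1, E1_congr eq]
    exact (h0' s).2
  have f1 : (θ' eS')⁻¹ * x ∈ FF t θ := by
    refine d.cF _ (mem_CF ?_ (mul_mem (inv_mem (WW (h0' _).2).2) hx))
      (te_of_pg hT.1 (mul_mem (inv_mem (h0' _).1) xT))
    have e1 : ι eS' * ι eS' = 1 := by rw [← map_mul, show eS' * eS' = 1 by decide, map_one]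
    have e2 : (θ' eS')⁻¹ * x = t * θ' eS' * t * (ι eS' * (x * ι eS') * (ι eS')⁻¹) := by
      rw [inv_mul_eq_iff_eq_mul, ← mul_assoc, e0', ← mul_assoc, ← mul_assoc, e1]; group
    rw [e2]
    exact mul_mem (tW ht (WW (h0' _).2).2) (conj_mem (N_le_NC _ (ι_N d0 _)) xe)
  obtain ⟨a, ha, b, hb, e⟩ := (d0.mem_F ht).1 f1
  rw [inv_mul_eq_iff_eq_mul, ← eq a ha, ← eq b hb, ← mul_assoc, ← map_mul] at e
  have mm : ∀ p q r s, θ' p * (t * θ' q * t) * (θ' r * (t * θ' s * t)) =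
      θ' (p * r) * (t * θ' (q * s) * t) := fun p q r s => by
    rw [map_mul, map_mul, tm ht, mul_assoc, ← mul_assoc _ (θ' r), ← cm _ (h0' r) _ (h0' q)]
    simp only [mul_assoc]
  have h1 := w.sp.2.1
  rw [e, mm, sqE b hb, map_one, mul_one, ht, mul_one] at h1
  have h2 := w.sp.2.2
  rw [e, tm ht, tt ht, ← cm _ (h0' b) _ (h0' _), mm, ← e0'] at h2
  have h3 := uq _ (h0' _) _ (h0' _) _ (h0' _) _ (h0' _) h2
  rw [mul_assoc, map_mul, mul_eq_left] at h3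
  have h4 : b = a := by rw [← inv_eq_of_mul_eq_one_right (inj _ h3), inv_eq_of_mul_eq_one_right (sqE a ha)]
  exact ⟨a, sqZ a ha (inj _ h1), by rw [e, h4, map_mul, mul_assoc, e0']⟩

end H28.ND
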