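import Mathlib
import Cfsg.Agent.H28.ND0
import Cfsg.Agent.H28.NDW
import Cfsg.Agent.H28.NDS

set_option autoImplicit false
set_option linter.unusedSectionVars false

namespace H28.ND

open Subgroup Equiv Equiv.Perm Cfsg H24 H23 H25.LB H5.Ly H20.So
open scoped commutatorElement

variable {G : Type*} [Group G] [Finite G] {n : ℕ} {t x y g k a b : G}
  {K K' L H D Q Q' R T P : Subgroup G} {J J' : G → Subgroup G} {ι : SS →* G}

/-! ### NDM -/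
open NDSx in
theorem W0.m1 {θ : SS →* G} (w : W0 t J ι θ x) (m : Md t K J ι) (c : In n t K J) :
    ∃ M : Subgroup G, ⁅M, M⁆ = M ∧ M ≤ C[cj t θ.range] ⊓ C{θ zS} ⊓ N[EE θ] ∧ θ.range ≤ M ∧ GL3 θ M := by
  have ht := c.tt
  have d := w.db
  have d0 := d.toDb0
  have z0 : zS ∈ E₀ := by decide
  have zc : ∀ u, u * zS = zS * u := by decide +kernel
  have NF : W1 t θ ≤ N[FF t θ] := norm_sup inf_le_left (norm_of_cent inf_le_right)
  have NO : N[FF t θ] ≤ N[opp 2 C[FF t θ]] := le_normalizer_opp 2 (N_le_NC _)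
  have OC : opp 2 C[FF t θ] ≤ C[FF t θ] := opp_le 2 _
  have CW : C[FF t θ] ≤ W1 t θ ⊓ C{θ zS} :=
    le_inf (le_inf (norm_of_cent (C_anti le_sup_left)) (C_anti le_sup_right))
      (C_le_C1 (mem_sup_left (d0.mem_E1.2 ⟨zS, z0, rfl⟩)))
  set M' := W1 t θ ⊓ C{θ zS} ⊓ C[cj t θ.range] with hM'
  have SW : θ.range ≤ W1 t θ := w.mem.trans (pcr_le _)
  have tF : cj t (FF t θ) = FF t θ := by rw [FF, cj_sup, cjj ht, sup_comm]
  have S2N : cj t θ.range ≤ N[FF t θ] := tF ▸ norm_cj (SW.trans NF) t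
  have U1 : pcr (W1 t θ ⊓ C{θ zS}) ≤ opp 2 C[FF t θ] ⊔ M' := fun u hu => by
    obtain ⟨o, ho, e⟩ := lift_cent (odd_opp C[FF t θ]) ((pg_range θ).map _) (S2N.trans NO) (g := u)
      fun s hs => by
        rw [← commutatorElement_inv, inv_mem_iff]
        exact d.w_comm m c (commutator_mem_commutator (pcr_mono inf_le_left hu) (cj_mono t w.mem hs))
    simpa using mul_mem_sup (inv_mem ho) (mem_inf.2 ⟨mul_mem (CW (OC ho)) (pcr_le _ hu), e⟩ : o * u ∈ M')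
  have MO : M' ≤ N[opp 2 C[FF t θ]] := ((inf_le_left.trans inf_le_left).trans NF).trans NO
  have U2 := pcr_cover (pcr_pf _) MO U1
  have MM : pcr M' ≤ M' := pcr_le _
  have two : ∀ y ∈ M', Te y → ∀ r ∈ pcr M', Odd (orderOf (r⁻¹ * y)) → y ∈ pcr M' := by
    rintro y hy ⟨k, hk⟩ r hr ho
    refine mem_of_two (Y := zpowers (r⁻¹ * y)) (zpowers_le.2 (norm_pcr (norm_self _)
      (mul_mem (inv_mem (MM hr)) hy))) (by rwa [Nat.card_zpowers]) hk ?_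
    simpa using mul_mem_sup hr (mem_zpowers (r⁻¹ * y))
  have dec : ∀ v ∈ pcr (W1 t θ ⊓ C{θ zS}), ∃ r ∈ pcr M', ∃ o ∈ opp 2 C[FF t θ], v = r * o := fun v hv =>
    (mem_sup_of_norm' (MM.trans MO)).1 (sup_comm _ (pcr M') ▸ U2 hv)
  have SM : ∀ u, θ u ∈ M' := fun u => ⟨⟨SW ⟨u, rfl⟩, H24.mem_C1.2 (by rw [← map_mul, ← map_mul, zc])⟩,
    mem_C'.2 fun y hy => by
      obtain ⟨_, ⟨v, rfl⟩, rfl⟩ := mem_cj'.1 hy
      rw [iv_inv ht]; exact w.cm u v⟩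
  have EM : ∀ a ∈ E₀, θ a ∈ pcr M' := fun a ha => by
    obtain ⟨r, hr, o, ho, e⟩ := dec _ (w.tw.w_E w.xW d m c (d0.mem_E1.2 ⟨a, ha, rfl⟩))
    exact two _ (SM a) (te_of_pg (pg_range θ) ⟨a, rfl⟩) r hr
      (by rw [e, inv_mul_cancel_left]; exact odd_orderOf_of_mem (odd_opp _) ho)
  have act : ∀ g ∈ C{t} ⊓ C{ι zS} ⊓ N[EE ι], ∃ r ∈ pcr M', ∀ a ∈ E₀, ∀ b ∈ E₀,
      g * ι a * g⁻¹ = ι b → r * θ a * r⁻¹ = θ b := fun g hg => by
    obtain ⟨v, hv, sm⟩ := w.tw.w_act w.xW d m c hg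
    obtain ⟨r, hr, o, ho, rfl⟩ := dec v hv
    refine ⟨r, hr, fun a ha b hb e => ?_⟩
    rw [← (sm a ha b hb).1 e, show r * o * θ a * (r * o)⁻¹ = r * (o * θ a * o⁻¹) * r⁻¹ by group,
      conj_eq_of_mem_C (OC ho) (mem_sup_left (d0.mem_E1.2 ⟨a, ha, rfl⟩))]
  refine ⟨pcr M', pcr_pf _, MM.trans (le_inf (le_inf inf_le_right (inf_le_left.trans inf_le_right))
    (E1_eq θ ▸ (inf_le_left.trans inf_le_left).trans inf_le_left)), ?_, fun b1 b2 b3 hb => ?_⟩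
  · rintro _ ⟨u, rfl⟩
    obtain ⟨r, hr, e⟩ := act (ι u) ⟨⟨H24.mem_C1.2 (m.ct c u).symm, H24.mem_C1.2 (by
      rw [← map_mul, ← map_mul, zc])⟩, mem_N_of_finite (by
        rintro _ ⟨a, ha, rfl⟩; exact ⟨_, nml a ha u, by simp⟩)⟩
    have c1 : r⁻¹ * θ u ∈ M' := mul_mem (inv_mem (MM hr)) (SM u)
    have c2 : r⁻¹ * θ u ∈ C[FF t θ] := mem_CF ((mem_C_E1 d0).2 fun a ha => by
      rw [show r⁻¹ * θ u * θ a * (r⁻¹ * θ u)⁻¹ = r⁻¹ * (θ u * θ a * (θ u)⁻¹) * r by group, ← map_inv,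
        ← map_mul, ← map_mul, ← e a ha _ (nml a ha u) (by simp)]
      group) c1.1.1.2
    obtain ⟨f, hf, o, ho, e1, -⟩ := split2 (D := FF t θ) (H := C[FF t θ])
      (fun f hf => mem_C.2 fun g hg => (mem_C.1 hg f hf).symm) d.cF c2
    have oo := odd_orderOf_of_mem (odd_opp _) ho
    have f2 := (d0.elem ht hf hf).1
    have oM : o ∈ M' := by
      obtain ⟨k, hk⟩ := oo
      have e2 : (r⁻¹ * θ u) * (r⁻¹ * θ u) = o * o := by
        rw [e1, mul_assoc, ← mul_assoc o, ← mem_C.1 (OC ho) f hf, mul_assoc, ← mul_assoc, f2, one_mul]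
      have e3 : (o * o) ^ (k + 1) = o := by
        rw [← sq, ← pow_mul, show 2 * (k + 1) = orderOf o + 1 by omega, pow_succ, pow_orderOf_eq_one, one_mul]
      rw [← e3, ← e2]
      exact pow_mem (mul_mem c1 c1) _
    have fM : f ∈ M' := (mul_mem_cancel_right oM).1 (e1 ▸ c1)
    obtain ⟨a, ha, b, hb, rfl⟩ := (d0.mem_F ht).1 hf
    have bM : t * θ b * t ∈ M' := (mul_mem_cancel_left (SM a)).1 fM
    have b2 : t * θ b * t * (t * θ b * t) = 1 := by rw [← tm ht, ← map_mul, sqE b hb, map_one, mul_one, ht]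
    have m1 : θ u * (t * θ b * t) ∈ pcr M' := by
      refine two _ (mul_mem (SM u) bM) ?_ _ (mul_mem hr (EM a ha)) ?_
      · obtain ⟨k, hk⟩ := te_of_pg (pg_range θ) (x := θ u) ⟨u, rfl⟩
        exact ⟨k + 1, by
          rw [(show Commute _ _ from w.cm u b).mul_pow, pow_succ 2, pow_mul, hk, one_pow, one_mul, mul_comm,
            pow_mul, sq, b2, one_pow]⟩
      · rw [show (r * θ a)⁻¹ * (θ u * (t * θ b * t)) = (θ a)⁻¹ * (r⁻¹ * θ u) * (t * θ b * t) by group, e1,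
          mul_assoc (θ a), inv_mul_cancel_left, mem_C.1 (OC ho) _ (mem_sup_right (cjt ht
            (d0.mem_E1.2 ⟨b, hb, rfl⟩))), mul_assoc, b2, mul_one]
        exact oo
    have m2 : t * θ b * t ∈ pcr (W1 t θ) := (mul_mem_cancel_left (w.mem ⟨u, rfl⟩)).1
      (pcr_mono (inf_le_left.trans inf_le_left) m1)
    obtain ⟨v, hv, e2⟩ := d0.mem_E1.1 (w.tw.w_pe w.xW d m c
      ⟨m2, mem_sup_right (cjt ht (d0.mem_E1.2 ⟨b, hb, rfl⟩))⟩)
    rwa [(d0.inj m c hv hb e2).2, map_one, mul_one, ht, mul_one] at m1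
  · obtain ⟨M0, -, h1, -, h2, -⟩ := m.m0
    obtain ⟨g, hg, e1, e2, e3⟩ := h2 b1 b2 b3 hb
    obtain ⟨r, hr, e⟩ := act g ⟨(c.pc _ m.zK (m.ord (by decide) (by decide))).comp.1 (h1 hg).1, (h1 hg).2⟩
    have key : ∀ a ∈ E₀, ∀ b ∈ E₀, Md1 (ι zS) (g * ι a * g⁻¹) (ι b) → Md1 (θ zS) (r * θ a * r⁻¹) (θ b) :=
      fun a ha b hb h => h.imp (e a ha b hb) fun h =>
        (e a ha _ (mul_mem hb z0) (h.trans (map_mul ι _ _).symm)).trans (map_mul θ _ _)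
    exact ⟨r, hr, key _ (by decide) _ hb.1 e1, key _ (by decide) _ hb.2.1 e2, key _ (by decide) _ hb.2.2.1 e3⟩

end H28.ND
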