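import Mathlib
import Cfsg.Agent.H28.ND0
import Cfsg.Agent.H28.NDA
import Cfsg.Agent.H28.NDMB

set_option autoImplicit false
set_option linter.unusedSectionVars false
set_option linter.unusedSimpArgs false

namespace H28.ND

open Subgroup Equiv Equiv.Perm Cfsg H24 H23 H25.LB H5.Ly H20.So
open scoped commutatorElement

variable {G : Type*} [Group G] [Finite G] {n : ℕ} {t x y g k a b : G}
  {K K' L H D Q Q' R T P : Subgroup G} {J J' : G → Subgroup G} {ι : SS →* G}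

namespace NDMAx
open NDMBx H4.So

section pres
variable {Γ : Type*} [Group Γ] (f v e w z c s : Γ)

/-- the relations of `SS` as a rewriting system -/
structure Rel : Prop where
  ff : ∀ x, f * (f * x) = x
  vv : ∀ x, v * (v * x) = x
  ee : ∀ x, e * (e * x) = x
  ww : ∀ x, w * (w * x) = x
  zz : ∀ x, z * (z * x) = x
  cc : ∀ x, c * (c * x) = x
  ss : ∀ x, s * (s * x) = x
  vf : ∀ x, v * (f * x) = f * (v * x)
  ef : ∀ x, e * (f * x) = f * (e * (z * x))
  ev : ∀ x, e * (v * x) = v * (e * (c * x))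
  wf : ∀ x, w * (f * x) = f * (w * (c * x))
  wv : ∀ x, w * (v * x) = v * (w * (z * (c * x)))
  we : ∀ x, w * (e * x) = e * (w * x)
  zf : ∀ x, z * (f * x) = f * (z * x)
  zv : ∀ x, z * (v * x) = v * (z * x)
  ze : ∀ x, z * (e * x) = e * (z * x)
  zw : ∀ x, z * (w * x) = w * (z * x)
  cf : ∀ x, c * (f * x) = f * (c * x)
  cv : ∀ x, c * (v * x) = v * (c * x)
  ce : ∀ x, c * (e * x) = e * (c * x)
  cw : ∀ x, c * (w * x) = w * (c * x)
  cz : ∀ x, c * (z * x) = z * (c * x)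
  sf : ∀ x, s * (f * x) = f * (s * x)
  sv : ∀ x, s * (v * x) = f * (v * (s * x))
  se : ∀ x, s * (e * x) = e * (s * x)
  sw : ∀ x, s * (w * x) = e * (w * (s * x))
  sz : ∀ x, s * (z * x) = z * (s * x)
  sc : ∀ x, s * (c * x) = z * (c * (s * x))

/-- normal forms -/
def nf (x : SS) : Γ := (bif x.b0 then f else 1) * (bif x.b1 then v else 1) * (bif x.a0 then e else 1) *
  (bif x.a1 then w else 1) * (bif x.c0 then z else 1) * (bif x.c1 then c else 1) * (bif x.s then s else 1)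

theorem m1 : ∀ a0 a1 b0 b1 c0 c1 s : Bool, σS * ⟨a0, a1, b0, b1, c0, c1, s⟩ =
    ⟨a0 ^^ a1, a1, b0 ^^ b1, b1, c0 ^^ c1, c1, !s⟩ := by decide +kernel
theorem m2 : ∀ a0 a1 b0 b1 c0 c1 s : Bool, wS * ⟨a0, a1, b0, b1, c0, c1, s⟩ =
    ⟨a0, !a1, b0, b1, c0 ^^ b1, c1 ^^ (b0 ^^ b1), s⟩ := by decide +kernel
theorem m3 : ∀ a0 a1 b0 b1 c0 c1 s : Bool, wS' * ⟨a0, a1, b0, b1, c0, c1, s⟩ =
    ⟨a0, a1, b0, !b1, c0, c1, s⟩ := by decide +kernel

variable {f v e w z c s}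

theorem Rel.gens (r : Rel f v e w z c s) (x : SS) : nf f v e w z c s (σS * x) = s * nf f v e w z c s x ∧
    nf f v e w z c s (wS * x) = w * nf f v e w z c s x ∧
    nf f v e w z c s (wS' * x) = v * nf f v e w z c s x := by
  obtain ⟨a0, a1, b0, b1, c0, c1, s0⟩ := x
  rw [m1, m2, m3, ← mul_left_inj (1 : Γ), ← mul_left_inj (1 : Γ) (b := nf _ _ _ _ _ _ _ ⟨a0, !a1, _, _, _, _, _⟩),
    ← mul_left_inj (1 : Γ) (b := nf _ _ _ _ _ _ _ ⟨a0, a1, b0, !b1, _, _, _⟩)]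
  cases a0 <;> cases a1 <;> cases b0 <;> cases b1 <;> cases c0 <;> cases c1 <;> cases s0 <;>
    simp only [nf, Bool.not_true, Bool.not_false, Bool.xor_false, Bool.xor_true, cond_true, cond_false,
      mul_assoc, one_mul, r.ff, r.vv, r.ee, r.ww, r.zz, r.cc, r.ss, r.vf, r.ef, r.ev, r.wf, r.wv, r.we,
      r.zf, r.zv, r.ze, r.zw, r.cf, r.cv, r.ce, r.cw, r.cz, r.sf, r.sv, r.se, r.sw, r.sz, r.sc, and_self]

theorem Rel.hom (r : Rel f v e w z c s) :
    ∃ χ : SS →* Γ, χ σS = s ∧ χ wS = w ∧ χ wS' = v ∧ χ zS = z := by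
  have h1 : nf f v e w z c s σS = s := by simp [nf, σS]
  have h2 : nf f v e w z c s wS = w := by simp [nf, wS]
  have h3 : nf f v e w z c s wS' = v := by simp [nf, wS']
  let S : Submonoid SS :=
    { carrier := {g | ∀ x, nf f v e w z c s (g * x) = nf f v e w z c s g * nf f v e w z c s x}
      one_mem' := fun x => by
        rw [one_mul, show nf f v e w z c s 1 = 1 by simp [nf, OfNat.ofNat, One.one], one_mul]
      mul_mem' := fun {a b} ha hb x => by rw [mul_assoc, ha, hb, ha, mul_assoc] }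
  exact ⟨MonoidHom.mk' (nf f v e w z c s) fun a b => gen (S := S) (fun x => h1.symm ▸ (r.gens x).1)
    (fun x => h2.symm ▸ (r.gens x).2.1) (fun x => h3.symm ▸ (r.gens x).2.2) a b, h1, h2, h3,
    by simp [nf, zS]⟩

theorem sq' {a : Γ} (h : a * a = 1) (x : Γ) : a * (a * x) = x := by rw [← mul_assoc, h, one_mul]

theorem tw {a b d : Γ} (ha : a * a = 1) (hb : b * b = 1) (h : a * b * (a * b) = d) (x : Γ) :
    a * (b * x) = b * (a * (d * x)) := by
  simp only [← h, mul_assoc, sq' ha, sq' hb]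

theorem tw1 {a b : Γ} (ha : a * a = 1) (hb : b * b = 1) (h : a * b * (a * b) = 1) (x : Γ) :
    a * (b * x) = b * (a * x) := by rw [tw ha hb h, one_mul]

theorem tw2 {a b d : Γ} (ha : a * a = 1) (hb : b * b = 1) (h : a * b * (a * b) = d) (x : Γ) :
    a * (b * x) = d * (b * (a * x)) := by
  simp only [← h, mul_assoc, sq' ha, sq' hb]

end pres

theorem sq1 (hn : 8 ≤ n) {x : PP n} (u : SS) (h : pr x = up hn (ph u)) (hu : u * u = 1 ∧ u ≠ 1 ∧ u ≠ zS) :
    x * x = 1 := t8_sq (h ▸ up_t8 hn hu.1 hu.2.1 hu.2.2)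

theorem sqz (hn : 8 ≤ n) {x : PP n} (u : SS) (a b c d : Fin 8) (h : pr x = up hn (ph u))
    (hu : (∀ i, ph u i = swap a b (swap c d i)) ∧ a ≠ b ∧ c ≠ d ∧ a ≠ c ∧ a ≠ d ∧ b ≠ c ∧ b ≠ d) :
    x * x = zz := by
  obtain ⟨h0, h1, h2, h3, h4, h5, h6⟩ := hu
  have ne : ∀ {i j}, i ≠ j → Fin.castLEEmb hn i ≠ Fin.castLEEmb hn j := fun h => (Fin.castLEEmb hn).injective.ne h
  refine sq_double (ne h1) (ne h2) (ne h3) (ne h4) (ne h5) (ne h6) ?_
  rw [h, show ph u = swap a b * swap c d from Equiv.ext h0, up_eq, map_mul, via_swap, via_swap]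

theorem exχ (hn : 8 ≤ n) : ∃ χ : SS →* PP n, (∀ u, pr (χ u) = up hn (ph u)) ∧ χ zS = zz := by
  obtain ⟨s, hs⟩ := pr_surj (up hn (ph σS))
  obtain ⟨w, hw⟩ := pr_surj (up hn (ph wS))
  obtain ⟨v, hv⟩ := pr_surj (up hn (ph wS'))
  have m : ∀ {x y : PP n} {a b : SS}, pr x = up hn (ph a) → pr y = up hn (ph b) →
      pr (x * y) = up hn (ph (a * b)) := fun h1 h2 => by rw [map_mul, map_mul, map_mul, h1, h2]
  obtain ⟨e, de⟩ : ∃ e, s * w * (s * w) = e := ⟨_, rfl⟩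
  obtain ⟨f, df⟩ : ∃ f, s * v * (s * v) = f := ⟨_, rfl⟩
  obtain ⟨c, dc⟩ : ∃ c, e * v * (e * v) = c := ⟨_, rfl⟩
  have he : pr e = up hn (ph eS) := by
    rw [← de, m (m hs hw) (m hs hw), show σS * wS * (σS * wS) = eS by decide]
  have hf : pr f = up hn (ph eS') := by
    rw [← df, m (m hs hv) (m hs hv), show σS * wS' * (σS * wS') = eS' by decide]
  have hc : pr c = up hn (ph ζS) := by
    rw [← dc, m (m he hv) (m he hv), show eS * wS' * (eS * wS') = ζS by decide]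
  have s2 := sq1 hn _ hs (by decide)
  have w2 := sq1 hn _ hw (by decide)
  have v2 := sq1 hn _ hv (by decide)
  have e2 := sq1 hn _ he (by decide)
  have f2 := sq1 hn _ hf (by decide)
  have c2 := sq1 hn _ hc (by decide)
  have zl : ∀ a x : PP n, zz * (a * x) = a * (zz * x) := fun a x => by rw [← mul_assoc, zz_comm, mul_assoc]
  have vf := tw1 v2 f2 (sq1 hn _ (m hv hf) (by decide))
  have ef := tw e2 f2 (sqz hn _ 0 1 2 3 (m he hf) (by decide +kernel))
  have ev := tw e2 v2 dc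
  have we := tw1 w2 e2 (sq1 hn _ (m hw he) (by decide))
  have cf := tw1 c2 f2 (sq1 hn _ (m hc hf) (by decide))
  have cv := tw1 c2 v2 (sq1 hn _ (m hc hv) (by decide))
  have ce := tw1 c2 e2 (sq1 hn _ (m hc he) (by decide))
  have cw := tw1 c2 w2 (sq1 hn _ (m hc hw) (by decide))
  have wv : ∀ x, w * (v * x) = v * (w * (zz * (c * x))) := by
    have h1 : pr (w * v * (w * v)) = pr c := by
      rw [m (m hw hv) (m hw hv), hc]; exact congrArg (up hn) (Equiv.ext (by decide +kernel))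
    rcases pr_eq h1 with h | h
    · have h2 := congrArg (· * (1 : PP n)) (sqz hn _ 2 3 4 5 (m (m he hw) hv) (by decide +kernel))
      simp only [mul_assoc, tw w2 v2 h, ev, we, cv, ce, cw, sq' c2, sq' v2, sq' e2, sq' w2] at h2
      exact absurd (by simpa using h2.symm) zz_ne
    · intro x; rw [tw w2 v2 h, mul_assoc]
  have wf : ∀ x, w * (f * x) = f * (w * (c * x)) := by
    have h1 : pr (w * f * (w * f)) = pr c := by
      rw [m (m hw hf) (m hw hf), hc]; exact congrArg (up hn) (Equiv.ext (by decide +kernel))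
    rcases pr_eq h1 with h | h
    · exact tw w2 f2 h
    · have h2 := congrArg (· * (1 : PP n)) (sqz hn _ 2 3 6 7 (m (m hw hv) hf) (by decide +kernel))
      simp only [mul_assoc, tw w2 f2 h, wv, vf, cf, cv, cw, zl f, zl v, zl w, ← zl c, sq' zz_mul_zz,
        sq' c2, sq' v2, sq' f2, sq' w2] at h2
      exact absurd (by simpa using h2.symm) zz_ne
  obtain ⟨χ, h1, h2, h3, h4⟩ := Rel.hom (f := f) (v := v) (e := e) (w := w) (z := zz) (c := c) (s := s)
    ⟨sq' f2, sq' v2, sq' e2, sq' w2, sq' zz_mul_zz, sq' c2, sq' s2, vf, ef, ev, wf, wv, we, zl f, zl v, zl e,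
      zl w, cf, cv, ce, cw, fun x => (zl c x).symm, tw1 s2 f2 (sq1 hn _ (m hs hf) (by decide)), tw2 s2 v2 df,
      tw1 s2 e2 (sq1 hn _ (m hs he) (by decide)), tw2 s2 w2 de, fun x => (zl s x).symm,
      tw2 s2 c2 (sqz hn _ 4 7 5 6 (m hs hc) (by decide +kernel))⟩
  refine ⟨χ, gen (S := (pr.comp χ).eqLocusM ((up hn).comp ph)) ?_ ?_ ?_, h4⟩
  · show pr (χ σS) = up hn (ph σS)
    rw [h1, hs]
  · show pr (χ wS) = up hn (ph wS)
    rw [h2, hw]
  · show pr (χ wS') = up hn (ph wS')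
    rw [h3, hv]

end NDMAx
open NDMAx NDMBx H4.So

/-! ### NDMA -/
theorem st_ex (hn : 8 ≤ n) (p : Pc n H a L) : ∃ (ι : SS →* G) (A : Act n L), ι zS = a ∧ St hn L ι A := by
  obtain ⟨A⟩ := exists_act hn p.ty
  obtain ⟨χ, hχ, hz⟩ := exχ hn
  let h := A.homπ (D := L) le_rfl
  have ha : h ⟨a, p.mem⟩ = zz := pi_t hn p A
  obtain ⟨T, hT, aT⟩ := mx_ex (R := zpowers (⟨a, p.mem⟩ : L)) (H := χ.range.comap h)
    (pg_zpowers (a_sq (Subtype.ext (iv_mul p.iv)))) (zpowers_le.2 ⟨zS, hz.trans ha.symm⟩)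
  have e1 : (χ.range.comap h).map h = χ.range := map_comap_eq_self (by
    rintro _ ⟨u, rfl⟩
    obtain ⟨b, hb, e⟩ := A.surj (χ u) (by
      rw [hχ, up_eq, via_sign]; exact mem_alternatingGroup.1 (MM_even (ph_mem u)))
    exact ⟨⟨b, hb⟩, e⟩)
  have e2 : T.map h = χ.range := by
    have := hT.syl.map h
    rw [e1] at this
    exact this.eq_self (isPi_of_isPGroup Nat.prime_two (pg_range χ))
  have inj : ∀ {x y : L}, x ∈ T → y ∈ T → h x = h y → x = y := fun {x y} hx hy e => by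
    obtain ⟨k, hk⟩ := te_of_pg hT.1 (mul_mem hx (inv_mem hy))
    refine mul_inv_eq_one.1 (Subtype.ext (A.a_one (k := k) (x * y⁻¹).2 (congrArg Subtype.val hk) ?_))
    show h (x * y⁻¹) = 1
    rw [map_mul, map_inv, e, mul_inv_cancel]
  choose l l1 l2 using fun u => e2.ge (⟨u, rfl⟩ : χ u ∈ χ.range)
  refine ⟨L.subtype.comp (MonoidHom.mk' l fun u v => inj (l1 _) (mul_mem (l1 _) (l1 _))
    (by rw [map_mul h, l2, l2, l2, map_mul])), A,
    congrArg Subtype.val (inj (l1 zS) (aT (mem_zpowers _)) (by rw [l2, hz, ha])),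
    (injective_iff_map_eq_one _).2 fun u e => ?_, fun u => (l u).2, fun u => ?_⟩
  · have e3 : χ u = 1 := by rw [← l2, show l u = 1 from Subtype.ext e, map_one]
    rcases (up_ph_one hn).1 (by rw [← hχ, e3, map_one] : up hn (ph u) = 1) with e4 | e4
    · exact e4
    · exact absurd (by rw [← hz, ← e4, e3]) (zz_ne (N := n))
  · rw [← hχ, ← l2]; exact A.φ_π (l u).2
theorem St.sw {hn : 8 ≤ n} {A : Act n L} (s : St hn L ι A) :
    ∃ A' : Act n L, St hn L (ι.comp ND.sw) A' := by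
  obtain ⟨τ, -, hτ⟩ := pb_tau
  obtain ⟨c, hc⟩ := pr_surj (up hn τ)
  refine ⟨⟨fun g => c⁻¹ * A.π g * c, fun g => (pr c)⁻¹ * A.φ g * pr c, fun ha hb => ?_, fun ha hb => ?_,
    fun ha => ?_, fun ha => ?_, fun x hx => ?_, fun ha => ?_, fun ha => ?_, fun {g a x} hg ha e => ?_⟩,
    s.inj.comp (Function.LeftInverse.injective sw_sw), fun u => s.mem _, fun u => ?_⟩
  · rw [A.π_mul ha hb]; group
  · rw [A.φ_mul ha hb]; group
  · rw [A.φ_π ha, map_mul, map_mul, map_inv]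
  · simp [A.even ha]
  · obtain ⟨b, hb, e⟩ := A.surj (c * x * c⁻¹) (by simp [hx])
    exact ⟨b, hb, by rw [e]; group⟩
  · rw [← A.π_one ha, mul_assoc, inv_mul_eq_one, eq_comm, mul_eq_right]
  · rw [← A.φ_one ha, mul_assoc, inv_mul_eq_one, eq_comm, mul_eq_right]
  · rw [A.conj (x := c * x * c⁻¹) hg ha (by rw [map_mul, map_mul, map_inv, e]; group)]; group
  · show (pr c)⁻¹ * A.φ (ι (ND.sw u)) * pr c = _
    rw [s.ph, hτ, map_mul, map_mul, map_inv, hc]; group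

end H28.ND
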