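import Mathlib
import Cfsg.Agent.H28.ND0
import Cfsg.Agent.H28.NDA
import Cfsg.Agent.H28.NDMB
import Cfsg.Agent.H13.NDk

set_option autoImplicit false
set_option linter.unusedSectionVars false

namespace H28.ND

open Subgroup Equiv Equiv.Perm Cfsg H24 H23 H25.LB H5.Ly H20.So
open scoped commutatorElement

variable {G : Type*} [Group G] [Finite G] {n : ℕ} {t x y g k a b : G}
  {K K' L H D Q Q' R T P : Subgroup G} {J J' : G → Subgroup G} {ι : SS →* G}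

namespace NDMCx

/-- the image of a subgroup under `φ` -/
def im (A : Act n L) (Z : Subgroup G) : Subgroup (Perm (Fin n)) :=
  (Z.subgroupOf N[L]).map (A.hom le_rfl)

theorem mem_im {A : Act n L} {Z : Subgroup G} (hZ : Z ≤ N[L]) {σ : Perm (Fin n)} :
    σ ∈ im A Z ↔ ∃ y ∈ Z, A.φ y = σ :=
  ⟨fun ⟨y, hy, e⟩ => ⟨y, hy, e⟩, fun ⟨y, hy, e⟩ => ⟨⟨y, hZ hy⟩, hy, e⟩⟩

theorem cover {A : Act n L} {Y : Subgroup G} (hY : Y ≤ N[L]) {X : Subgroup (Perm (Fin n))}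
    (hX : ⁅X, X⁆ = X) (h : X ≤ im A Y) : X ≤ im A (pcr Y) := by
  obtain ⟨Z, ⟨h1, h2⟩, hm⟩ :=
    (wellFounded_lt (α := Subgroup G)).has_min {Z | Z ≤ Y ∧ X ≤ im A Z} ⟨Y, le_rfl, h⟩
  have hZ : Z ≤ N[L] := h1.trans hY
  have h3 : X ≤ im A ⁅Z, Z⁆ := hX.ge.trans (commutator_le.2 fun a ha b hb => by
    obtain ⟨y, hy, rfl⟩ := (mem_im hZ).1 (h2 ha)
    obtain ⟨y', hy', rfl⟩ := (mem_im hZ).1 (h2 hb)
    exact (mem_im ((commutator_le_self Z).trans hZ)).2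
      ⟨_, commutator_mem_commutator hy hy', A.φ_comm (hZ hy) (hZ hy')⟩)
  have h4 : ⁅Z, Z⁆ = Z := (eq_or_lt_of_le (commutator_le_self Z)).resolve_right
    (hm _ ⟨(commutator_le_self Z).trans h1, h3⟩)
  intro σ hσ
  obtain ⟨y, hy, e⟩ := (mem_im hZ).1 (h2 hσ)
  exact (mem_im ((pcr_le Y).trans hY)).2 ⟨y, le_pcr h4 h1 hy, e⟩

open NDk

theorem m0 {hn : 8 ≤ n} {A : Act n L} (s : St hn L ι A) (p : Pc n H (ι zS) L) :
    ∃ M : Subgroup G, ⁅M, M⁆ = M ∧ M ≤ L ⊓ N[EE ι] ∧ ι.range ≤ M ∧ GL3 ι M ∧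
      ∀ Y : Subgroup G, M ≤ N[Y] → ι eS' ∈ Y → M ≤ Y ⊔ C[EE ι] := by
  obtain ⟨M0, hpf, hph, hN, hgl, hY⟩ := pb_m
  let Mt : Subgroup G := L ⊓ N[EE ι] ⊓ ((M0.map (up hn)).comap (A.hom le_rfl)).map (N[L]).subtype
  have mem_Mt : ∀ {g : G}, g ∈ Mt ↔ g ∈ L ∧ g ∈ N[EE ι] ∧ ∃ μ ∈ M0, up hn μ = A.φ g := by
    intro g
    constructor
    · rintro ⟨⟨h1, h2⟩, g', ⟨μ, hμ, e⟩, rfl⟩
      exact ⟨h1, h2, μ, hμ, e⟩
    · rintro ⟨h1, h2, μ, hμ, e⟩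
      exact ⟨⟨h1, h2⟩, ⟨g, norm_self _ h1⟩, ⟨μ, hμ, e⟩, rfl⟩
  have hML : Mt ≤ L := fun g hg => (mem_Mt.1 hg).1
  have hMN : Mt ≤ N[L] := hML.trans (norm_self L)
  have hEL : EE ι ≤ L := by rintro _ ⟨u, -, rfl⟩; exact s.mem u
  have hS : ι.range ≤ Mt := by
    rintro _ ⟨u, rfl⟩
    refine mem_Mt.2 ⟨s.mem u, mem_N_of_finite ?_, ph u, hph ⟨u, rfl⟩, (s.ph u).symm⟩
    rintro _ ⟨e, he, rfl⟩
    have : ∀ u : SS, ∀ e ∈ E₀, u * e * u⁻¹ ∈ E₀ := by decide +kernel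
    exact ⟨_, this u e he, by simp⟩
  have hcov : M0.map (up hn) ≤ im A Mt := by
    rintro _ ⟨μ, hμ, rfl⟩
    obtain ⟨g, hg, e⟩ := A.φ_surj (ρ := up hn μ) (by rw [sign_up, pb_even (hN hμ)])
    obtain ⟨o, ho, hc⟩ := back s p z_E (D := cj g (EE ι)) ((pg_map ι E₀).map _)
      (cj_le_of_mem_N hEL (norm_self _ hg)) (by
        intro d hd
        obtain ⟨_, ⟨u, hu, rfl⟩, rfl⟩ := mem_cj'.1 hd
        obtain ⟨u', hu', e'⟩ := conj_mem (hN hμ) (⟨u, hu, rfl⟩ : ph u ∈ E₀.map ph)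
        refine ⟨u', hu', ?_⟩
        rw [A.φ_conj (norm_self _ hg) (norm_self _ (s.mem u)), e, s.ph, e', map_mul, map_mul, map_inv])
    have hoL := opp_le 2 L ho
    have e1 : A.φ (o * g) = up hn μ := by
      rw [A.φ_mul (norm_self _ hoL) (norm_self _ hg), φ_opp A ho, one_mul, e]
    refine (mem_im hMN).2 ⟨o * g, mem_Mt.2 ⟨mul_mem hoL hg, mem_N_of_cj_le ?_, μ, hμ, e1.symm⟩, e1⟩
    rw [cj_mul]; exact hc
  have hcv : M0.map (up hn) ≤ im A (pcr Mt) := cover hMN (by rw [← map_commutator, hpf]) hcov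
  have hPM := pcr_le Mt
  have lift : ∀ μ ∈ M0, ∃ m ∈ pcr Mt, A.φ m = up hn μ := fun μ hμ =>
    (mem_im (hPM.trans hMN)).1 (hcv ⟨μ, hμ, rfl⟩)
  have hzM : ι zS ∈ Mt := hS ⟨_, rfl⟩
  have hW : ∀ g ∈ Mt, g ∈ pcr Mt ⊔ (opp 2 L ⊓ Mt) ∨ g * ι zS ∈ pcr Mt ⊔ (opp 2 L ⊓ Mt) := by
    intro g hg
    obtain ⟨-, -, μ, hμ, e⟩ := mem_Mt.1 hg
    obtain ⟨m, hm, e'⟩ := lift μ hμ
    have h1 : m⁻¹ * g ∈ Mt := mul_mem (inv_mem (hPM hm)) hg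
    have h2 : A.φ (m⁻¹ * g) = 1 := by
      rw [A.φ_mul (inv_mem (hMN (hPM hm))) (hMN hg), A.φ_inv (hMN (hPM hm)), e', e, inv_mul_cancel]
    have h3 : m⁻¹ ∈ pcr Mt ⊔ (opp 2 L ⊓ Mt) := mem_sup_left (inv_mem hm)
    rcases ker hn p A (hML h1) h2 with h4 | h4
    · exact Or.inl ((mul_mem_cancel_left h3).1 (mem_sup_right ⟨h4, h1⟩))
    · refine Or.inr ((mul_mem_cancel_left h3).1 ?_)
      rw [← mul_assoc]
      exact mem_sup_right ⟨h4, mul_mem h1 hzM⟩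
  have hz2 : ι zS * ι zS = 1 := iv_mul p.iv
  have hzc : ∀ g ∈ L, g * ι zS = ι zS * g := fun g hg => H20.So.mem_C1.1 (p.le_C hg)
  have hzW : ι zS ∈ pcr Mt ⊔ (opp 2 L ⊓ Mt) := by
    have key : ∀ g ∈ Mt, ∃ w ∈ pcr Mt ⊔ (opp 2 L ⊓ Mt), ∃ c, (∀ y ∈ L, Commute y c) ∧ g = w * c := by
      intro g hg
      rcases hW g hg with h | h
      · exact ⟨g, h, 1, fun y _ => Commute.one_right y, (mul_one g).symm⟩
      · exact ⟨_, h, ι zS, hzc, by rw [mul_assoc, hz2, mul_one]⟩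
    have hWL : pcr Mt ⊔ (opp 2 L ⊓ Mt) ≤ L := sup_le (hPM.trans hML) (inf_le_right.trans hML)
    obtain ⟨w, hw, c, hc, e⟩ := key _ (hS ⟨eS, rfl⟩)
    obtain ⟨w', hw', c', hc', e'⟩ := key _ (hS ⟨eS', rfl⟩)
    have e0 : zS = ⁅eS, eS'⁆ := by decide +kernel
    have e1 : ι zS = ⁅w, w'⁆ := by
      rw [e0, map_commutatorElement, commutatorElement_def, commutatorElement_def]
      have h1 : ι eS * ι eS' * (ι eS)⁻¹ = w * ι eS' * w⁻¹ := by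
        rw [e, mul_assoc w c, ← (hc _ (s.mem eS')).eq]; group
      have h2 : w * ι eS' * w⁻¹ = w * w' * w⁻¹ * c' := by
        rw [e', mul_assoc (w * w'), (hc' _ (inv_mem (hWL hw))).eq]; group
      rw [h1, h2, e']; group
    rw [e1, commutatorElement_def]
    exact mul_mem (mul_mem (mul_mem hw hw') (inv_mem hw)) (inv_mem hw')
  have hodd : Odd (Nat.card ↥(opp 2 L ⊓ Mt)) :=
    (odd_opp L).of_dvd_nat (card_dvd_of_le inf_le_left)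
  have hSM : ι.range ≤ pcr Mt := by
    intro g hg
    obtain ⟨k, hk⟩ := te_of_pg (pg_range ι) hg
    refine mem_of_two (norm_pcr (inf_le_right.trans (norm_self Mt))) hodd hk ?_
    rcases hW g (hS hg) with h | h
    · exact h
    · exact (mul_mem_cancel_right hzW).1 h
  refine ⟨pcr Mt, pcr_pf Mt, hPM.trans inf_le_left, hSM, ?_, ?_⟩
  · intro b1 b2 b3 hb
    obtain ⟨μ, hμ, e1, e2, e3⟩ := hgl b1 b2 b3 hb
    obtain ⟨m, hm, e⟩ := lift μ hμ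
    have key : ∀ u ∈ E₀, ∀ b, μ * ph u * μ⁻¹ = ph b → Md1 (ι zS) (m * ι u * m⁻¹) (ι b) := by
      intro u hu b hb
      obtain ⟨v, -, ev⟩ := conj_mem (mem_Mt.1 (hPM hm)).2.1 (⟨u, hu, rfl⟩ : ι u ∈ EE ι)
      have : up hn (ph v) = up hn (ph b) := by
        rw [← s.ph, ev, A.φ_conj (hMN (hPM hm)) (norm_self _ (s.mem u)), e, s.ph, ← hb, map_mul,
          map_mul, map_inv]
      rw [← ev]
      rcases ph_eq hn this with h | h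
      · exact Or.inl (by rw [h])
      · exact Or.inr (by rw [h, map_mul])
    exact ⟨m, hm, key _ (by decide) _ e1, key _ (by decide) _ e2, key _ (by decide) _ e3⟩
  · intro Y hYN he m hm
    have hI : pcr Mt ⊓ Y ≤ N[L] := inf_le_left.trans (hPM.trans hMN)
    have h1 : M0 ≤ N[(im A (pcr Mt ⊓ Y)).comap (up hn)] := by
      refine le_N_iff.2 fun μ hμ σ hσ => ?_
      obtain ⟨m, hm, e⟩ := lift μ hμ
      obtain ⟨y, hy, e'⟩ := (mem_im hI).1 hσ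
      refine (mem_im hI).2 ⟨m * y * m⁻¹, mem_inf.2 ⟨mul_mem (mul_mem hm (mem_inf.1 hy).1) (inv_mem hm),
        conj_mem (hYN hm) hy.2⟩, ?_⟩
      rw [A.φ_conj (hMN (hPM hm)) (hI hy), e, e', map_mul, map_mul, map_inv]
    have h2 := hY _ h1 ((mem_im hI).2 ⟨ι eS', ⟨hSM ⟨_, rfl⟩, he⟩, s.ph _⟩)
    have h3 : (im A (pcr Mt ⊓ Y)).comap (up hn) ≤ N[E₀.map ph] := by
      intro σ hσ
      obtain ⟨y, hy, e'⟩ := (mem_im hI).1 hσ
      obtain ⟨-, -, μ, hμ, e⟩ := mem_Mt.1 (hPM hy.1)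
      rw [← up_inj hn (e.trans e')]
      exact hN hμ
    obtain ⟨hmL, hmE, μ, hμ, e⟩ := mem_Mt.1 (hPM hm)
    obtain ⟨σ, hσ, _, ⟨u, hu, rfl⟩, rfl⟩ := (mem_sup_of_norm' h3).1 (h2 hμ)
    obtain ⟨y, hy, e'⟩ := (mem_im hI).1 hσ
    obtain ⟨hyL, hyE, -⟩ := mem_Mt.1 (hPM hy.1)
    have hE : ι u ∈ EE ι := ⟨u, hu, rfl⟩
    have h4 : (y * ι u)⁻¹ * m ∈ L := mul_mem (inv_mem (mul_mem hyL (s.mem u))) hmL
    have h5 : (y * ι u)⁻¹ * m ∈ N[EE ι] := mul_mem (inv_mem (mul_mem hyE (norm_self _ hE))) hmE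
    have h6 : A.φ ((y * ι u)⁻¹ * m) = 1 := by
      have hh := norm_self _ (mul_mem hyL (s.mem u))
      rw [A.φ_mul (inv_mem hh) (norm_self _ hmL), A.φ_inv hh,
        A.φ_mul (norm_self _ hyL) (norm_self _ (s.mem u)), e', s.ph, ← e, map_mul, inv_mul_cancel]
    have hO : ∀ o ∈ opp 2 L, o ∈ N[EE ι] → o ∈ C[EE ι] := by
      intro o ho hoE
      refine mem_C.2 fun d hd => ?_
      have h7 : d * o * d⁻¹ * o⁻¹ = 1 := two_opp (L := L) (pg_map ι E₀)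
        (by rw [mul_assoc, mul_assoc, ← mul_assoc o]; exact mul_mem hd (conj_mem hoE (inv_mem hd)))
        (mul_mem (conj_mem (L_opp L (hEL hd)) ho) (inv_mem ho))
      calc d * o = d * o * d⁻¹ * o⁻¹ * (o * d) := by group
        _ = o * d := by rw [h7, one_mul]
    have hzE : ι zS ∈ EE ι := ⟨_, z_E, rfl⟩
    have h8 : (y * ι u)⁻¹ * m ∈ C[EE ι] := by
      rcases ker hn p A h4 h6 with h | h
      · exact hO _ h h5
      · exact (mul_mem_cancel_right (EE_C ι hzE)).1 (hO _ h (mul_mem h5 (norm_self _ hzE)))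
    have : m = y * (ι u * ((y * ι u)⁻¹ * m)) := by group
    rw [this]
    exact mul_mem (mem_sup_left hy.2) (mem_sup_right (mul_mem (EE_C ι hE) h8))

end NDMCx

/-! ### NDMC -/
theorem St.m0 {hn : 8 ≤ n} {A : Act n L} (s : St hn L ι A) (p : Pc n H (ι zS) L) :
    ∃ M : Subgroup G, ⁅M, M⁆ = M ∧ M ≤ L ⊓ N[EE ι] ∧ ι.range ≤ M ∧ GL3 ι M ∧
      ∀ Y : Subgroup G, M ≤ N[Y] → ι eS' ∈ Y → M ≤ Y ⊔ C[EE ι] := NDMCx.m0 s p

end H28.ND
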