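import Mathlib
import Cfsg.Agent.H28.ND0
import Cfsg.Agent.H28.NDA
import Cfsg.Agent.H28.NDMB

set_option autoImplicit false
set_option linter.unusedSectionVars false

namespace H28.ND

open Subgroup Equiv Equiv.Perm Cfsg H24 H23 H25.LB H5.Ly H20.So
open scoped commutatorElement

variable {G : Type*} [Group G] [Finite G] {n : ℕ} {t x y g k a b : G}
  {K K' L H D Q Q' R T P : Subgroup G} {J J' : G → Subgroup G} {ι : SS →* G}

namespace NDMDx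

/-- permutations fixing the first eight points -/
def F8 (n : ℕ) : Subgroup (Perm (Fin n)) where
  carrier := {μ | ∀ i : Fin n, i.val < 8 → μ i = i}
  one_mem' := fun _ _ => rfl
  mul_mem' := fun {a b} ha hb i hi => by rw [Perm.mul_apply, hb i hi, ha i hi]
  inv_mem' := fun {a} ha i hi => by rw [Perm.inv_eq_iff_eq, ha i hi]

theorem up_out (hn : 8 ≤ n) (σ : Perm (Fin 8)) {i : Fin n} (hi : ¬ i.val < 8) : up hn σ i = i :=
  H4.So.via_out (Fin.castLEEmb hn) σ fun j e => hi (by rw [← e]; exact j.2)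

theorem up_lt (hn : 8 ≤ n) (σ : Perm (Fin 8)) {i : Fin n} (hi : i.val < 8) : (up hn σ i).val < 8 := by
  have := H4.So.via_ap (Fin.castLEEmb hn) σ ⟨i, hi⟩
  have e : Fin.castLEEmb hn ⟨i, hi⟩ = i := Fin.ext rfl
  rw [e] at this
  rw [show up hn σ i = _ from this]
  exact (σ ⟨i, hi⟩).2

theorem ge_of {μ : Perm (Fin n)} (h : μ ∈ F8 n) {i : Fin n} (hi : ¬ i.val < 8) : ¬ (μ i).val < 8 :=
  fun h1 => hi (by rwa [μ.injective (h _ h1)] at h1)

theorem up_comm (hn : 8 ≤ n) (σ : Perm (Fin 8)) {μ : Perm (Fin n)} (h : μ ∈ F8 n) :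
    up hn σ * μ = μ * up hn σ := by
  ext1 i
  rw [Perm.mul_apply, Perm.mul_apply]
  by_cases hi : i.val < 8
  · rw [h i hi, h _ (up_lt hn σ hi)]
  · rw [up_out hn σ hi, up_out hn σ (ge_of h hi)]

/-- the three-cycle -/
def γ3 : Perm (Fin 11) := swap 8 9 * swap 9 10

/-- the symmetric group on the last three points -/
def l6 : List (Perm (Fin 11)) := [1, γ3, γ3⁻¹, swap 8 9, swap 8 10, swap 9 10]

theorem l6_ex (a b c : Fin 11) (ha : ¬ a.val < 8) (hb : ¬ b.val < 8) (hc : ¬ c.val < 8) (hab : a ≠ b)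
    (hac : a ≠ c) (hbc : b ≠ c) : ∃ ν ∈ l6, ν 8 = a ∧ ν 9 = b ∧ ν 10 = c := by
  have k : ∀ i : Fin 11, ¬ i.val < 8 → i = 8 ∨ i = 9 ∨ i = 10 := by decide
  rcases k a ha with rfl | rfl | rfl <;> rcases k b hb with rfl | rfl | rfl <;>
    rcases k c hc with rfl | rfl | rfl <;>
    first | exact absurd rfl hab | exact absurd rfl hac | exact absurd rfl hbc | decide +kernel

theorem l6_fix : ∀ ν ∈ l6, ∀ i : Fin 11, i.val < 8 → ν i = i := by
  have k : ∀ a b : Fin 11, ¬ a.val < 8 → ¬ b.val < 8 → swap a b ∈ F8 11 := fun a b ha hb i hi =>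
    swap_apply_of_ne_of_ne (by rintro rfl; exact ha hi) (by rintro rfl; exact hb hi)
  have k3 : γ3 ∈ F8 11 := mul_mem (k _ _ (by decide) (by decide)) (k _ _ (by decide) (by decide))
  intro ν hν
  simp only [l6, List.mem_cons, List.not_mem_nil, or_false] at hν
  rcases hν with rfl | rfl | rfl | rfl | rfl | rfl
  · exact (F8 11).one_mem
  · exact k3
  · exact (F8 11).inv_mem k3
  all_goals exact k _ _ (by decide) (by decide)

theorem mem_l6 {μ : Perm (Fin 11)} (h : μ ∈ F8 11) : μ ∈ l6 := by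
  obtain ⟨ν, hν, h1, h2, h3⟩ := l6_ex (μ 8) (μ 9) (μ 10) (ge_of h (by decide)) (ge_of h (by decide))
    (ge_of h (by decide)) (μ.injective.ne (by decide)) (μ.injective.ne (by decide))
    (μ.injective.ne (by decide))
  have : μ = ν := by
    ext1 i
    by_cases hi : i.val < 8
    · rw [h i hi, l6_fix ν hν i hi]
    · rcases (by decide : ∀ i : Fin 11, ¬ i.val < 8 → i = 8 ∨ i = 9 ∨ i = 10) i hi with rfl | rfl | rfl
      exacts [h1.symm, h2.symm, h3.symm]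
  rwa [this]

theorem cls (h : n = 8 ∨ n = 11) : ∃ γ ∈ F8 n, γ ^ 3 = 1 ∧ ∀ μ ∈ F8 n,
    (μ = 1 ∨ μ = γ ∨ μ = γ⁻¹) ∨
      (n = 11 ∧ μ * μ = 1 ∧ sign μ = -1 ∧ γ ≠ 1 ∧ μ * γ * μ⁻¹ * γ = 1) := by
  rcases h with rfl | rfl
  · exact ⟨1, one_mem _, one_pow _, fun μ hμ => Or.inl (Or.inl (Equiv.ext fun i => hμ i i.2))⟩
  · refine ⟨γ3, l6_fix _ (by simp [l6]), by decide +kernel, fun μ hμ => ?_⟩
    have := mem_l6 hμ
    simp only [l6, List.mem_cons, List.not_mem_nil, or_false] at this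
    rcases this with rfl | rfl | rfl | rfl | rfl | rfl
    · exact Or.inl (Or.inl rfl)
    · exact Or.inl (Or.inr (Or.inl rfl))
    · exact Or.inl (Or.inr (Or.inr rfl))
    all_goals
      exact Or.inr ⟨rfl, swap_mul_self _ _, sign_swap (by decide), by decide +kernel, by decide +kernel⟩

theorem one_of_te {γ μ : Perm (Fin n)} (h3 : γ ^ 3 = 1) (h : μ = 1 ∨ μ = γ ∨ μ = γ⁻¹) (ht : Te μ) :
    μ = 1 := by
  obtain ⟨k, hk⟩ := ht
  have : μ ^ 3 = 1 := by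
    rcases h with rfl | rfl | rfl
    · exact one_pow _
    · exact h3
    · rw [inv_pow, h3, inv_one]
  exact eq_one_of_two_odd hk ((by decide : Odd 3).of_dvd_nat (orderOf_dvd_of_pow_eq_one this))

theorem e_comm : ∀ a ∈ E₀, ∀ b ∈ E₀, a * b = b * a := by decide +kernel
theorem e_sq : ∀ a ∈ E₀, a * a = 1 := by decide +kernel
theorem z_mem : zS ∈ E₀ := by decide

section
variable {hn : 8 ≤ n} {A : Act n L} (s : St hn L ι A)
include s

theorem memN (e : SS) : ι e ∈ N[L] := norm_self L (s.mem e)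

theorem φ_z : A.φ (ι zS) = 1 := by rw [s.ph, (up_ph_one hn).2 (Or.inr rfl)]

/-- the part outside the first eight points -/
theorem dec (hg : g ∈ N[L]) (h : ∀ e ∈ E₀, A.φ (g * ι e * g⁻¹) = A.φ (ι e)) :
    ∃ e ∈ E₀, ∃ μ ∈ F8 n, A.φ g = up hn (ph e) * μ :=
  pb_cent hn fun e he => by
    have := h e he
    rw [A.φ_conj hg (memN s e), s.ph, mul_inv_eq_iff_eq_mul] at this
    exact this

theorem dec' (hg : g ∈ N[L] ⊓ C[EE ι]) :
    ∃ e ∈ E₀, ∃ μ ∈ F8 n, A.φ g = up hn (ph e) * μ ∧ A.φ (g * ι e) = μ := by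
  obtain ⟨e, he, μ, hμ, e1⟩ := dec s hg.1 fun e he => by rw [conj_eq_of_mem_C hg.2 ⟨e, he, rfl⟩]
  refine ⟨e, he, μ, hμ, e1, ?_⟩
  rw [A.φ_mul hg.1 (memN s e), e1, s.ph, mul_assoc, ← up_comm hn _ hμ, ← mul_assoc, ← map_mul,
    ← map_mul, e_sq e he, map_one, map_one, one_mul]

theorem te_mul (hg : g ∈ C[EE ι]) (h2 : Te g) {e : SS} (he : e ∈ E₀) : Te (g * ι e) := by
  obtain ⟨k, hk⟩ := h2
  have hc : Commute g (ι e) := (mem_C'.1 hg _ ⟨e, he, rfl⟩)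
  refine ⟨k + 1, ?_⟩
  rw [hc.mul_pow, pow_succ, pow_mul, hk, one_pow, one_mul, mul_comm, pow_mul, sq, ← map_mul,
    e_sq e he, map_one, one_pow]

theorem te_φ (hg : g ∈ N[L]) (h2 : Te g) : Te (A.φ g) := by
  obtain ⟨k, hk⟩ := h2
  exact ⟨k, by rw [← A.φ_pow hg, hk, A.φ1]⟩

theorem odd_F8 (hg : g ∈ N[L] ⊓ C[EE ι]) (ho : Odd (orderOf g)) : A.φ g ∈ F8 n := by
  obtain ⟨e, he, μ, hμ, e1, -⟩ := dec' s hg
  refine mem_of_sq_mem (A.odd_φ hg.1 ho) ?_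
  have : A.φ g * A.φ g = μ * μ := by
    rw [e1, mul_assoc, ← mul_assoc μ, ← up_comm hn _ hμ, ← mul_assoc, ← mul_assoc, ← map_mul,
      ← map_mul, e_sq e he, map_one, map_one, one_mul]
  rw [this]; exact mul_mem hμ hμ

end

end NDMDx

open NDMDx

/-! ### NDMD -/
theorem St.noTv {hn : 8 ≤ n} {A : Act n L} (s : St hn L ι A) (hg : g ∈ N[L])
    (h : ∀ e ∈ E₀, Md1 (ι zS) (g * ι e * g⁻¹) (ι e)) : g ∈ C[EE ι] := by
  obtain ⟨e0, he0, μ, hμ, e1⟩ := dec s hg fun e he => by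
    rcases h e he with h | h
    · rw [h]
    · rw [h, A.φ_mul (memN s e) (memN s zS), φ_z s, mul_one]
  obtain ⟨y, hy⟩ := pr_surj μ
  have hx : pr (A.π (ι e0) * y) = A.φ g := by rw [map_mul, ← A.φ_π (s.mem e0), s.ph, hy, e1]
  refine mem_C'.2 ?_
  rintro _ ⟨e, he, rfl⟩
  rcases h e he with h1 | h1
  · exact mul_inv_eq_iff_eq_mul.1 h1
  exfalso
  have c1 : A.π (ι e) * y = y * A.π (ι e) := comm_of_disjoint (A.sign_π (s.mem e)) fun i hi => by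
    rw [← A.φ_π (s.mem e), s.ph]
    exact up_out hn _ fun h8 => hi (by rw [hy]; exact hμ i h8)
  have c2 : A.π (ι e0) * A.π (ι e) = A.π (ι e) * A.π (ι e0) := by
    rw [← A.π_mul (s.mem _) (s.mem _), ← A.π_mul (s.mem _) (s.mem _), ← map_mul, ← map_mul,
      e_comm e0 he0 e he]
  have c3 := A.conj hg (s.mem e) hx
  rw [h1, A.π_mul (s.mem _) (s.mem _), mul_assoc (A.π (ι e0)), ← c1, ← mul_assoc, c2, mul_assoc (A.π (ι e)),
    mul_inv_cancel_right, mul_eq_left] at c3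
  have c4 : ι zS = 1 := A.a_one (k := 1) (s.mem zS) (a_sq (by rw [← map_mul, e_sq zS z_mem, map_one])) c3
  exact absurd (s.inj (c4.trans (map_one ι).symm)) (by decide)

theorem St.cE {hn : 8 ≤ n} {A : Act n L} (s : St hn L ι A) (h : n = 8 ∨ n = 11)
    (hg : g ∈ N[L] ⊓ C[EE ι]) (h2 : Te g) : (∃ e ∈ E₀, g * ι e ∈ cz L) ∨
    ∃ c ∈ L ⊓ C[EE ι], Odd (orderOf c) ∧ c ∉ cz L ∧ g * c * g⁻¹ * c ∈ cz L := by
  obtain ⟨γ, hγ, h3, H⟩ := cls h
  obtain ⟨e, he, μ, hμ, e1, e2⟩ := dec' s hg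
  have hN : g * ι e ∈ N[L] := mul_mem hg.1 (memN s e)
  rcases H μ hμ with h1 | ⟨-, -, -, hne, hinv⟩
  · have := one_of_te h3 h1 (e2 ▸ te_φ s hN (te_mul s hg.2 h2 he))
    exact Or.inl ⟨e, he, (A.φ_one hN).1 (e2.trans this)⟩
  · obtain ⟨c, hc, hc1, hc2, hc3⟩ := lfS A (S := EE ι) ((SS.pg.to_subgroup _).map _)
      (by rintro _ ⟨a, -, rfl⟩; exact memN s a) h3
      (by rintro _ ⟨a, -, rfl⟩; rw [s.ph]; exact up_comm hn _ hγ)
    have cN : c ∈ N[L] := norm_self L hc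
    refine Or.inr ⟨c, ⟨hc, hc1⟩, hc2, fun h => hne (hc3 ▸ (A.φ_one cN).2 h), ?_⟩
    have gN : g * c * g⁻¹ ∈ N[L] := mul_mem (mul_mem hg.1 cN) (inv_mem hg.1)
    refine (A.φ_one (mul_mem gN cN)).1 ?_
    rw [A.φ_mul gN cN, A.φ_conj hg.1 cN, hc3, e1, ← hinv]
    have := up_comm hn (ND.ph e) (mul_mem (mul_mem hμ hγ) (inv_mem hμ))
    calc up hn (ND.ph e) * μ * γ * (up hn (ND.ph e) * μ)⁻¹ * γ
        = up hn (ND.ph e) * (μ * γ * μ⁻¹) * (up hn (ND.ph e))⁻¹ * γ := by group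
      _ = _ := by rw [this]; group

theorem St.c3 {hn : 8 ≤ n} {A : Act n L} (s : St hn L ι A) (h8 : n = 8 ∨ n = 11) {c d : G}
    (hc : c ∈ N[L] ⊓ C[EE ι]) (hd : d ∈ N[L] ⊓ C[EE ι]) (oc : Odd (orderOf c)) (od : Odd (orderOf d))
    (h : c ∉ cz L) : d ∈ cz L ∨ d * c ∈ cz L ∨ d * c⁻¹ ∈ cz L := by
  obtain ⟨γ, hγ, h3, H⟩ := cls h8
  have key : ∀ x ∈ N[L] ⊓ C[EE ι], Odd (orderOf x) → A.φ x = 1 ∨ A.φ x = γ ∨ A.φ x = γ⁻¹ := by
    intro x hx ox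
    rcases H _ (odd_F8 s hx ox) with h1 | ⟨-, h1, -⟩
    · exact h1
    · exact Or.inl (eq_one_of_two_odd (a_sq h1) (A.odd_φ hx.1 ox))
  rw [← A.φ_one hc.1] at h
  rw [← A.φ_one hd.1, ← A.φ_one (mul_mem hd.1 hc.1), ← A.φ_one (mul_mem hd.1 (inv_mem hc.1)),
    A.φ_mul hd.1 hc.1, A.φ_mul hd.1 (inv_mem hc.1), A.φ_inv hc.1]
  rcases key c hc oc with h1 | h1 | h1
  · exact absurd h1 h
  all_goals rcases key d hd od with h2 | h2 | h2 <;> simp [h1, h2]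

theorem St.cV {hn : 8 ≤ n} {A : Act n (J (ι zS))} (s : St hn (J (ι zS)) ι A) (c : In n t K J)
    (hz : ι zS ∈ K) (hg : g ∈ C{t} ⊓ C[EE ι]) (h2 : Te g) : ∃ e ∈ E₀, g = ι e ∨ g = t * ι e := by
  have oz : orderOf (ι zS) = 2 := iv_of (by rw [← map_mul, e_sq zS z_mem, map_one])
    fun h => absurd (s.inj (h.trans (map_one ι).symm)) (by decide)
  have gz : g ∈ C{ι zS} := C_le_C1 (show ι zS ∈ EE ι from ⟨zS, z_mem, rfl⟩) hg.2
  have gN : g ∈ N[J (ι zS)] := c.nJ hz oz gz (Or.inl (mem_C1_iff_conj.1 hg.1))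
  obtain ⟨γ, hγ, h3, H⟩ := cls c.hn
  obtain ⟨e, he, μ, hμ, e1, e2⟩ := dec' s ⟨gN, hg.2⟩
  have hN : g * ι e ∈ N[J (ι zS)] := mul_mem gN (memN s e)
  have ht := te_mul s hg.2 h2 he
  have et : ι e ∈ C{t} := c.Kle (c.Jle _ hz oz (s.mem e))
  have hμ1 : μ = 1 := by
    rcases H μ hμ with h1 | ⟨h11, -, hs, -⟩
    · exact one_of_te h3 h1 (e2 ▸ te_φ s hN ht)
    · exfalso
      have a1 := c.ev h11 _ hz oz A g ⟨hg.1, gz⟩
      have a2 := A.even (s.mem e)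
      rw [← e2, A.φ_mul gN (memN s e), map_mul, a1, a2] at hs
      exact absurd hs (by decide)
  have ee : ι e * ι e = 1 := by rw [← map_mul, e_sq e he, map_one]
  have e3 : g = g * ι e * ι e := by rw [mul_assoc, ee, mul_one]
  rcases c.cz2 hz oz ((A.φ_one hN).1 (e2.trans hμ1)) (mul_mem hg.1 et) ht with h | h | h | h
  · exact ⟨e, he, Or.inl (by rw [e3, h, one_mul])⟩
  · exact ⟨e, he, Or.inr (by rw [e3, h])⟩
  · exact ⟨zS * e, mul_mem z_mem he, Or.inl (by rw [e3, h, map_mul])⟩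
  · exact ⟨zS * e, mul_mem z_mem he, Or.inr (by rw [e3, h, map_mul, mul_assoc])⟩

end H28.ND
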