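import Mathlib
import Cfsg.Agent.H28.ND0
import Cfsg.Agent.H28.NDA

set_option autoImplicit false
set_option linter.unusedSectionVars false

namespace H28.ND

open Subgroup Equiv Equiv.Perm Cfsg H24 H23 H25.LB H5.Ly H20.So
open scoped commutatorElement

variable {G : Type*} [Group G] [Finite G] {n : ℕ} {t x y g k a b : G}
  {K K' L H D Q Q' R T P : Subgroup G} {J J' : G → Subgroup G} {ι : SS →* G}

/-! ### NDME -/
namespace NDMEx

theorem cent_b (c : In n t K J) (ha : a ∈ K) (h2 : orderOf a = 2) (hR : R ≤ C{t})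
    (h : IsPGroup 2 R) : ∃ b ∈ K, orderOf b = 2 ∧ R ≤ C{b} := by
  obtain ⟨P, hP, hu⟩ := Sylow_superset Nat.prime_two (isPi_of_isPGroup Nat.prime_two h) hR
  have h1 := hP.inf_nml ⟨c.Kle, c.Kn⟩
  have h2 := (hP.pi.nil Nat.prime_two).inf_C_ne_bot (nml_inf_of_norm (hP.le.trans c.Kn))
    (h1.ne_bot Nat.prime_two rfl (h2 ▸ orderOf_dvd_card' ha))
  obtain ⟨v, hv, o⟩ := exists_orderOf_eq Nat.prime_two (((hP.pi.inf_left K).inf_left _).dvd_card h2)
  exact ⟨v, hv.1.2, o, fun r hr => H24.mem_C1.2 (mem_C.1 hv.2 r (hu hr))⟩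

theorem card_mul {Γ : Type*} [Group Γ] (f : R →* Γ) :
    Nat.card R = Nat.card (f.ker.map R.subtype) * Nat.card f.range := by
  rw [card_map_of_injective R.subtype_injective, ← index_ker, card_mul_index]

theorem card4 (c : In n t K J) (hb : b ∈ K) (b2 : orderOf b = 2) (A : Act n (J b)) (hR : R ≤ C{t})
    (h : IsPGroup 2 R) (hN : R ≤ N[J b]) : Nat.card R ≤ 4 * Nat.card (A.hom hN).range := by
  classical
  rw [card_mul (A.hom hN)]
  refine Nat.mul_le_mul_right _ ?_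
  have : (((A.hom hN).ker.map R.subtype : Subgroup G) : Set G) ⊆ ({1, t, b, t * b} : Finset G) := by
    rintro _ ⟨r, hr, rfl⟩
    simpa using c.cz2 hb b2 ((A.φ_one (hN r.2)).1 hr) (hR r.2) (te_of_pg h r.2)
  exact (Set.ncard_le_ncard this (Set.toFinite _)).trans (by rw [Set.ncard_coe_finset]; exact Finset.card_le_four)

theorem burn (hn : 8 ≤ n) {B : Subgroup (Perm (Fin n))} (h : ∀ β ∈ B, β ≠ 1 → T8 β) : Nat.card B ≤ 8 := by
  classical
  have h1 := MulAction.sum_card_fixedBy_eq_card_orbits_mul_card_group B (Fin n)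
  have h2 : ∀ β : B, Fintype.card (MulAction.fixedBy (Fin n) β) = (n - 8) + if β = 1 then 8 else 0 := fun β => by
    have e : Fintype.card (MulAction.fixedBy (Fin n) β) = n - β.1.support.card := by
      rw [show n - β.1.support.card = β.1.supportᶜ.card by rw [Finset.card_compl, Fintype.card_fin],
        ← Fintype.card_coe]
      exact Fintype.card_congr (Equiv.subtypeEquivRight fun i => by
        simp [MulAction.mem_fixedBy, Subgroup.smul_def])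
    rw [e]
    split_ifs with h0
    · subst h0; simp; omega
    · rw [(h _ β.2 fun e => h0 (Subtype.ext e)).2, add_zero]
  simp only [h2, Finset.sum_add_distrib, Finset.sum_const, Finset.sum_ite_eq', Finset.mem_univ, if_true,
    Finset.card_univ, smul_eq_mul] at h1
  rw [Nat.card_eq_fintype_card]
  exact Nat.le_of_dvd (by norm_num) ((Nat.dvd_add_right (dvd_mul_right _ _)).1 (h1 ▸ dvd_mul_left _ _))

theorem count {β : Type*} [Finite β] (F : R → β) (h : ∀ r r' : R, F r = F r' → (r : G)⁻¹ * r' ∈ D) :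
    Nat.card R ≤ Nat.card β * Nat.card D := by
  rw [← Nat.card_prod]
  have e : ∀ r, F (Function.invFun F (F r)) = F r := fun r => Function.invFun_eq ⟨r, rfl⟩
  refine Nat.card_le_card_of_injective (fun r => (F r, (⟨_, h _ r (e r)⟩ : D))) fun r r' h1 => ?_
  simp only [Prod.mk.injEq, Subtype.mk.injEq] at h1
  obtain ⟨h1, h2⟩ := h1
  rw [h1] at h2
  exact Subtype.ext (mul_left_cancel h2)

theorem fx {M : Subgroup G} (hP : IsPGroup 2 P) (hM : M ≤ P) (hH : H ≤ P) (hn : H ≤ N[M]) (h : ¬ M ≤ D) :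
    ∃ x ∈ M, x ∉ D ∧ ∀ r ∈ H, ⁅x, r⁆ ∈ D := by
  obtain ⟨Z, ⟨h1, h2, h3⟩, hm⟩ := (wellFounded_lt (α := Subgroup G)).has_min
    {Z | Z ≤ M ∧ H ≤ N[Z] ∧ ¬ Z ≤ D} ⟨M, le_rfl, hn, h⟩
  have h4 := nil_comm_properl ((isPi_of_isPGroup Nat.prime_two hP).nil Nat.prime_two) (h1.trans hM)
    (fun e => h3 (e.le.trans bot_le)) hH h2
  have h5 : ⁅Z, H⁆ ≤ D := by
    by_contra h5
    exact hm _ ⟨h4.le.trans h1, norm_comm_right _ _, h5⟩ h4
  obtain ⟨x, hx, h6⟩ := SetLike.not_le_iff_exists.1 h3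
  exact ⟨x, h1 hx, h6, fun r hr => h5 (commutator_mem_commutator hx hr)⟩

end NDMEx
open NDMEx

theorem In.ord1 (c : In n t K J) (ha : a ∈ K) (h2 : orderOf a = 2) (hR : R ≤ C{t})
    (h : IsPGroup 2 R) : Nat.card R ≤ 512 := by
  obtain ⟨b, hb, b2, h1⟩ := cent_b c ha h2 hR h
  obtain ⟨A⟩ := exists_act c.h8 (c.pc b hb b2).ty
  have hN : R ≤ N[J b] := fun r hr => c.nJ hb b2 (h1 hr) (Or.inl (mem_C1_iff_conj.1 (hR hr)))
  refine (card4 c hb b2 A hR h hN).trans ?_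
  obtain ⟨k, hk⟩ := (h.of_surjective _ (A.hom hN).rangeRestrict_surjective).exists_card_eq
  have : ¬ 2 ^ 8 ∣ Nat.card (A.hom hN).range := fun hd => by
    rcases c.hn with rfl | rfl
    · have := hd.trans (card_subgroup_dvd_card _)
      rw [Nat.card_eq_fintype_card, Fintype.card_perm, Fintype.card_fin] at this
      exact absurd this (by decide)
    · have h3 : (A.hom hN).range ≤ alternatingGroup (Fin 11) := by
        rintro _ ⟨r, rfl⟩
        exact c.ev rfl b hb b2 A r ⟨hR r.2, h1 r.2⟩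
      have := Nat.mul_dvd_mul_left 2 (hd.trans (card_dvd_of_le h3))
      rw [← a_card_alt (by norm_num)] at this
      exact absurd this (by decide)
  rw [hk] at this ⊢
  have : k ≤ 7 := by
    by_contra h3
    exact this (pow_dvd_pow 2 (by omega))
  exact (Nat.mul_le_mul_left 4 (Nat.pow_le_pow_right (by norm_num) this)).trans (by norm_num)

theorem In.rk (c : In n t K J) (ha : a ∈ K) (h2 : orderOf a = 2) (hR : R ≤ C{t})
    (h : ∀ x ∈ R, x * x = 1) : Nat.card R ≤ 128 := by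
  obtain ⟨b, hb, b2, h1⟩ := cent_b c ha h2 hR (a_pg h)
  have p := c.pc b hb b2
  obtain ⟨A⟩ := exists_act c.h8 p.ty
  have hN : R ≤ N[J b] := fun r hr => c.nJ hb b2 (h1 hr) (Or.inl (mem_C1_iff_conj.1 (hR hr)))
  set R0 := (sign.comp (A.hom hN)).ker.map R.subtype with hR0
  have l0 : R0 ≤ R := map_subtype_le _
  have h3 : Nat.card (sign.comp (A.hom hN)).range ≤ 2 :=
    (card_le_card_group _).trans (by rw [Nat.card_eq_fintype_card, Fintype.card_units_int])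
  have h4 := card4 c hb b2 A (l0.trans hR) (a_pg fun x hx => h x (l0 hx)) (l0.trans hN)
  have h5 : Nat.card (A.hom (l0.trans hN)).range ≤ 8 := burn c.h8 (by
    rintro _ ⟨⟨_, r, hr, rfl⟩, rfl⟩ h1
    obtain ⟨j, hj, e⟩ := A.φ_surj (ρ := A.φ r) hr
    have nj := norm_self _ hj
    have e1 : pr (A.π j) = A.φ r := by rw [← A.φ_π hj, e]
    change T8 (A.φ r)
    rw [← e1]
    refine t8_of c.h11 (A.sign_π hj) ((pr_eq_one (by
      rw [map_mul, e1, A.φ_sq (hN r.2) (h _ r.2)])).resolve_right fun e2 => ?_) (e1 ▸ h1)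
    have h6 : j⁻¹ * r ∈ cz (J b) := (A.φ_one (mul_mem (inv_mem nj) (hN r.2))).1 (by
      rw [A.φ_mul (inv_mem nj) (hN r.2), A.φ_inv nj, e, inv_mul_cancel])
    have h7 : j⁻¹ * r ∈ C{t} := mul_mem (inv_mem (p.comp.1 hj).1) (hR r.2)
    obtain ⟨u, o, e3, hu, ho, tu, oo⟩ := two_odd (j⁻¹ * (r : G))
    have u2 : u * u = 1 := by
      have tb : b * t = t * b := H24.mem_C1.1 (c.Kle hb)
      rcases c.cz2 hb b2 (zpowers_le.2 h6 hu) (zpowers_le.2 h7 hu) tu with rfl | rfl | rfl | rfl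
      exacts [one_mul 1, c.tt, iv_mul b2, by rw [mul_assoc, ← mul_assoc b, tb, mul_assoc, iv_mul b2, mul_one, c.tt]]
    have cm : Commute u o := by
      obtain ⟨i, rfl⟩ := hu
      obtain ⟨i', rfl⟩ := ho
      exact (Commute.refl _).zpow_zpow i i'
    have k1 := (mem_cz.1 h6).2 _ (inv_mem hj)
    have e4 : o * o = (j * j * ⁅j⁻¹, j⁻¹ * (r : G)⁆)⁻¹ := by
      have : o * o = j⁻¹ * r * (j⁻¹ * r) := by rw [e3, cm.symm.mul_mul_mul_comm, u2, one_mul]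
      rw [this, commutatorElement_def]
      refine eq_inv_of_mul_eq_one_right ?_
      rw [← h _ r.2]; group
    have m1 : j * j * ⁅j⁻¹, j⁻¹ * (r : G)⁆ ∈ J b := mul_mem (mul_mem hj hj) (opp_le 2 _ k1)
    have e5 : A.π (o * o) = zz := by
      rw [e4, A.π_inv m1, A.π_mul (mul_mem hj hj) (opp_le 2 _ k1), A.π_mul hj hj, e2,
        (A.π_one (opp_le 2 _ k1)).2 k1, mul_one, iv_inv zz_mul_zz]
    have e6 := A.π_pow (e4 ▸ inv_mem m1 : o * o ∈ J b) (orderOf o)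
    rw [(Commute.refl o).mul_pow, pow_orderOf_eq_one, one_mul, A.π1, e5, a_odd_pow zz_mul_zz oo] at e6
    exact zz_ne e6.symm)
  rw [card_mul (sign.comp (A.hom hN)), ← hR0]
  nlinarith

theorem ord2_of (c : In n t K J) (hi : Function.Injective ι) (hz : ι zS ∈ K)
    (noTv : ∀ g ∈ N[J (ι zS)], (∀ e ∈ E₀, Md1 (ι zS) (g * ι e * g⁻¹) (ι e)) → g ∈ C[EE ι])
    (cV : ∀ g ∈ C{t} ⊓ C[EE ι], Te g → ∃ e ∈ E₀, g = ι e ∨ g = t * ι e)
    (tr : ∀ e ∈ E₀, e ≠ 1 → ∃ k ∈ K ⊓ N[EE ι], k * ι zS * k⁻¹ = ι e)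
    (hR : R ≤ C{t} ⊓ N[EE ι]) (h : IsPGroup 2 R) : Nat.card R ≤ 256 := by
  have q0 : ∀ u ∈ E₀, u * u = 1 := by decide +kernel
  have c0 : ∀ u ∈ E₀, ∀ v ∈ E₀, u * v = v * u := by decide +kernel
  have k0 : Nat.card E₀ = 16 := by rw [Nat.card_eq_fintype_card, Fintype.card_subtype]; decide +kernel
  have kE : Nat.card (EE ι) = 16 := by rw [card_map_of_injective hi, k0]
  have qE : ∀ x ∈ EE ι, x * x = 1 := by rintro _ ⟨u, hu, rfl⟩; rw [← map_mul, q0 u hu, map_one]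
  have cE : EE ι ≤ C[EE ι] := le_C_iff.2 (by
    rintro _ ⟨u, hu, rfl⟩ _ ⟨v, hv, rfl⟩; rw [← map_mul, c0 u hu v hv, map_mul])
  have o : orderOf (ι zS) = 2 := iv_of (by rw [← map_mul]; exact map_one ι) fun e =>
    absurd (hi (e.trans (map_one ι).symm)) (by decide)
  have zE : ι zS ∈ EE ι := mem_map_of_mem ι (show zS ∈ E₀ by decide)
  have F : ∀ {R D : Subgroup G}, IsPGroup 2 R → R ≤ N[EE ι] → Nat.card D < 16 →
      ∃ x ∈ EE ι, x ∉ D ∧ ∀ r ∈ R, ⁅x, r⁆ ∈ D := fun h1 h2 h3 =>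
    fx (pg_sup (a_pg qE) h1 h2) le_sup_left le_sup_right h2 fun h4 => by
      have := card_le_of_le h4; omega
  wlog hc : R ≤ C{ι zS} generalizing R
  · obtain ⟨_, ⟨e, he, rfl⟩, h1, h2⟩ := F (D := ⊥) h (hR.trans inf_le_right) (by simp)
    obtain ⟨k, hk, e1⟩ := tr e he (by rintro rfl; exact h1 (map_one ι))
    rw [← card_cj k⁻¹]
    refine this (cj_le_of_mem hR (inv_mem ⟨c.Kle hk.1, hk.2⟩)) (h.map _) ?_
    rw [cj_le_iff, inv_inv, cj_C1, e1]
    exact fun r hr => H24.mem_C1.2 (commutatorElement_eq_one_iff_mul_comm.1 (h2 r hr)).symm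
  have hN := hR.trans inf_le_right
  have k1 : Nat.card (zpowers (ι zS)) = 2 := by rw [Nat.card_zpowers, o]
  have l0 : zpowers (ι zS) ≤ EE ι := zpowers_le.2 zE
  have step : ∀ {D : Subgroup G}, D ≤ EE ι → Nat.card D < 16 → ∃ x ∈ EE ι, ∃ D' : Subgroup G, D' ≤ EE ι ∧
      Nat.card D' = 2 * Nat.card D ∧ (∀ a, a ∈ D' ↔ a ∈ D ∨ ∃ e ∈ D, a = e * x) ∧ ∀ r ∈ R, ⁅x, r⁆ ∈ D :=
    fun h1 h2 => by
      obtain ⟨x, hx, h3, h4⟩ := F h hN h2
      obtain ⟨D', h5, h6, -⟩ := a_adj (fun a ha => qE a (h1 ha)) (qE x hx) (C_anti h1 (cE hx)) h3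
      exact ⟨x, hx, D', fun a ha => ((h6 a).1 ha).elim (@h1 a) fun ⟨e, he, h⟩ => h ▸ mul_mem (h1 he) hx,
        h5, h6, h4⟩
  obtain ⟨x1, m1, A1, l1, k2, d1, f1⟩ := step l0 (by omega)
  obtain ⟨x2, m2, A2, l2, k3, d2, f2⟩ := step l1 (by omega)
  obtain ⟨x3, m3, A3, l3, k4, d3, f3⟩ := step l2 (by omega)
  have e3 : A3 = EE ι := eq_of_card_ge l3 (by omega)
  have nZ : C{ι zS} ≤ N[zpowers (ι zS)] := norm_zpowers_of_cent le_rfl
  have z1 : zpowers (ι zS) ≤ A1 := fun a ha => (d1 a).2 (Or.inl ha)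
  have z2 : zpowers (ι zS) ≤ A2 := fun a ha => (d2 a).2 (Or.inl (z1 ha))
  have h8 := count (D := R ⊓ C[EE ι]) (fun r : R =>
    (((⟨_, f2 r r.2⟩ : A1) : A1 ⧸ (zpowers (ι zS)).subgroupOf A1),
      ((⟨_, f3 r r.2⟩ : A2) : A2 ⧸ (zpowers (ι zS)).subgroupOf A2))) fun r r' e => by
    have hg : (r : G)⁻¹ * r' ∈ R := mul_mem (inv_mem r.2) r'.2
    simp only [Prod.mk.injEq, QuotientGroup.eq, mem_subgroupOf] at e
    have aux : ∀ x : G, ⁅x, (r : G)⁆⁻¹ * ⁅x, (r' : G)⁆ ∈ zpowers (ι zS) →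
        ⁅x, (r : G)⁻¹ * r'⁆ ∈ zpowers (ι zS) := fun x hx => by
      rw [← conj_mem_iff (nZ (hc r.2))]
      convert hx using 1
      simp only [commutatorElement_def]; group
    have ext : ∀ {D D' : Subgroup G} {x : G}, D ≤ EE ι → (∀ a, a ∈ D' ↔ a ∈ D ∨ ∃ e ∈ D, a = e * x) →
        (∀ a ∈ D, ⁅a, (r : G)⁻¹ * r'⁆ ∈ zpowers (ι zS)) → ⁅x, (r : G)⁻¹ * r'⁆ ∈ zpowers (ι zS) →
        ∀ a ∈ D', ⁅a, (r : G)⁻¹ * r'⁆ ∈ zpowers (ι zS) := fun h1 h2 h3 h4 a ha =>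
      ((h2 a).1 ha).elim (h3 a) fun ⟨e, he, h⟩ => by
        have := mul_mem (H24.conj_mem (nZ (C_le_C1 zE (cE (h1 he)))) h4) (h3 e he)
        convert this using 1
        simp only [h, commutatorElement_def]; group
    have h5 := ext l2 d3 (ext l1 d2 (ext l0 d1 (fun a ha => t2_comm (nZ (hc hg)) ha) (f1 _ hg))
      (aux _ e.1)) (aux _ e.2)
    refine ⟨hg, noTv _ (c.nJ hz o (hc hg) (Or.inl (mem_C1_iff_conj.1 (hR hg).1))) fun a ha => ?_⟩
    have ma : ι a ∈ EE ι := ⟨a, ha, rfl⟩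
    have e4 : (r : G)⁻¹ * r' * ι a * ((r : G)⁻¹ * r')⁻¹ = ι a * ⁅ι a, (r : G)⁻¹ * r'⁆ := by
      rw [commutatorElement_def, iv_inv (qE _ ma), ← mul_assoc, ← mul_assoc, ← mul_assoc (ι a), qE _ ma, one_mul]
    rw [e4]
    exact (a_mem_zp (iv_mul o) (h5 _ (e3 ▸ ma))).imp (fun e => by rw [e, mul_one]) fun e => by rw [e]
  have h9 : Nat.card (R ⊓ C[EE ι] : Subgroup G) ≤ 2 * Nat.card (EE ι) := by
    classical
    refine (count (D := EE ι) (fun r : (R ⊓ C[EE ι] : Subgroup G) => (r : G) ∈ EE ι) fun r r' e => ?_).trans (by simp)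
    obtain ⟨u, hu, h1⟩ := cV r ⟨(hR r.2.1).1, r.2.2⟩ (te_of_pg h r.2.1)
    obtain ⟨v, hv, h2⟩ := cV r' ⟨(hR r'.2.1).1, r'.2.2⟩ (te_of_pg h r'.2.1)
    have mu : ι u ∈ EE ι := ⟨u, hu, rfl⟩
    have mv : ι v ∈ EE ι := ⟨v, hv, rfl⟩
    rcases h1 with h1 | h1
    · exact mul_mem (inv_mem (h1 ▸ mu)) (e.mp (h1 ▸ mu))
    rcases h2 with h2 | h2
    · exact mul_mem (inv_mem (e.mpr (h2 ▸ mv))) (h2 ▸ mv)
    · rw [h1, h2, mul_inv_rev, mul_assoc, inv_mul_cancel_left]; exact mul_mem (inv_mem mu) mv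
  have i1 := card_mul_relIndex z1
  have i2 := card_mul_relIndex z2
  rw [Nat.card_prod] at h8
  change _ ≤ (zpowers (ι zS)).relIndex A1 * (zpowers (ι zS)).relIndex A2 * _ at h8
  rw [k1] at i1 i2
  have j1 : (zpowers (ι zS)).relIndex A1 = 2 := by omega
  have j2 : (zpowers (ι zS)).relIndex A2 = 4 := by omega
  rw [j1, j2] at h8
  omega

end H28.ND
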