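import Mathlib
import Cfsg.Agent.H28.ND0
import Cfsg.Agent.H28.NDA
import Cfsg.Agent.H28.NDMB
import Cfsg.Agent.H13.NDk

set_option autoImplicit false
set_option linter.unusedSectionVars false

namespace H28.ND

open Subgroup Equiv Equiv.Perm Cfsg H24 H23 H25.LB H5.Ly H20.So
open scoped commutatorElement

variable {G : Type*} [Group G] [Finite G] {n : ℕ} {t x y g k a b : G}
  {K K' L H D Q Q' R T P : Subgroup G} {J J' : G → Subgroup G} {ι : SS →* G}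

namespace NDMFx

open NDk

theorem card_E₀ : Nat.card E₀ = 16 := by
  rw [Nat.card_eq_fintype_card, Fintype.card_subtype]; decide +kernel

theorem card_E₁ : Nat.card E₁ = 16 := by
  rw [Nat.card_eq_fintype_card, Fintype.card_subtype]; decide +kernel

/-- the kernel of `φ` on a 2-subgroup of `L` through `a` has order 2 -/
theorem card_two (hn : 8 ≤ n) (p : Pc n H a L) (A : Act n L) (hD : IsPGroup 2 D) (hL : D ≤ L)
    (ha : a ∈ D) : Nat.card D = 2 * Nat.card (A.hom (hL.trans (norm_self L))).range := by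
  set f := A.hom (hL.trans (norm_self L))
  have h1 : f.ker = zpowers ⟨a, ha⟩ := by
    refine le_antisymm (fun d hd => ?_) (zpowers_le.2 ((A.φ_one (norm_self _ p.mem)).2 p.mem_cz))
    obtain ⟨k, hk⟩ := te_of_pg hD d.2
    rcases t1 hn p (hL d.2) ((A.φ_one (norm_self _ (hL d.2))).1 hd) hk with e | e
    · rw [show d = 1 from Subtype.ext e]; exact one_mem _
    · rw [show d = ⟨a, ha⟩ from Subtype.ext e]; exact mem_zpowers _
  rw [← f.ker.card_mul_index, index_ker, h1, Nat.card_zpowers, orderOf_mk, p.iv]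

theorem sign_odd {σ : Perm (Fin n)} (h : Odd (orderOf σ)) : sign σ = 1 := by
  rw [← a_odd_pow (Int.units_mul_self (sign σ)) h, ← map_pow, pow_orderOf_eq_one, map_one]

/-- for `n = 8` the model group is a Sylow 2-subgroup of `K` -/
theorem mx8 {hn : 8 ≤ 8} {A : Act 8 (J (ι zS))} (s : St hn (J (ι zS)) ι A) (c : In 8 t K J)
    (hz : ι zS ∈ K) (h2 : orderOf (ι zS) = 2) : Mx ι.range K := by
  have hK : ι.range ≤ K := by rintro _ ⟨u, rfl⟩; exact c.Jle _ hz h2 (s.mem u)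
  refine ⟨pg_range ι, hK, fun R hR h1 h3 => ?_⟩
  refine (((isPi_of_isPGroup Nat.prime_two hR).nil Nat.prime_two).eq_of_norm_le h3 ?_).ge
  have hR1 : IsPGroup 2 ↥(R ⊓ N[ι.range]) := hR.to_le inf_le_left
  have hL : R ⊓ N[ι.range] ≤ J (ι zS) := by
    intro r hr
    refine c.two hz h2 (h1 hr.1) ?_ (te_of_pg hR hr.1)
    obtain ⟨u, hu⟩ := conj_mem hr.2 (⟨zS, rfl⟩ : ι zS ∈ ι.range)
    have key : ∀ u : SS, (∀ v : SS, v * u = u * v) → u = 1 ∨ u = zS := by decide +kernel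
    have hc : ∀ v : SS, v * zS = zS * v := by decide +kernel
    rcases key u (fun v => s.inj (by
      obtain ⟨v', hv'⟩ := conj_mem' hr.2 (⟨v, rfl⟩ : ι v ∈ ι.range)
      have e : ι v' * ι zS = ι zS * ι v' := by rw [← map_mul, hc, map_mul]
      rw [map_mul, map_mul, hu]
      calc ι v * (r * ι zS * r⁻¹) = r * (r⁻¹ * ι v * r * ι zS) * r⁻¹ := by group
        _ = r * ι zS * r⁻¹ * ι v := by rw [← hv', e, hv']; group)) with e | e
    · rw [e, map_one] at hu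
      exact absurd hu.symm (iv_ne (iv_conj h2 r))
    · rw [e] at hu
      exact mem_C1_iff_conj.2 hu.symm
  have hS : ι.range ≤ R ⊓ N[ι.range] := le_inf h3 (norm_self _)
  have e1 := card_two hn (c.pc _ hz h2) A hR1 hL (hS ⟨zS, rfl⟩)
  have e2 : (A.hom (hL.trans (norm_self _))).range ≤ alternatingGroup (Fin 8) := by
    rintro _ ⟨d, rfl⟩
    exact mem_alternatingGroup.2 (A.even (hL d.2))
  have e3 := card_dvd_of_le e2
  have e4 : Nat.card (alternatingGroup (Fin 8)) = 20160 := by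
    have := a_card_alt hn
    rw [show Nat.factorial 8 = 40320 by decide] at this
    omega
  obtain ⟨k, hk⟩ := IsPGroup.iff_card.1
    (hR1.of_surjective _ (A.hom (hL.trans (norm_self _))).rangeRestrict_surjective)
  rw [e4, hk] at e3
  have e5 : k ≤ 6 := by
    by_contra h
    exact absurd ((pow_dvd_pow 2 (by omega : 7 ≤ k)).trans e3) (by decide)
  have e6 : Nat.card ι.range = 128 := by
    rw [MonoidHom.range_eq_map, card_map_of_injective s.inj, card_top, SS.card_SS]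
  refine (eq_of_le_of_card_ge hS ?_).ge
  rw [e6, e1, hk]
  have := Nat.pow_le_pow_right (by norm_num : 2 > 0) e5
  omega

/-- for `n = 8` the groups `E` and `E'` are not conjugate in `K` -/
theorem not_conj {hn : 8 ≤ 8} {A : Act 8 (J (ι zS))} (s : St hn (J (ι zS)) ι A) (c : In 8 t K J)
    (hz : ι zS ∈ K) (h2 : orderOf (ι zS) = 2) (hk : k ∈ K) (h : cj k (EE ι) = E₁.map ι) : False := by
  have mx := mx8 s c hz h2
  have n0 : ι.range ≤ N[EE ι] := by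
    rintro _ ⟨u, rfl⟩
    refine mem_N_of_finite ?_
    rintro _ ⟨e, he, rfl⟩
    have : ∀ u : SS, ∀ e ∈ E₀, u * e * u⁻¹ ∈ E₀ := by decide +kernel
    exact ⟨_, this u e he, by simp⟩
  have n1 : ι.range ≤ N[E₁.map ι] := by
    rintro _ ⟨u, rfl⟩
    refine mem_N_of_finite ?_
    rintro _ ⟨e, he, rfl⟩
    have : ∀ u : SS, ∀ e ∈ E₁, u * e * u⁻¹ ∈ E₁ := by decide +kernel
    exact ⟨_, this u e he, by simp⟩
  have mx' : Mx ι.range (K ⊓ N[E₁.map ι]) :=
    ⟨mx.1, le_inf mx.2.1 n1, fun R hR h1 h3 => mx.2.2 R hR (h1.trans inf_le_left) h3⟩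
  obtain ⟨x, hx, hc⟩ := mx'.conj (R := cj k ι.range) ((pg_range ι).map _)
    (le_inf (cj_le_of_mem_N mx.2.1 (norm_self _ hk)) (by rw [← h, ← cj_N]; exact cj_mono _ n0))
  rw [← cj_mul] at hc
  have hxK : x * k ∈ K := mul_mem (mem_inf.1 hx).1 hk
  have hE : cj (x * k) (EE ι) = E₁.map ι := by rw [cj_mul, h, cj_of_mem_N hx.2]
  have hN := mem_N_of_cj_le hc
  generalize x * k = r at hc hxK hE hN
  have hrz : r ∈ C{ι zS} := by
    obtain ⟨u, hu⟩ := conj_mem hN (⟨zS, rfl⟩ : ι zS ∈ ι.range)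
    have key : ∀ u : SS, (∀ v : SS, v * u = u * v) → u = 1 ∨ u = zS := by decide +kernel
    have hc : ∀ v : SS, v * zS = zS * v := by decide +kernel
    rcases key u (fun v => s.inj (by
      obtain ⟨v', hv'⟩ := conj_mem' hN (⟨v, rfl⟩ : ι v ∈ ι.range)
      have e : ι v' * ι zS = ι zS * ι v' := by rw [← map_mul, hc, map_mul]
      rw [map_mul, map_mul, hu]
      calc ι v * (r * ι zS * r⁻¹) = r * (r⁻¹ * ι v * r * ι zS) * r⁻¹ := by group
        _ = r * ι zS * r⁻¹ * ι v := by rw [← hv', e, hv']; group)) with e | e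
    · rw [e, map_one] at hu
      exact absurd hu.symm (iv_ne (iv_conj h2 r))
    · rw [e] at hu
      exact mem_C1_iff_conj.2 hu.symm
  have hrN : r ∈ N[J (ι zS)] := c.nJ hz h2 hrz (Or.inl (mem_C1_iff_conj.1 (c.Kle hxK)))
  have hev : sign (A.φ r) = 1 := by
    obtain ⟨j, hj, o, ho, rfl⟩ := (mem_sup_of_norm' ((c.Jle _ hz h2).trans (L_opp K))).1
      (c.cov _ hz h2 ⟨hxK, hrz⟩)
    have hoN : o ∈ N[J (ι zS)] := (mul_mem_cancel_left (norm_self _ hj)).1 hrN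
    rw [A.φ_mul (norm_self _ hj) hoN, map_mul, A.even hj, one_mul]
    exact sign_odd (A.odd_φ hoN (odd_orderOf_of_mem (odd_opp K) ho))
  obtain ⟨τ, hτ, hτ'⟩ := pb_tau
  have hm : τ⁻¹ * A.φ r ∈ N[E₀.map ph] := by
    refine mem_N_of_finite ?_
    rintro _ ⟨e, he, rfl⟩
    have h3 : r * ι e * r⁻¹ ∈ E₁.map ι := hE ▸ conj_mem_cj r ⟨e, he, rfl⟩
    obtain ⟨e1, he1, e2⟩ := h3
    rw [← map_sw₀] at he1
    obtain ⟨e0, he0, rfl⟩ := he1
    refine ⟨e0, he0, ?_⟩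
    have h4 := A.φ_conj hrN (norm_self _ (s.mem e))
    rw [← e2, s.ph, s.ph, up8, up8, hτ'] at h4
    calc ph e0 = τ⁻¹ * (τ * ph e0 * τ⁻¹) * τ := by group
      _ = _ := by rw [h4]; group
  have := pb_even hm
  rw [map_mul, hev, map_inv, hτ] at this
  exact absurd this (by decide)

theorem tr {hn : 8 ≤ n} {A : Act n (J (ι zS))} (s : St hn (J (ι zS)) ι A) (c : In n t K J)
    (hz : ι zS ∈ K) {e : SS} (he : e ∈ E₀) (h1 : e ≠ 1) :
    ∃ k ∈ K ⊓ N[EE ι], k * ι zS * k⁻¹ = ι e := by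
  have ord : ∀ {u : SS}, u ∈ E₀ → u ≠ 1 → orderOf (ι u) = 2 := fun {u} hu h =>
    iv_of (by rw [← map_mul, E_sq u hu, map_one]) fun e => h (s.inj (e.trans (map_one ι).symm))
  have h2 := ord z_E (by decide)
  have p := c.pc _ hz h2
  have hJ := c.Jle _ hz h2
  obtain ⟨g, hg, eg⟩ := c.one _ hz _ (hJ (s.mem e)) h2 (ord he h1)
  have hEL : EE ι ≤ J (ι zS) := by rintro _ ⟨u, -, rfl⟩; exact s.mem u
  have hD : IsPGroup 2 (cj g⁻¹ (EE ι)) := (pg_map ι E₀).map _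
  have ez : ι zS = g⁻¹ * ι e * g⁻¹⁻¹ := by rw [← eg]; group
  have hzD : ι zS ∈ cj g⁻¹ (EE ι) := ez ▸ conj_mem_cj _ ⟨e, he, rfl⟩
  have hDL : cj g⁻¹ (EE ι) ≤ J (ι zS) := by
    intro d hd
    refine c.two hz h2 (cj_le_of_mem_N (hEL.trans hJ) (norm_self _ (inv_mem hg)) hd) ?_
      (te_of_pg hD hd)
    have : cj g⁻¹ (EE ι) ≤ C[cj g⁻¹ (EE ι)] := by rw [← cj_C]; exact cj_mono _ (EE_C ι)
    exact C_le_C1 hzD (this hd)
  have e1 := card_two hn p A hD hDL hzD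
  rw [card_cj, card_map_of_injective s.inj, card_E₀] at e1
  obtain ⟨ρ, hρ⟩ := pb_pe hn c.hn (B := (A.hom (hDL.trans (norm_self _))).range) (by omega) (by
    rintro _ ⟨d, rfl⟩ hd
    obtain ⟨_, ⟨u, hu, rfl⟩, e2⟩ := mem_cj'.1 d.2
    refine t8 hn c.h11 p A (hDL d.2) ?_ fun e3 => hd ?_
    · rw [e2]
      refine iv_conj (ord hu ?_) _
      rintro rfl
      apply hd
      have : d = 1 := Subtype.ext (by rw [e2]; simp)
      rw [this, map_one]
    · show A.φ d = 1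
      rw [e3]
      exact (A.φ_one (norm_self _ p.mem)).2 p.mem_cz)
  -- lifting an even permutation
  have key : ∀ (ρ' : Perm (Fin n)) (S₀ : Subgroup SS), zS ∈ S₀ → sign ρ' = 1 →
      (∀ β ∈ (A.hom (hDL.trans (norm_self _))).range, ∃ u ∈ S₀, ρ' * β * ρ'⁻¹ = up hn (ph u)) →
      ∃ j ∈ J (ι zS), cj (j * g⁻¹) (EE ι) ≤ S₀.map ι := by
    intro ρ' S₀ hz0 hs hβ
    obtain ⟨j, hj, ej⟩ := A.φ_surj hs
    obtain ⟨o, ho, hc⟩ := back s p hz0 (D := cj j (cj g⁻¹ (EE ι))) (hD.map _)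
      (cj_le_of_mem_N hDL (norm_self _ hj)) (by
        intro d hd
        obtain ⟨d', hd', rfl⟩ := mem_cj'.1 hd
        obtain ⟨u, hu, e2⟩ := hβ _ ⟨⟨d', hd'⟩, rfl⟩
        exact ⟨u, hu, by rw [A.φ_conj (norm_self _ hj) (norm_self _ (hDL hd')), ej, ← e2]; rfl⟩)
    exact ⟨o * j, mul_mem (opp_le 2 _ ho) hj, by rw [cj_mul, cj_mul]; exact hc⟩
  have hβ : ∀ β ∈ (A.hom (hDL.trans (norm_self _))).range, ∃ u ∈ E₀, ρ * β * ρ⁻¹ = up hn (ph u) := by
    intro β hb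
    have := conj_mem_cj ρ hb
    rw [hρ] at this
    obtain ⟨u, hu, e2⟩ := this
    exact ⟨u, hu, e2.symm⟩
  have fin : (∃ j ∈ J (ι zS), cj (j * g⁻¹) (EE ι) ≤ E₀.map ι) →
      ∃ k ∈ K ⊓ N[EE ι], k * ι zS * k⁻¹ = ι e := by
    rintro ⟨j, hj, hc⟩
    refine ⟨(j * g⁻¹)⁻¹, mem_inf.2 ⟨inv_mem (mul_mem (hJ hj) (inv_mem hg)),
      inv_mem (mem_N_of_cj_le hc)⟩, ?_⟩
    have := mem_C1_iff_conj.1 (inv_mem (p.le_C hj))
    calc (j * g⁻¹)⁻¹ * ι zS * (j * g⁻¹)⁻¹⁻¹ = g * (j⁻¹ * ι zS * j⁻¹⁻¹) * g⁻¹ := by group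
      _ = ι e := by rw [this, eg]
  rcases Int.units_eq_one_or (sign ρ) with hs | hs
  · exact fin (key ρ E₀ z_E hs hβ)
  rcases c.hn with rfl | rfl
  · exfalso
    obtain ⟨τ, hτ, hτ'⟩ := pb_tau
    obtain ⟨j, hj, hc⟩ := key (τ * ρ) E₁ z_E1 (by rw [map_mul, hτ, hs]; decide) (by
      intro β hb
      obtain ⟨u, hu, e2⟩ := hβ β hb
      refine ⟨sw u, map_sw₀ ▸ ⟨u, hu, rfl⟩, ?_⟩
      rw [up8] at e2
      rw [up8, hτ', ← e2]; group)
    refine not_conj s c hz h2 (mul_mem (hJ hj) (inv_mem hg)) (eq_of_le_of_card_ge hc ?_)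
    rw [card_cj, card_map_of_injective s.inj, card_map_of_injective s.inj, card_E₀, card_E₁]
  · refine fin (key (swap 9 10 * ρ) E₀ z_E (by rw [map_mul, sign_swap (by decide), hs]; decide) ?_)
    intro β hb
    obtain ⟨u, hu, e2⟩ := hβ β hb
    refine ⟨u, hu, ?_⟩
    have h3 : up hn (ph u) * swap 9 10 * (up hn (ph u))⁻¹ = swap 9 10 := by
      rw [← swap_apply_apply, up_fix hn _ (by decide), up_fix hn _ (by decide)]
    calc swap 9 10 * ρ * β * (swap 9 10 * ρ)⁻¹ = swap 9 10 * (ρ * β * ρ⁻¹) * (swap 9 10)⁻¹ := by group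
      _ = up hn (ph u) := by
        rw [e2]
        nth_rewrite 1 [← h3]
        group

end NDMFx

/-! ### NDMF -/
theorem St.tr {hn : 8 ≤ n} {A : Act n (J (ι zS))} (s : St hn (J (ι zS)) ι A) (c : In n t K J)
    (hz : ι zS ∈ K) {e : SS} (he : e ∈ E₀) (h1 : e ≠ 1) :
    ∃ k ∈ K ⊓ N[EE ι], k * ι zS * k⁻¹ = ι e := NDMFx.tr s c hz he h1

end H28.ND
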