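import Mathlib
import Cfsg.Agent.H28.ND0
import Cfsg.Agent.H28.NDW

set_option autoImplicit false
set_option linter.unusedSectionVars false

namespace H28.ND

open Subgroup Equiv Equiv.Perm Cfsg H24 H23 H25.LB H5.Ly H20.So
open scoped commutatorElement

variable {G : Type*} [Group G] [Finite G] {n : ℕ} {t x y g k a b : G}
  {K K' L H D Q Q' R T P : Subgroup G} {J J' : G → Subgroup G} {ι : SS →* G}

namespace NDPx

theorem pow_odd {f o : G} (h : f * o = o * f) (h2 : f * f = 1) (ho : Odd (orderOf o)) :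
    (f * o) ^ orderOf o = f := by
  rw [Commute.mul_pow h, pow_orderOf_eq_one, mul_one, a_odd_pow h2 ho]

/-- transport of `θ` along `C(t) ∩ N(E₁)`, modulo `O(C(F))` -/
theorem lemA {θ : SS →* G} (w : W0 t J ι θ x) (m : Md t K J ι) (c : In n t K J)
    (hg : g ∈ C{t} ⊓ N[E1 θ]) {u v : SS} (hu : u * u = 1) (hv : v * v = 1)
    (e : g * ι v * g⁻¹ = ι u) : ∃ o ∈ opp 2 C[FF t θ], g * θ v * g⁻¹ = θ u * o ∧ o ∈ C{t} ∧
      o ∈ C{ι u} ∧ θ u * o * θ u * o = 1 := by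
  have ht := c.tt
  have d := w.db
  have hW : ∀ s, θ s ∈ pcr (W1 t θ) := fun s => w.mem ⟨s, rfl⟩
  have hgW : g ∈ N[pcr (W1 t θ)] := norm_pcr N0_le_NW (ct_N0 hg)
  obtain ⟨hgE, sm⟩ := d.toDb0.act m c hg
  have h0 : (θ u)⁻¹ * (g * θ v * g⁻¹) ∈ pcr (W1 t θ) := mul_mem (inv_mem (hW u)) (conj_mem hgW (hW v))
  have h1 : (θ u)⁻¹ * (g * θ v * g⁻¹) ∈ C[FF t θ] := by
    rw [CF_eq]
    refine ⟨mem_C.2 fun y hy => ?_, (pcr_le _ h0).2⟩
    obtain ⟨a, ha, rfl⟩ := d.toDb0.mem_E1.1 hy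
    obtain ⟨a0, ha0, e0⟩ := conj_mem' hgE (⟨a, ha, rfl⟩ : ι a ∈ EE ι)
    have k1 := (sm a0 ha0 a ha).1 (by rw [e0]; group)
    have k2 := (sm _ (e0_conj v a0 ha0) _ (e0_conj u a ha)).1 (by
      simp only [map_mul, map_inv]
      rw [← e, e0]; group)
    simp only [map_mul, map_inv] at k2
    calc θ a * ((θ u)⁻¹ * (g * θ v * g⁻¹))
        = (θ u)⁻¹ * (θ u * θ a * (θ u)⁻¹) * (g * θ v * g⁻¹) := by group
      _ = _ := by rw [← k2, ← k1]; group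
  obtain ⟨f, hf, o, ho, e1⟩ := d.splitF h1
  have oo := odd_orderOf_of_mem (odd_opp _) ho
  have oC := opp_le 2 _ ho
  have hfW : f ∈ pcr (W1 t θ) := by
    rw [← pow_odd (mem_C.1 oC f hf) (d.toDb0.elem ht hf hf).1 oo, ← e1]
    exact pow_mem h0 _
  obtain ⟨r, hr, rfl⟩ := d.toDb0.mem_E1.1 (w.tw.w_pe w.xW d m c ⟨hfW, hf⟩)
  have e2 : g * θ v * g⁻¹ = θ (u * r) * o := by
    rw [map_mul, mul_assoc (θ u), ← e1, mul_inv_cancel_left]
  have hgt : g * t = t * g := H20.So.mem_C1.1 hg.1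
  have hgt' : g⁻¹ * t = t * g⁻¹ := H20.So.mem_C1.1 (inv_mem (mem_inf.1 hg).1)
  have e3 : g * θ v * g⁻¹ * (t * (g * θ v * g⁻¹) * t) = ι u := by
    rw [← e, ← w.dg v]
    calc g * θ v * g⁻¹ * (t * (g * θ v * g⁻¹) * t) = g * θ v * g⁻¹ * ((t * g) * θ v * (g⁻¹ * t)) := by
          group
      _ = _ := by rw [← hgt, hgt']; group
  have tN : t ∈ N[opp 2 C[FF t θ]] := NF_le_NO (t_nF ht)
  have ti : t⁻¹ = t := iv_inv ht
  have sN : ∀ s, t * θ s * t ∈ N[opp 2 C[FF t θ]] := fun s =>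
    mul_mem (mul_mem tN (NF_le_NO (N0_le_NF (W1_le_N0 (pcr_le _ (hW s)))))) tN
  have r1 : r = 1 := by
    have h2 : (t * θ (u * r) * t)⁻¹ * o * (t * θ (u * r) * t) * (t * o * t⁻¹) ∈ opp 2 C[FF t θ] :=
      mul_mem (conj_mem' (sN _) ho) (conj_mem tN ho)
    have h3 : ι (u * r) * ((t * θ (u * r) * t)⁻¹ * o * (t * θ (u * r) * t) * (t * o * t⁻¹)) = ι u := by
      rw [← e3, e2, ← w.dg, ti, tt_mul ht]; group
    rw [map_mul ι, mul_assoc (ι u), mul_eq_left] at h3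
    have h4 : ι r ∈ opp 2 C[FF t θ] := by
      rw [eq_inv_of_mul_eq_one_left h3]; exact inv_mem h2
    exact m.inj ((d.F_inf_O ht (d.toDb0.E_le_F ht ⟨r, hr, rfl⟩) h4).trans (map_one ι).symm)
  rw [r1, mul_one] at e2
  have u2 : θ u * θ u = 1 := by rw [← map_mul, hu, map_one]
  have e4 : θ u * o * θ u * o = 1 := by
    rw [mul_assoc (θ u * o), ← e2]
    exact cj_sq (by rw [← map_mul, hv, map_one]) g
  have e5 : o * (t * θ u * t) * (t * o * t) = t * θ u * t := by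
    rw [e2, ← w.dg u, tt_mul ht, mul_assoc (θ u)] at e3
    rw [mul_assoc]
    exact mul_left_cancel e3
  have e6 : t * θ u * t * (t * o * t) * (t * θ u * t) * (t * o * t) = 1 := by
    rw [← tt_mul ht, ← tt_mul ht, ← tt_mul ht, e4, mul_one, ht]
  have u2' : t * θ u * t * (t * θ u * t) = 1 := by rw [← tt_mul ht, u2, mul_one, ht]
  have e7 : t * o * t = o := by
    calc t * o * t = (t * θ u * t * (t * θ u * t)) * (t * o * t) * (t * θ u * t) * (t * o * t) *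
          (t * o * t)⁻¹ * (t * θ u * t)⁻¹ := by rw [u2']; group
      _ = t * θ u * t * (t * θ u * t * (t * o * t) * (t * θ u * t) * (t * o * t)) *
          (t * o * t)⁻¹ * (t * θ u * t)⁻¹ := by group
      _ = o * (t * θ u * t) * (t * o * t) * (t * o * t)⁻¹ * (t * θ u * t)⁻¹ := by rw [e6, e5, mul_one]
      _ = o := by group
  refine ⟨o, ho, e2, H20.So.mem_C1.2 ?_, H20.So.mem_C1.2 ?_, e4⟩
  · calc o * t = t * o * t * t := by rw [e7]
      _ = t * o := by rw [mul_assoc, ht, mul_one]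
  · rw [e7] at e5
    rw [← w.dg u]
    have i2 : t * θ u * t * o = o⁻¹ * (t * θ u * t) := by
      conv_rhs => rw [← e5]
      group
    have i3 : o * θ u = θ u * o⁻¹ := by
      calc o * θ u = (θ u * θ u) * o * θ u := by rw [u2, one_mul]
        _ = θ u * (θ u * o * θ u * o) * o⁻¹ := by group
        _ = θ u * o⁻¹ := by rw [e4, mul_one]
    calc o * (θ u * (t * θ u * t)) = θ u * (o⁻¹ * (t * θ u * t)) := by
          rw [← mul_assoc, i3, mul_assoc]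
      _ = _ := by rw [← i2]; group

/-- lifting a conjugation into `N(E₁)` -/
theorem lemB {θ : SS →* G} (w : W0 t J ι θ x) (m : Md t K J ι) (c : In n t K J)
    (hk : k ∈ C{t} ⊓ N[EE ι]) {u v : SS} (e : k * ι v * k⁻¹ = ι u) :
    ∃ g ∈ C{t} ⊓ N[E1 θ], g * ι v * g⁻¹ = ι u ∧ ∀ a ∈ E₀, g * ι a * g⁻¹ = k * ι a * k⁻¹ := by
  have d := w.db
  have nF : ∀ s, ι s ∈ C{t} ⊓ N[FF t θ] := fun s =>
    mem_inf.2 ⟨(m.range_C c s).1.1, N0_le_NF (ct_N0 ⟨(m.range_C c s).1.1, d.toDb0.range_N s⟩)⟩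
  obtain ⟨o, ho, -, hn⟩ := d.fr k hk (zpowers (ι u)) ((pg_range ι).to_le (zpowers_le.2 ⟨u, rfl⟩))
    (zpowers_le.2 (nF u)) (zpowers_le.2 (by rw [← cj_N, ← e]; exact conj_mem_cj k (nF v).2))
  have h1 : o * k ∈ C{t} := mul_mem (mem_inf.1 (mem_inf.1 ho).1).1 (mem_inf.1 hk).1
  have e1 : o * k * ι v * (o * k)⁻¹ = ι u := by
    calc o * k * ι v * (o * k)⁻¹ = o * (k * ι v * k⁻¹) * o⁻¹ := by group
      _ = ι u := by rw [e, conj_eq_of_mem_C ho.2 (mem_zpowers _)]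
  have e2 : ∀ a ∈ E₀, o * k * ι a * (o * k)⁻¹ = k * ι a * k⁻¹ := fun a ha => by
    calc o * k * ι a * (o * k)⁻¹ = o * (k * ι a * k⁻¹) * o⁻¹ := by group
      _ = _ := conj_eq_of_mem_C ho.1.2 (conj_mem hk.2 ⟨a, ha, rfl⟩)
  have e3 : ∀ s, o * k * t * ι s * (o * k * t)⁻¹ = o * k * ι s * (o * k)⁻¹ := fun s => by
    rw [mul_assoc (o * k), m.ct c s]; group
  rcases d.nm _ ⟨h1, hn⟩ with h | h
  · exact ⟨_, ⟨h1, h⟩, e1, e2⟩
  · exact ⟨_, mem_inf.2 ⟨mul_mem h1 (self_mem_C1 t), h⟩, (e3 v).trans e1,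
      fun a ha => (e3 a).trans (e2 a ha)⟩

theorem x_eq {θ : SS →* G} (w : W0 t J ι θ x) (m : Md t K J ι) (c : In n t K J) : x = θ eS' := by
  obtain ⟨p, hp, ex⟩ := w.xe
  have ht := c.tt
  have e2 : eS' * eS' = 1 := by decide
  have e1 : eS' ≠ 1 := by decide
  obtain ⟨y0, hy0, y1, y2⟩ := m.exY c
  obtain ⟨y, hy, ey, hE⟩ := lemB w m c (k := y0) ⟨hy0.1.1, hy0.2⟩ (mem_C1_iff_conj.1 hy0.1.2)
  obtain ⟨o, ho, e3, -, -, -⟩ := lemA w m c hy e2 e2 ey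
  have s1 := w.tw.sp
  have s2 := s1.cj c (m.memK c _) (m.ord e2 e1) hy.1
  rw [ey] at s2
  obtain ⟨p', hp', ep, hne⟩ : ∃ p' ∈ Z₀, y * ι p * y⁻¹ = ι p' ∧ (p * p' = 1 → p = 1) := by
    rw [hE p hp.1]
    have : ∀ p ∈ Z₀, p = 1 ∨ p = zS ∨ p = ζS ∨ p = zS * ζS := by decide +kernel
    rcases this p hp with rfl | rfl | rfl | rfl
    · exact ⟨1, one_mem _, by simp, fun _ => rfl⟩
    · exact ⟨ζS, by decide, y1, by decide⟩
    · exact ⟨zS * ζS, by decide, y2, by decide⟩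
    · refine ⟨ζS * (zS * ζS), by decide, ?_, by decide⟩
      rw [map_mul ι ζS]
      conv_rhs => rw [← y2]; lhs; rw [← y1]
      rw [map_mul]; group
  have oC := opp_le 2 _ ho
  have hF : ∀ q ∈ Z₀, ι q ∈ FF t θ := fun q hq => w.db.toDb0.E_le_F ht ⟨q, hq.1, rfl⟩
  have hc : θ eS' * ι p = ι p * θ eS' := by
    have : ∀ p ∈ Z₀, eS' * p = p * eS' := by decide +kernel
    rw [← w.dg p, ← mul_assoc, ← map_mul, this p hp, map_mul, mul_assoc, w.cm, ← mul_assoc]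
  have e4 : x * (y * x * y⁻¹) = ι (p * p') * o := by
    have : y * x * y⁻¹ = θ eS' * o * ι p' := by rw [ex, ← e3, ← ep]; group
    rw [this, ex, hc, map_mul, mul_assoc (θ eS'), ← mem_C.1 oC _ (hF p' hp')]
    calc ι p * θ eS' * (θ eS' * (ι p' * o)) = ι p * (θ eS' * θ eS') * ι p' * o := by group
      _ = _ := by rw [← map_mul θ, e2, map_one, mul_one]
  have hpp := mul_mem hp hp'
  have q2 : ι (p * p') * ι (p * p') = 1 := by rw [← map_mul, e0_sq _ hpp.1, map_one]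
  have h5 : ι (p * p') ∈ cz (J (ι eS')) := by
    rw [← pow_odd (mem_C.1 oC _ (hF _ hpp)) q2 (odd_orderOf_of_mem (odd_opp _) ho), ← e4]
    exact pow_mem (mul_mem s1.1 s2.1) _
  have h6 : ∀ q ∈ Z₀, q * eS' = eS' * q ∧ q ≠ eS' := by decide +kernel
  rcases c.czJ (m.memK c _) (m.ord e2 e1) (m.inJ c e2 e1 (h6 _ hpp).1) h5 ⟨1, a_sq q2⟩ with h | h
  · rw [ex, hne (m.inj (h.trans (map_one ι).symm)), map_one, mul_one]
  · exact absurd (m.inj h) (h6 _ hpp).2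

end NDPx

/-! ### NDP -/
theorem W0.sp {θ : SS →* G} (w : W0 t J ι θ x) (m : Md t K J ι) (c : In n t K J) {u : SS}
    (hu : u * u = 1) (h1 : u ≠ 1) : θ u ∈ cz (J (ι u)) := by
  by_cases h0 : u ∈ E₀
  · exact w.db.sp u h0 h1
  have e2 : eS' * eS' = 1 := by decide
  have e1 : eS' ≠ 1 := by decide
  obtain ⟨g0, hg0, e0⟩ := m.l1 c hu h0
  obtain ⟨g, hg, eg, -⟩ := NDPx.lemB w m c (k := g0) ⟨hg0.1.1, hg0.2⟩ e0
  obtain ⟨o, ho, e3, ot, ou, oi⟩ := NDPx.lemA w m c hg hu e2 eg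
  have s2 := w.tw.sp.cj c (m.memK c _) (m.ord e2 e1) hg.1
  rw [eg, NDPx.x_eq w m c, e3] at s2
  have hN : o ∈ N[cz (J (ι u))] := N_le_N_cz _
    (c.nJ (m.memK c u) (m.ord hu h1) ou (Or.inl (mem_C1_iff_conj.1 ot)))
  have h2 : o * o ∈ cz (J (ι u)) := by
    have := mul_mem (conj_mem hN s2.1) s2.1
    have e : o * (θ u * o) * o⁻¹ * (θ u * o) = o * o := by
      calc o * (θ u * o) * o⁻¹ * (θ u * o) = o * (θ u * θ u) * o := by group
        _ = o * o := by rw [← map_mul, hu, map_one, mul_one]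
    rwa [e] at this
  have h3 := mem_of_sq_mem (odd_orderOf_of_mem (odd_opp _) ho) h2
  exact (mul_mem_cancel_right h3).1 s2.1

end H28.ND
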