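import Mathlib
import Cfsg.Agent.H28.ND0
import Cfsg.Agent.H28.NDE

set_option autoImplicit false
set_option linter.unusedSectionVars false

namespace H28.ND

open Subgroup Equiv Equiv.Perm Cfsg H24 H23 H25.LB H5.Ly H20.So
open scoped commutatorElement

variable {G : Type*} [Group G] [Finite G] {n : ℕ} {t x y g k a b : G}
  {K K' L H D Q Q' R T P : Subgroup G} {J J' : G → Subgroup G} {ι : SS →* G}

namespace NDTx

variable {θ : SS → G}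

theorem tt (c : In n t K J) : t * t = 1 := by rw [← sq, ← c.iv, pow_orderOf_eq_one]

theorem th_one (d : Db0 t J ι θ) : θ 1 = 1 := by
  have := d.mul 1 (one_mem _) 1 (one_mem _)
  rw [mul_one] at this
  exact left_eq_mul.1 this

theorem th_mem (d : Db0 t J ι θ) {u : SS} (hu : u ∈ E₀) : θ u ∈ FF t θ :=
  mem_sup_left (d.mem_E1.2 ⟨u, hu, rfl⟩)

theorem tF (ht : t * t = 1) : t ∈ N[FF t θ] := by
  rw [mem_N_iff_cj, cj_sup, ← cj_mul, ht, cj_one, sup_comm]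

theorem tcj (ht : t * t = 1) (h : t ∈ N[H]) (hx : x ∈ H) : t * x * t ∈ H := by
  have := H24.conj_mem h hx
  rwa [inv_eq_of_mul_eq_one_right ht] at this

theorem E_le_F (d : Db0 t J ι θ) (ht : t * t = 1) : EE ι ≤ FF t θ := by
  rintro _ ⟨u, hu, rfl⟩
  rw [← d.dg u hu]
  exact mul_mem (th_mem d hu) (tcj ht (tF ht) (th_mem d hu))

theorem F_abl (d : Db0 t J ι θ) (ht : t * t = 1) : FF t θ ≤ C[FF t θ] :=
  le_C_iff.2 fun _ ha _ hb => (d.elem ht ha hb).2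

theorem F_two (d : Db0 t J ι θ) (ht : t * t = 1) : IsPGroup 2 (FF t θ) :=
  pg_of_te fun _ ha => ⟨1, a_sq (d.elem ht ha ha).1⟩

theorem act (d : Db0 t J ι θ) (m : Md t K J ι) (c : In n t K J) (s : SS) {u v : SS} (hu : u ∈ E₀)
    (hv : v ∈ E₀) : ι s * (θ u * (t * θ v * t)) * (ι s)⁻¹ =
      θ (s * u * s⁻¹) * (t * θ (s * v * s⁻¹) * t) := by
  rw [← d.eqv s u hu, ← d.eqv s v hv]
  have h1 := m.ct c s
  have h2 := m.ct c s⁻¹
  rw [map_inv] at h2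
  calc ι s * (θ u * (t * θ v * t)) * (ι s)⁻¹
      = ι s * θ u * (ι s)⁻¹ * ((ι s * t) * θ v * (t * (ι s)⁻¹)) := by group
    _ = _ := by rw [← h1, h2]; group

theorem cjE (s : SS) {u : SS} (hu : u ∈ E₀) : s * u * s⁻¹ ∈ E₀ := by
  revert s u; decide +kernel

theorem S_nF (d : Db0 t J ι θ) (m : Md t K J ι) (c : In n t K J) : ι.range ≤ N[FF t θ] := by
  rintro _ ⟨s, rfl⟩
  refine mem_N_of_finite fun x hx => ?_
  obtain ⟨u, hu, v, hv, rfl⟩ := (d.mem_F (tt c)).1 hx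
  rw [act d m c s hu hv]
  exact (d.mem_F (tt c)).2 ⟨_, cjE s hu, _, cjE s hv, rfl⟩

theorem prodF (d : Db0 t J ι θ) (ht : t * t = 1) {u v u' v' : SS} (hu : u ∈ E₀) (hv : v ∈ E₀)
    (hu' : u' ∈ E₀) (hv' : v' ∈ E₀) : θ u * (t * θ v * t) * (θ u' * (t * θ v' * t)) =
      θ (u * u') * (t * θ (v * v') * t) := by
  rw [d.mul u hu u' hu', d.mul v hv v' hv']
  calc θ u * (t * θ v * t) * (θ u' * (t * θ v' * t))
      = θ u * ((t * θ v * t) * θ u') * (t * θ v' * t) := by group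
    _ = θ u * θ u' * (t * θ v * (t * t) * θ v' * t) := by rw [← d.cm u' hu' v hv]; group
    _ = _ := by rw [ht]; group

theorem uqF (d : Db0 t J ι θ) (m : Md t K J ι) (c : In n t K J) {u v u' v' : SS} (hu : u ∈ E₀)
    (hv : v ∈ E₀) (hu' : u' ∈ E₀) (hv' : v' ∈ E₀)
    (h : θ u * (t * θ v * t) = θ u' * (t * θ v' * t)) : u = u' ∧ v = v' := by
  have ht := tt c
  have h1 : θ (u * u') * (t * θ (v * v') * t) = 1 := by
    rw [← prodF d ht hu hv hu' hv', h]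
    have := (d.mem_F ht).2 ⟨u', hu', v', hv', rfl⟩
    exact (d.elem ht this this).1
  have h2 : θ (u * u') = t * θ (v * v') * t := by
    have h3 := tcj ht (tF ht) (th_mem d (mul_mem hv hv'))
    rw [eq_inv_of_mul_eq_one_left h1, inv_eq_of_mul_eq_one_right (d.elem ht h3 h3).1]
  obtain ⟨e1, e2⟩ := d.inj m c (mul_mem hu hu') (mul_mem hv hv') h2
  have key : ∀ u ∈ E₀, ∀ u' ∈ E₀, u * u' = 1 → u = u' := by decide +kernel
  exact ⟨key u hu u' hu' e1, key v hv v' hv' e2⟩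

theorem mem_E' : x ∈ EE (ι.comp sw) ↔ ∃ α ∈ E₁, ι α = x := by
  rw [EE, ← map_map, map_sw₀]; rfl

/-- `F₁ = C_F(E')` -/
theorem mem_F1 (d : Db0 t J ι θ) (m : Md t K J ι) (c : In n t K J) :
    x ∈ FF t θ ⊓ C[EE (ι.comp sw)] ↔ ∃ u ∈ Z₀, ∃ v ∈ Z₀, x = θ u * (t * θ v * t) := by
  have ht := tt c
  constructor
  · rintro ⟨h1, h2⟩
    obtain ⟨u, hu, v, hv, rfl⟩ := (d.mem_F ht).1 h1
    have key : ∀ α ∈ E₁, α * u * α⁻¹ = u ∧ α * v * α⁻¹ = v := fun α hα => by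
      refine uqF d m c (cjE α hu) (cjE α hv) hu hv ?_
      rw [← act d m c α hu hv, mem_C.1 h2 _ (mem_E'.2 ⟨α, hα, rfl⟩), mul_inv_cancel_right]
    have kz : ∀ u ∈ E₀, eS' * u * eS'⁻¹ = u → wS' * u * wS'⁻¹ = u → u ∈ Z₀ := by decide +kernel
    have h3 := key eS' (by decide)
    have h4 := key wS' (by decide)
    exact ⟨u, kz u hu h3.1 h4.1, v, kz v hv h3.2 h4.2, rfl⟩
  · rintro ⟨u, hu, v, hv, rfl⟩
    refine ⟨(d.mem_F ht).2 ⟨u, hu.1, v, hv.1, rfl⟩, mem_C.2 fun h hh => ?_⟩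
    obtain ⟨α, hα, rfl⟩ := mem_E'.1 hh
    have kz : ∀ u ∈ Z₀, ∀ α ∈ E₁, α * u * α⁻¹ = u := by decide +kernel
    have := act d m c α hu.1 hv.1
    rw [kz u hu α hα, kz v hv α hα] at this
    exact mul_inv_eq_iff_eq_mul.1 this

/-- `[F, E'] ≤ F₁` -/
theorem comm_E' (d : Db0 t J ι θ) (m : Md t K J ι) (c : In n t K J) (hx : x ∈ FF t θ) {α : SS}
    (hα : α ∈ E₁) : ∃ u ∈ Z₀, ∃ v ∈ Z₀, x * ι α * x⁻¹ = ι α * (θ u * (t * θ v * t)) := by
  have ht := tt c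
  have hi : x⁻¹ = x := inv_eq_of_mul_eq_one_right (d.elem ht hx hx).1
  obtain ⟨u, hu, v, hv, e⟩ := (d.mem_F ht).1 hx
  have kz : ∀ u ∈ E₀, ∀ α ∈ E₁, α⁻¹ * u * α⁻¹⁻¹ * u ∈ Z₀ := by decide +kernel
  refine ⟨_, kz u hu α hα, _, kz v hv α hα, ?_⟩
  rw [← prodF d ht (cjE _ hu) (cjE _ hv) hu hv, ← act d m c _ hu hv, ← e, hi, map_inv]
  group

theorem not_ct (d : Db0 t J ι θ) (m : Md t K J ι) (c : In n t K J) (h : t * θ zS = θ zS * t) :
    False := by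
  have ht := tt c
  have hz : zS ∈ E₀ := by decide
  have h1 := d.dg zS hz
  rw [h, mul_assoc, ht, mul_one, (d.elem ht (th_mem d hz) (th_mem d hz)).1, ← map_one ι] at h1
  exact absurd (m.inj h1) (by decide)

theorem S_nV (m : Md t K J ι) (c : In n t K J) : ι.range ≤ N[VV t ι] := by
  refine norm_sup (norm_zpowers_of_cent ?_) ?_
  · rintro _ ⟨s, rfl⟩; exact H24.mem_C1.2 (m.ct c s).symm
  · rintro _ ⟨s, rfl⟩
    refine mem_N_of_finite ?_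
    rintro _ ⟨u, hu, rfl⟩
    exact ⟨_, cjE s hu, by simp⟩

theorem S_nE (ι : SS →* G) : ι.range ≤ N[EE ι] := by
  rintro _ ⟨s, rfl⟩
  refine mem_N_of_finite ?_
  rintro _ ⟨u, hu, rfl⟩
  exact ⟨_, cjE s hu, by simp⟩

theorem t_cS (m : Md t K J ι) (c : In n t K J) : t ∈ C[ι.range] :=
  mem_C'.2 (by rintro _ ⟨s, rfl⟩; exact m.ct c s)

theorem range_sw (ι : SS →* G) : (ι.comp sw).range = ι.range := by
  ext x; constructor
  · rintro ⟨s, rfl⟩; exact ⟨_, rfl⟩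
  · rintro ⟨s, rfl⟩; exact ⟨sw s, by simp [sw_sw]⟩

theorem E_abl (ι : SS →* G) : EE ι ≤ C[EE ι] := by
  refine le_C_iff.2 ?_
  rintro _ ⟨u, hu, rfl⟩ _ ⟨v, hv, rfl⟩
  have key : ∀ u ∈ E₀, ∀ v ∈ E₀, u * v = v * u := by decide +kernel
  rw [← map_mul, ← map_mul, key u hu v hv]

end NDTx

open NDTx

/-! ### NDT -/
theorem Cx.tower (X : Cx n t K J K' J' ι) {θ : SS → G} (d : Db t J ι θ) : ∃ x, Tw t J ι θ x := by
  have m := X.m
  have ms := X.ms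
  have c := X.c
  have d0 := d.toDb0
  have ht := tt c
  have hz : zS ∈ Z₀ := by decide
  obtain ⟨F1, hF1⟩ : ∃ F1, F1 = FF t θ ⊓ C[EE (ι.comp ND.sw)] := ⟨_, rfl⟩
  have mF1 : ∀ {x}, x ∈ F1 ↔ ∃ u ∈ Z₀, ∃ v ∈ Z₀, x = θ u * (t * θ v * t) := fun {x} => by
    rw [hF1]; exact mem_F1 d0 m c
  have F1F : F1 ≤ FF t θ := hF1 ▸ inf_le_left
  have F1C : F1 ≤ C[EE (ι.comp ND.sw)] := hF1 ▸ inf_le_right
  have thF1 : ∀ u ∈ Z₀, θ u ∈ F1 := fun u hu =>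
    mF1.2 ⟨u, hu, 1, one_mem _, by rw [th_one d0, mul_one, ht, mul_one]⟩
  have ES : EE ι ≤ ι.range := map_le_range _ _
  have E'S : EE (ι.comp ND.sw) ≤ ι.range := range_sw ι ▸ map_le_range _ _
  have SE' : ι.range ≤ N[EE (ι.comp ND.sw)] := range_sw ι ▸ S_nE _
  have SF1 : ι.range ≤ N[F1] := hF1 ▸ norm_inf (S_nF d0 m c) (norm_C SE')
  have tE : zpowers t ≤ C[EE ι] := zpowers_le.2 (C_anti ES (t_cS m c))
  have tE' : zpowers t ≤ C[EE (ι.comp ND.sw)] := zpowers_le.2 (C_anti E'S (t_cS m c))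
  have tF1 : zpowers t ≤ N[F1] :=
    hF1 ▸ norm_inf (zpowers_le.2 (tF ht)) (norm_C (norm_of_cent tE'))
  obtain ⟨M, hM⟩ : ∃ M, M = N[(EE ι ⊔ F1 : Subgroup G)] ⊓ N[(EE (ι.comp ND.sw) ⊔ F1 : Subgroup G)] :=
    ⟨_, rfl⟩
  have F0F : EE ι ⊔ F1 ≤ FF t θ := sup_le (E_le_F d0 ht) F1F
  have FM : FF t θ ≤ M := by
    rw [hM]
    refine le_inf (norm_of_cent (cents_of_le (F_abl d0 ht) F0F)) fun f hf => mem_N_of_cj_le ?_
    rw [cj_sup]
    refine sup_le ?_ ?_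
    · intro y hy
      obtain ⟨y, hy', rfl⟩ := mem_cj'.1 hy
      obtain ⟨α, hα, rfl⟩ := mem_E'.1 hy'
      obtain ⟨u, hu, v, hv, e⟩ := comm_E' d0 m c hf hα
      rw [e]
      exact mul_mem (mem_sup_left hy') (mem_sup_right (mF1.2 ⟨u, hu, v, hv, rfl⟩))
    · rw [cj_of_mem_C (cents_of_le (F_abl d0 ht) F1F hf)]; exact le_sup_right
  have SM : ι.range ≤ M := hM ▸ le_inf (norm_sup (S_nE ι) SF1) (norm_sup SE' SF1)
  have tM : zpowers t ≤ M :=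
    hM ▸ le_inf (norm_sup (norm_of_cent tE) tF1) (norm_sup (norm_of_cent tE') tF1)
  have pt : IsPGroup 2 (zpowers t) := IsPGroup.of_card (n := 1) (by rw [Nat.card_zpowers, c.iv]; rfl)
  have p0 : IsPGroup 2 ↥(FF t θ ⊔ ι.range ⊔ zpowers t) :=
    pg_sup (pg_sup (F_two d0 ht) (pg_range ι) (S_nF d0 m c)) pt
      (norm_sup (zpowers_le.2 (tF ht)) (norm_of_cent (zpowers_le.2 (t_cS m c))))
  obtain ⟨T, hT, hle⟩ := mx_ex p0 (sup_le (sup_le FM SM) tM)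
  have FT : FF t θ ≤ T := le_sup_left.trans (le_sup_left.trans hle)
  have ST : ι.range ≤ T := le_sup_right.trans (le_sup_left.trans hle)
  have tT : zpowers t ≤ T := le_sup_right.trans hle
  have TN0 : T ≤ N[(EE ι ⊔ F1 : Subgroup G)] := hT.2.1.trans (hM ▸ inf_le_left)
  have MN0' : M ≤ N[(EE (ι.comp ND.sw) ⊔ F1 : Subgroup G)] := hM ▸ inf_le_right
  -- `T ∩ C(F₀) = F`
  have hDF : T ⊓ C[(EE ι ⊔ F1 : Subgroup G)] = FF t θ := by
    refine le_antisymm (fun y hy => ?_) (le_inf FT (cents_of_le (F_abl d0 ht) F0F))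
    have p1 : IsPGroup 2 ↥(T ⊓ C[(EE ι ⊔ F1 : Subgroup G)] ⊔ zpowers t) :=
      hT.1.to_le (sup_le inf_le_left tT)
    have FD : FF t θ ≤ T ⊓ C[(EE ι ⊔ F1 : Subgroup G)] := le_inf FT (cents_of_le (F_abl d0 ht) F0F)
    have h2 : T ⊓ C[(EE ι ⊔ F1 : Subgroup G)] ⊔ zpowers t ≤ C[EE ι] :=
      sup_le (inf_le_right.trans (C_anti le_sup_left)) tE
    have h1 := d0.syl m c p1 (sup_le le_sup_right (((E_le_F d0 ht).trans FD).trans le_sup_left)) h2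
    have h3 := ((d0.qs m c).mx m c).2.2 _ p1 (le_inf h1 h2) (sup_le_sup_right FD _)
    rcases (d0.mem_Q ht).1 (h3 (mem_sup_left hy)) with h | h
    · exact h
    · exfalso
      have e1 : y * t * θ zS = θ zS * (y * t) := (d0.elem ht h (th_mem d0 hz.1)).2
      have e2 : θ zS * y = y * θ zS := mem_C.1 hy.2 _ (mem_sup_right (thF1 _ hz))
      refine not_ct d0 m c (mul_left_cancel (a := y) ?_)
      rw [← mul_assoc, e1, ← mul_assoc, e2, mul_assoc]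
  have TF : T ≤ N[FF t θ] := hDF ▸ norm_inf (norm_self T) (norm_C TN0)
  -- the second doubling
  obtain ⟨D', hD'⟩ : ∃ D', D' = T ⊓ C[(EE (ι.comp ND.sw) ⊔ F1 : Subgroup G)] := ⟨_, rfl⟩
  have D'T : D' ≤ T := hD' ▸ inf_le_left
  have D'C : D' ≤ C[(EE (ι.comp ND.sw) ⊔ F1 : Subgroup G)] := hD' ▸ inf_le_right
  have D'E : D' ≤ C[EE (ι.comp ND.sw)] := D'C.trans (C_anti le_sup_left)
  have E'D : EE (ι.comp ND.sw) ≤ D' :=
    hD' ▸ le_inf (E'S.trans ST) (cents_sup (E_abl _) (cents_symm F1C))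
  have F1D : F1 ≤ D' :=
    hD' ▸ le_inf (F1F.trans FT) (cents_sup F1C (F1F.trans (cents_of_le (F_abl d0 ht) F1F)))
  obtain ⟨θ'', d'', -, -⟩ := X.sw.exists_db (pg_range _) (S_nV ms c) le_rfl
  have h1 := d''.toDb0.syl ms c (D := D' ⊔ zpowers t) (hT.1.to_le (sup_le D'T tT))
    (sup_le le_sup_right (E'D.trans le_sup_left)) (sup_le D'E tE')
  obtain ⟨θ', d', -, hQ⟩ := X.sw.exists_db (R := D' ⊔ zpowers t ⊔ ι.range)
    (hT.1.to_le (sup_le (sup_le D'T tT) ST)) (sup_le h1 (range_sw ι ▸ S_nV ms c))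
    (range_sw ι ▸ le_sup_right)
  have d1 := d'.toDb0
  have D'Q : D' ≤ FF t θ' ⊔ zpowers t :=
    (le_inf (le_sup_left.trans le_sup_left) D'E).trans hQ
  have F1F' : F1 ≤ FF t θ' := fun y hy => by
    rcases d1.inv_Q ms c (D'Q (F1D hy)) (d0.elem ht (F1F hy) (F1F hy)).1 with h | h
    · exact h
    · obtain ⟨e, he, h | h⟩ := (ms.mem_VV c).1 h
      · exact E_le_F d1 ht ⟨e, he, h.symm⟩
      · exfalso
        have e1 : y * θ zS = θ zS * y := (d0.elem ht (F1F hy) (th_mem d0 hz.1)).2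
        have e2 : (ι.comp ND.sw) e * θ zS = θ zS * (ι.comp ND.sw) e :=
          mem_C.1 (F1C (thF1 _ hz)) _ ⟨e, he, rfl⟩
        refine not_ct d0 m c (mul_right_cancel (b := (ι.comp ND.sw) e) ?_)
        rw [mul_assoc, ← e2, ← mul_assoc, ← h, e1, h, mul_assoc]
  have D'F' : D' ≤ FF t θ' := fun y hy => by
    rcases (d1.mem_Q ht).1 (D'Q hy) with h | h
    · exact h
    · exfalso
      have e1 : y * t * θ zS = θ zS * (y * t) := (d1.elem ht h (F1F' (thF1 _ hz))).2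
      have e2 : θ zS * y = y * θ zS := mem_C.1 (D'C hy) _ (mem_sup_right (thF1 _ hz))
      refine not_ct d0 m c (mul_left_cancel (a := y) ?_)
      rw [← mul_assoc, e1, ← mul_assoc, e2, mul_assoc]
  have th'F1 : ∀ u ∈ Z₀, θ' u ∈ F1 := fun u hu => by
    by_cases h1 : u = 1
    · rw [h1, th_one d1]; exact one_mem _
    have kz : ∀ u ∈ Z₀, u ≠ 1 → ND.sw u ∈ Z₀ ∧ ND.sw u ≠ 1 ∧ ND.sw u * ND.sw u = 1 := by decide +kernel
    obtain ⟨k1, k2, k3⟩ := kz u hu h1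
    have s1 : Sp t J (ι (ND.sw u)) (θ (ND.sw u)) := d0.spec k1.1 k2
    have s2 : Sp t J (ι (ND.sw u)) (θ' u) := d1.spec hu.1 h1
    have hp := mul_mem (F1F' (thF1 _ k1)) (th_mem d1 hu.1)
    rcases s1.uniq s2 c (m.memK c _) (m.ord k3 k2) ⟨1, a_sq (d1.elem ht hp hp).1⟩ with h | h
    · rw [h]; exact thF1 _ k1
    · rw [h, ← d0.dg _ k1.1]
      exact mul_mem (thF1 _ k1) (mF1.2 ⟨_, k1, _, k1, rfl⟩)
  have F'C : FF t θ' ≤ C[(EE (ι.comp ND.sw) ⊔ F1 : Subgroup G)] :=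
    cents_of_le (F_abl d1 ht) (sup_le (E_le_F d1 ht) F1F')
  have F'M : FF t θ' ≤ M := by
    rw [hM]
    refine le_inf (fun f hf => mem_N_of_cj_le ?_) (norm_of_cent F'C)
    rw [cj_sup]
    refine sup_le ?_ ?_
    · intro y hy
      obtain ⟨y, ⟨α, hα, rfl⟩, rfl⟩ := mem_cj'.1 hy
      have kz : ∀ α ∈ E₀, ND.sw α ∈ E₁ := by decide +kernel
      obtain ⟨u, hu, v, hv, e⟩ := comm_E' d1 ms c hf (kz α hα)
      have e0 : (ι.comp ND.sw) (ND.sw α) = ι α := congrArg ι (sw_sw α)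
      rw [e0] at e
      rw [e]
      exact mul_mem (mem_sup_left ⟨α, hα, rfl⟩) (mem_sup_right (mul_mem (th'F1 u hu)
        (tcj ht (tF1 (mem_zpowers t)) (th'F1 v hv))))
    · rw [cj_of_mem_C (cents_of_le (F_abl d1 ht) F1F' hf)]; exact le_sup_right
  have F'T : FF t θ' ≤ T := by
    have hI := hT.inf (D := M ⊓ C[(EE (ι.comp ND.sw) ⊔ F1 : Subgroup G)]) inf_le_left
      (norm_inf (norm_self M) (norm_C MN0'))
    refine (hI.2.2 _ (F_two d1 ht) (le_inf F'M F'C) fun y hy => D'F' ?_).trans inf_le_left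
    rw [hD']; exact ⟨hy.1, hy.2.2⟩
  have hDF' : D' = FF t θ' := le_antisymm D'F' (hD' ▸ le_inf F'T F'C)
  have TF' : T ≤ N[FF t θ'] := by
    rw [← hDF', hD']; exact norm_inf (norm_self T) (norm_C (hT.2.1.trans MN0'))
  have he : eS ∈ E₀ := by decide
  have xF' : θ' eS ∈ FF t θ' := th_mem d1 he
  have xx : θ' eS * θ' eS = 1 := (d1.elem ht xF' xF').1
  refine ⟨θ' eS, ?_, TF (F'T xF'), fun a ha => (d1.elem ht xF' (F1F' (thF1 a ha))).2, fun a ha => ?_, ?_,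
    hT.1.to_le (sup_le hle (zpowers_le.2 (F'T xF')))⟩
  · have := d1.spec he (by decide)
    have e0 : (ι.comp ND.sw) eS = ι eS' := congrArg ι (by decide)
    rwa [e0] at this
  · have aF := th_mem d0 ha
    have w1 : θ' eS * θ a * (θ' eS)⁻¹ * (θ a)⁻¹ ∈ FF t θ :=
      mul_mem (H24.conj_mem (TF (F'T xF')) aF) (inv_mem aF)
    have w2 : θ' eS * θ a * (θ' eS)⁻¹ * (θ a)⁻¹ ∈ FF t θ' := by
      have := mul_mem xF' (H24.conj_mem (TF' (FT aF)) (inv_mem xF'))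
      convert this using 1; group
    have w3 : θ' eS * θ a * (θ' eS)⁻¹ * (θ a)⁻¹ ∈ F1 :=
      hF1 ▸ ⟨w1, cents_of_le (F_abl d1 ht) (E_le_F d1 ht) w2⟩
    obtain ⟨u, hu, v, hv, e⟩ := mF1.1 w3
    refine ⟨u, hu, v, hv, ?_⟩
    rw [inv_eq_of_mul_eq_one_right xx, mul_inv_eq_iff_eq_mul] at e
    rw [e, ← (d0.elem ht aF ((d0.mem_F ht).2 ⟨u, hu.1, v, hv.1, rfl⟩)).2, d0.mul a ha u hu.1,
      mul_assoc (θ a)]
  · have := d1.eqv σS eS he
    have e0 : (ι.comp ND.sw) σS = ι σS := congrArg ι (by decide)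
    have e1 : σS * eS * σS⁻¹ = eS := by decide
    rw [e0, e1] at this
    exact (mul_inv_eq_iff_eq_mul.1 this).symm


end H28.ND
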