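import Mathlib
import Cfsg.Agent.H28.ND0
import Cfsg.Agent.H28.NDE

set_option autoImplicit false
set_option linter.unusedSectionVars false

namespace H28.ND

open Subgroup Equiv Equiv.Perm Cfsg H24 H23 H25.LB H5.Ly H20.So
open scoped commutatorElement

variable {G : Type*} [Group G] [Finite G] {n : ℕ} {t x y g k a b : G}
  {K K' L H D Q Q' R T P : Subgroup G} {J J' : G → Subgroup G} {ι : SS →* G}

namespace NDXx

variable {θ : SS → G} {f f' : SS × SS → SS × SS} {p q : SS × SS} {u : SS} {s : G}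

/-- the element `θ a · (θ b)ᵗ` of `F` -/
def ev (t : G) (θ : SS → G) (p : SS × SS) : G := θ p.1 * (t * θ p.2 * t)
/-- coordinates in `E₀ × E₀` -/
abbrev P2 (p : SS × SS) : Prop := p.1 ∈ E₀ ∧ p.2 ∈ E₀
/-- the action on `F` -/
def Ac (t : G) (θ : SS → G) (g : G) (f : SS × SS → SS × SS) : Prop :=
  ∀ a ∈ E₀, ∀ b ∈ E₀, P2 (f (a, b)) ∧ g * ev t θ (a, b) * g⁻¹ = ev t θ (f (a, b))
/-- the action on `E₁` -/
def Hf (t : G) (θ : SS → G) (g : G) (f : SS → SS × SS) : Prop :=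
  ∀ a ∈ E₀, P2 (f a) ∧ g * θ a * g⁻¹ = ev t θ (f a)
/-- the commutator map -/
def mm (u a : SS) : SS := u * a * u⁻¹ * a
/-- a linear map `E₀/Z₀ → Z₀` -/
def lin (p q a : SS) : SS := (bif a.a0 then p else 1) * (bif a.a1 then q else 1)
/-- a 3-cycle on `Z₀` -/
def rot (c : SS) : SS := (bif c.c0 then zS * ζS else 1) * (bif c.c1 then zS else 1)

theorem ev_mul (d : Db0 t J ι θ) (ht : t * t = 1) (hp : P2 p) (hq : P2 q) :
    ev t θ p * ev t θ q = ev t θ (p * q) := by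
  simp only [ev, Prod.fst_mul, Prod.snd_mul]
  rw [d.mul _ hp.1 _ hq.1, d.mul _ hp.2 _ hq.2, tt_mul ht, mul_assoc, ← mul_assoc (t * _ * t),
    ← d.cm _ hq.1 _ hp.2]
  simp only [mul_assoc]

theorem ev_F (d : Db0 t J ι θ) (ht : t * t = 1) (hp : P2 p) : ev t θ p ∈ FF t θ :=
  (d.mem_F ht).2 ⟨_, hp.1, _, hp.2, rfl⟩

theorem ev_t (d : Db0 t J ι θ) (ht : t * t = 1) (hp : P2 p) : t * ev t θ p * t = ev t θ p.swap := by
  rw [ev, tt_mul ht, tt_tt ht, ← d.cm _ hp.2 _ hp.1]; rfl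

theorem ev1 (d : Db0 t J ι θ) (ht : t * t = 1) (a : SS) : ev t θ (a, 1) = θ a := by
  rw [ev, d.one, mul_one, ht, mul_one]

theorem ev_cj (ht : g ∈ C{t}) (p : SS × SS) :
    g * ev t θ p * g⁻¹ = g * θ p.1 * g⁻¹ * (t * (g * θ p.2 * g⁻¹) * t) := by
  have e := mem_C1_iff_conj.1 ht
  calc _ = g * θ p.1 * g⁻¹ * (g * t * g⁻¹ * (g * θ p.2 * g⁻¹) * (g * t * g⁻¹)) := by rw [ev]; group
    _ = _ := by rw [e]

theorem Ac.mul (h : Ac t θ g f) (h' : Ac t θ k f') : Ac t θ (g * k) (f ∘ f') := fun a ha b hb => by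
  obtain ⟨h1, h2⟩ := h' a ha b hb
  obtain ⟨h3, h4⟩ := h _ h1.1 _ h1.2
  refine ⟨h3, ?_⟩
  rw [show g * k * ev t θ (a, b) * (g * k)⁻¹ = g * (k * ev t θ (a, b) * k⁻¹) * g⁻¹ by group, h2]
  exact h4

theorem Ac.congr (h : Ac t θ g f) (e : ∀ a ∈ E₀, ∀ b ∈ E₀, f (a, b) = f' (a, b)) : Ac t θ g f' :=
  fun a ha b hb => e a ha b hb ▸ h a ha b hb

theorem Ac.nF (h : Ac t θ g f) (d : Db0 t J ι θ) (ht : t * t = 1) : g ∈ N[FF t θ] :=
  mem_N_of_finite fun x hx => by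
    obtain ⟨a, ha, b, hb, rfl⟩ := (d.mem_F ht).1 hx
    exact (h a ha b hb).2 ▸ ev_F d ht (h a ha b hb).1

theorem ac_t (d : Db0 t J ι θ) (ht : t * t = 1) : Ac t θ t Prod.swap := fun a ha b hb =>
  ⟨⟨hb, ha⟩, by rw [iv_inv ht, ev_t d ht ⟨ha, hb⟩]⟩

theorem ac_ι (d : Db0 t J ι θ) (m : Md t K J ι) (c : In n t K J) (u : SS) :
    Ac t θ (ι u) (fun p => (u * p.1 * u⁻¹, u * p.2 * u⁻¹)) := fun a ha b hb =>
  ⟨⟨e0_conj u a ha, e0_conj u b hb⟩, by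
    rw [ev_cj (H24.mem_C1.2 (m.ct c u).symm), d.eqv u a ha, d.eqv u b hb]; rfl⟩

theorem Hf.full {f : SS → SS × SS} (h : Hf t θ x f) (d : Db0 t J ι θ) (ht : t * t = 1)
    (e : t * x * t = x * s) (hs : ∀ b ∈ E₀, s * θ b * s⁻¹ = θ (u * b * u⁻¹)) :
    Ac t θ x (fun p => f p.1 * (f (u * p.2 * u⁻¹)).swap) := fun a ha b hb => by
  obtain ⟨h1, h2⟩ := h a ha
  obtain ⟨h3, h4⟩ := h _ (e0_conj u b hb)
  refine ⟨⟨mul_mem h1.1 h3.2, mul_mem h1.2 h3.1⟩, ?_⟩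
  rw [← ev_mul d ht h1 ⟨h3.2, h3.1⟩, ← ev_t d ht h3, ← h2, ← h4, ← hs b hb]
  have e1 : x = t * (x * s) * t := by rw [← e, tt_tt ht]
  calc _ = x * θ a * x⁻¹ * (x * (t * θ b * t) * x⁻¹) := by rw [ev]; group
    _ = x * θ a * x⁻¹ * (t * (x * s) * t * (t * θ b * t) * (t * (x * s) * t)⁻¹) := by rw [← e1]
    _ = x * θ a * x⁻¹ * (t * (x * s) * (t * t) * θ b * (x * s)⁻¹ * t⁻¹) := by group
    _ = _ := by rw [ht, iv_inv ht]; group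

theorem Hf.eqv {f : SS → SS × SS} (h : Hf t θ x f) (d : Db0 t J ι θ) (m : Md t K J ι) (c : In n t K J)
    (hg : g ∈ C{t}) (e : ∀ v ∈ FF t θ, g * (x * v * x⁻¹) * g⁻¹ = x * (g * v * g⁻¹) * x⁻¹) {a a' : SS}
    (ha : a ∈ E₀) (ha' : a' ∈ E₀) (hp : P2 p) (e0 : g * θ a * g⁻¹ = θ a')
    (e1 : g * θ (f a).1 * g⁻¹ = θ p.1) (e2 : g * θ (f a).2 * g⁻¹ = θ p.2) : f a' = p := by
  have := e _ (d.θF ha)
  rw [(h a ha).2, e0, (h a' ha').2, ev_cj hg, e1, e2] at this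
  obtain ⟨h1, h2⟩ := d.uq m c hp.1 hp.2 (h a' ha').1.1 (h a' ha').1.2 this
  exact Prod.ext h1.symm h2.symm

theorem e'2 : eS' * eS' = 1 := by decide
theorem Z_le : ∀ a ∈ Z₀, a ∈ E₀ := fun _ h => h.1

theorem tx (w : Tw t J ι θ x) (m : Md t K J ι) (c : In n t K J) :
    x * ι eS' = ι eS' * x ∧ t * x * t = x * ι eS' ∧ x * t * x = t * ι eS' :=
  w.sp.comm c (m.memK c _) (m.ord e'2 (by decide))

theorem act (w : Tw t J ι θ x) (d : Db0 t J ι θ) (ht : t * t = 1) :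
    ∃ p1 ∈ Z₀, ∃ p2 ∈ Z₀, ∃ q1 ∈ Z₀, ∃ q2 ∈ Z₀, Hf t θ x (fun a => (a * lin p1 p2 a, lin q1 q2 a)) := by
  obtain ⟨p1, h1, q1, h2, e1⟩ := w.cm eS (by decide)
  obtain ⟨p2, h3, q2, h4, e2⟩ := w.cm wS (by decide)
  have d1 : ∀ p ∈ Z₀, ∀ q ∈ Z₀, lin p q eS = p ∧ lin p q wS = q ∧ (∀ a ∈ Z₀, lin p q a = 1) ∧
      (∀ a ∈ E₀, lin p q a ∈ Z₀) ∧ ∀ a ∈ E₀, ∀ b ∈ E₀, lin p q (a * b) = lin p q a * lin p q b ∧
        a * b * lin p q (a * b) = a * lin p q a * (b * lin p q b) := by decide +kernel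
  have d2 : ∀ a ∈ E₀, ∃ b ∈ Z₀, a = b ∨ a = eS * b ∨ a = wS * b ∨ a = eS * (wS * b) := by
    decide +kernel
  obtain ⟨a1, a2, a3, a4, a5⟩ := d1 p1 h1 p2 h3
  obtain ⟨b1, b2, b3, b4, b5⟩ := d1 q1 h2 q2 h4
  have P : ∀ a ∈ E₀, P2 (a * lin p1 p2 a, lin q1 q2 a) := fun a ha =>
    ⟨mul_mem ha (a4 a ha).1, (b4 a ha).1⟩
  have mul : ∀ a ∈ E₀, ∀ b ∈ E₀, x * θ a * x⁻¹ = ev t θ (a * lin p1 p2 a, lin q1 q2 a) →
      x * θ b * x⁻¹ = ev t θ (b * lin p1 p2 b, lin q1 q2 b) →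
      x * θ (a * b) * x⁻¹ = ev t θ (a * b * lin p1 p2 (a * b), lin q1 q2 (a * b)) :=
    fun a ha b hb e1 e2 => by
      rw [(a5 a ha b hb).2, (b5 a ha b hb).1, ← Prod.mk_mul_mk, ← ev_mul d ht (P a ha) (P b hb), ← e1, ← e2,
        d.mul a ha b hb]
      group
  have he : x * θ eS * x⁻¹ = ev t θ (eS * lin p1 p2 eS, lin q1 q2 eS) := by
    rw [iv_inv w.sp.2.1, e1, a1, b1]; rfl
  have hw : x * θ wS * x⁻¹ = ev t θ (wS * lin p1 p2 wS, lin q1 q2 wS) := by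
    rw [iv_inv w.sp.2.1, e2, a2, b2]; rfl
  refine ⟨p1, h1, p2, h3, q1, h2, q2, h4, fun a ha => ⟨P a ha, ?_⟩⟩
  obtain ⟨b, hb, e⟩ := d2 a ha
  have hb' : x * θ b * x⁻¹ = ev t θ (b * lin p1 p2 b, lin q1 q2 b) := by
    rw [a3 b hb, b3 b hb, mul_one, ev1 d ht, w.c1 b hb, mul_inv_cancel_right]
  rcases e with rfl | rfl | rfl | rfl
  exacts [hb', mul _ (by decide) _ hb.1 he hb', mul _ (by decide) _ hb.1 hw hb',
    mul _ (by decide) _ (mul_mem (by decide) hb.1) he (mul _ (by decide) _ hb.1 hw hb')]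

theorem tw' (w : Tw t J ι θ x) (d : Db0 t J ι θ) (m : Md t K J ι) (c : In n t K J) :
    Tw t J ι θ (x * ι eS') := by
  have d1 : ∀ a ∈ Z₀, eS' * a * eS'⁻¹ = a := by decide +kernel
  have d2 : ∀ a ∈ E₀, ∀ b ∈ Z₀, ∃ b' ∈ Z₀, eS' * a * eS'⁻¹ * b = a * b' := by decide +kernel
  refine ⟨w.sp.mul c (m.memK c _) (m.ord e'2 (by decide)), mul_mem w.nF ((ac_ι d m c _).nF d c.tt),
    fun a ha => ?_, fun a ha => ?_, ?_, w.two.to_le (sup_le le_sup_left (zpowers_le.2 (mul_mem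
      (mem_sup_right (mem_zpowers x)) (mem_sup_left (mem_sup_left (mem_sup_right ⟨_, rfl⟩))))))⟩
  · have := d.eqv eS' a ha.1
    rw [d1 a ha, mul_inv_eq_iff_eq_mul] at this
    rw [mul_assoc, this, ← mul_assoc, w.c1 a ha, mul_assoc]
  · obtain ⟨b, hb, c', hc, e⟩ := w.cm _ (e0_conj eS' a ha)
    obtain ⟨b', hb', e1⟩ := d2 a ha b hb
    refine ⟨b', hb', c', hc, ?_⟩
    rw [← e1, ← e, ← d.eqv _ a ha, ← map_inv, iv_inv e'2]
    nth_rewrite 2 [(tx w m c).1]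
    group
  · rw [mul_assoc, ← map_mul, show eS' * σS = σS * eS' by decide, map_mul, ← mul_assoc, w.sg, mul_assoc]

/-- the element `y² ` commutes with `x` on `F` -/
theorem lemU (w : Tw t J ι θ x) (d : Db0 t J ι θ) (m : Md t K J ι) (c : In n t K J)
    (ht : y ∈ C{t}) (he : y ∈ C{ι eS'}) (hF : y ∈ N[FF t θ]) :
    ∃ b ∈ C[FF t θ], y * x * y⁻¹ = b * x ∨ y * x * y⁻¹ = ι eS' * (b * x) := by
  obtain ⟨p1, h1, p2, h2, q1, h3, q2, h4, hf⟩ := act w d c.tt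
  have hA := hf.full d c.tt (tx w m c).2.1 (d.eqv eS')
  have eK := m.memK c eS'
  have e2 := m.ord e'2 (by decide)
  have x2 := w.sp.2.1
  have mem : ∀ a ∈ E₀, ∀ b ∈ E₀, ev t θ (a, b) ∈ C{ι eS'} ↔ a ∈ Z₀ ∧ b ∈ Z₀ := fun a ha b hb => by
    have d1 : ∀ a ∈ E₀, eS' * a * eS'⁻¹ = a ↔ a ∈ Z₀ := by decide +kernel
    rw [mem_C1_comm, mem_C1_iff_conj, (ac_ι d m c eS' a ha b hb).2, ← d1 a ha, ← d1 b hb]
    exact ⟨d.uq m c (e0_conj _ a ha) (e0_conj _ b hb) ha hb, fun h => by dsimp only; rw [h.1, h.2]⟩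
  have d2 : ∀ p ∈ Z₀, ∀ q ∈ Z₀, ∀ a ∈ E₀, lin p q a ∈ Z₀ ∧ (a ∈ Z₀ → lin p q a = 1 ∧ eS' * a * eS'⁻¹ = a) ∧
      eS' * a * eS'⁻¹ * a ∈ Z₀ ∧ ∀ b ∈ Z₀, a * b * a ∈ Z₀ := by decide +kernel
  have xc : x ∈ C[(FF t θ ⊓ C{ι eS'} : Subgroup G)] := mem_C'.2 fun v hv => by
    obtain ⟨a, ha, b, hb, rfl⟩ := (d.mem_F c.tt).1 hv.1
    obtain ⟨h5, h6⟩ := (mem a ha b hb).1 hv.2
    have := (hA a ha b hb).2
    simp only [((d2 _ h1 _ h2 b hb).2.1 h6).2, ((d2 _ h1 _ h2 a ha).2.1 h5).1, ((d2 _ h1 _ h2 b hb).2.1 h6).1,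
      ((d2 _ h3 _ h4 a ha).2.1 h5).1, ((d2 _ h3 _ h4 b hb).2.1 h6).1, Prod.swap_prod_mk, Prod.mk_mul_mk,
      mul_one, one_mul] at this
    exact mul_inv_eq_iff_eq_mul.1 this
  have xm : ∀ v ∈ FF t θ, x * v * x⁻¹ * v⁻¹ ∈ FF t θ ⊓ C{ι eS'} := fun v hv => by
    refine mem_inf.2 ⟨mul_mem (conj_mem w.nF hv) (inv_mem hv), ?_⟩
    rw [iv_inv (d.elem c.tt hv hv).1]
    obtain ⟨a, ha, b, hb, rfl⟩ := (d.mem_F c.tt).1 hv
    obtain ⟨h5, h6⟩ := hA a ha b hb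
    have hb' := e0_conj eS' b hb
    change x * ev t θ (a, b) * x⁻¹ * ev t θ (a, b) ∈ C{ι eS'}
    rw [h6, ev_mul d c.tt h5 ⟨ha, hb⟩]
    refine (mem _ (mul_mem h5.1 ha) _ (mul_mem h5.2 hb)).2 ⟨?_, ?_⟩
    · have := (d2 _ h1 _ h2 a ha).2.2.2 _ (mul_mem (d2 _ h1 _ h2 a ha).1 (d2 _ h3 _ h4 _ hb').1)
      rwa [← mul_assoc] at this
    · have h7 := (d2 _ h1 _ h2 _ hb').1
      have := mul_mem (d2 _ h3 _ h4 a ha).1 (mul_mem h7 (d2 _ h1 _ h2 b hb).2.2.1)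
      rwa [← mul_assoc (lin p1 p2 _), e0_comm _ h7.1 _ hb', ← mul_assoc] at this
  have n1 : y ∈ N[(FF t θ ⊓ C{ι eS'} : Subgroup G)] :=
    norm_inf (zpowers_le.2 hF) (norm_C1 (zpowers_le.2 he)) (mem_zpowers y)
  have gc := conj_mem (norm_C (zpowers_le.2 n1) (mem_zpowers y)) xc
  have uc := mul_mem gc xc
  have uF := mul_mem (conj_mem (norm_self _ hF) w.nF) w.nF
  have um : ∀ v ∈ FF t θ, y * x * y⁻¹ * x * v * (y * x * y⁻¹ * x)⁻¹ * v⁻¹ ∈ FF t θ ⊓ C{ι eS'} := fun v hv => by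
    have h5 := conj_mem n1 (xm _ (conj_mem' hF hv))
    have := mul_mem (conj_mem (C_le_N _ gc) (xm v hv)) h5
    convert this using 1
    group
  have u2 : y * x * y⁻¹ * x * (y * x * y⁻¹ * x) ∈ C[FF t θ] := mem_C'.2 fun v hv => by
    generalize y * x * y⁻¹ * x = r at uc um
    have h5 := um v hv
    have h6 := mem_C'.1 uc _ h5
    have h7 := (d.elem c.tt h5.1 h5.1).1
    calc _ = r * (r * v * r⁻¹ * v⁻¹) * v * r := by group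
      _ = r * v * r⁻¹ * v⁻¹ * (r * v * r⁻¹ * v⁻¹) * v * (r * r) := by rw [h6]; group
      _ = _ := by rw [h7, one_mul]
  have sy : Sp t J (ι eS') (y * x * y⁻¹) := by
    have := w.sp.cj c eK e2 ht
    rwa [mem_C1_iff_conj.1 he] at this
  have ut : y * x * y⁻¹ * x ∈ C{t} := mem_C1_iff_conj.2 (by
    have h5 := (sy.comm c eK e2)
    rw [mul_inv_rev, iv_inv x2, iv_inv sy.2.1]
    generalize y * x * y⁻¹ = r at h5 sy
    calc _ = r * (x * t * x) * r := by group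
      _ = r * t * (ι eS' * r) := by rw [(tx w m c).2.2]; group
      _ = _ := by rw [← h5.1, ← mul_assoc, h5.2.2, mul_assoc, iv_mul e2, mul_one])
  obtain ⟨a, b, e, ha, hb, h5, h6⟩ := two_odd (y * x * y⁻¹ * x)
  have bC : b ∈ C[FF t θ] := mem_of_sq_mem h6 (by
    obtain ⟨k, rfl⟩ := mem_zpowers_iff.1 hb
    rw [← (Commute.refl _).mul_zpow]; exact zpow_mem u2 k)
  have z0 : zS ∈ E₀ := by decide
  have zm : θ zS ∈ FF t θ ⊓ C{ι eS'} := ⟨d.θF z0, by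
    rw [← ev1 d c.tt]; exact (mem _ z0 _ (one_mem _)).2 ⟨by decide, one_mem _⟩⟩
  have az := mem_C.1 (zpowers_le.2 uc ha) _ zm
  refine ⟨b, bC, ?_⟩
  rw [← mul_inv_eq_iff_eq_mul, ← mul_assoc, ← mul_inv_eq_iff_eq_mul, iv_inv x2, e]
  rcases c.cz2 eK e2 (zpowers_le.2 (mul_mem sy.1 w.sp.1) ha) (zpowers_le.2 ut ha) h5 with
    rfl | rfl | rfl | rfl
  · exact .inl (one_mul _)
  · exact absurd az (d.t_nC m c)
  · exact .inr rfl
  · rw [← mul_assoc, mul_assoc t, ← H24.mem_C1.1 zm.2, ← mul_assoc, mul_left_inj] at az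
    exact absurd az (d.t_nC m c)

theorem sm (d : Db0 t J ι θ) (m : Md t K J ι) (c : In n t K J) (hk : k ∈ C{t} ⊓ N[E1 θ]) {a b : SS}
    (ha : a ∈ E₀) (hb : b ∈ E₀) : k * ι a * k⁻¹ = ι b ↔ k * θ a * k⁻¹ = θ b := (d.act m c hk).2 a ha b hb

theorem nF_of (hk : k ∈ C{t} ⊓ N[E1 θ]) : k ∈ N[FF t θ] :=
  norm_sup (zpowers_le.2 hk.2) (zpowers_le.2 (mem_N_iff_cj.2 (by
    rw [← cj_mul, H24.mem_C1.1 hk.1, cj_mul, cj_of_mem_N hk.2]))) (mem_zpowers k)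

theorem dich (w : Tw t J ι θ x) (d : Db t J ι θ) (m : Md t K J ι) (c : In n t K J) : ∃ A B : Bool,
    Hf t θ x (fun a => (a * (bif A then mm eS' a else 1), bif B then mm eS' a else 1)) := by
  have d0 := d.toDb0
  obtain ⟨p1, h1, p2, h2, q1, h3, q2, h4, hf⟩ := act w d0 c.tt
  obtain ⟨y0, hy, y1, y2⟩ := m.exY c
  have eN := (ac_ι d0 m c eS').nF d0 c.tt
  have e2 : ι eS' * ι eS' = 1 := by rw [← map_mul, e'2, map_one]
  obtain ⟨o, ho, hN⟩ := d.lift m c ⟨hy.1.1, hy.2⟩ (t2_pg e2)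
    (zpowers_le.2 ⟨H24.mem_C1.2 (m.ct c _).symm, eN⟩) (by rw [C_zpowers]; exact hy.1.2)
  have yt : o * y0 ∈ C{t} := mul_mem ho.1.1 hy.1.1
  have ye : o * y0 ∈ C{ι eS'} := mul_mem (by have := ho.2; rwa [C_zpowers] at this) hy.1.2
  have oy : ∀ a b, b ∈ E₀ → y0 * ι a * y0⁻¹ = ι b → o * y0 * ι a * (o * y0)⁻¹ = ι b := fun a b hb e => by
    rw [show o * y0 * ι a * (o * y0)⁻¹ = o * (y0 * ι a * y0⁻¹) * o⁻¹ by group, e,
      ← mem_C.1 ho.1.2 _ (mem_map_of_mem ι hb), mul_inv_cancel_right]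
  replace y1 := oy _ _ (by decide) y1
  replace y2 := oy _ _ (by decide) y2
  generalize o * y0 = y at hN yt ye y1 y2
  have yF := nF_of ⟨yt, hN⟩
  have hg : y * y ∈ C{t} ⊓ N[E1 θ] := ⟨mul_mem yt yt, mul_mem hN hN⟩
  obtain ⟨b, hb, e⟩ := lemU w d0 m c yt ye yF
  have bb := conj_mem (norm_C le_rfl yF) hb
  obtain ⟨r, hr, er⟩ : ∃ r ∈ C[FF t θ], y * y * x * (y * y)⁻¹ = r * x := by
    rw [show y * y * x * (y * y)⁻¹ = y * (y * x * y⁻¹) * y⁻¹ by group]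
    rcases e with e | e
    · refine ⟨_, mul_mem bb hb, ?_⟩
      rw [mul_assoc _ b x, ← e]
      nth_rewrite 1 [e]
      group
    · refine ⟨_, mul_mem (conj_mem (norm_C le_rfl eN) bb) hb, ?_⟩
      rw [iv_inv e2, mul_assoc _ b, mul_assoc _ (ι eS') (b * x), ← e]
      nth_rewrite 1 [e]
      rw [← mul_assoc y, H24.mem_C1.1 ye]; group
  have eg : ∀ v ∈ FF t θ, y * y * (x * v * x⁻¹) * (y * y)⁻¹ = x * (y * y * v * (y * y)⁻¹) * x⁻¹ :=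
    fun v hv => by
      have := mem_C'.1 hr _ (conj_mem w.nF (conj_mem (mul_mem yF yF) hv))
      calc _ = y * y * x * (y * y)⁻¹ * (y * y * v * (y * y)⁻¹) * (y * y * x * (y * y)⁻¹)⁻¹ := by group
        _ = r * (x * (y * y * v * (y * y)⁻¹) * x⁻¹) * r⁻¹ := by rw [er]; group
        _ = _ := by rw [this, mul_inv_cancel_right]
  have r1 : y * y * ι zS * (y * y)⁻¹ = ι (zS * ζS) := by rw [← y2, ← y1]; group
  have r2 : y * y * ι ζS * (y * y)⁻¹ = ι zS := by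
    rw [show y * y * ι ζS * (y * y)⁻¹ = y * (y * ι ζS * y⁻¹) * y⁻¹ by group, y2, map_mul,
      show y * (ι zS * ι ζS) * y⁻¹ = y * ι zS * y⁻¹ * (y * ι ζS * y⁻¹) by group, y1, y2, ← map_mul]
    exact congrArg ι (by decide)
  have ge := mul_mem ye ye
  generalize y * y = g at hg eg r1 r2 ge
  have cm : ∀ a b a' b', g * ι a * g⁻¹ = ι a' → g * ι b * g⁻¹ = ι b' → g * ι (a * b) * g⁻¹ = ι (a' * b') :=
    fun a b a' b' e1 e2 => by rw [map_mul, map_mul, ← e1, ← e2]; group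
  have rt : ∀ a ∈ Z₀, g * ι a * g⁻¹ = ι (rot a) := fun a ha => by
    have : ∀ a ∈ Z₀, a = 1 ∧ rot a = 1 ∨ a = zS ∧ rot a = zS * ζS ∨ a = ζS ∧ rot a = zS ∨
      a = zS * ζS ∧ rot a = zS * ζS * zS := by decide +kernel
    rcases this a ha with ⟨rfl, e⟩ | ⟨rfl, e⟩ | ⟨rfl, e⟩ | ⟨rfl, e⟩ <;> rw [e]
    exacts [by simp, r1, r2, cm _ _ _ _ r1 r2]
  obtain ⟨j, hj, ej⟩ := conj_mem (d0.act m c hg).1 (mem_map_of_mem ι (show eS ∈ E₀ by decide))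
  replace ej := ej.symm
  have j1 : eS' * j * eS'⁻¹ = j * (zS * ζS) := m.inj (by
    rw [← cm _ _ _ _ ej r1, show eS * zS = eS' * eS * eS'⁻¹ by decide, map_mul, map_mul, map_mul, map_mul,
      map_inv, ← ej]
    nth_rewrite 1 2 [← mem_C1_iff_conj.1 ge]
    group)
  have d1 : ∀ p ∈ Z₀, ∀ q ∈ Z₀, lin p q eS = p ∧ lin p q wS = q ∧ rot p ∈ E₀ := by decide +kernel
  have k1 := hf.eqv d0 m c hg.1 eg (p := (j * rot p1, rot q1)) (by decide) hj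
    ⟨mul_mem hj (d1 _ h1 _ h2).2.2, (d1 _ h3 _ h4).2.2⟩ ((sm d0 m c hg (by decide) hj).1 ej)
    (by rw [(d1 _ h1 _ h2).1]
        exact (sm d0 m c hg (mul_mem (by decide) h1.1) (mul_mem hj (d1 _ h1 _ h2).2.2)).1
          (cm _ _ _ _ ej (rt _ h1)))
    (by rw [(d1 _ h3 _ h4).1]; exact (sm d0 m c hg h3.1 (d1 _ h3 _ h4).2.2).1 (rt _ h3))
  have k2 := fun a (ha : a ∈ E₀) => hf.eqv d0 m c (g := ι σS) (H24.mem_C1.2 (m.ct c _).symm)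
    (fun v _ => by
      rw [show ι σS * (x * v * x⁻¹) * (ι σS)⁻¹ = ι σS * x * v * (ι σS * x)⁻¹ by group, ← w.sg]; group)
    ha (e0_conj σS a ha) (p := (σS * (a * lin p1 p2 a) * σS⁻¹, σS * lin q1 q2 a * σS⁻¹))
    ⟨e0_conj _ _ (hf a ha).1.1, e0_conj _ _ (hf a ha).1.2⟩ (d0.eqv _ a ha) (d0.eqv _ _ (hf a ha).1.1)
    (d0.eqv _ _ (hf a ha).1.2)
  have d2 : ∀ p ∈ Z₀, ∀ q ∈ Z₀, ∀ j ∈ E₀, eS' * j * eS'⁻¹ = j * (zS * ζS) → lin p q j = rot p →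
      (∀ a ∈ E₀, lin p q (σS * a * σS⁻¹) = σS * lin p q a * σS⁻¹) →
      ∃ A : Bool, ∀ a ∈ E₀, lin p q a = bif A then mm eS' a else 1 := by decide +kernel
  obtain ⟨A, hA⟩ := d2 _ h1 _ h2 j hj j1 (mul_left_cancel (congrArg Prod.fst k1)) fun a ha =>
    mul_left_cancel (a := σS * a * σS⁻¹) ((congrArg Prod.fst (k2 a ha)).trans (by dsimp only; group))
  obtain ⟨B, hB⟩ := d2 _ h3 _ h4 j hj j1 (congrArg Prod.snd k1) fun a ha => congrArg Prod.snd (k2 a ha)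
  exact ⟨A, B, fun a ha => by have := hf a ha; dsimp only at this ⊢; rwa [hA a ha, hB a ha] at this⟩

theorem bad (w : Tw t J ι θ x) (d : Db t J ι θ) (m : Md t K J ι) (c : In n t K J)
    (h : Hf t θ x (fun a => (a, mm eS' a))) : False := by
  have d0 := d.toDb0
  have key : ∀ u : SS, u * u = 1 → u ∉ E₀ → ∃ x', Ac t θ x'
      (fun p => (p.1, mm u p.1) * (u * p.2 * u⁻¹, mm u (u * p.2 * u⁻¹)).swap) := fun u u2 u0 => by
    obtain ⟨g0, hg0, e0⟩ := m.l1 c u2 u0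
    obtain ⟨o, ho, hN⟩ := d.lift m c ⟨hg0.1.1, hg0.2⟩ (R := ⊥) IsPGroup.of_bot bot_le (by simp)
    have hg : o * g0 ∈ C{t} ⊓ N[E1 θ] := ⟨mul_mem ho.1.1 hg0.1.1, hN⟩
    have e1 : ∀ b ∈ E₀, o * g0 * ι eS' * (o * g0)⁻¹ * ι b * (o * g0 * ι eS' * (o * g0)⁻¹)⁻¹ =
        ι (u * b * u⁻¹) := fun b hb => by
      have h1 := mem_C.1 ho.1.2 _ (mem_map_of_mem ι hb)
      have h2 := mem_C.1 ho.1.2 _ (mem_map_of_mem ι (e0_conj u b hb))
      calc _ = o * (g0 * ι eS' * g0⁻¹ * (o⁻¹ * (ι b * o)) * (g0 * ι eS' * g0⁻¹)⁻¹) * o⁻¹ := by group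
        _ = o * ι (u * b * u⁻¹) * o⁻¹ := by rw [h1, e0, map_mul, map_mul, map_inv]; group
        _ = _ := by rw [← h2, mul_inv_cancel_right]
    generalize o * g0 = g at hg e1
    have sur : ∀ b ∈ E₀, ∃ a ∈ E₀, g * ι a * g⁻¹ = ι b := fun b hb => by
      obtain ⟨a, ha, e⟩ := conj_mem' (d0.act m c hg).1 (mem_map_of_mem ι hb)
      exact ⟨a, ha, by rw [e]; group⟩
    have e2 : ∀ a b, b ∈ E₀ → g * ι a * g⁻¹ = ι b → g * ι (eS' * a * eS'⁻¹) * g⁻¹ = ι (u * b * u⁻¹) :=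
      fun a b hb e => by rw [← e1 b hb, ← e, map_mul, map_mul, map_inv]; group
    refine ⟨g * x * g⁻¹, Hf.full (f := fun b => (b, mm u b)) (fun b hb => ?_) d0 c.tt
      (s := g * ι eS' * g⁻¹) ?_ fun b hb => ?_⟩
    · obtain ⟨a, ha, e⟩ := sur b hb
      have m1 := mul_mem (e0_conj u b hb) hb
      refine ⟨⟨hb, m1⟩, ?_⟩
      rw [← (sm d0 m c hg ha hb).1 e, show g * x * g⁻¹ * (g * θ a * g⁻¹) * (g * x * g⁻¹)⁻¹ =
        g * (x * θ a * x⁻¹) * g⁻¹ by group, (h a ha).2, ev_cj hg.1, (sm d0 m c hg ha hb).1 e,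
        (sm d0 m c hg (h a ha).1.2 m1).1 (by
          simp only [mm]
          rw [map_mul, map_mul ι _ b, ← e2 a b hb e, ← e]; group)]
      rfl
    · rw [show g * x * g⁻¹ * (g * ι eS' * g⁻¹) = g * (x * ι eS') * g⁻¹ by group, ← (tx w m c).2.1]
      nth_rewrite 1 2 [← mem_C1_iff_conj.1 hg.1]
      group
    · obtain ⟨a, ha, e⟩ := sur b hb
      rw [← (sm d0 m c hg ha hb).1 e, ← (sm d0 m c hg (e0_conj eS' a ha) (e0_conj u b hb)).1 (e2 a b hb e),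
        ← d0.eqv _ a ha]
      group
  obtain ⟨x1, a1⟩ := key σS (by decide) (by decide)
  obtain ⟨x2, a2⟩ := key eS' (by decide) (by decide)
  obtain ⟨x3, a3⟩ := key (σS * eS') (by decide) (by decide)
  have a4 := ((a1.mul a2).mul a3).congr
    (f' := fun p => (p.1 * mm σS (mm eS' p.1), p.2 * mm σS (mm eS' p.2))) (by decide +kernel)
  generalize x1 * x2 * x3 = g at a4
  have gF := a4.nF d0 c.tt
  have tF : t ∈ N[FF t θ] := t_nF c.tt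
  have h1 : (t * g)⁻¹ * (g * t) ∈ C[FF t θ] := mem_C'.2 fun v hv => by
    obtain ⟨a, ha, b, hb, rfl⟩ := (d0.mem_F c.tt).1 hv
    have := (a4.mul (ac_t d0 c.tt) a ha b hb).2.trans (((ac_t d0 c.tt).mul a4 a ha b hb).2.symm)
    rw [← mul_inv_eq_iff_eq_mul]
    calc _ = (t * g)⁻¹ * (g * t * ev t θ (a, b) * (g * t)⁻¹) * (t * g) := by rw [ev]; group
      _ = _ := by rw [this, ev]; group
  obtain ⟨r, hr, hk⟩ := d.ct m c gF (by
    have := conj_mem (norm_C le_rfl (mul_mem tF gF)) h1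
    convert this using 1
    rw [commutatorElement_def]; group)
  have e : ∀ a ∈ E₀, r * g * ι a * (r * g)⁻¹ = ι (a * mm σS (mm eS' a)) := fun a ha => by
    obtain ⟨h2, h3⟩ := a4 a ha a ha
    rw [← d0.dg a ha, ← d0.dg _ h2.1, show r * g * (θ a * (t * θ a * t)) * (r * g)⁻¹ =
      r * (g * ev t θ (a, a) * g⁻¹) * r⁻¹ by rw [ev]; group, h3, mem_C'.1 hr _ (ev_F d0 c.tt h2),
      mul_inv_cancel_right]
    rfl
  have d1 : ∀ a ∈ E₀, a * mm σS (mm eS' a) = a ∨ a * mm σS (mm eS' a) = a * zS := by decide +kernel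
  have := m.noTv _ (c.nJ m.zK (m.ord (by decide) (by decide)) (mem_C1_iff_conj.2 ((e zS (by decide)).trans
    (congrArg ι (by decide)))) (.inl (mem_C1_iff_conj.1 hk))) fun a ha =>
      (d1 a ha).imp (fun h => by rw [e a ha, h]) fun h => by rw [e a ha, h, map_mul]
  have h2 := e wS (by decide)
  rw [← mem_C.1 this _ (mem_map_of_mem ι (show wS ∈ E₀ by decide)), mul_inv_cancel_right] at h2
  exact absurd (m.inj h2) (by decide)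

theorem hf' {f : SS → SS × SS} (h : Hf t θ x f) (d : Db0 t J ι θ) :
    Hf t θ (x * ι eS') (fun a => f (eS' * a * eS'⁻¹)) := fun a ha =>
  ⟨(h _ (e0_conj _ a ha)).1, by rw [← (h _ (e0_conj _ a ha)).2, ← d.eqv _ a ha]; group⟩

theorem Hf.congr {f f' : SS → SS × SS} (h : Hf t θ x f) (e : ∀ a ∈ E₀, f a = f' a) : Hf t θ x f' :=
  fun a ha => e a ha ▸ h a ha

theorem good (w : Tw t J ι θ x) (d : Db0 t J ι θ) (m : Md t K J ι) (c : In n t K J)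
    (h : Hf t θ x (fun a => (a * mm eS' a, 1))) : x ∈ C[cj t (E1 θ)] := mem_C'.2 fun v hv => by
  obtain ⟨b, hb, rfl⟩ := (d.mem_E2 c.tt).1 hv
  have d1 : ∀ b ∈ E₀, ((1 : SS) * mm eS' 1, (1 : SS)) *
    (eS' * b * eS'⁻¹ * mm eS' (eS' * b * eS'⁻¹), (1 : SS)).swap = (1, b) := by decide +kernel
  have := (h.full d c.tt (tx w m c).2.1 (d.eqv eS') 1 (one_mem _) b hb).2
  dsimp only at this
  rw [d1 b hb, ev, d.one, one_mul] at this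
  exact mul_inv_eq_iff_eq_mul.1 this

end NDXx

open NDXx

/-! ### NDX -/
theorem Cx.split (X : Cx n t K J K' J' ι) {θ : SS → G} (d : Db t J ι θ) (w : Tw t J ι θ x) :
    ∃ x', Tw t J ι θ x' ∧ x' ∈ C[cj t (E1 θ)] := by
  have w' := tw' w d.toDb0 X.m X.c
  obtain ⟨A, B, h⟩ := dich w d X.m X.c
  have h' := hf' h d.toDb0
  cases A <;> cases B
  · exact ⟨_, w', good w' d.toDb0 X.m X.c (h'.congr (by decide +kernel))⟩
  · exact (bad w d X.m X.c (h.congr (by decide +kernel))).elim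
  · exact ⟨_, w, good w d.toDb0 X.m X.c h⟩
  · exact (bad w' d X.m X.c (h'.congr (by decide +kernel))).elim

end H28.ND
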