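import Mathlib
import Cfsg.Agent.H28.NDMA
import Cfsg.Agent.H28.NDMC
import Cfsg.Agent.H28.NDMD
import Cfsg.Agent.H28.NDME
import Cfsg.Agent.H28.NDMF
import Cfsg.Agent.H28.NDT
import Cfsg.Agent.H28.NDX
import Cfsg.Agent.H28.NDS
import Cfsg.Agent.H28.NDM
import Cfsg.Agent.H28.NDP
import Cfsg.Agent.H28.NDH
import Cfsg.Agent.H28.NDJ
import Cfsg.Agent.H28.NDL

/-!
# S1739, doubling end: the glue
-/

set_option autoImplicit false
set_option linter.unusedSectionVars false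

namespace H28.ND

open Subgroup Equiv Equiv.Perm Cfsg H24 H23 H25.LB H5.Ly H20.So
open scoped commutatorElement

variable {G : Type*} [Group G] [Finite G] {n : ℕ} {t x y g k a b : G}
  {K K' L H D Q Q' R T P : Subgroup G} {J J' : G → Subgroup G} {ι : SS →* G}

theorem St.md {hn : 8 ≤ n} {A : Act n L} (s : St hn L ι A) (c : In n t K J) (hz : ι zS ∈ K)
    (hL : L = J (ι zS)) : Md t K J ι := by
  subst hL
  have o : orderOf (ι zS) = 2 := iv_of (by rw [← map_mul]; exact map_one ι) fun e =>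
    absurd (s.inj (e.trans (map_one ι).symm)) (by decide)
  have nj : C{t} ⊓ C[EE ι] ≤ N[J (ι zS)] ⊓ C[EE ι] := fun g hg => ⟨c.nJ hz o
    (C_le_C1 (mem_map_of_mem ι (show zS ∈ E₀ by decide)) hg.2) (Or.inl (mem_C1_iff_conj.1 hg.1)), hg.2⟩
  have cV := fun g hg h => s.cV c hz (g := g) hg h
  have tr := fun e he h => s.tr c hz (e := e) he h
  exact ⟨s.inj, hz, s.mem, s.m0 (c.pc _ hz o), fun _ hg h => s.noTv hg h, fun _ hg h => s.cE c.hn hg h,
    fun _ hc _ hd oc od h => s.c3 c.hn (nj hc) (nj hd) oc od h, cV, fun _ h h2 => c.ord1 hz o h h2,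
    fun _ h h2 => ord2_of c s.inj hz (fun _ hg h => s.noTv hg h) cV tr h h2,
    fun _ h h2 => c.rk hz o h h2, tr⟩

theorem cx_ex {z : G} (c : In n t K J) (c' : In n (t * z) K' J') (h2 : orderOf z = 2) (hz : z ∈ K)
    (hz' : z ∈ K') : ∃ ι : SS →* G, ι zS = z ∧ Cx n t K J K' J' ι := by
  obtain ⟨ι, A, rfl, s⟩ := st_ex c.h8 (c.pc z hz h2)
  obtain ⟨A', s'⟩ := s.sw
  have e : ι.comp sw zS = ι zS := congrArg ι sw_z
  have e1 : (C{t * ι zS} ⊓ C{ι zS} : Subgroup G) = C{t} ⊓ C{ι zS} := by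
    ext y
    simp only [mem_inf, H24.mem_C1]
    refine and_congr_left fun h => ?_
    rw [mul_assoc t, ← h, ← mul_assoc, ← mul_assoc, mul_left_inj]
  have e2 : J (ι zS) = J' (ι zS) := c'.uniq _ hz' h2 _ (e1 ▸ (c.pc _ hz h2).comp)
  exact ⟨ι, rfl, c, c', s.md c hz rfl, s.md c' hz' e2, s'.md c (e ▸ hz) (by rw [e]),
    s'.md c' (e ▸ hz') (by rw [e, e2])⟩

theorem W0.wr {θ : SS →* G} (w : W0 t J ι θ x) (m : Md t K J ι) (c : In n t K J) : Wr t J ι θ := by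
  have pe := w.tw.w_pe w.xW w.db m c
  have e := E1_eq θ
  refine ⟨w.db, w.dg, w.cm, w.dj, w.m1 m c, fun g hg h => ?_, fun Y p hY a b h => ?_,
    fun Y p hY g hg h => ?_, fun _ h h1 => w.sp m c h h1⟩
  · rw [← e] at hg ⊢
    exact w.db.tv m c hg h
  · rw [← e] at hY
    have h1 : t * θ b * t ∈ pcr (W1 t θ) := by
      have := mul_mem (inv_mem (w.mem ⟨a, rfl⟩)) (le_pcr p hY h)
      rwa [inv_mul_cancel_left] at this
    have h2 : t * θ b * t ∈ C[FF t θ] := by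
      rw [CF_eq]
      refine ⟨mem_C.2 fun y hy => ?_, (pcr_le _ h1).2⟩
      obtain ⟨u, -, rfl⟩ := w.db.mem_E1.1 hy
      exact w.cm u b
    obtain ⟨j, hj⟩ := te_of_pg (pg_range θ) ⟨b, rfl⟩
    obtain ⟨u, -, hu⟩ := w.db.mem_E1.1 (pe ⟨h1, w.db.cF _ h2 ⟨j, by
      rw [show t * θ b * t = t * θ b * t⁻¹ by rw [iv_inv c.tt], conj_pow, hj, mul_one, mul_inv_cancel]⟩⟩)
    refine w.dj b 1 ?_
    rw [← tt_tt c.tt (θ b), ← hu, w.dj u b hu]
  · rw [← e] at hY hg ⊢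
    exact pe ⟨le_pcr p hY hg.1, w.db.cF _ (by rw [CF_eq]; exact ⟨hg.2, (hY hg.1).2⟩) h⟩

/-- **The doubling end.** -/
theorem dbl {z : G} (c : In n t K J) (c' : In n (t * z) K' J') (h2 : orderOf z = 2) (hz : z ∈ K)
    (hz' : z ∈ K') (hs : NM.SolH G) (hno : NM.Hno n G) : False := by
  obtain ⟨ι, rfl, X⟩ := cx_ex c c' h2 hz hz'
  have m := X.m
  have ht := c.tt
  obtain ⟨θ0, d, -⟩ := X.exists_db (pg_range ι) (by
    rintro _ ⟨s, rfl⟩; exact nV_of ⟨(m.range_C c s).1.1, range_NE s⟩) le_rfl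
  obtain ⟨x0, w0⟩ := X.tower d
  obtain ⟨x, w1, hx⟩ := X.split d w0
  obtain ⟨θ, w2⟩ := w1.w0 hx d m c
  have w := w2.wr m c
  obtain ⟨P, p0⟩ := w.exP ht
  have p := w.pe' m c p0
  have zc : ∀ s : SS, s * zS = zS * s := by decide +kernel
  have hS : ∀ s, θ s ∈ TT t θ P := fun s => ⟨⟨p.s1 ⟨s, rfl⟩, mem_C'.2 fun y hy => by
    obtain ⟨u, hu⟩ := (mem_cjt ht).1 hy
    rw [← tt_tt ht y, ← hu]; exact w.cm s u⟩, mem_C.2 fun y hy => (mem_C.1 hy.2 _ ⟨s, rfl⟩).symm⟩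
  have hT : cj t (TT t θ P) ≤ P ⊓ C[θ.range] := by
    refine (cj_mono t inf_le_left).trans ?_
    rw [cj_inf, cj_of_mem_N p.tN, cj_C, cjt_cjt ht]
  refine fin_end c hs hno hz h2 (w.db.spec (u := zS) (by decide) (by decide)) (u := ι ζS)
    ⟨m.memK c _, H24.mem_C1.2 (by rw [← map_mul, zc, map_mul])⟩ (m.ord (by decide) (by decide))
    (fun e => absurd (m.inj e) (by decide)) (w.dg ζS) ⟨p.two, p.le, p.max⟩ (T := TT t θ P)
    (inf_le_left.trans inf_le_left) (fun _ hx _ hg h => p.sc w m ht hx hg h) (hS _) p.tN (hS _)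
    ⟨⟨?_, mem_C.2 fun y hy => ?_⟩, mem_C.2 fun y hy => H24.mem_C1.1 (p.le hy.1).2⟩
    (inf_le_right.trans (C_anti hT)) fun y hy => ?_
  · have := H24.conj_mem p.tN (p.s1 ⟨zS, rfl⟩)
    rwa [iv_inv ht] at this
  · obtain ⟨u, hu⟩ := (mem_cjt ht).1 hy
    rw [← tt_tt ht y, ← hu, ← tt_mul ht, ← tt_mul ht, ← map_mul, zc, map_mul]
  · have h1 := (hT hy.2).2
    have h3 := hy.1.1.2
    have hle : EE θ ≤ θ.range := map_le_range _ _
    obtain ⟨u, hu⟩ := w.cS2 ht (p.ker ⟨⟨hy.1.1.1, C_le_N _ (C_anti hle h1)⟩,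
      C_le_N _ (C_anti (cj_mono t hle) h3)⟩) h3
    have key : ∀ u : SS, (∀ s ∈ [σS, eS, wS, eS', wS'], s * u = u * s) → u = 1 ∨ u = zS := by decide +kernel
    have inj : Function.Injective θ := (injective_iff_map_eq_one θ).2 fun a h =>
      w.dj a 1 (by rw [h, map_one, mul_one, ht])
    have h4 := key u fun s _ => inj (by
      have := mem_C.1 h1 _ ⟨s, rfl⟩
      rw [map_mul, map_mul]
      rcases hu with rfl | rfl
      · exact this
      · rw [mul_assoc (θ u), ← w.cm, ← mul_assoc, ← mul_assoc (θ u)] at this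
        exact mul_right_cancel this)
    rcases hu with rfl | rfl <;> rcases h4 with rfl | rfl
    exacts [Or.inl (map_one θ), Or.inr (Or.inl rfl), Or.inr (Or.inr (Or.inl (by rw [map_one, one_mul]))),
      Or.inr (Or.inr (Or.inr (w.dg _)))]

end H28.ND
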