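import Cfsg.Agent.H28.NT1

/-!
# N-groups: the tensor lemma, local part
-/

set_option autoImplicit false
set_option linter.unusedSectionVars false
set_option linter.unusedVariables false

namespace H28.NT

open Subgroup Cfsg H24 H11.ZN H12.NG
open scoped commutatorElement

universe u

variable {G : Type u} [Group G] [Finite G] {V X T K W A B : Subgroup G} {g h q q' s t v x x' r : G}

/-- `U = ⟨V^H⟩` -/
def UU (V X : Subgroup G) : Subgroup G := ncl V C[X]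

/-- `Q⁺ / C(U) = O₂(H / C(U))` -/
def QP (V X : Subgroup G) : Subgroup G := coreMod {2} C[X] C[UU V X]

/-- the preimage of `F(H / Q⁺)` -/
noncomputable def FP (V X : Subgroup G) : Subgroup G := coq (QP V X) F[quo C[X] (QP V X)]

section
variable (c : TLc V X T)
include c

theorem sol : Sol C[X] := by
  have hp := ea_pi (ea_le c.ea c.le)
  exact ((c.l2 _ hp c.ne).1).of_le (C_le_N _)

theorem V_le_H : V ≤ C[X] := Abl.cents c.ea.1 le_rfl c.le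

theorem V_le_T : V ≤ T := c.syl.le_of_norm' (ea_pi c.ea) (V_le_H c) c.nv

theorem act_eq (hs : s ∈ T) (ht : t ∈ T) (h1 : s ∉ C[V]) (h2 : t ∉ C[V]) (hv : v ∈ V) :
    s * v * s⁻¹ = t * v * t⁻¹ := by
  have e := ((mul_mem_idx2 c.idxT hs (inv_mem ht)).2
    (iff_of_false (fun e => h1 e.2) fun e => h2 ((C[V]).inv_mem_iff.1 e.2))).2
  rw [← conj_eq_of_mem_C e (conj_mem (c.nv ht) hv)]; group

theorem fix_eq (ht : t ∈ T) (h2 : t ∉ C[V]) : V ⊓ C{t} = X := by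
  refine le_antisymm (fun v hv => ?_) (le_inf c.le (mem_C_iff_le_C1.1 (c.syl.le ht)))
  rw [← c.oz, mem_OZ]
  refine ⟨V_le_T c hv.1, mem_C.2 fun s hs => ?_, by rw [sq]; exact ea_sq c.ea hv.1⟩
  by_cases e : s ∈ C[V]
  · exact mem_C'.1 e v hv.1
  · rw [← mul_inv_eq_iff_eq_mul, act_eq c hs ht e h2 hv.1]
    exact mem_C1_iff_conj.1 (mem_C1_comm.1 hv.2)

theorem comm_eq (ht : t ∈ T) (h2 : t ∉ C[V]) : ⁅V, T⁆ = ⁅V, zpowers t⁆ := by
  refine le_antisymm (H3.NG.cm_le fun v hv s hs => H3.NG.cm_symm ?_) (comm_mono_right (zpowers_le.2 ht))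
  by_cases e : s ∈ C[V]
  · rw [conj_eq_of_mem_C e hv, mul_inv_cancel]; exact one_mem _
  · rw [act_eq c hs ht e h2 hv]
    exact H3.NG.cm_symm (H3.NG.cm_mem hv (mem_zpowers t))

theorem ex_t : ∃ t ∈ T, t ∉ C[V] := by
  by_contra e
  push Not at e
  have := c.idxT
  rw [relIndex_eq_one.2 (le_inf le_rfl e)] at this
  omega

theorem X0_le : ⁅V, T⁆ ≤ X := by
  obtain ⟨t, ht, h2⟩ := ex_t c
  rw [comm_eq c ht h2, ← fix_eq c ht h2]
  exact comm1_le_C c.ea (c.nv ht) ((mul_mem_idx2 c.idxT ht ht).2 Iff.rfl).2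

theorem card_X0 : ♯⁅V, T⁆ = 4 := by
  obtain ⟨t, ht, h2⟩ := ex_t c
  have e1 := card_comm1 c.ea.1 (c.nv ht)
  have e2 := card_mul_relIndex c.le
  rw [fix_eq c ht h2, ← comm_eq c ht h2, ← e2, c.idx] at e1
  exact Nat.eq_of_mul_eq_mul_left (card_pos _) e1

theorem V_le_U : V ≤ UU V X := H3.NG.self_le_ncl

theorem cj_X (hh : h ∈ C[X]) : cj h X = X := cj_of_mem_C hh

theorem U_ea : EA (UU V X) := ea_ncl c.ea fun g hg => c.ic g (ne_bot_of_le c.ne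
  (le_inf c.le ((cj_X c hg).ge.trans (cj_mono g c.le))))

theorem U_nml : UU V X ⊴ C[X] :=
  ⟨H3.NG.ncl_le_of_norm (V_le_H c) (norm_self _), H3.NG.norm_ncl _ _⟩

theorem U_le_T : UU V X ≤ T := c.syl.nml_le (ea_pi (U_ea c)) (U_nml c)

theorem C_nml : C[UU V X] ⊴ C[X] := ⟨C_anti (c.le.trans (V_le_U c)), norm_C (U_nml c).norm⟩

theorem Q_nml : QP V X ⊴ C[X] := coreMod_nml _ (C_nml c)

theorem C_le_Q : C[UU V X] ≤ QP V X := le_coreMod _ _ _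

theorem Q_dec (hq : q ∈ QP V X) : ∃ t ∈ T, ∃ k ∈ C[V], q = t * k := by
  obtain ⟨t, ht, k, hk, e⟩ := ((c.syl.inf_nml (Q_nml c)).isProd_of_idx (C_le_Q c) (coreMod_idx _ _ _)).mul q hq
  exact ⟨t, ht.1, k, C_anti (V_le_U c) hk, e⟩

theorem Q_le_M : QP V X ≤ N[V] := fun q hq => by
  obtain ⟨t, ht, k, hk, rfl⟩ := Q_dec c hq
  exact mul_mem (c.nv ht) (C_le_N _ hk)

theorem Q_act (hq : q ∈ QP V X) : ∃ t ∈ T, (t ∈ C[V] → q ∈ C[V]) ∧ ∀ v ∈ V, q * v * q⁻¹ = t * v * t⁻¹ := by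
  obtain ⟨t, ht, k, hk, rfl⟩ := Q_dec c hq
  refine ⟨t, ht, fun e => mul_mem e hk, fun v hv => ?_⟩
  calc _ = t * (k * v * k⁻¹) * t⁻¹ := by group
    _ = _ := by rw [conj_eq_of_mem_C hk hv]

theorem Q_cm (hq : q ∈ QP V X) (hv : v ∈ UU V X) : q * v * q⁻¹ * v⁻¹ ∈ ⁅V, T⁆ := by
  have n1 : C[X] ≤ N[⁅V, T⁆] := norm_of_cent (C_anti (X0_le c))
  have n2 := (Q_nml c).le.trans n1
  have : UU V X ≤ centQ (QP V X) ⁅V, T⁆ := by
    refine H3.NG.ncl_le_of_norm (fun v hv => (mem_centQ n2).2 ⟨n1 (V_le_H c hv), fun q hq => ?_⟩)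
      (norm_centQ (Q_nml c).norm n1)
    obtain ⟨t, ht, -, e⟩ := Q_act c hq
    refine H3.NG.cm_symm ?_
    rw [e v hv]
    exact H3.NG.cm_symm (H3.NG.cm_mem hv ht)
  exact H3.NG.cm_symm (((mem_centQ n2).1 (this hv)).2 q hq)

theorem Q_eq (hh : h ∈ C[X]) (hq : q ∈ QP V X) (hq' : q' ∈ QP V X) (h1 : q ∉ C[cj h V]) (h2 : q' ∉ C[cj h V])
    (hv : v ∈ cj h V) : q * v * q⁻¹ = q' * v * q'⁻¹ := by
  rw [← cj_C, mem_cj] at h1 h2
  obtain ⟨t, ht, t1, e1⟩ := Q_act c (conj_mem' ((Q_nml c).norm hh) hq)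
  obtain ⟨s, hs, s1, e2⟩ := Q_act c (conj_mem' ((Q_nml c).norm hh) hq')
  have e3 := act_eq c ht hs (mt t1 h1) (mt s1 h2) (mem_cj.1 hv)
  rw [← e1 _ (mem_cj.1 hv), ← e2 _ (mem_cj.1 hv)] at e3
  calc _ = h * (h⁻¹ * q * h * (h⁻¹ * v * h) * (h⁻¹ * q * h)⁻¹) * h⁻¹ := by group
    _ = _ := by rw [e3]; group

theorem Q_fix (hh : h ∈ C[X]) (hq : q ∈ QP V X) (h1 : q ∉ C[cj h V]) : cj h V ⊓ C{q} ≤ X := fun v hv => by
  rw [← cj_C, mem_cj] at h1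
  obtain ⟨t, ht, t1, e1⟩ := Q_act c (conj_mem' ((Q_nml c).norm hh) hq)
  rw [← cj_X c hh, mem_cj, ← fix_eq c ht (mt t1 h1)]
  refine ⟨mem_cj.1 hv.1, mem_C1_comm.1 (mem_C1_iff_conj.2 ?_)⟩
  rw [← e1 _ (mem_cj.1 hv.1)]
  calc _ = h⁻¹ * (q * v * q⁻¹) * h := by group
    _ = _ := by rw [mem_C1_iff_conj.1 (mem_C1_comm.1 hv.2)]

theorem Q_onto (hh : h ∈ C[X]) (hq : q ∈ QP V X) (h1 : q ∉ C[cj h V]) (hx : x ∈ ⁅V, T⁆) :
    ∃ v ∈ cj h V, q * v * q⁻¹ * v⁻¹ = x := by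
  rw [← cj_C, mem_cj] at h1
  obtain ⟨t, ht, t1, e1⟩ := Q_act c (conj_mem' ((Q_nml c).norm hh) hq)
  have hx' := hx
  rw [comm_eq c ht (mt t1 h1), mem_comm1 c.ea.1 (c.nv ht)] at hx'
  obtain ⟨v, hv, e⟩ := hx'
  refine ⟨_, conj_mem_cj h hv, ?_⟩
  rw [← conj_eq_of_mem_C hh (X0_le c hx), ← e, ← e1 v hv]; group

theorem ex_h (h1 : r ∉ C[UU V X]) : ∃ h ∈ C[X], r ∉ C[cj h V] := by
  by_contra e
  push Not at e
  exact h1 (mem_C_iff_le_C1.2 (H3.NG.ncl_le fun g hg => mem_C_iff_le_C1.1 (e g hg)))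

/-- (i) -/
theorem ineq1 (hB : B ≤ QP V X) : (C[UU V X]).relIndex B ^ 2 ≤ (C[B]).relIndex (UU V X) := by
  induction B using subgroup_ind with
  | h B ih =>
  by_cases e : B ≤ C[UU V X]
  · rw [relIndex_eq_one.2 e]; exact relIndex_pos _ _
  obtain ⟨r, hr, r1⟩ := SetLike.not_le_iff_exists.1 e
  obtain ⟨h, hh, r2⟩ := ex_h c r1
  have hVU : cj h V ≤ UU V X := H3.NG.le_ncl hh
  have i2 : (C[cj h V]).relIndex B = 2 := by
    refine relIndex_eq_two_iff_exists_notMem_and.2 ⟨r⁻¹, inv_mem hr, fun e => r2 ((C[cj h V]).inv_mem_iff.1 e),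
      fun b hb => or_iff_not_imp_right.2 fun b1 => mem_C'.2 fun v hv => ?_⟩
    have hv' : r⁻¹ * v * r ∈ cj h V := by
      have : r ∈ N[cj h V] := by
        rw [← cj_N, mem_cj]; exact Q_le_M c (conj_mem' ((Q_nml c).norm hh) (hB hr))
      exact conj_mem' this hv
    have := Q_eq c hh (hB hb) (hB hr) b1 r2 hv'
    calc _ = b * (r⁻¹ * v * r) * b⁻¹ * (b * r⁻¹) := by group
      _ = _ := by rw [this]; group
  have e1 := ih (C[cj h V] ⊓ B) (lt_of_le_of_ne inf_le_right fun e => r2 (e.ge hr).1) (inf_le_right.trans hB)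
  have e2 := relIndex_inf_mul_relIndex C[UU V X] C[cj h V] B
  rw [inf_eq_left.2 (C_anti hVU), i2] at e2
  have e3 := relIndex_inf_mul_relIndex C[B] C[C[cj h V] ⊓ B] (UU V X)
  rw [inf_eq_left.2 (C_anti inf_le_right)] at e3
  have e4 : 4 ≤ (C[B]).relIndex (C[C[cj h V] ⊓ B] ⊓ UU V X) := by
    refine le_trans ?_ (relIndex_le_of_le_right (K := cj h V) (le_inf (cents_symm inf_le_left) hVU)
      (relIndex_ne_zero' _ _))
    rw [← c.idx, ← relIndex_cj h, cj_X c hh, ← inf_relIndex_left (cj h V) C[B]]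
    exact relIndex_le_of_le_left ((inf_le_inf_left _ (C_le_C1 hr)).trans (Q_fix c hh (hB hr) r2))
      (relIndex_ne_zero' _ _)
  rw [← e2, ← e3]
  nlinarith

theorem star (hW : W ≤ UU V X) (hn : C[X] ≤ N[W]) (hK : K ⊴ C[X]) (ho : Odd ((C[W]).relIndex K)) :
    K ≤ C[W] := by
  obtain ⟨P, hP⟩ := H26.Hall_exists {2}ᶜ ((sol c).of_le hK.le)
  have hE := ea_le (U_ea c) hW
  have e1 := (hP.isProd_of_idx (B := K ⊓ C[W]) inf_le_left
    (by rw [inf_relIndex_left]; exact piNat_odd.2 ho)).comm_right_of_cent inf_le_right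
  rw [← comm_eq_bot']
  by_contra e
  have l1 : ⁅W, K⁆ ≤ W := comm_le_left (hK.le.trans hn)
  refine IsPi.inf_C_ne_bot Nat.prime_two c.syl.pi (ea_pi (ea_le hE l1))
    (c.syl.le.trans (norm_comm hn hK.norm)) e (eq_bot_of_le (odd_TI hE (hP.le.trans (hK.le.trans hn)) hP.pi) ?_)
  intro y hy
  have : y ∈ X := by
    rw [← c.oz, mem_OZ]
    exact ⟨U_le_T c (hW (l1 hy.1)), hy.2, by rw [sq]; exact ea_sq hE (l1 hy.1)⟩
  exact ⟨e1 ▸ hy.1, cents_symm (hP.le.trans hK.le) this⟩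

theorem le_Q (hK : K ⊴ C[X]) (h : ∀ t ∈ K, ∃ n : ℕ, t ^ 2 ^ n ∈ QP V X) : K ≤ QP V X := by
  refine coreMod_max (C_nml c).norm hK ((H26.piNat_relIndex_iff (hK.le.trans (C_nml c).norm)).2 fun y hy ho => ?_)
  obtain ⟨n, e⟩ := h y hy
  have : y ∈ QP V X := by
    refine zpowers_le.2 e (mem_zpowers_pow_iff.2 ?_)
    exact Nat.Coprime.gcd_eq_one (Nat.Coprime.pow_left _ (Nat.coprime_two_left.2 (piElt_odd.1 ho)))
  exact (H26.piNat_relIndex_iff (nml_coreMod _ _ _).norm).1 (coreMod_idx _ _ _) y this ho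

theorem odd_F : IsPi {2}ᶜ F[quo C[X] (QP V X)] := by
  refine odd_Fitting ?_
  rw [← quo_coq (Q2 _)]
  refine quo_eq_bot_of_le (le_Q c (nml_coq_of (Q_nml c) (Q2_nml _)) fun t ht => ?_)
  obtain ⟨h1, h2⟩ := mem_coq.1 ht
  obtain ⟨n, e⟩ := ((pcore_pi _ _).piElt h2).exists_pow Nat.prime_two
  exact ⟨n, (cs_eq_one (pow_mem h1 _)).1 (by rw [cs, ap_pow _ h1, ← e]; exact pow_orderOf_eq_one _)⟩

theorem F_nml : FP V X ⊴ C[X] := nml_coq_of (Q_nml c) (Fitting_nml _)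

theorem n_U0 : C[X] ≤ N[UU V X ⊓ C[QP V X]] := norm_inf (U_nml c).norm (norm_C (Q_nml c).norm)

theorem F_cent : FP V X ≤ C[UU V X ⊓ C[QP V X]] := by
  refine star c inf_le_left (n_U0 c) (F_nml c) (Odd.of_dvd_nat ?_ (relIndex_dvd_of_le_left _
    (cents_symm (inf_le_right : UU V X ⊓ C[QP V X] ≤ _))))
  rw [FP, relIndex_coq_self]
  exact isPi_odd.1 (odd_F c)

end

end H28.NT
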