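import Mathlib
import Cfsg.Agent.H28.Oct

/-! Orbits of stabilisers of an octad and points on octads. -/

set_option autoImplicit false

namespace H28

open Cfsg Finset H9
open scoped symmDiff Pointwise

theorem s1604 (p q : GolayPt) (hpq : p ≠ q) (o o' o'' : Finset GolayPt) (ho : o ∈ octads)
    (ho' : o' ∈ octads) (ho'' : o'' ∈ octads) (hp : p ∈ o ∧ p ∈ o' ∧ p ∈ o'')
    (hq : q ∈ o ∧ q ∈ o' ∧ q ∈ o'') (h : (o ∩ o').card = (o ∩ o'').card) :
    {x : Finset GolayPt | x ∈ octads ∧ p ∈ x ∧ q ∈ x ∧ (o ∩ x).card = 2}.ncard = 16 ∧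
    {x : Finset GolayPt | x ∈ octads ∧ p ∈ x ∧ q ∈ x ∧ (o ∩ x).card = 4}.ncard = 60 ∧
    ∃ g : Equiv.Perm GolayPt, g ∈ M24 ∧ g p = p ∧ g q = q ∧ g • o = o ∧ g • o' = o'' := by
  obtain ⟨g, hg, rfl, rfl, rfl⟩ := T_oct_in2 ho hp.1 hq.1 hpq
  have hc : ∀ k, {x : Finset GolayPt | x ∈ octads ∧ g (pt 23) ∈ x ∧ g (pt 0) ∈ x ∧
      (g • ofMask 13062145 ∩ x).card = k}.ncard = treeCnt (fun m => (fun n =>
        (tb n 23 && (tb n 0 && Nat.beq (pc (Nat.land 13062145 n)) k)) && Nat.beq (pc n) 8)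
        (cw m)) 12 := by
    intro k
    rw [ncard_smul_congr g _ (fun x => x ∈ octads ∧ pt 23 ∈ x ∧ pt 0 ∈ x ∧
      (ofMask 13062145 ∩ x).card = k)
      (fun x => by simp only [smul_mem_octads_iff hg, card_inter_smul, smul_mem_smul'])]
    exact ncard_cw 8 (fun x => pt 23 ∈ x ∧ pt 0 ∈ x ∧ (ofMask 13062145 ∩ x).card = k)
      (fun n => tb n 23 && (tb n 0 && Nat.beq (pc (Nat.land 13062145 n)) k)) fun n => by
        rw [card_inter_mask, Bool.and_eq_true, Bool.and_eq_true, beq_iff,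
          pt_mem_iff (by norm_num), pt_mem_iff (by norm_num)]
  refine ⟨by rw [hc]; decide +kernel, by rw [hc]; decide +kernel, ?_⟩
  obtain ⟨x, rfl⟩ := MulAction.surjective g o'
  obtain ⟨y, rfl⟩ := MulAction.surjective g o''
  rw [smul_mem_octads_iff hg] at ho' ho''
  rw [card_inter_smul, card_inter_smul] at h
  simp only [smul_mem_smul'] at hp hq
  obtain ⟨k, hk, e⟩ := cw_class 13062145 [8388608, 1] [973621799837172072326590568954699008,
    978927035172452579704480316776584224, 971086572913578364206896154964702688]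
    [13062145, 9347075, 11575377] 100 8
    (fun n => tb n 23 && tb n 0) (by decide +kernel) (by decide +kernel)
    (fun x => pt 23 ∈ x ∧ pt 0 ∈ x) (fun n h => by
      rwa [Bool.and_eq_true, ← pt_mem_iff (by norm_num), ← pt_mem_iff (by norm_num)])
    ho' ho'' ⟨hp.2.1, hq.2.1⟩ ⟨hp.2.2, hq.2.2⟩ h
  exact ⟨_, conj_mem hg hk.1,
    conj_apply_fix (fix_of_smul 23 (by norm_num) (hk.2.1 8388608 (by simp)) (by norm_num)),
    conj_apply_fix (fix_of_smul 0 (by norm_num) (hk.2.1 1 (by simp)) (by norm_num)),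
    conj_smul_eq (hk.2.1 _ (by simp)), conj_smul_eq e⟩

theorem s1607 (x : GolayPt) (o : Finset GolayPt) (ho : o ∈ octads) (hx : x ∈ o) :
    {o' : Finset GolayPt | o' ∈ octads ∧ x ∈ o' ∧ (o ∩ o').card = 2}.ncard = 112 ∧
    {o' : Finset GolayPt | o' ∈ octads ∧ x ∈ o' ∧ (o ∩ o').card = 4}.ncard = 140 ∧
    ∀ o' o'' : Finset GolayPt, o' ∈ octads → o'' ∈ octads → x ∈ o' → x ∈ o'' →
      (o ∩ o').card = (o ∩ o'').card →
      ∃ g : Equiv.Perm GolayPt, g ∈ M24 ∧ g x = x ∧ g • o = o ∧ g • o' = o'' := by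
  obtain ⟨g, hg, rfl, rfl⟩ := T_oct_in ho hx
  have hc : ∀ k, {x : Finset GolayPt | x ∈ octads ∧ g (pt 23) ∈ x ∧
      (g • ofMask 13062145 ∩ x).card = k}.ncard = treeCnt (fun m => (fun n =>
        (tb n 23 && Nat.beq (pc (Nat.land 13062145 n)) k) && Nat.beq (pc n) 8)
        (cw m)) 12 := by
    intro k
    rw [ncard_smul_congr g _ (fun x => x ∈ octads ∧ pt 23 ∈ x ∧
      (ofMask 13062145 ∩ x).card = k)
      (fun x => by simp only [smul_mem_octads_iff hg, card_inter_smul, smul_mem_smul'])]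
    exact ncard_cw 8 (fun x => pt 23 ∈ x ∧ (ofMask 13062145 ∩ x).card = k)
      (fun n => tb n 23 && Nat.beq (pc (Nat.land 13062145 n)) k) fun n => by
        rw [card_inter_mask, Bool.and_eq_true, beq_iff, pt_mem_iff (by norm_num)]
  refine ⟨by rw [hc]; decide +kernel, by rw [hc]; decide +kernel, ?_⟩
  intro o' o'' ho' ho'' h1 h2 h
  obtain ⟨x, rfl⟩ := MulAction.surjective g o'
  obtain ⟨y, rfl⟩ := MulAction.surjective g o''
  rw [smul_mem_octads_iff hg] at ho' ho''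
  rw [card_inter_smul, card_inter_smul] at h
  simp only [smul_mem_smul'] at h1 h2
  obtain ⟨k, hk, e⟩ := cw_class 13062145 [8388608] gO23 [13062145, 9347075, 12222476] 200 8
    (fun n => tb n 23) (by decide +kernel) (by decide +kernel)
    (fun x => pt 23 ∈ x) (fun n h => by rwa [← pt_mem_iff (by norm_num)])
    ho' ho'' h1 h2 h
  exact ⟨_, conj_mem hg hk.1,
    conj_apply_fix (fix_of_smul 23 (by norm_num) (hk.2.1 8388608 (by simp)) (by norm_num)),
    conj_smul_eq (hk.2.1 _ (by simp)), conj_smul_eq e⟩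

theorem s1608 (x : GolayPt) (o : Finset GolayPt) (ho : o ∈ octads) (hx : x ∉ o) :
    {o' : Finset GolayPt | o' ∈ octads ∧ x ∉ o' ∧ (o ∩ o').card = 0}.ncard = 15 ∧
    {o' : Finset GolayPt | o' ∈ octads ∧ x ∉ o' ∧ (o ∩ o').card = 4}.ncard = 210 ∧
    {o' : Finset GolayPt | o' ∈ octads ∧ x ∉ o' ∧ (o ∩ o').card = 2}.ncard = 280 ∧
    ∀ o' o'' : Finset GolayPt, o' ∈ octads → o'' ∈ octads → x ∉ o' → x ∉ o'' →
      (o ∩ o').card = (o ∩ o'').card →
      ∃ g : Equiv.Perm GolayPt, g ∈ M24 ∧ g x = x ∧ g • o = o ∧ g • o' = o'' := by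
  obtain ⟨g, hg, rfl, rfl⟩ := T_oct_out ho hx
  have hc : ∀ k, {x : Finset GolayPt | x ∈ octads ∧ g (pt 1) ∉ x ∧
      (g • ofMask 13062145 ∩ x).card = k}.ncard = treeCnt (fun m => (fun n =>
        ((!tb n 1) && Nat.beq (pc (Nat.land 13062145 n)) k) && Nat.beq (pc n) 8)
        (cw m)) 12 := by
    intro k
    rw [ncard_smul_congr g _ (fun x => x ∈ octads ∧ pt 1 ∉ x ∧
      (ofMask 13062145 ∩ x).card = k)
      (fun x => by simp only [smul_mem_octads_iff hg, card_inter_smul, smul_mem_smul'])]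
    exact ncard_cw 8 (fun x => pt 1 ∉ x ∧ (ofMask 13062145 ∩ x).card = k)
      (fun n => (!tb n 1) && Nat.beq (pc (Nat.land 13062145 n)) k) fun n => by
        rw [card_inter_mask, Bool.and_eq_true, beq_iff, pt_notMem_iff (by norm_num)]
  refine ⟨by rw [hc]; decide +kernel, by rw [hc]; decide +kernel, by rw [hc]; decide +kernel, ?_⟩
  intro o' o'' ho' ho'' h1 h2 h
  obtain ⟨x, rfl⟩ := MulAction.surjective g o'
  obtain ⟨y, rfl⟩ := MulAction.surjective g o''
  rw [smul_mem_octads_iff hg] at ho' ho''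
  rw [card_inter_smul, card_inter_smul] at h
  simp only [smul_mem_smul'] at h1 h2
  obtain ⟨k, hk, e⟩ := cw_class 13062145 [2] [680360854794783290245843741523945518,
    766648808360061859221117242514245686] [13062145, 13938692, 12222476, 2654580] 300 8
    (fun n => !tb n 1) (by decide +kernel) (by decide +kernel)
    (fun x => pt 1 ∉ x) (fun n h => by rwa [← pt_notMem_iff (by norm_num)])
    ho' ho'' h1 h2 h
  exact ⟨_, conj_mem hg hk.1,
    conj_apply_fix (fix_of_smul 1 (by norm_num) (hk.2.1 2 (by simp)) (by norm_num)),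
    conj_smul_eq (hk.2.1 _ (by simp)), conj_smul_eq e⟩

theorem s1605 (p q : GolayPt) (hpq : p ≠ q) :
    {x : Finset GolayPt | (x ∈ octads ∧ p ∈ x ∧ q ∉ x)}.ncard = 176 ∧
    (∀ o o' : Finset GolayPt, (o ∈ octads ∧ p ∈ o ∧ q ∉ o) → (o' ∈ octads ∧ p ∈ o' ∧ q ∉ o') →
      ∃ g : Equiv.Perm GolayPt, g ∈ M24 ∧ g p = p ∧ g q = q ∧ g • o = o') ∧
    ∀ o : Finset GolayPt, (o ∈ octads ∧ p ∈ o ∧ q ∉ o) →
      {x : Finset GolayPt | (x ∈ octads ∧ p ∈ x ∧ q ∉ x) ∧ (o ∩ x).card = 2}.ncard = 70 ∧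
      {x : Finset GolayPt | (x ∈ octads ∧ p ∈ x ∧ q ∉ x) ∧ (o ∩ x).card = 4}.ncard = 105 ∧
      ∀ o' o'' : Finset GolayPt, (o' ∈ octads ∧ p ∈ o' ∧ q ∉ o') →
        (o'' ∈ octads ∧ p ∈ o'' ∧ q ∉ o'') → (o ∩ o').card = (o ∩ o'').card →
        ∃ g : Equiv.Perm GolayPt, g ∈ M24 ∧ g p = p ∧ g q = q ∧ g • o = o ∧ g • o' = o'' := by
  refine ⟨?_, ?_, ?_⟩
  · obtain ⟨g, hg, rfl, rfl⟩ := T_pt2 hpq
    rw [ncard_smul_congr g _ (fun x => x ∈ octads ∧ pt 23 ∈ x ∧ pt 0 ∉ x)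
      (fun x => by simp only [smul_mem_octads_iff hg, smul_mem_smul'])]
    refine (ncard_cw 8 (fun x => pt 23 ∈ x ∧ pt 0 ∉ x) (fun n => tb n 23 && !tb n 0) fun n => by
        rw [Bool.and_eq_true, pt_notMem_iff (by norm_num), pt_mem_iff (by norm_num)]).trans ?_
    decide +kernel
  · intro o o' ho ho'
    obtain ⟨g, hg, rfl, h1, h2⟩ := T_oct_in_out ho.1 ho.2.1 ho.2.2
    obtain ⟨g', hg', rfl, h1', h2'⟩ := T_oct_in_out ho'.1 ho'.2.1 ho'.2.2
    refine ⟨g' * g⁻¹, M24.mul_mem hg' (M24.inv_mem hg), ?_, ?_, by simp [mul_smul]⟩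
    · conv_lhs => rw [← h1]
      simp [h1']
    · conv_lhs => rw [← h2]
      simp [h2']
  · intro o ho
    obtain ⟨g, hg, rfl, rfl, rfl⟩ := T_oct_in_out ho.1 ho.2.1 ho.2.2
    have hc : ∀ k, {x : Finset GolayPt | (x ∈ octads ∧ g (pt 23) ∈ x ∧ g (pt 1) ∉ x) ∧
        (g • ofMask 13062145 ∩ x).card = k}.ncard = treeCnt (fun m => (fun n =>
          ((tb n 23 && !tb n 1) && Nat.beq (pc (Nat.land 13062145 n)) k) && Nat.beq (pc n) 8)
          (cw m)) 12 := by
      intro k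
      rw [ncard_smul_congr g _ (fun x => x ∈ octads ∧ (pt 23 ∈ x ∧ pt 1 ∉ x) ∧
        (ofMask 13062145 ∩ x).card = k)
        (fun x => by simp only [smul_mem_octads_iff hg, card_inter_smul, smul_mem_smul', and_assoc])]
      exact ncard_cw 8 (fun x => (pt 23 ∈ x ∧ pt 1 ∉ x) ∧ (ofMask 13062145 ∩ x).card = k)
        (fun n => (tb n 23 && !tb n 1) && Nat.beq (pc (Nat.land 13062145 n)) k) fun n => by
          rw [card_inter_mask, Bool.and_eq_true, Bool.and_eq_true, beq_iff,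
            pt_notMem_iff (by norm_num), pt_mem_iff (by norm_num)]
    refine ⟨by rw [hc]; decide +kernel, by rw [hc]; decide +kernel, ?_⟩
    intro o' o'' ho' ho'' h
    obtain ⟨x, rfl⟩ := MulAction.surjective g o'
    obtain ⟨y, rfl⟩ := MulAction.surjective g o''
    simp only [smul_mem_smul', smul_mem_octads_iff hg] at ho' ho''
    rw [card_inter_smul, card_inter_smul] at h
    obtain ⟨k, hk, e⟩ := cw_class 13062145 [8388608, 2] [977583598496586609537901991463326768,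
      971188543446183682500925846072041522] [13062145, 13938692, 12222476] 200 8
      (fun n => tb n 23 && !tb n 1) (by decide +kernel) (by decide +kernel)
      (fun x => pt 23 ∈ x ∧ pt 1 ∉ x) (fun n h => by
        rwa [Bool.and_eq_true, ← pt_mem_iff (by norm_num), ← pt_notMem_iff (by norm_num)])
      ho'.1 ho''.1 ho'.2 ho''.2 h
    exact ⟨_, conj_mem hg hk.1,
      conj_apply_fix (fix_of_smul 23 (by norm_num) (hk.2.1 8388608 (by simp)) (by norm_num)),
      conj_apply_fix (fix_of_smul 1 (by norm_num) (hk.2.1 2 (by simp)) (by norm_num)),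
      conj_smul_eq (hk.2.1 _ (by simp)), conj_smul_eq e⟩

end H28
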