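import Cfsg.Agent.H12.TIH
import Cfsg.Agent.H12.TIE
import Cfsg.Agent.H29.Ext

/-! TI, sporadic case: coordinates on a point of order `16`. -/

set_option autoImplicit false
set_option linter.unusedSectionVars false
set_option linter.unusedVariables false

namespace H28.TS

open Cfsg H24 Subgroup H12.TI H8.TI H29
open scoped commutatorElement

abbrev M4 := ℕ × ℕ × ℕ × ℕ
def ap (M : M4) (n : ℕ) : ℕ :=
  (cond (n.testBit 0) M.1 0 ^^^ cond (n.testBit 1) M.2.1 0) ^^^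
    (cond (n.testBit 2) M.2.2.1 0 ^^^ cond (n.testBit 3) M.2.2.2 0)
def cp (M N : M4) : M4 := (ap M N.1, ap M N.2.1, ap M N.2.2.1, ap M N.2.2.2)
def I4 : M4 := (1, 2, 4, 8)
def evM (Ms : ℕ → M4) (w : List ℕ) : M4 := w.foldr (fun c r => cp (Ms c) r) I4
abbrev Fpf (M : M4) : Prop := ∀ n < 16, ap M n = n → n = 0

universe u

variable {G : Type u} [Group G] [Finite G] {Ω : Set (Subgroup G)}
  {A B C E I K P Q : Subgroup G} {a b c d d' g g' i i' j j' p r s t w x y z : G} {φ : ℕ → G}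
  {n m n' m' : ℕ} {M M' N : M4}

structure Co (A : Subgroup G) (φ : ℕ → G) : Prop where
  mul : ∀ n m, φ (n ^^^ m) = φ n * φ m
  mem : ∀ n, φ n ∈ A
  inj : ∀ n < 16, φ n = 1 → n = 0
  sur : ∀ x ∈ A, ∃ n < 16, φ n = x

def Rl (φ : ℕ → G) (g : G) (n m : ℕ) : Prop := m < 16 ∧ g * φ n * g⁻¹ = φ m

structure Ac (φ : ℕ → G) (g : G) (M : M4) : Prop where
  e1 : Rl φ g 1 M.1
  e2 : Rl φ g 2 M.2.1
  e4 : Rl φ g 4 M.2.2.1
  e8 : Rl φ g 8 M.2.2.2

theorem xlt (h : n < 16) (h' : m < 16) : n ^^^ m < 16 := Nat.xor_lt_two_pow (n := 4) h h'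

theorem Ac.of (h : Ac φ g M) (e : M = M' := by decide +kernel) : Ac φ g M' := e ▸ h

theorem mkCo (hs : ∀ x ∈ A, x * x = 1) (hc : ♯A = 16) (hI : I ≤ A) (hz : z ∈ I) (hi : i ∈ I)
    (hi' : i' ∈ A) (ha : a ∈ A) (z1 : z ≠ 1) (i1 : i ≠ 1) (zi : z * i ≠ 1) (n1 : i' ∉ I)
    (n2 : a ∉ I) (n3 : i' * a ∉ I) :
    ∃ φ, Co A φ ∧ φ 1 = z ∧ φ 2 = i ∧ φ 4 = i' ∧ φ 8 = a := by
  let φ : ℕ → G := fun n => (cond (n.testBit 0) z 1 * cond (n.testBit 1) i 1) *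
    (cond (n.testBit 2) i' 1 * cond (n.testBit 3) a 1)
  have cm : ∀ {U : Subgroup G} (b : Bool) {x : G}, x ∈ U → cond b x 1 ∈ U := fun b x hx => by
    cases b; exacts [one_mem _, hx]
  have cx : ∀ (b c : Bool) {x : G}, x ∈ A → cond (b ^^ c) x 1 = cond b x 1 * cond c x 1 :=
    fun b c x hx => by cases b <;> cases c <;> simp [hs x hx]
  have mm : ∀ {a b c d : G}, b ∈ A → c ∈ A → a * b * (c * d) = a * c * (b * d) :=
    fun {a b c d} hb hc => by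
      rw [mul_assoc, ← mul_assoc b, commSq hs hb hc]; simp only [mul_assoc]
  have mem : ∀ n, φ n ∈ A := fun n =>
    mul_mem (mul_mem (cm _ (hI hz)) (cm _ (hI hi))) (mul_mem (cm _ hi') (cm _ ha))
  have mul : ∀ n m, φ (n ^^^ m) = φ n * φ m := fun n m => by
    simp only [φ, Nat.testBit_xor]
    rw [cx _ _ (hI hz), cx _ _ (hI hi), cx _ _ hi', cx _ _ ha, mm (cm _ (hI hz)) (cm _ (hI hi)),
      mm (cm _ hi') (cm _ ha),
      mm (mul_mem (cm _ (hI hz)) (cm _ (hI hi))) (mul_mem (cm _ hi') (cm _ ha))]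
  have inj : ∀ n < 16, φ n = 1 → n = 0 := fun n hn e => by
    have k : cond (n.testBit 2) i' 1 * cond (n.testBit 3) a 1 ∈ I := by
      rw [← mul_mem_cancel_left (mul_mem (cm (n.testBit 0) hz) (cm (n.testBit 1) hi))]
      exact (show φ n ∈ I by rw [e]; exact one_mem I)
    have d : ∀ n < 16, n.testBit 0 = false → n.testBit 1 = false → n.testBit 2 = false →
      n.testBit 3 = false → n = 0 := by decide
    simp only [φ] at e
    refine d n hn ?_ ?_ ?_ ?_ <;> revert e k <;> cases n.testBit 0 <;> cases n.testBit 1 <;>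
      cases n.testBit 2 <;> cases n.testBit 3 <;> simp [z1, i1, zi, n1, n2, n3]
  refine ⟨φ, ⟨mul, mem, inj, fun x hx => ?_⟩, by simp [φ, Nat.testBit], by simp [φ, Nat.testBit],
    by simp [φ, Nat.testBit], by simp [φ, Nat.testBit]⟩
  have fi : Function.Injective (fun n : Fin 16 => (⟨φ n, mem n⟩ : A)) := fun n m e => by
    have e' : φ n = φ m := congrArg Subtype.val e
    have := inj _ (xlt n.2 m.2) (by rw [mul, e', hs _ (mem m)])
    exact Fin.ext (Nat.eq_of_xor_eq_zero this)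
  obtain ⟨n, hn⟩ := (fi.bijective_of_nat_card_le (by simp [hc])).2 ⟨x, hx⟩
  exact ⟨n, n.2, congrArg Subtype.val hn⟩

namespace Co

variable (h : Co A φ)
include h

theorem zero : φ 0 = 1 := by simpa using h.mul 0 0
theorem sq (n : ℕ) : φ n * φ n = 1 := by rw [← h.mul, Nat.xor_self, h.zero]
theorem sqA : ∀ x ∈ A, x * x = 1 := fun x hx => by
  obtain ⟨n, -, rfl⟩ := h.sur x hx; exact h.sq n
theorem eq (hn : n < 16) (hm : m < 16) (e : φ n = φ m) : n = m :=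
  Nat.eq_of_xor_eq_zero (h.inj _ (xlt hn hm) (by rw [h.mul, e, h.sq]))
theorem ne (hn : n < 16 := by decide) (h0 : n ≠ 0 := by decide) : φ n ≠ 1 := fun e => h0 (h.inj n hn e)

theorem xor (h1 : Rl φ g n m) (h2 : Rl φ g n' m') : Rl φ g (n ^^^ n') (m ^^^ m') :=
  ⟨xlt h1.1 h2.1, by rw [h.mul, h.mul, ← h1.2, ← h2.2]; group⟩
theorem cnd (b : Bool) (h1 : Rl φ g n m) : Rl φ g (cond b n 0) (cond b m 0) := by
  cases b
  · exact ⟨Nat.zero_lt_succ _, by simp [h.zero]⟩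
  · exact h1
theorem apR (k : Ac φ g M) (hn : n < 16) : Rl φ g n (ap M n) := by
  have d : ∀ n < 16, ap I4 n = n := by decide
  have : Rl φ g (ap I4 n) (ap M n) :=
    h.xor (h.xor (h.cnd (n.testBit 0) k.e1) (h.cnd (n.testBit 1) k.e2))
      (h.xor (h.cnd (n.testBit 2) k.e4) (h.cnd (n.testBit 3) k.e8))
  rwa [d n hn] at this
theorem cj (k : Ac φ g M) (hn : n < 16 := by decide) : g * φ n * g⁻¹ = φ (ap M n) := (h.apR k hn).2
theorem lt (k : Ac φ g M) (hn : n < 16) : ap M n < 16 := (h.apR k hn).1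

theorem mulA (k : Ac φ g M) (k' : Ac φ g' N) : Ac φ (g * g') (cp M N) := by
  have : ∀ {n m}, Rl φ g' n m → Rl φ (g * g') n (ap M m) := fun {n m} e =>
    ⟨h.lt k e.1, by rw [← h.cj k e.1, ← e.2]; group⟩
  exact ⟨this k'.e1, this k'.e2, this k'.e4, this k'.e8⟩

theorem ofC (hx : x ∈ C[A]) : Ac φ x I4 := by
  have : ∀ n < 16, Rl φ x n n := fun n hn =>
    ⟨hn, by rw [← mem_C.1 hx _ (h.mem n), mul_inv_cancel_right]⟩
  exact ⟨this 1 (by decide), this 2 (by decide), this 4 (by decide), this 8 (by decide)⟩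

theorem ofA (hx : x ∈ A) : Ac φ x I4 := h.ofC (mem_C.2 fun y hy => commSq h.sqA hy hx)

theorem toN (k : Ac φ g M) : g ∈ N[A] := mem_N_of_finite fun x hx => by
  obtain ⟨n, hn, rfl⟩ := h.sur x hx
  rw [h.cj k hn]; exact h.mem _

theorem toC (k : Ac φ g I4) : g ∈ C[A] := mem_C'.2 fun x hx => by
  have d : ∀ n < 16, ap I4 n = n := by decide
  obtain ⟨n, hn, rfl⟩ := h.sur x hx
  rw [← mul_inv_eq_iff_eq_mul, h.cj k hn, d n hn]

theorem exA (hg : g ∈ N[A]) : ∃ a < 16, ∃ b < 16, ∃ c < 16, ∃ d < 16, Ac φ g (a, b, c, d) := by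
  obtain ⟨a, a1, a2⟩ := h.sur _ (conj_mem hg (h.mem 1))
  obtain ⟨b, b1, b2⟩ := h.sur _ (conj_mem hg (h.mem 2))
  obtain ⟨c, c1, c2⟩ := h.sur _ (conj_mem hg (h.mem 4))
  obtain ⟨d, d1, d2⟩ := h.sur _ (conj_mem hg (h.mem 8))
  exact ⟨a, a1, b, b1, c, c1, d, d1, ⟨a1, a2.symm⟩, ⟨b1, b2.symm⟩, ⟨c1, c2.symm⟩, ⟨d1, d2.symm⟩⟩

theorem uq (k : Ac φ g M) (k' : Ac φ g M') : M = M' := by
  have : ∀ {n m m'}, Rl φ g n m → Rl φ g n m' → m = m' := fun e e' =>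
    h.eq e.1 e'.1 (e.2.symm.trans e'.2)
  exact Prod.ext (this k.e1 k'.e1) (Prod.ext (this k.e2 k'.e2)
    (Prod.ext (this k.e4 k'.e4) (this k.e8 k'.e8)))

theorem apE (k : Ac φ g M) (hn : n < 16) (hm : m < 16) (e : g * φ n * g⁻¹ = φ m) : ap M n = m :=
  h.eq (h.lt k hn) hm ((h.cj k hn).symm.trans e)

theorem fix (k : Ac φ g M) (hn : n < 16) : φ n * g = g * φ n ↔ ap M n = n :=
  ⟨fun e => h.apE k hn hn (by rw [← e, mul_inv_cancel_right]),
    fun e => by rw [eq_comm, ← mul_inv_eq_iff_eq_mul, h.cj k hn, e]⟩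

theorem inj0 (k : Ac φ g M) : ∀ n < 16, ap M n = 0 → n = 0 := fun n hn e =>
  h.inj n hn (by simpa [e, h.zero] using h.cj k hn)

theorem fix0 (k : Ac φ g M) (f : Fpf M) (hx : x ∈ A) (e : g * x = x * g) : x = 1 := by
  obtain ⟨n, hn, rfl⟩ := h.sur x hx
  rw [f n hn ((h.fix k hn).1 e.symm), h.zero]

theorem evA {e : ℕ → G} {Ms : ℕ → M4} {L : List ℕ} (k : ∀ c ∈ L, Ac φ (e c) (Ms c)) :
    ∀ w : List ℕ, (∀ c ∈ w, c ∈ L) → Ac φ (ev e w) (evM Ms w)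
  | [], _ => h.ofA (one_mem A)
  | c :: w, hw => h.mulA (k c (hw c (by simp))) (evA k w fun c hc => hw c (by simp [hc]))

theorem ofCm (hn : n < 16) (hm : m < 16) (hj : j * j = 1) (e : ⁅φ n, j⁆ = φ m) :
    Rl φ j n (n ^^^ m) :=
  ⟨xlt hn hm, by rw [h.mul, ← e, commutatorElement_def, TH.inv_of_sq (h.sq n), ← mul_assoc,
    ← mul_assoc, ← mul_assoc, h.sq, one_mul]⟩

theorem toCm (k : Ac φ j M) (hn : n < 16 := by decide) : ⁅φ n, j⁆ = φ (n ^^^ ap M n) := by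
  rw [h.mul, ← h.cj k hn, commutatorElement_def, TH.inv_of_sq (h.sq n)]; group

end Co

theorem lift (hs : ∀ x ∈ E, x * x = 1) (hN : g ∈ N[E]) (g3 : g * g * g = 1)
    (fp : ∀ x ∈ E, g * x = x * g → x = 1) (hu : y * g * y⁻¹ * g ∈ E) :
    ∃ x ∈ E, x * y * g * (x * y)⁻¹ = g⁻¹ := by
  set u := y * g * y⁻¹ * g with hud
  have h1 := conj_mem' hN hu
  have h2 := conj_mem' hN h1
  have e3 : g⁻¹ * (g⁻¹ * (g⁻¹ * u * g) * g) * g = u := by
    calc _ = (g * g * g)⁻¹ * u * (g * g * g) := by group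
      _ = u := by rw [g3]; group
  have e : g⁻¹ * (g⁻¹ * u * g * u * (g⁻¹ * (g⁻¹ * u * g) * g)) * g =
      g⁻¹ * u * g * u * (g⁻¹ * (g⁻¹ * u * g) * g) := by
    calc _ = g⁻¹ * (g⁻¹ * u * g) * g * (g⁻¹ * u * g *
          (g⁻¹ * (g⁻¹ * (g⁻¹ * u * g) * g) * g)) := by group
      _ = _ := by rw [e3, commSq hs h2 (mul_mem h1 hu)]
  have := fp _ (mul_mem (mul_mem h1 hu) h2) (by rw [eq_comm, ← inv_mul_eq_iff_eq_mul, ← mul_assoc, e])
  refine ⟨_, h1, ?_⟩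
  rw [mul_inv_rev, TH.inv_of_sq (hs _ h1), ← mul_eq_one_iff_eq_inv, ← this, hud]
  group

theorem mem4 (h4 : ♯K = 4) (hx : x ∈ K) (hy : y ∈ K) (x1 : x ≠ 1) (y1 : y ≠ 1) (xy : x * y ≠ 1)
    (x2 : x * x = 1) (hw : w ∈ K) : w = 1 ∨ w = x ∨ w = y ∨ w = x * y := by
  by_contra hc
  push Not at hc
  obtain ⟨c1, c2, c3, c4⟩ := hc
  have ne : x ≠ y := fun e => xy (e ▸ x2)
  have := Set.ncard_le_ncard (s := {w, 1, x, y, x * y}) (t := (K : Set G)) (by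
    rintro _ (rfl | rfl | rfl | rfl | rfl)
    exacts [hw, one_mem K, hx, hy, mul_mem hx hy]) (Set.toFinite _)
  rw [Set.ncard_insert_of_notMem (by simp [c1, c2, c3, c4]),
    Set.ncard_insert_of_notMem (by simp [x1.symm, y1.symm, xy.symm]),
    Set.ncard_insert_of_notMem (by simp [ne, y1]), Set.ncard_pair (by simp [x1]),
    show (K : Set G).ncard = 4 from h4] at this
  omega

end H28.TS
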