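import Cfsg.Agent.H28.TSA

/-! TI, sporadic case: the geometry in coordinates. -/

set_option autoImplicit false
set_option linter.unusedSectionVars false
set_option linter.unusedVariables false
set_option synthInstance.maxSize 4096

namespace H28.TS

open Cfsg H24 Subgroup H12.TI H8.TI H29
open scoped commutatorElement

universe u

variable {G : Type u} [Group G] [Finite G] {Ω : Set (Subgroup G)}
  {A B C E I K P Q : Subgroup G} {a b c d d' g g' i i' j j' k l p r s t w x y z : G} {φ : ℕ → G}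
  {n m n' m' : ℕ} {M M' N : M4}

def DP (Ω : Set (Subgroup G)) (d : G) : Prop := ∃ B ∈ Ω, d ∈ B

def all4 (f : M4 → Bool) : Bool := (List.range 16).all fun a => (List.range 16).all fun b =>
  (List.range 16).all fun c => (List.range 16).all fun d => f (a, b, c, d)

theorem all4_true {f : M4 → Bool} (h : all4 f = true) {a b c d : ℕ} (ha : a < 16) (hb : b < 16)
    (hc : c < 16) (hd : d < 16) : f (a, b, c, d) = true := by
  simp only [all4, List.all_eq_true, List.mem_range] at h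
  exact h a ha b hb c hc d hd

def P1 (M X : M4) (n : ℕ) : Prop := ap X n = 8 ∧ X.1 ≠ 8 ^^^ ap M 8
def P2 (M X : M4) : Prop :=
  (∀ m < 16, ap M m = m → ap M (ap X m) = ap X m ∧ (ap X m = m → m = 0)) ∧
    ∀ m < 16, ap X m = 0 → m = 0
def P3 (X N : M4) : Prop := ap (cp (cp X X) X) 1 = 1 ∧ (cp (cp X X) X = I4 → X = N)
instance (M X : M4) (n : ℕ) : Decidable (P1 M X n) := by unfold P1; infer_instance
instance (M X : M4) : Decidable (P2 M X) := by unfold P2; infer_instance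
instance (M X : M4) : Decidable (P3 M X) := by unfold P3; infer_instance

theorem Co.nA (co : Co A φ) (k : Ac φ g M) (e : M ≠ I4 := by decide) : g ∉ A :=
  fun hg => e (co.uq k (co.ofA hg))

variable (h : St Ω) (hc : CS Ω)
include h

theorem DP.cj (hd : DP Ω d) (g : G) : DP Ω (g * d * g⁻¹) := by
  obtain ⟨B, h1, h2⟩ := hd
  exact ⟨_, h.cjm B h1 g, conj_mem_cj g h2⟩

theorem memA (co : Co A φ) (hA : A ∈ Ω) (k : Ac φ g I4) : g ∈ A := h.cent A hA (co.toC k)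

theorem triv (co : Co A φ) (hA : A ∈ Ω) (k : Ac φ x I4) (k' : Ac φ g M) (f : Fpf M)
    (e : g * x = x * g) : x = 1 := co.fix0 k' f (memA h co hA k) e

theorem cube (co : Co A φ) (hA : A ∈ Ω) (k : Ac φ g M)
    (f : Fpf M ∧ cp (cp M M) M = I4 := by decide +kernel) : g * g * g = 1 :=
  triv h co hA ((co.mulA (co.mulA k k) k).of f.2) k f.1 (by group)

theorem inAB (hA : Adj Ω A B) (h1 : x ∈ A) (h2 : x ∈ B) : x = 1 := by
  by_contra e; exact hA.ne (h.toSit.eq_of_mem hA.l hA.r e h1 h2)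

theorem axiff (co : Co A φ) (hA : Adj Ω A B) (hj : j ∈ ax B A) (k : Ac φ j M) (e : M ≠ I4)
    (hn : n < 16) : φ n ∈ N[B] ↔ ap M n = n :=
  (h.toSit.cent_iff hA hj (neOne (co.nA k e)) (co.mem n)).symm.trans (co.fix k hn)

theorem exg (co : Co A φ) (hA : Adj Ω A B) (hj : j ∈ ax B A) (k : Ac φ j M)
    (d0 : M ≠ I4 ∧ n ^^^ ap M n = 1 ∧ ap M n ≠ n ∧ ap M 8 ≠ 8 ∧ ap M (n ^^^ 8) ≠ n ^^^ 8 ∧
      ap M 1 = 1 ∧ n < 16)
    (d1 : all4 (fun X => decide (P1 M X n ∧ P2 M X → P3 X N)) = true) :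
    ∃ g ∈ N[B], Od Ω (Wl A B) g ∧ Ac φ g N ∧ g * g * g = 1 := by
  obtain ⟨e0, e1, e2, e3, e4, e5, hn⟩ := d0
  have ax := fun m => axiff h co hA hj k e0 (n := m)
  have n8 := mt (ax 8 (by decide)).1 e3
  obtain ⟨g, -, gA, gB, g1, g2⟩ := h.toSit.exists_h hA (co.mem n) (mt (ax n hn).1 e2) (co.mem 8) n8
  have od := g2 (by rw [← co.mul]; exact mt (ax _ (xlt hn (by decide))).1 e4)
  obtain ⟨a, a1, b, b1, c, c1, d, d2, k'⟩ := co.exA gA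
  obtain ⟨f1, f2⟩ := of_decide_eq_true (all4_true d1 a1 b1 c1 d2) ⟨⟨co.apE k' hn (by decide) g1, (fun e => by
    have hj' : g * j * g⁻¹ ∈ H12.TI.ax B A := 
      memAx.2 ⟨conj_mem gB hj.1, mul_mem (mul_mem gA (axN hj)) (inv_mem gA)⟩
    have := h.toSit.comm_inj hA (co.mem 8) n8 hj' hj (by
      rw [co.toCm k, ← show a = _ from e, ← g1, ← cm_conj, co.toCm k hn, e1]; exact k'.e1.2)
    exact neOne (co.nA k e0) (od.fpf h.toSit hA (axLeW' A B hj) (mul_inv_eq_iff_eq_mul.1 this)))⟩,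
    (fun m hm e => ⟨(ax _ (co.lt k' hm)).1 (by
      rw [← co.cj k' hm]; exact mul_mem (mul_mem gB ((ax m hm).2 e)) (inv_mem gB)), fun e' =>
      co.inj m hm (od.fpf h.toSit hA (axLeW A B ⟨co.mem m, (ax m hm).2 e⟩)
        ((co.fix k' hm).2 e').symm)⟩), co.inj0 k'⟩
  have k3 := co.mulA (co.mulA k' k') k'
  have g3 : g * g * g = 1 := by
    by_contra e
    rw [← pow_three'] at e k3
    exact co.ne (n := 1) (by decide) (by decide)
      ((od.pow h.toSit (h.toSit.gl_Wl hA) e).fpf h.toSit hA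
      (axLeW A B ⟨co.mem 1, (ax 1 (by decide)).2 e5⟩) ((co.fix k3 (by decide)).2 f1).symm)
  exact ⟨g, gB, od, k'.of (f2 (co.uq k3 (g3 ▸ co.ofA (one_mem A)))), g3⟩

include hc

theorem DP.mul (hd : DP Ω d) (hd' : DP Ω d') (e : d * d' = d' * d) : DP Ω (d * d') := by
  obtain ⟨P, h1, h2⟩ := hd
  obtain ⟨Q, h3, h4⟩ := hd'
  by_cases d1 : d = 1
  · exact ⟨Q, h3, by rwa [d1, one_mul]⟩
  by_cases d2 : d' = 1
  · exact ⟨P, h1, by rwa [d2, mul_one]⟩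
  by_cases ne : P = Q
  · exact ⟨Q, h3, mul_mem (ne ▸ h2) h4⟩
  have n1 := h.toSit.C1_le h1 h2 d1 (mem_C1.2 e.symm)
  obtain ⟨a, -, ea⟩ := IG.onto h.toSit (hc.half h.toSit)
    (TH.CS_top hc (h.toSit.adj_of_mem h1 h3 ne h4 d2 n1)) ⟨h4, n1⟩ d2
    ⟨h2, h.toSit.C1_le h3 h4 d2 (mem_C1.2 e)⟩
  exact ea ▸ DP.cj h ⟨Q, h3, h4⟩ a

theorem line (co : Co A φ) (hA : Adj Ω A P) (hn : n < 16) (hm : m < 16) (n0 : n ≠ 0) (m0 : m ≠ 0)
    (ne : n ≠ m) (h1 : φ n ∈ N[P]) (h2 : φ m ∈ N[P]) (hx : x ∈ ax A P) :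
    x = 1 ∨ x = φ n ∨ x = φ m ∨ x = φ n * φ m :=
  mem4 (hc.four _ _ hA) ⟨co.mem n, h1⟩ ⟨co.mem m, h2⟩ (co.ne hn n0) (co.ne hm m0)
    (co.mul n m ▸ co.ne (xlt hn hm) (mt Nat.eq_of_xor_eq_zero ne)) (co.sq n) hx

theorem line' (co : Co A φ) (hA : Adj Ω A P) (hn : n < 16) (hm : m < 16) (n0 : n ≠ 0) (m0 : m ≠ 0)
    (ne : n ≠ m) (h1 : φ n ∈ N[P]) (h2 : φ m ∈ N[P]) (hn' : n' < 16) (h3 : φ n' ∈ N[P]) :
    n' ∈ [0, n, m, n ^^^ m] := by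
  rcases line h hc co hA hn hm n0 m0 ne h1 h2 ⟨co.mem n', h3⟩ with e | e | e | e
  · simp [co.inj _ hn' e]
  · simp [co.eq hn' hn e]
  · simp [co.eq hn' hm e]
  · simp [co.eq hn' (xlt hn hm) (e.trans (co.mul n m).symm)]

theorem exline (co : Co A φ) (hA : Adj Ω A P) :
    ∃ n < 16, ∃ m < 16, n ≠ 0 ∧ m ≠ 0 ∧ n ≠ m ∧ φ n ∈ N[P] ∧ φ m ∈ N[P] := by
  have : 2 < (ax A P : Set G).ncard := by rw [show (ax A P : Set G).ncard = 4 from hc.four _ _ hA]; decide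
  obtain ⟨x, y, z, hx, hy, hz, e1, e2, e3⟩ := (Set.two_lt_ncard_iff (Set.toFinite _)).1 this
  have key : ∀ x ∈ ax A P, ∀ y ∈ ax A P, x ≠ 1 → y ≠ 1 → x ≠ y →
      ∃ n < 16, ∃ m < 16, n ≠ 0 ∧ m ≠ 0 ∧ n ≠ m ∧ φ n ∈ N[P] ∧ φ m ∈ N[P] := by
    intro x hx y hy x1 y1 e
    obtain ⟨n, hn, rfl⟩ := co.sur x hx.1
    obtain ⟨m, hm, rfl⟩ := co.sur y hy.1
    exact ⟨n, hn, m, hm, fun e => x1 (e ▸ co.zero), fun e => y1 (e ▸ co.zero),
      fun e' => e (by rw [e']), hx.2, hy.2⟩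
  exact key (x⁻¹ * y) (mul_mem (inv_mem hx) hy) (x⁻¹ * z) (mul_mem (inv_mem hx) hz)
    (mt inv_mul_eq_one.1 e1) (mt inv_mul_eq_one.1 e2) (mt mul_left_cancel e3)

theorem noT (co : Co A φ) (hA : A ∈ Ω) (hd : DP Ω d) (k : Ac φ d (1, 2, 4, 9)) : False := by
  obtain ⟨P, h1, h2⟩ := hd
  have n1 := co.nA k
  have aj := h.toSit.adj_of_mem hA h1 (fun e => n1 (e ▸ h2)) h2 (neOne n1) (co.toN k)
  have ax := fun m hm => (axiff h co aj ⟨h2, co.toN k⟩ k (by decide) (n := m) hm).2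
  exact absurd (line' h hc co aj (by decide) (by decide) (by decide) (by decide) (by decide)
    (ax 1 (by decide) rfl) (ax 2 (by decide) rfl) (by decide) (ax 4 (by decide) rfl)) (by decide)

theorem exSu : ∃ (A B C : Subgroup G) (φ : ℕ → G) (j j' : G), Co A φ ∧ Adj Ω A B ∧ Adj Ω A C ∧
    j ∈ ax B A ∧ j' ∈ ax C A ∧ Ac φ j (1, 2, 5, 10) ∧ Ac φ j' (1, 3, 4, 12) := by
  obtain ⟨A, B, C, hB, hC, ne, nb⟩ := hc.ex
  have S := h.toSit
  have sq := S.sq A hB.l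
  obtain ⟨z, z0, z3⟩ := exists_ne_one nb
  obtain ⟨z1, z2⟩ := mem_inf.1 z0
  obtain ⟨y, y1, y2⟩ : ∃ y ∈ ax A C, y ∉ ax A B := by
    by_contra e; push Not at e
    exact ne (eq_of_card_eq e (by rw [hc.four _ _ hB, hc.four _ _ hC])).symm
  obtain ⟨x, x1, x2⟩ : ∃ x ∈ ax A B, x ∉ ax A C := by
    by_contra e; push Not at e
    exact ne (eq_of_card_eq e (by rw [hc.four _ _ hB, hc.four _ _ hC]))
  obtain ⟨a, a1, a2, a3⟩ := twoOut (I := ax A B) axL (by rw [hc.four _ _ hB, hc.card _ hB.l]) y1.1 y2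
  rw [TH.inv_of_sq (sq y y1.1)] at a3
  have m1 := fun w => mem4 (w := w) (hc.four _ _ hB) z1 x1 z3 (neOne x2)
    (neOne (mt (mul_mem_cancel_left z2).1 x2)) (sq z z1.1)
  have m2 := fun w => mem4 (w := w) (hc.four _ _ hC) z2 y1 z3 (neOne y2)
    (neOne (mt (mul_mem_cancel_left z1).1 y2)) (sq z z1.1)
  have a4 : ∀ u ∈ ax A B, u * a ∉ ax A C := fun u hu e => by
    have q : ∀ v ∈ ax A B, u * a = v * y → False := fun v hv e' => a3 (by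
      have : y * a = y * u⁻¹ * v * y⁻¹ := by rw [TH.inv_of_sq (sq y y1.1), mul_assoc, ← e']; group
      rw [this, mul_assoc y]
      exact conj_mem (ptN S hB.l axL y1.1) (mul_mem (inv_mem hu) hv))
    rcases m2 _ e with e' | e' | e' | e'
    · exact a2 ((mul_mem_cancel_left hu).1 (e' ▸ one_mem _))
    · exact a2 ((mul_mem_cancel_left hu).1 (e' ▸ z1))
    · exact q 1 (one_mem _) (by rw [e', one_mul])
    · exact q z z1 e'
  obtain ⟨j, j1, j2⟩ := S.comm_surj hB y1.1 (fun e => y2 ⟨y1.1, e⟩) z1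
  obtain ⟨j', j1', j2'⟩ := S.comm_surj hC x1.1 (fun e => x2 ⟨x1.1, e⟩) z2
  have f : ∀ {B : Subgroup G} {j y : G}, Adj Ω A B → j ∈ ax B A → y ∈ A → ⁅y, j⁆ = z → a ∉ ax A B →
      y * a ∉ ax A B → ⁅a, j⁆ ≠ 1 ∧ ⁅a, j⁆ ≠ z ∧ (∀ u ∈ ax A B, ⁅u, j⁆ = 1) ∧
        (z ∈ ax A B → ⁅z * y, j⁆ = z) := fun {B j y} hB j1 y1 j2 a2 a3 => by
    have j0 : j ≠ 1 := by rintro rfl; exact z3 (by simpa using j2.symm)
    have c0 : ∀ u ∈ ax A B, ⁅u, j⁆ = 1 := fun u hu => cm_one.2 (S.commAx hB.l hB.r hu j1)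
    refine ⟨fun e => a2 ⟨a1, (S.cent_iff hB j1 j0 a1).1 (cm_one.1 e)⟩, fun e => a3
      ⟨mul_mem y1 a1, (S.cent_iff hB j1 j0 (mul_mem y1 a1)).1 (cm_one.1 ?_)⟩, c0, fun z1 => ?_⟩
    · rw [cm_mul sq j1.2 _ y1 _ a1, j2, e, sq z z1.1]
    · rw [cm_mul sq j1.2 _ z1.1 _ y1, c0 z z1, one_mul, j2]
  obtain ⟨f1, f2, f3, f4⟩ := f hB j1 y1.1 j2 a2 a3
  obtain ⟨g1, g2, g3, g4⟩ := f hC j1' x1.1 j2' (by simpa using a4 1 (one_mem _)) (a4 x x1)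
  have i1 := S.comm_mem hB a1 j1
  have i2 := S.comm_mem hC a1 j1'
  have k1 : ⁅⁅a, j⁆, j'⁆ = z := by
    rcases m1 _ i1 with e | e | e | e
    exacts [absurd e f1, absurd e f2, e ▸ j2', e ▸ g4 z2]
  have k2 : ⁅⁅a, j'⁆, j⁆ = z ∧ ⁅a, j'⁆ ∉ ax A B ∧ ⁅a, j'⁆ * a ∉ ax A B := by
    rcases m2 _ i2 with e | e | e | e
    exacts [absurd e g1, absurd e g2, e ▸ ⟨j2, y2, a3⟩, e ▸ ⟨f4 z1, mt (mul_mem_cancel_left z1).1 y2,
      by rw [mul_assoc]; exact mt (mul_mem_cancel_left z1).1 a3⟩]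
  obtain ⟨φ, co, p1, p2, p4, p8⟩ := mkCo sq (hc.card _ hB.l) axL z1 i1 i2.1 a1 z3 f1
    (fun e => f2 (by rw [← mul_eq_one_iff_inv_eq.1 e, TH.inv_of_sq (sq z z1.1)])) k2.2.1 a2 k2.2.2
  have s1 := S.sq B hB.r j j1.1
  have s2 := S.sq C hC.r j' j1'.1
  refine ⟨A, B, C, φ, j, j', co, hB, hC, j1, j1',
    ⟨co.ofCm (n := 1) (m := 0) (by decide) (by decide) s1 ?_,
    co.ofCm (n := 2) (m := 0) (by decide) (by decide) s1 ?_,
    co.ofCm (n := 4) (m := 1) (by decide) (by decide) s1 ?_,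
    co.ofCm (n := 8) (m := 2) (by decide) (by decide) s1 ?_⟩,
    ⟨co.ofCm (n := 1) (m := 0) (by decide) (by decide) s2 ?_,
    co.ofCm (n := 2) (m := 1) (by decide) (by decide) s2 ?_,
    co.ofCm (n := 4) (m := 0) (by decide) (by decide) s2 ?_,
    co.ofCm (n := 8) (m := 4) (by decide) (by decide) s2 ?_⟩⟩ <;>
    simp only [p1, p2, p4, p8, co.zero]
  exacts [f3 z z1, f3 _ i1, k2.1, g3 z z2, k1, g3 _ i2]

end H28.TS
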