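import Cfsg.Agent.H28.TSB

/-! TI, sporadic case: the complement `A₆` and the swap. -/

set_option autoImplicit false
set_option linter.unusedSectionVars false
set_option linter.unusedVariables false
set_option synthInstance.maxSize 4096

namespace H28.TS

open Cfsg H24 Subgroup H12.TI H8.TI H29
open scoped commutatorElement

universe u

variable {G : Type u} [Group G] [Finite G] {Ω : Set (Subgroup G)}
  {A B C E I K P Q : Subgroup G} {a b c d d' g g' i i' j j' k l p r s t w x y : G} {φ : ℕ → G}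
  {n m n' m' : ℕ} {M M' N : M4}

abbrev mJ : M4 := (1, 2, 5, 10)
abbrev mK : M4 := (6, 9, 8, 4)
abbrev mL : M4 := (1, 3, 4, 12)
abbrev mH : M4 := (3, 1, 8, 12)

structure Z (Ω : Set (Subgroup G)) (A B : Subgroup G) (φ : ℕ → G) (j k l g : G) : Prop where
  co : Co A φ
  adj : Adj Ω A B
  hj : j ∈ ax B A
  aj : Ac φ j mJ
  ak : Ac φ k mK
  al : Ac φ l mL
  ag : Ac φ g mH
  gB : g ∈ N[B]
  od : Od Ω (Wl A B) g
  g3 : g * g * g = 1
  ki : k * g * k⁻¹ = g⁻¹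
  li : l * g * l⁻¹ = g⁻¹
  dl : DP Ω l

theorem cg (h1 : x * g * x⁻¹ = g⁻¹) (h2 : y * g * y⁻¹ = g⁻¹) : g * (x * y) = x * y * g := by
  calc _ = (x * g * x⁻¹)⁻¹ * (x * y) := by rw [h1, inv_inv]
    _ = x * (y * g * y⁻¹) * y * (y⁻¹ * x⁻¹) * x * y := by rw [h2]; group
    _ = _ := by group

theorem cgi (h1 : x * g * x⁻¹ = g⁻¹) : x⁻¹ * g * x⁻¹⁻¹ = g⁻¹ := by
  calc _ = x⁻¹ * (x * g * x⁻¹)⁻¹ * x := by rw [h1]; group
    _ = _ := by group

theorem cm2 (h1 : x * x = 1) (h2 : y * y = 1) (h3 : x * y * (x * y) = 1) : x * y = y * x := by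
  rw [← TH.inv_of_sq h3, mul_inv_rev, TH.inv_of_sq h1, TH.inv_of_sq h2]

variable (h : St Ω) (hc : CS Ω)
include h

theorem liftA (co : Co A φ) (hA : A ∈ Ω) (ag : Ac φ g mH) (g3 : g * g * g = 1) (k : Ac φ y M)
    (d : cp M M = I4 ∧ cp M I4 = M ∧ cp I4 M = M ∧ cp (cp (cp M mH) M) mH = I4 := by
      decide +kernel) : ∃ x ∈ A, Ac φ (x * y) M ∧ x * y * g * (x * y)⁻¹ = g⁻¹ := by
  have k' : Ac φ y⁻¹ M := by
    have := (co.mulA k (co.ofC (inv_mem (co.toC ((co.mulA k k).of d.1))))).of d.2.1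
    rwa [mul_inv_rev, mul_inv_cancel_left] at this
  obtain ⟨x, hx, e⟩ := lift co.sqA (co.toN ag) g3 (fun x hx => co.fix0 ag (by decide) hx)
    (memA h co hA ((co.mulA (co.mulA (co.mulA k ag) k') ag).of d.2.2.2))
  exact ⟨x, hx, (co.mulA (co.ofA hx) k).of d.2.2.1, e⟩

theorem sqI (co : Co A φ) (hA : A ∈ Ω) (ag : Ac φ g mH) (k : Ac φ y M) (e : y * g * y⁻¹ = g⁻¹)
    (d : cp M M = I4 := by decide) : y * y = 1 :=
  triv h co hA ((co.mulA k k).of d) ag (by decide) (cg e e)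

theorem eqB (co : Co A φ) (hA : Adj Ω A B) (hx : x ∈ B) (hy : y ∈ B) (k : Ac φ x M) (k' : Ac φ y N)
    (d : cp M N = I4 := by decide) : x = y := by
  rw [mul_eq_one_iff_eq_inv.1 (inAB h hA (memA h co hA.l ((co.mulA k k').of d)) (mul_mem hx hy)),
    TH.inv_of_sq (h.sq B hA.r y hy)]

include hc

theorem exZ : ∃ (A B : Subgroup G) (φ : ℕ → G) (j k l g : G), Z Ω A B φ j k l g := by
  obtain ⟨A, B, C, φ, j, j', co, hB, hC, j1, j2, a1, a2⟩ := exSu h hc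
  obtain ⟨g, gB, od, ag, g3⟩ := exg h (n := 4) (N := mH) co hB j1 a1 (by decide) (by decide +kernel)
  obtain ⟨g', -, -, ag', -⟩ :=
    exg h (n := 2) (N := (5, 8, 1, 10)) co hC j2 a2 (by decide) (by decide +kernel)
  obtain ⟨x, hx, ak, ki⟩ := liftA h co hB.l ag g3 (M := mK)
    (co.mulA (co.mulA (co.mulA (co.mulA a1 ag) ag') ag) a1).of
  obtain ⟨y, hy, al, li⟩ := liftA h co hB.l ag g3 a2
  exact ⟨A, B, φ, j, _, _, g, co, hB, j1, a1, ak, al, ag, gB, od, g3, ki, li,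
    DP.mul h hc ⟨A, hB.l, hy⟩ ⟨C, hC.r, j2.1⟩
      (cm2 (co.sqA y hy) (h.sq C hC.r j' j2.1) (sqI h co hB.l ag al li))⟩

theorem same (co : Co A φ) (hB : Adj Ω A B) (hP : Adj Ω A P) (hn : n < 16) (hm : m < 16) (n0 : n ≠ 0)
    (m0 : m ≠ 0) (ne : n ≠ m) (h1 : φ n ∈ N[B]) (h2 : φ m ∈ N[B]) (h3 : φ n ∈ N[P])
    (h4 : φ m ∈ N[P]) : ∃ a ∈ A, P = cj a B := by
  refine h.uniq A B P (TH.CS_top hc hB) hP
    (eq_of_card_eq (fun x hx => memAx.2 ⟨hx.1, ?_⟩) (by rw [hc.four _ _ hB, hc.four _ _ hP]))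
  rcases line h hc co hP hn hm n0 m0 ne h3 h4 hx with e | e | e | e <;> rw [e]
  exacts [one_mem _, h1, h2, mul_mem h1 h2]

theorem mv (co : Co A φ) (hP : Adj Ω A P) (k : Ac φ y M) :
    Adj Ω A (cj y P) ∧ ∀ n < 16, φ n ∈ N[P] → φ (ap M n) ∈ N[cj y P] :=
  ⟨(TH.top_K h.toSit (TH.CS_top hc hP) (co.toN k)).toAdj, fun n hn e => by
    rw [← co.cj k hn, ← cj_N]; exact conj_mem_cj y e⟩

namespace Z

variable (z : Z Ω A B φ j k l g)
include z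

theorem ax' (hn : n < 16 := by decide) : φ n ∈ N[B] ↔ ap mJ n = n :=
  axiff h z.co z.adj z.hj z.aj (by decide) hn

theorem normB (k : Ac φ y M) (e : y * g * y⁻¹ = g⁻¹)
    (d : ap M 1 ∈ [1, 2, 3] ∧ ap M 2 ∈ [1, 2, 3] ∧ ap M 1 ≠ ap M 2 := by decide) : y ∈ N[B] := by
  have d' : ∀ n ∈ [1, 2, 3], n < 16 ∧ n ≠ 0 ∧ ap mJ n = n := by decide
  obtain ⟨a1, a2⟩ := mv h hc z.co z.adj k
  obtain ⟨a, ha, ea⟩ := same h hc z.co z.adj a1 (d' _ d.1).1 (d' _ d.2.1).1 (d' _ d.1).2.1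
    (d' _ d.2.1).2.1 d.2.2 ((z.ax' h hc (d' _ d.1).1).2 (d' _ d.1).2.2)
    ((z.ax' h hc (d' _ d.2.1).1).2 (d' _ d.2.1).2.2)
    (a2 1 (by decide) ((z.ax' h hc).2 rfl)) (a2 2 (by decide) ((z.ax' h hc).2 rfl))
  have aB : a ∈ N[B] := by
    by_contra nB
    have gA := z.co.toN z.ag
    refine z.od.nofix h.toSit (h.toSit.gl_Wl z.adj) (h.toSit.on_Wl z.adj) gA ha
      (h.toSit.notW z.adj ha nB) (axLeW A B (memAx.2 ⟨mul_mem (conj_mem gA ha) ha, ?_⟩))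
    have : cj (g * a) B = cj a B := by
      rw [cj_mul, ← ea, ← cj_mul, show g * y = y * g⁻¹ by rw [← cgi e]; group, cj_mul,
        cj_of_mem_N (inv_mem z.gB)]
    rw [commSq z.co.sqA (conj_mem gA ha) ha, ← mul_assoc]
    have := mul_mem (cj_eq_cj_iff.1 this) (inv_mem z.gB)
    rwa [TH.inv_of_sq (z.co.sqA a ha)] at this
  rw [mem_N_iff_cj, ea, cj_of_mem_N aB]

theorem j2 : j * j = 1 := h.sq B z.adj.r j z.hj.1
theorem k2 : k * k = 1 := sqI h z.co z.adj.l z.ag z.ak z.ki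
theorem l2 : l * l = 1 := sqI h z.co z.adj.l z.ag z.al z.li

theorem commJ (k : Ac φ y M) (e : y * g * y⁻¹ = g⁻¹)
    (d : (ap M 1 ∈ [1, 2, 3] ∧ ap M 2 ∈ [1, 2, 3] ∧ ap M 1 ≠ ap M 2) ∧ cp M M = I4 ∧
      cp (cp (cp M mJ) M) mJ = I4 := by decide +kernel) : y * j = j * y := by
  refine h.toSit.comm_of z.adj (z.co.toN k) (z.normB h hc k e d.1) z.hj (z.co.toC ?_)
  rw [commutatorElement_def, TH.inv_of_sq (z.j2 h hc),
    TH.inv_of_sq (sqI h z.co z.adj.l z.ag k e d.2.1)]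
  exact (z.co.mulA (z.co.mulA (z.co.mulA k z.aj) k) z.aj).of d.2.2

theorem gi : g⁻¹ = g * g := inv_eq_of_mul_eq_one_left z.g3
theorem agi : Ac φ g⁻¹ (2, 3, 12, 4) := z.gi h hc ▸ (z.co.mulA z.ag z.ag).of

theorem swap : ∃ s, s * s = 1 ∧ s * φ 1 * s⁻¹ = j ∧ s * g * s⁻¹ = g⁻¹ ∧
    s * φ 4 * (s * φ 4) * (s * φ 4) = 1 ∧ DP Ω s ∧ cj s A = B ∧
    ∀ y ∈ N[A], y ∈ N[B] → y * g * y⁻¹ = g⁻¹ → y * φ 4 * y⁻¹ * φ 4 ∈ N[B] → y * s = s * y := by
  have S := h.toSit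
  have co := z.co
  have hA := z.adj
  have hB := S.adj_symm hA
  have gA := co.toN z.ag
  have z1 : φ 1 ∈ ax A B := ⟨co.mem 1, (z.ax' h hc).2 rfl⟩
  have i1 : φ 2 ∈ ax A B := ⟨co.mem 2, (z.ax' h hc).2 rfl⟩
  have pn : φ 4 ∉ N[B] := mt (z.ax' h hc).1 (by decide)
  have jA := co.nA z.aj
  obtain ⟨r, rB, er⟩ := IG.onto S (hc.half S) (TH.CS_top hc hB) z1 co.ne z.hj
  have rn : r ∉ N[A] := fun e => neOne jA (by
    rwa [← S.commAx hA.l hA.r z1 ⟨rB, e⟩, mul_inv_cancel_right, right_eq_mul] at er)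
  set p := φ 4 with hp
  have p2 : p⁻¹ = p := TH.inv_of_sq (co.sq 4)
  have r2 : r⁻¹ = r := TH.inv_of_sq (h.sq B hA.r r rB)
  have pA : p ∈ A := co.mem 4
  have zj := S.commAx hA.l hA.r z1 z.hj
  have pj : p * j * p⁻¹ = φ 1 * j := by
    rw [← mul_inv_eq_iff_eq_mul]; exact co.toCm z.aj
  have pc : ∀ n, p * φ n * p⁻¹ = φ n := fun n => by
    rw [commSq co.sqA pA (co.mem n), mul_inv_cancel_right]
  have rc : ∀ x ∈ B, r * x * r⁻¹ = x := fun x hx => by rw [S.comm hA.r rB hx, mul_inv_cancel_right]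
  have eR : cj r A = cj p B := S.eq_of_mem (h.cjm A hA.l r) (h.cjm B hA.r p)
    (neOne (mt (mul_mem_cancel_right (co.mem 1)).1 jA)) (er ▸ conj_mem_cj r (co.mem 1))
    (by rw [← zj, ← pj]; exact conj_mem_cj p z.hj.1)
  have hF := S.gl_Wl hA
  have oρ : Od Ω (Wl A B) (p * r) := ⟨A, B, p, pA, r, rB, S.on_Wl hA, S.onW' hA, hA.ne,
    S.notW hA pA pn, S.notW' hA rB rn, rfl⟩
  have cc : ∀ x y v : G, x * y * v * (x * y)⁻¹ = x * (y * v * y⁻¹) * x⁻¹ := fun _ _ _ => by group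
  have cd : ∀ x u v : G, x * (u * v) * x⁻¹ = x * u * x⁻¹ * (x * v * x⁻¹) := fun _ _ _ => by group
  have ρ1 : p * r * φ 1 * (p * r)⁻¹ = j := by
    rw [cc, er, cd, pj, pc, mul_assoc, ← zj, ← mul_assoc, co.sq, one_mul]
  have ρ2 : p * r * j * (p * r)⁻¹ = φ 1 * j := by rw [cc, rc j z.hj.1, pj]
  have ρ3 : p * r * (p * r) * (p * r) = 1 := by
    by_contra e
    rw [← pow_three'] at e
    refine co.ne (n := 1) (by decide) (by decide) ((oρ.pow S hF e).fpf S hA (axLeW A B z1) ?_)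
    rw [← mul_inv_eq_iff_eq_mul, pow_three', cc, cc (p * r), ρ1, ρ2, cd, ρ1, ρ2, zj, ← mul_assoc,
      z.j2 h hc, one_mul]
  set s := p * r * p with hs
  have s2 : s⁻¹ = s := by rw [hs, mul_inv_rev, mul_inv_rev, p2, r2, mul_assoc]
  have s1 : s * s = 1 := mul_eq_one_iff_eq_inv.2 s2.symm
  have ss : ∀ x, s * (s * x * s⁻¹) * s⁻¹ = x := fun x => by rw [← cc, s1]; group
  have sA : cj s A = B := by
    rw [hs, cj_mul, cj_of_mem pA, cj_mul, eR, ← cj_mul, co.sq, cj_one]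
  have sB : cj s B = A := by rw [← s2, ← sA, cj_inv_cj]
  have sz : s * φ 1 * s⁻¹ = j := by rw [hs, cc, pc, ρ1]
  have sj : s * j * s⁻¹ = φ 1 := by rw [← sz, ss]
  set j' := g * j * g⁻¹ with hj'
  have j1' : j' ∈ ax B A :=
    memAx.2 ⟨conj_mem z.gB z.hj.1, mul_mem (mul_mem gA (axN z.hj)) (inv_mem gA)⟩
  have aj' : Ac φ j' (1, 2, 6, 11) := (co.mulA (co.mulA z.ag z.aj) (z.agi h hc)).of
  have si : s * φ 2 * s⁻¹ = j' := by
    have y1 : s * φ 2 * s⁻¹ ∈ ax B A := by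
      have := conj_mem_cj s i1
      rwa [cj_ax, sA, sB] at this
    refine S.comm_inj hA pA pn y1 j1' ((mul_eq_one_iff_eq_inv.1 (inAB h hA (mul_mem
      (S.comm_mem hA pA y1).1 (co.mem 2)) ?_)).trans ?_)
    · have c1 := S.comm_mem hB rB i1
      have : ⁅p, s * φ 2 * s⁻¹⁆ * φ 2 = ⁅r, φ 2⁆ * (φ 2 * (s * φ 2 * s⁻¹)⁻¹ * φ 2) := by
        rw [commutatorElement_def, commutatorElement_def, ← cc p, hs, ← mul_assoc p, ← mul_assoc p,
          co.sq, one_mul, cc r, pc]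
        group
      rw [this, S.commAx hA.l hA.r i1 (inv_mem y1), mul_assoc _ (φ 2), co.sq, mul_one]
      exact mul_mem c1.1 (inv_mem y1.1)
    · rw [TH.inv_of_sq (co.sq 2), co.toCm aj']; rfl
  have sj' : s * j' * s⁻¹ = φ 2 := by rw [← si, ss]
  have gj' : g * j' * g⁻¹ = j * j' :=
    eqB h co hA (conj_mem z.gB j1'.1) (mul_mem z.hj.1 j1'.1)
      (co.mulA (co.mulA z.ag aj') (z.agi h hc)) (co.mulA z.aj aj')
  have sN : ∀ {P Q : Subgroup G}, cj s P = Q → g ∈ N[P] → s * g * s⁻¹ ∈ N[Q] := fun e k => by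
    rw [← e, ← cj_N]; exact conj_mem_cj s k
  have cs : ∀ x, s * g * s⁻¹ * x * (s * g * s⁻¹)⁻¹ = s * (g * (s * x * s⁻¹) * g⁻¹) * s⁻¹ :=
    fun x => by rw [cc, cc, inv_inv, s2]
  have WB : Wl A B ≤ N[B] := sup_le axN (axL.trans (norm_self B))
  have uW : s * g * s⁻¹ * g ∈ Wl A B := by
    obtain ⟨a, a1, b, b1, c, c1, d, d1, k'⟩ := co.exA (sN sB z.gB)
    obtain rfl : a = 2 := co.eq a1 (by decide) (by rw [← k'.e1.2, cs, sz, ← hj', sj'])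
    obtain rfl : b = 3 := co.eq b1 (by decide) (by
      rw [← k'.e2.2, cs, si, gj', cd, sj, sj', ← co.mul]; rfl)
    have e1 : s * g * s⁻¹ * j = j * j' * (s * g * s⁻¹) := by
      rw [← mul_inv_eq_iff_eq_mul, cs, sj, co.cj z.ag, show ap mH 1 = 1 ^^^ 2 from rfl, co.mul, cd,
        sz, si]
    have e2 := co.uq (co.mulA k' z.aj) (e1 ▸ co.mulA (co.mulA z.aj aj') k')
    have e3 := co.uq (co.mulA (co.mulA k' k') k') (M' := I4) (by
      rw [← cd, ← cd, z.g3]; exact co.ofA (by simp))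
    have f : ∀ x ∈ ax B A, Ac φ (s * g * s⁻¹ * g * x) I4 → s * g * s⁻¹ * g ∈ Wl A B :=
      fun x hx k => (mul_mem_cancel_right (axLeW' A B hx)).1 (axLeW A B (memAx.2 ⟨memA h co hA.l k,
        mul_mem (mul_mem (sN sA gA) z.gB) (norm_self B hx.1)⟩))
    have dd : ∀ c < 16, ∀ d < 16, cp (2, 3, c, d) mJ = cp (cp mJ (1, 2, 6, 11)) (2, 3, c, d) →
      cp (cp (2, 3, c, d) (2, 3, c, d)) (2, 3, c, d) = I4 →
      ∃ X ∈ [I4, mJ, (1, 2, 6, 11), cp mJ (1, 2, 6, 11)], cp (cp (2, 3, c, d) mH) X = I4 := by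
      decide +kernel
    obtain ⟨X, hX, e⟩ := dd c c1 d d1 e2 e3
    have k2 := co.mulA k' z.ag
    simp only [List.mem_cons, List.not_mem_nil, or_false] at hX
    rcases hX with rfl | rfl | rfl | rfl
    exacts [f 1 (one_mem _) ((co.mulA k2 (co.ofA (one_mem A))).of e), f j z.hj ((co.mulA k2 z.aj).of e),
      f j' j1' ((co.mulA k2 aj').of e), f _ (mul_mem z.hj j1') ((co.mulA k2 (co.mulA z.aj aj')).of e)]
  have sq := fun x => S.sq_Wl hA (w := x)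
  obtain ⟨w, hw, e⟩ := lift sq z.od.memN z.g3 (fun x => z.od.fpf S hA) uW
  have pW := S.le_N_Wl hA pA
  have sW : s ∈ N[Wl A B] := mul_mem oρ.memN pW
  have w2 : w * s * (w * s) = 1 := z.od.fpf S hA (by
    rw [show w * s * (w * s) = w * (s * w * s⁻¹) by rw [s2]; group]
    exact mul_mem hw (conj_mem sW hw)) (cg e e)
  refine ⟨w * s, w2, ?_, e, ?_, ?_, ?_, fun y yA yB e1 e2 => ?_⟩
  · rw [cc, sz, commSq sq hw (axLeW' A B z.hj), mul_inv_cancel_right]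
  · rw [show w * s * p = w * (p * r) by rw [hs, mul_assoc, mul_assoc (p * r), co.sq, mul_one]]
    have m : w * (p * r) * (w * (p * r)) * (w * (p * r)) ∈ Wl A B := by
      rw [show w * (p * r) * (w * (p * r)) * (w * (p * r)) = w * (p * r * w * (p * r)⁻¹) *
        (p * r * (p * r * w * (p * r)⁻¹) * (p * r)⁻¹) * (p * r * (p * r) * (p * r)) by group, ρ3,
        mul_one]
      exact mul_mem (mul_mem hw (conj_mem oρ.memN hw)) (conj_mem oρ.memN (conj_mem oρ.memN hw))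
    refine oρ.fpf S hA m (mul_left_cancel (a := w) ?_)
    rw [← mul_assoc w (_ * _ * _), commSq sq hw m]; group
  · obtain ⟨u, hu, v, hv, rfl⟩ := (S.mem_Wl hA).1 hw
    exact DP.mul h hc (DP.mul h hc ⟨A, hA.l, hu.1⟩ ⟨B, hA.r, hv.1⟩ (S.commAx hA.l hA.r hu hv))
      (by rw [hs]; nth_rw 2 [← p2]; exact DP.cj h ⟨B, hA.r, rB⟩ p) (cm2 (sq _ hw) s1 w2)
  · rw [cj_mul, sA, cj_of_mem_N (WB hw)]
  · have u1 : y * p * y⁻¹ * p ∈ ax A B := memAx.2 ⟨mul_mem (conj_mem yA pA) pA, e2⟩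
    have yW : y ∈ N[Wl A B] := by rw [mem_N_iff_cj, cj_Wl, cj_of_mem_N yA, cj_of_mem_N yB]
    have v1 : r⁻¹ * (y * r * y⁻¹) ∈ ax B A := memAx.2 ⟨mul_mem (inv_mem rB) (conj_mem yB rB), by
      rw [← cj_eq_cj_iff, cj_mul, cj_of_mem_N (inv_mem yA), cj_mul, eR, ← cj_mul,
        show y * p = p * (y * p * y⁻¹ * p) * y by
          rw [commSq co.sqA pA u1.1, mul_assoc (y * p * y⁻¹) p p, co.sq]; group,
        cj_mul, cj_of_mem_N yB, cj_mul, cj_of_mem_N e2]⟩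
    have m : y * (w * s) * y⁻¹ * (w * s)⁻¹ ∈ Wl A B := by
      rw [show y * (w * s) * y⁻¹ * (w * s)⁻¹ = y * w * y⁻¹ * (y * p * y⁻¹ * p⁻¹ * (p * r *
        (r⁻¹ * (y * r * y⁻¹) * (y * p * y⁻¹ * p⁻¹)) * (p * r)⁻¹)) * w⁻¹ by rw [hs]; group, p2]
      exact mul_mem (mul_mem (conj_mem yW hw) (mul_mem (axLeW A B u1) (conj_mem oρ.memN
        (mul_mem (axLeW' A B v1) (axLeW A B u1))))) (inv_mem hw)
    have := z.od.fpf S hA m (cg (by
      rw [cc, cc, cgi e1, show w * s * g⁻¹ * (w * s)⁻¹ = (w * s * g * (w * s)⁻¹)⁻¹ by group, e,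
        inv_inv, e1]) (cgi e))
    rwa [mul_inv_eq_one, mul_inv_eq_iff_eq_mul] at this

end Z

end H28.TS
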