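import Mathlib
import Cfsg.Agent.H28.Mono
import Cfsg.Agent.H9.Steiner
import Cfsg.Agent.S0425

/-! The ternary Golay code. -/

set_option autoImplicit false

namespace H28

open Cfsg Finset
open scoped Pointwise

/-- six coordinates. -/
abbrev T6 : Type := ZMod 3 × ZMod 3 × ZMod 3 × ZMod 3 × ZMod 3 × ZMod 3

/-- the word with given information symbols. -/
def tw' (a b c d e f : ZMod 3) (p : ArrayPt) : ZMod 3 :=
  (![![a, b, c], ![d, e, a + b + c + 2 * d + 2 * e],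
    ![f, 2 * b + c + 2 * d + e + f, a + 2 * b + d + 2 * e + f],
    ![a + 2 * b + 2 * c + 2 * d + 2 * f, a + c + d + e + 2 * f, 2 * a + 2 * b + c + 2 * e + 2 * f]] :
      Fin 4 → Fin 3 → ZMod 3) p.1 p.2

/-- the word with given information symbols. -/
def tw (m : T6) : ArrayPt → ZMod 3 := tw' m.1 m.2.1 m.2.2.1 m.2.2.2.1 m.2.2.2.2.1 m.2.2.2.2.2

/-- the information symbols. -/
def ti (x : ArrayPt → ZMod 3) : T6 := (x (0, 0), x (0, 1), x (0, 2), x (1, 0), x (1, 1), x (2, 0))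

theorem ti_tw (m : T6) : ti (tw m) = m := rfl

theorem tw_inj : Function.Injective tw := Function.LeftInverse.injective ti_tw

theorem mem_tetracode {t : Fin 4 → ZMod 3} :
    t ∈ tetracode ↔ ∃ a b : ZMod 3, t = ![b, a, a + b, a + 2 * b] := by
  rw [tetracode, Submodule.mem_span_pair]
  refine exists_congr fun a => exists_congr fun b => ?_
  rw [eq_comm]
  refine Eq.congr_right ?_
  ext i
  fin_cases i <;> simp [mul_comm]

theorem sum_z3 (f : ZMod 3 → ZMod 3) : ∑ r, f r = f 0 + f 1 + f 2 := Fin.sum_univ_three f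

theorem tw_mem (m : T6) : tw m ∈ ternaryGolayCode := by
  refine ⟨-(m.1 + m.2.1 + m.2.2.1), fun i => ?_, fun t ht => ?_⟩
  · rw [sum_z3]
    revert m i
    decide +kernel
  · obtain ⟨a, b, rfl⟩ := mem_tetracode.1 ht
    rw [Fin.sum_univ_four]
    clear ht
    revert m a b
    decide +kernel

theorem eq_tw {x : ArrayPt → ZMod 3} (hx : x ∈ ternaryGolayCode) : x = tw (ti x) := by
  obtain ⟨s, h1, h2⟩ := hx
  have h3 : ∀ a b : ZMod 3, x (0, b) + x (1, a) + x (2, a + b) + x (3, a + 2 * b) = s := by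
    intro a b
    have := h2 _ (mem_tetracode.2 ⟨a, b, rfl⟩)
    rwa [Fin.sum_univ_four] at this
  simp only [sum_z3] at h1
  have c0 := h1 0
  have c1 := h1 1
  have c2 := h1 2
  have c3 := h1 3
  have d0 : x (0, 0) + x (1, 0) + x (2, 0) + x (3, 0) = s := h3 0 0
  have d1 : x (0, 1) + x (1, 0) + x (2, 1) + x (3, 2) = s := h3 0 1
  have d2 : x (0, 2) + x (1, 0) + x (2, 2) + x (3, 1) = s := h3 0 2
  have d3 : x (0, 0) + x (1, 1) + x (2, 1) + x (3, 1) = s := h3 1 0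
  have d4 : x (0, 1) + x (1, 1) + x (2, 2) + x (3, 0) = s := h3 1 1
  have d5 : x (0, 2) + x (1, 1) + x (2, 0) + x (3, 2) = s := h3 1 2
  have e5 : x (1, 2) = x (0, 0) + x (0, 1) + x (0, 2) + 2 * x (1, 0) + 2 * x (1, 1) := by grind
  have e7 : x (2, 1) = 2 * x (0, 1) + x (0, 2) + 2 * x (1, 0) + x (1, 1) + x (2, 0) := by grind
  have e8 : x (2, 2) = x (0, 0) + 2 * x (0, 1) + x (1, 0) + 2 * x (1, 1) + x (2, 0) := by grind
  have e9 : x (3, 0) = x (0, 0) + 2 * x (0, 1) + 2 * x (0, 2) + 2 * x (1, 0) + 2 * x (2, 0) := by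
    grind
  have e10 : x (3, 1) = x (0, 0) + x (0, 2) + x (1, 0) + x (1, 1) + 2 * x (2, 0) := by grind
  have e11 : x (3, 2) = 2 * x (0, 0) + 2 * x (0, 1) + x (0, 2) + 2 * x (1, 1) + 2 * x (2, 0) := by
    grind
  funext ⟨i, r⟩
  have hr : r = 0 ∨ r = 1 ∨ r = 2 := by revert r; decide
  fin_cases i <;> rcases hr with rfl | rfl | rfl
  exacts [rfl, rfl, rfl, rfl, rfl, e5, rfl, e7, e8, e9, e10, e11]

theorem mem_tgc {x : ArrayPt → ZMod 3} : x ∈ ternaryGolayCode ↔ ∃ m, x = tw m :=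
  ⟨fun h => ⟨_, eq_tw h⟩, fun ⟨m, e⟩ => e ▸ tw_mem m⟩

theorem ncard_tgc (P : (ArrayPt → ZMod 3) → Prop) [DecidablePred P] :
    {x | x ∈ ternaryGolayCode ∧ P x}.ncard = (univ.filter fun m => P (tw m)).card := by
  rw [← Set.ncard_coe_finset, ← Set.ncard_image_of_injective _ tw_inj]
  congr 1
  ext x
  simp only [mem_tgc, Set.mem_ofPred_eq, coe_filter, mem_univ, true_and, Set.mem_image]
  exact ⟨fun ⟨⟨m, e⟩, h⟩ => ⟨m, e ▸ h, e.symm⟩, fun ⟨m, h, e⟩ => ⟨⟨m, e.symm⟩, e ▸ h⟩⟩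

theorem tgc_weight : ∀ x ∈ ternaryGolayCode, x ≠ 0 → (ternarySupport x).card = 6 ∨
    (ternarySupport x).card = 9 ∨ (ternarySupport x).card = 12 := by
  intro x hx h0
  obtain ⟨m, rfl⟩ := mem_tgc.1 hx
  have h : ∀ m : T6, m = 0 ∨ (ternarySupport (tw m)).card = 6 ∨
    (ternarySupport (tw m)).card = 9 ∨ (ternarySupport (tw m)).card = 12 := by decide +kernel
  exact (h m).resolve_left fun e => h0 (by rw [e]; decide +kernel)

theorem tgc_six : {x : ArrayPt → ZMod 3 | x ∈ ternaryGolayCode ∧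
    (ternarySupport x).card = 6}.ncard = 264 := by
  rw [ncard_tgc]; decide +kernel

theorem s1590 : Nat.card ↥ternaryGolayCode = 729 ∧ (∀ x ∈ ternaryGolayCode, x ≠ 0 →
    (ternarySupport x).card = 6 ∨ (ternarySupport x).card = 9 ∨ (ternarySupport x).card = 12) ∧
    {x : ArrayPt → ZMod 3 | x ∈ ternaryGolayCode ∧ (ternarySupport x).card = 6}.ncard = 264 ∧
    {x : ArrayPt → ZMod 3 | x ∈ ternaryGolayCode ∧ (ternarySupport x).card = 9}.ncard = 440 ∧
    {x : ArrayPt → ZMod 3 | x ∈ ternaryGolayCode ∧ (ternarySupport x).card = 12}.ncard = 24 := by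
  refine ⟨?_, tgc_weight, tgc_six, ?_, ?_⟩
  · have := ncard_tgc fun _ => True
    simp only [and_true, filter_true, card_univ, Fintype.card_prod, ZMod.card] at this
    exact this
  · rw [ncard_tgc]; decide +kernel
  · rw [ncard_tgc]; decide +kernel

theorem s1591 (x y : ArrayPt → ZMod 3) (hx : x ∈ ternaryGolayCode) (hy : y ∈ ternaryGolayCode) :
    ∑ p, x p * y p = 0 := by
  obtain ⟨⟨a, b, c, d, e, f⟩, rfl⟩ := mem_tgc.1 hx
  obtain ⟨⟨a', b', c', d', e', f'⟩, rfl⟩ := mem_tgc.1 hy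
  rw [Fintype.sum_prod_type, Fin.sum_univ_four, sum_z3, sum_z3, sum_z3, sum_z3]
  change a * a' + b * b' + c * c' + (d * d' + e * e' + (a + b + c + 2 * d + 2 * e) *
    (a' + b' + c' + 2 * d' + 2 * e')) + (f * f' + (2 * b + c + 2 * d + e + f) *
    (2 * b' + c' + 2 * d' + e' + f') + (a + 2 * b + d + 2 * e + f) *
    (a' + 2 * b' + d' + 2 * e' + f')) + ((a + 2 * b + 2 * c + 2 * d + 2 * f) *
    (a' + 2 * b' + 2 * c' + 2 * d' + 2 * f') + (a + c + d + e + 2 * f) *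
    (a' + c' + d' + e' + 2 * f') + (2 * a + 2 * b + c + 2 * e + 2 * f) *
    (2 * a' + 2 * b' + c' + 2 * e' + 2 * f')) = 0
  grind

theorem supp_count (x y : ArrayPt → ZMod 3) :
    (ternarySupport (x + y)).card + (ternarySupport (x - y)).card +
      3 * (ternarySupport x ∩ ternarySupport y).card =
      2 * (ternarySupport x).card + 2 * (ternarySupport y).card := by
  simp only [ternarySupport, ← filter_and, card_filter, mul_sum, ← sum_add_distrib]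
  refine sum_congr rfl fun p _ => ?_
  have : ∀ a b : ZMod 3, (((if a + b ≠ 0 then 1 else 0) + if a - b ≠ 0 then 1 else 0) +
      3 * if a ≠ 0 ∧ b ≠ 0 then 1 else 0) =
      (2 * if a ≠ 0 then 1 else 0) + 2 * if b ≠ 0 then 1 else 0 := by decide
  exact this (x p) (y p)

theorem eq_or_neg {x y : ArrayPt → ZMod 3} (hx : x ∈ ternaryGolayCode) (hy : y ∈ ternaryGolayCode)
    (h1 : (ternarySupport x).card = 6) (h2 : (ternarySupport y).card = 6)
    (h : 5 ≤ (ternarySupport x ∩ ternarySupport y).card) : y = x ∨ y = -x := by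
  have h3 := supp_count x y
  by_contra hn
  rw [not_or] at hn
  have h4 := tgc_weight _ (add_mem hx hy) fun e => hn.2 (eq_neg_of_add_eq_zero_right e)
  have h5 := tgc_weight _ (sub_mem hx hy) fun e => hn.1 (sub_eq_zero.1 e).symm
  omega

theorem supp_neg (x : ArrayPt → ZMod 3) : ternarySupport (-x) = ternarySupport x := by
  simp [ternarySupport]

/-- the hexads of the ternary code. -/
abbrev THex : Set (Finset ArrayPt) :=
  {h | ∃ x ∈ ternaryGolayCode, ternarySupport x = h ∧ h.card = 6}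

theorem ncard_THex : THex.ncard = 132 := by
  classical
  have h := tgc_six
  have e : {x : ArrayPt → ZMod 3 | x ∈ ternaryGolayCode ∧ (ternarySupport x).card = 6} =
      (univ.filter fun x => x ∈ ternaryGolayCode ∧ (ternarySupport x).card = 6 : Finset _) := by
    ext; simp
  have e2 : THex = ((univ.filter fun x => x ∈ ternaryGolayCode ∧
      (ternarySupport x).card = 6).image ternarySupport : Finset _) := by
    ext h
    simp only [Set.mem_ofPred_eq, coe_image, coe_filter, mem_univ, true_and, Set.mem_image]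
    exact ⟨fun ⟨x, a, b, c⟩ => ⟨x, ⟨a, b ▸ c⟩, b⟩, fun ⟨x, ⟨a, c⟩, b⟩ => ⟨x, a, b, b ▸ c⟩⟩
  rw [e, Set.ncard_coe_finset, card_eq_sum_card_image ternarySupport,
    sum_const_nat (m := 2)] at h
  · rw [e2, Set.ncard_coe_finset]; omega
  intro b hb
  obtain ⟨x, hx, rfl⟩ := mem_image.1 hb
  simp only [mem_filter, mem_univ, true_and] at hx
  rw [card_eq_two]
  refine ⟨x, -x, fun e => ?_, ?_⟩
  · have : x = 0 := funext fun p => by
      have := congrFun e p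
      revert this
      rw [Pi.neg_apply, Pi.zero_apply]
      generalize x p = a
      revert a
      decide
    rw [this] at hx
    exact absurd hx.2 (by decide)
  · ext y
    simp only [mem_filter, mem_univ, true_and, mem_insert, mem_singleton]
    constructor
    · rintro ⟨h1, h2⟩
      exact eq_or_neg hx.1 h1.1 hx.2 h1.2 (by rw [h2, inter_self, hx.2]; norm_num)
    · rintro (rfl | rfl)
      · exact ⟨hx, rfl⟩
      · exact ⟨⟨neg_mem hx.1, by rw [supp_neg, hx.2]⟩, supp_neg x⟩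

theorem THex_steiner : IsSteinerSystem 5 6 THex := by
  refine H9.steiner_of_packing (fun _ ⟨_, _, _, h⟩ => h) ?_ (by rw [ncard_THex]; decide +kernel)
  rintro _ ⟨x, hx, rfl, h1⟩ _ ⟨y, hy, rfl, h2⟩ h
  rcases eq_or_neg hx hy h1 h2 h with rfl | rfl
  · rfl
  · rw [supp_neg]

theorem s1593 (c : ArrayPt → (ZMod 3)ˣ)
    (h : ∀ x ∈ ternaryGolayCode, monomialMap 1 c x ∈ ternaryGolayCode) :
    (∀ p, c p = 1) ∨ (∀ p, c p = -1) := by
  have h1 : ∀ m p, (c p : ZMod 3) * tw m p = tw (ti (monomialMap 1 c (tw m))) p := fun m p =>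
    congrFun (eq_tw (h _ (tw_mem m))) p
  have k : ∀ p, (c p : ZMod 3) = c (0, 0) := by
    have b0 : ∀ p, tw (1, 0, 0, 0, 0, 0) p ≠ 0 → (c p : ZMod 3) = c (0, 0) := fun p hp => by
      have k : ∀ p u v, tw (1, 0, 0, 0, 0, 0) p ≠ 0 → u * tw (1, 0, 0, 0, 0, 0) p = tw (v, 0, 0, 0, 0, 0) p → u = v := by
        decide +kernel
      refine k p _ _ hp ((h1 _ p).trans (congrFun (congrArg tw ?_) p))
      change ((c (0, 0) : ZMod 3) * 1, (c (0, 1) : ZMod 3) * 0, (c (0, 2) : ZMod 3) * 0, (c (1, 0) : ZMod 3) * 0, (c (1, 1) : ZMod 3) * 0, (c (2, 0) : ZMod 3) * 0) = _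
      simp only [mul_one, mul_zero]
    have b1 : ∀ p, tw (0, 1, 0, 0, 0, 0) p ≠ 0 → (c p : ZMod 3) = c (0, 1) := fun p hp => by
      have k : ∀ p u v, tw (0, 1, 0, 0, 0, 0) p ≠ 0 → u * tw (0, 1, 0, 0, 0, 0) p = tw (0, v, 0, 0, 0, 0) p → u = v := by
        decide +kernel
      refine k p _ _ hp ((h1 _ p).trans (congrFun (congrArg tw ?_) p))
      change ((c (0, 0) : ZMod 3) * 0, (c (0, 1) : ZMod 3) * 1, (c (0, 2) : ZMod 3) * 0, (c (1, 0) : ZMod 3) * 0, (c (1, 1) : ZMod 3) * 0, (c (2, 0) : ZMod 3) * 0) = _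
      simp only [mul_one, mul_zero]
    have b2 : ∀ p, tw (0, 0, 1, 0, 0, 0) p ≠ 0 → (c p : ZMod 3) = c (0, 2) := fun p hp => by
      have k : ∀ p u v, tw (0, 0, 1, 0, 0, 0) p ≠ 0 → u * tw (0, 0, 1, 0, 0, 0) p = tw (0, 0, v, 0, 0, 0) p → u = v := by
        decide +kernel
      refine k p _ _ hp ((h1 _ p).trans (congrFun (congrArg tw ?_) p))
      change ((c (0, 0) : ZMod 3) * 0, (c (0, 1) : ZMod 3) * 0, (c (0, 2) : ZMod 3) * 1, (c (1, 0) : ZMod 3) * 0, (c (1, 1) : ZMod 3) * 0, (c (2, 0) : ZMod 3) * 0) = _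
      simp only [mul_one, mul_zero]
    have b3 : ∀ p, tw (0, 0, 0, 1, 0, 0) p ≠ 0 → (c p : ZMod 3) = c (1, 0) := fun p hp => by
      have k : ∀ p u v, tw (0, 0, 0, 1, 0, 0) p ≠ 0 → u * tw (0, 0, 0, 1, 0, 0) p = tw (0, 0, 0, v, 0, 0) p → u = v := by
        decide +kernel
      refine k p _ _ hp ((h1 _ p).trans (congrFun (congrArg tw ?_) p))
      change ((c (0, 0) : ZMod 3) * 0, (c (0, 1) : ZMod 3) * 0, (c (0, 2) : ZMod 3) * 0, (c (1, 0) : ZMod 3) * 1, (c (1, 1) : ZMod 3) * 0, (c (2, 0) : ZMod 3) * 0) = _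
      simp only [mul_one, mul_zero]
    have b4 : ∀ p, tw (0, 0, 0, 0, 1, 0) p ≠ 0 → (c p : ZMod 3) = c (1, 1) := fun p hp => by
      have k : ∀ p u v, tw (0, 0, 0, 0, 1, 0) p ≠ 0 → u * tw (0, 0, 0, 0, 1, 0) p = tw (0, 0, 0, 0, v, 0) p → u = v := by
        decide +kernel
      refine k p _ _ hp ((h1 _ p).trans (congrFun (congrArg tw ?_) p))
      change ((c (0, 0) : ZMod 3) * 0, (c (0, 1) : ZMod 3) * 0, (c (0, 2) : ZMod 3) * 0, (c (1, 0) : ZMod 3) * 0, (c (1, 1) : ZMod 3) * 1, (c (2, 0) : ZMod 3) * 0) = _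
      simp only [mul_one, mul_zero]
    have b5 : ∀ p, tw (0, 0, 0, 0, 0, 1) p ≠ 0 → (c p : ZMod 3) = c (2, 0) := fun p hp => by
      have k : ∀ p u v, tw (0, 0, 0, 0, 0, 1) p ≠ 0 → u * tw (0, 0, 0, 0, 0, 1) p = tw (0, 0, 0, 0, 0, v) p → u = v := by
        decide +kernel
      refine k p _ _ hp ((h1 _ p).trans (congrFun (congrArg tw ?_) p))
      change ((c (0, 0) : ZMod 3) * 0, (c (0, 1) : ZMod 3) * 0, (c (0, 2) : ZMod 3) * 0, (c (1, 0) : ZMod 3) * 0, (c (1, 1) : ZMod 3) * 0, (c (2, 0) : ZMod 3) * 1) = _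
      simp only [mul_one, mul_zero]
    have a5 := b0 (1, 2) (by decide +kernel)
    have a8 := b0 (2, 2) (by decide +kernel)
    have a9 := b0 (3, 0) (by decide +kernel)
    have a10 := b0 (3, 1) (by decide +kernel)
    have a1 := b1 (1, 2) (by decide +kernel)
    have a2 := b2 (1, 2) (by decide +kernel)
    have a7 := b2 (2, 1) (by decide +kernel)
    have a11 := b2 (3, 2) (by decide +kernel)
    have a3 := b3 (2, 2) (by decide +kernel)
    have a4 := b4 (2, 1) (by decide +kernel)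
    have a6 := b5 (2, 1) (by decide +kernel)
    clear b0 b1 b2 b3 b4 b5 h1
    rintro ⟨i, r⟩
    have hr : r = 0 ∨ r = 1 ∨ r = 2 := by revert r; decide
    have hi : i = 0 ∨ i = 1 ∨ i = 2 ∨ i = 3 := by revert i; decide
    rcases hi with rfl | rfl | rfl | rfl <;> rcases hr with rfl | rfl | rfl <;> grind
  have h2 : ∀ u : (ZMod 3)ˣ, u = 1 ∨ u = -1 := by decide
  rcases h2 (c (0, 0)) with e | e
  · exact Or.inl fun p => (Units.ext (k p)).trans e
  · exact Or.inr fun p => (Units.ext (k p)).trans e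

/-- a map of the array given by a list. -/
def arr (l : List ℕ) (p : ArrayPt) : ArrayPt :=
  (Fin.ofNat 4 (l.getD (3 * p.1.val + p.2.val) 0 / 3), ((l.getD (3 * p.1.val + p.2.val) 0 : ℕ) : ZMod 3))

/-- signs given by a list. -/
def sgn (l : List ℕ) (p : ArrayPt) : (ZMod 3)ˣ :=
  if l.getD (3 * p.1.val + p.2.val) 0 = 1 then 1 else -1

/-- first generator. -/
def tA : Equiv.Perm ArrayPt := ⟨arr [9, 4, 5, 8, 0, 7, 2, 6, 1, 11, 3, 10],
  arr [4, 8, 6, 10, 1, 2, 7, 5, 3, 0, 11, 9], by decide +kernel, by decide +kernel⟩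

/-- second generator. -/
def tB : Equiv.Perm ArrayPt := ⟨arr [7, 3, 0, 2, 1, 11, 5, 4, 10, 6, 9, 8],
  arr [2, 4, 3, 1, 7, 6, 9, 0, 11, 10, 8, 5], by decide +kernel, by decide +kernel⟩

theorem mem_permPart_of {σ : Equiv.Perm ArrayPt} (c : ArrayPt → (ZMod 3)ˣ)
    (h : ∀ m p, monomialMap σ c (tw m) p = tw (ti (monomialMap σ c (tw m))) p) :
    σ ∈ permPart ternaryGolayCode := ⟨c, fun x hx => by
  obtain ⟨m, rfl⟩ := mem_tgc.1 hx
  exact mem_tgc.2 ⟨_, funext (h m)⟩⟩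

theorem permPart_le : permPart ternaryGolayCode ≤ setSystemAut THex := by
  have key : ∀ σ ∈ permPart ternaryGolayCode, ∀ h ∈ THex, σ • h ∈ THex := by
    rintro σ ⟨c, hc⟩ _ ⟨x, hx, rfl, h6⟩
    refine ⟨_, hc x hx, ?_, by rwa [card_smul_finset]⟩
    ext p
    rw [← inv_smul_mem_iff]
    simp [ternarySupport, monomialMap, Equiv.Perm.inv_def]
  intro σ hσ
  rw [MulAction.mem_stabilizer_iff]
  ext h
  rw [Set.mem_smul_set_iff_inv_smul_mem]
  exact ⟨fun h1 => by simpa using key σ hσ _ h1, key _ (inv_mem hσ) h⟩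

theorem permPart_eq : permPart ternaryGolayCode = setSystemAut THex := by
  refine le_antisymm permPart_le (le_of_words permPart_le
    (mem_permPart_of (σ := tA) (sgn [1, 2, 2, 2, 1, 1, 1, 2, 2, 2, 1, 1]) (by decide +kernel))
    (mem_permPart_of (σ := tB) (sgn [1, 1, 2, 1, 1, 2, 1, 1, 2, 2, 2, 2]) (by decide +kernel)) 5
    (fun i => (Fin.ofNat 4 (i / 3), (i : ZMod 3))) (fun i => [[[], [1, 1, 1], [0, 1, 0], [0, 0, 0, 0], [1, 1], [1, 1, 0], [1, 0], [1], [1, 0, 0], [0], [0, 0, 0], [0, 0]], [[], [0, 1, 0, 0, 0, 1, 0], [1, 0, 0, 1], [1, 0, 1, 1, 0, 0, 0], [0, 1, 1], [0, 1, 0, 0, 0, 0, 1], [1, 0, 1, 0, 0, 1, 1], [1, 1, 1, 0, 1, 0, 0], [0, 1, 1, 1, 0, 0, 1], [1, 1, 0, 0, 0, 0], [0, 0, 1, 1, 1]], [[], [1, 0, 1, 0, 1, 0, 1, 0], [0, 1, 1, 0, 1, 1, 1, 0, 1, 0], [0, 0, 0, 1, 1, 1, 0, 1, 1, 0, 0, 1], [0, 1, 0, 1, 0, 1, 0, 1, 1], [1, 0, 0, 0, 1, 1, 0], [1, 1, 1, 1, 0, 0, 1, 0, 0], [1, 0, 1, 0], [0, 1, 1,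 0, 1, 1], [1, 0, 0, 1, 0, 0, 1, 1, 1]], [[], [0, 1, 0, 1, 1, 0, 0, 0, 0, 0, 0, 1, 1, 0, 0], [0, 1, 1, 0, 0, 0, 0, 1, 1, 0, 1, 1, 1], [0, 1, 1, 0, 0, 1, 0, 1, 1, 1, 1, 0, 1, 0], [1, 1, 1, 1, 1, 0, 0, 1, 1, 1, 0, 1, 1, 1], [1, 1, 0, 0, 1, 1, 0, 0, 1, 1, 0], [0, 0, 1, 1, 0, 1, 1, 0, 0, 0, 0, 1, 0, 0], [1, 1, 0, 1, 1, 1, 1, 0, 1], [1, 0, 1, 1, 0, 1, 1, 0, 0, 0, 0, 0, 1]], [[], [1, 0, 0, 0, 0, 1, 0, 0, 0, 1, 0, 0, 1, 0, 0, 0], [0, 1, 1, 1, 1, 0, 1, 0, 1, 0, 1, 1, 1, 0, 0, 1, 1, 0], [0, 1, 1, 0, 0, 0, 1, 0, 0, 1, 0, 0, 0, 1, 1, 0], [0, 0, 1, 0, 1, 0, 1, 1, 0, 0, 0, 0, 0, 0, 0, 1, 0], [0, 0, 1, 0, 1, 1, 1, 1, 0, 0, 0, 0, 1, 0, 0, 0, 0], [1, 0, 0, 0, 1, 0, 1, 0, 0, 1, 0, 0, 1, 0, 0], [1, 0, 0, 0, 0, 0, 1, 0, 1, 0, 0, 1, 0, 1, 1]]].getD i [])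
    (by decide +kernel) (by decide +kernel) fun g hg h => ?_)
  have h1 := (Cfsg.Agent.S0425.result (by decide) THex_steiner).2.2
    ⟨fun i => (Fin.ofNat 4 (i / 3), ((i : ℕ) : ZMod 3)), by decide⟩
  have h2 : (⟨g, hg⟩ : setSystemAut THex) ∈ (⊥ : Subgroup (setSystemAut THex)) := by
    rw [← h1, MulAction.mem_stabilizer_iff]
    ext1 i
    exact h i i.2
  exact congrArg Subtype.val (Subgroup.mem_bot.1 h2)

theorem s1594 : Nat.card {f : Equiv.Perm ArrayPt × (ArrayPt → (ZMod 3)ˣ) //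
      (∀ x ∈ ternaryGolayCode, monomialMap f.1 f.2 x ∈ ternaryGolayCode)} = 190080 ∧
    {σ : Equiv.Perm ArrayPt | ∃ c : ArrayPt → (ZMod 3)ˣ,
      (∀ x ∈ ternaryGolayCode, monomialMap σ c x ∈ ternaryGolayCode)} =
      (setSystemAut THex : Set (Equiv.Perm ArrayPt)) := by
  refine ⟨(card_mono ternaryGolayCode).trans ?_, by rw [← permPart_eq]; rfl⟩
  have h : {c : ArrayPt → (ZMod 3)ˣ | MonoOK ternaryGolayCode 1 c} = {1, -1} := by
    ext c
    constructor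
    · exact fun h => (s1593 c h).imp funext funext
    · rintro (rfl | rfl)
      · exact fun x hx => by rwa [mono_one]
      · intro x hx
        convert neg_mem hx using 1
        funext p
        simp [monomialMap, Equiv.Perm.one_def]
  have h2 : Nat.card {c : ArrayPt → (ZMod 3)ˣ // MonoOK ternaryGolayCode 1 c} = 2 := by
    rw [← Set.ncard_pair (show (1 : ArrayPt → (ZMod 3)ˣ) ≠ -1 by decide), ← h]
    rfl
  rw [h2, permPart_eq, (Cfsg.Agent.S0425.result (by decide) THex_steiner).1.2]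

end H28
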