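import Mathlib
import Cfsg.Prelude.Def_Spor_Th
import Cfsg.Prelude.Def_ChevE8
import Cfsg.Agent.H19.Th.E8

set_option autoImplicit false

namespace H28.Th

theorem exists_e8 : ∃ f : Cfsg.Spor.Th →* Cfsg.Lie.chevE8.group (ZMod 3), ∃ g, f g ≠ 1 :=
  ⟨H19.Th.E8.f, _, H19.Th.E8.f_ne⟩

end H28.Th
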