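import Mathlib
import Cfsg.Agent.H28.Trio

/-! Orbits of a trio stabiliser on trios. -/

set_option autoImplicit false

namespace H28

open Cfsg Finset H9
open scoped symmDiff Pointwise

/-- generators of the stabiliser of the standard trio. -/
def gT : List ℕ := [235263842116579503954675889037816323, 420213663674729707097025505603913131]

theorem gT_ok : okSG [] [T0L] gT = true := by decide +kernel

/-- representatives of the orbits on trios. -/
def trRep (i : ℕ) : List ℕ := [[13062145, 1613974, 2101096], [13062145, 2654580, 1060490],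
  [4845570, 9568632, 2363013], [4845570, 8783649, 3147996], [7221256, 9486564, 69395]].getD i []

theorem tr_stage2 (a : ℕ) (gens bs : List ℕ)
    (h1 : (okSG [a] [T0L] gens && allL bs isCw) = true)
    (h2 : force (orbU actM lo gens 30 bs) (fun B => treeAll (fun m =>
      cond ((fun n => Nat.beq (Nat.land a n) 0 && Nat.beq (pcT n) 8) (cw m)) (tb B m) true) 12 0)
        = true) (ha : a < 2 ^ 24)
    (h3 : ∀ b ∈ bs, ∃ r ∈ [0, 1, 2, 3, 4], ∃ g ∈ SG [] [T0L],
      g • famL (trRep r) = famL [a, b, thd a b])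
    {b : Finset GolayPt} (hb : b ∈ octads) (hd : Disjoint (ofMask a) b) :
    ∃ r ∈ [0, 1, 2, 3, 4], ∃ g ∈ SG [] [T0L], g • famL (trRep r) = tri (ofMask a) b := by
  rw [Bool.and_eq_true] at h1
  obtain ⟨n, hn, rfl⟩ := exists_isCw hb.1
  obtain ⟨b', hb', g, hg, e⟩ := cw_orbits _ (SG_le _ _) gens (okSG_spec h1.1) 30 bs h1.2
    (fun n => Nat.beq (Nat.land a n) 0 && Nat.beq (pcT n) 8) h2 n hn (by
      rw [Bool.and_eq_true, beq_iff, beq_iff, pcT_eq, ← card_ofMask]
      exact ⟨(disjoint_mask_iff ha).1 hd, hb.2⟩)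
  obtain ⟨r, hr, k, hk, e'⟩ := h3 b' hb'
  refine ⟨r, hr, g * k, Subgroup.mul_mem _ ⟨hg.1, by simp, hg.2.2⟩ hk, ?_⟩
  rw [mul_smul, e', ← tri_mask, smul_tri, hg.2.1 a (by simp), e]

theorem tr_move {r : ℕ} (hr : r ∈ [0, 1, 2, 3, 4]) (c : ℕ) (L : List ℕ)
    (h : (okSG [] [T0L] [c] && allL (trRep r) (fun m => force (actM c m) (memL L))) = true)
    (hL : L.length ≤ 3) : ∃ r ∈ [0, 1, 2, 3, 4], ∃ g ∈ SG [] [T0L], g • famL (trRep r) = famL L := by
  rw [Bool.and_eq_true] at h
  have h1 := okSG_spec h.1 c (by simp)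
  refine ⟨r, hr, pm c, h1.2, smul_famL_of h1.1 h.2 ?_⟩
  have : ∀ r ∈ [0, 1, 2, 3, 4], (∀ m ∈ trRep r, m < 2 ^ 24) ∧ (trRep r).Nodup ∧
      (trRep r).length = 3 := by decide
  rw [card_famL (this r hr).1 (this r hr).2.1, (this r hr).2.2]
  exact (List.toFinset_card_le _).trans (by rwa [List.length_map])

theorem tr_root {X : Finset (Finset GolayPt)} (hX : X ∈ trios) :
    ∃ r ∈ [0, 1, 2, 3, 4], ∃ g ∈ SG [] [T0L], g • famL (trRep r) = X := by
  obtain ⟨a, ha, b, hb, hd, rfl⟩ := exists_eq_tri hX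
  obtain ⟨n, hn, rfl⟩ := exists_isCw ha.1
  obtain ⟨a', ha', g, hg, e⟩ := cw_orbits _ (SG_le _ _) gT (okSG_spec gT_ok) 700
    [13062145, 4845570, 7221256] (by decide +kernel) (fun n => Nat.beq (pcT n) 8)
    (by decide +kernel) n hn (by rw [beq_iff, pcT_eq, ← card_ofMask]; exact ha.2)
  obtain ⟨b, rfl⟩ := MulAction.surjective g b
  rw [← e] at hd ⊢
  rw [disjoint_smul'] at hd
  rw [smul_mem_octads_iff hg.1] at hb
  suffices h : ∃ r ∈ [0, 1, 2, 3, 4], ∃ g ∈ SG [] [T0L], g • famL (trRep r) = tri (ofMask a') b by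
    obtain ⟨r, hr, k, hk, e'⟩ := h
    exact ⟨r, hr, g * k, Subgroup.mul_mem _ hg hk, by rw [mul_smul, e', smul_tri]⟩
  simp only [List.mem_cons, List.not_mem_nil, or_false] at ha'
  rcases ha' with rfl | rfl | rfl
  · refine tr_stage2 _ [18341973979359221959684162995235948, 610143193403256873682445400032815276]
      [1613974, 2654580] (by decide +kernel) (by decide +kernel) (by norm_num) ?_ hb hd
    simp only [List.forall_mem_cons, List.not_mem_nil, false_imp_iff, implies_true, and_true]
    exact ⟨tr_move (r := 0) (by simp) idP _ (by decide +kernel) le_rfl,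
      tr_move (r := 1) (by simp) idP _ (by decide +kernel) le_rfl⟩
  · refine tr_stage2 _ [292453911182555891451016541023422852, 183909959569758416483151215352709588]
      [9830549, 9568632, 8783649, 2101096] (by decide +kernel) (by decide +kernel) (by norm_num)
      ?_ hb hd
    simp only [List.forall_mem_cons, List.not_mem_nil, false_imp_iff, implies_true, and_true]
    exact ⟨tr_move (r := 1) (by simp) 884782574919843372714352926934581254 _ (by decide +kernel)
        le_rfl, tr_move (r := 2) (by simp) idP _ (by decide +kernel) le_rfl,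
      tr_move (r := 3) (by simp) idP _ (by decide +kernel) le_rfl,
      tr_move (r := 1) (by simp) 884782574919843372714352926934581254 _ (by decide +kernel) le_rfl⟩
  · refine tr_stage2 _ [693948842049856234338605792002218304, 605437673330633338895788352036513047]
      [9486564, 9519665, 1050548] (by decide +kernel) (by decide +kernel) (by norm_num) ?_ hb hd
    simp only [List.forall_mem_cons, List.not_mem_nil, false_imp_iff, implies_true, and_true]
    exact ⟨tr_move (r := 4) (by simp) idP _ (by decide +kernel) le_rfl,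
      tr_move (r := 2) (by simp) 792397224488020388133454264701494548 _ (by decide +kernel) le_rfl,
      tr_move (r := 2) (by simp) 132062665551933537657377654838967430 _ (by decide +kernel) le_rfl⟩

theorem tr_cl : ∀ r ∈ [0, 1, 2, 3, 4],
    clF (famL T0L) (famL (trRep r)) = [192, 128, 80, 96, 72].getD r 0 := by
  intro r hr
  have : ∀ r ∈ [0, 1, 2, 3, 4], (∀ m ∈ trRep r, m < 2 ^ 24) ∧ (trRep r).Nodup := by decide
  rw [clF_famL (by decide) (by decide) (this r hr).1 (this r hr).2]
  clear this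
  revert r
  decide +kernel

theorem trio_orbits {S X Y : Finset (Finset GolayPt)} (hS : S ∈ trios) (hX : X ∈ trios)
    (hY : Y ∈ trios) (h : clF S X = clF S Y) :
    ∃ g : Equiv.Perm GolayPt, g ∈ M24 ∧ g • S = S ∧ g • X = Y := by
  obtain ⟨g, hg, rfl⟩ := T_trio hS
  obtain ⟨x, rfl⟩ := MulAction.surjective g X
  obtain ⟨y, rfl⟩ := MulAction.surjective g Y
  rw [smul_mem_trios_iff hg] at hX hY
  rw [clF_smul, clF_smul] at h
  obtain ⟨k, hk, e⟩ := trans_of_roots _ _ (fun r => famL (trRep r)) (clF (famL T0L))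
    (fun g hg x => clF_SG hg x) (fun r hr r' hr' => by
      rw [tr_cl r hr, tr_cl r' hr']; revert r r'; decide) (tr_root hX) (tr_root hY) h
  exact ⟨_, conj_mem hg hk.1, conj_smul_eq (hk.2.2 _ (by simp)), conj_smul_eq e⟩

theorem trio_cl_values {S X : Finset (Finset GolayPt)} (hS : S ∈ trios) (hX : X ∈ trios) :
    clF S X = 192 ∨ clF S X = 128 ∨ clF S X = 80 ∨ clF S X = 96 ∨ clF S X = 72 := by
  obtain ⟨g, hg, rfl⟩ := T_trio hS
  obtain ⟨x, rfl⟩ := MulAction.surjective g X
  rw [smul_mem_trios_iff hg] at hX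
  obtain ⟨r, hr, k, hk, rfl⟩ := tr_root hX
  simp only [clF_smul, clF_SG hk, tr_cl r hr]
  clear hX; revert r; decide

theorem trio_cl_self {S : Finset (Finset GolayPt)} (hS : S ∈ trios) : clF S S = 192 := by
  obtain ⟨g, hg, rfl⟩ := T_trio hS
  rw [clF_smul]
  exact tr_cl 0 (by simp)

/-- square of the size of an intersection. -/
def sqI (a b : ℕ) : ℕ := force (pcT (Nat.land a b)) fun x => Nat.mul x x

theorem sqI_eq (a b : ℕ) : sqI a b = pc (Nat.land a b) ^ 2 := by
  rw [sqI, force_eq, pcT_eq, sq]; rfl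

theorem trio_count {S : Finset (Finset GolayPt)} (hS : S ∈ trios) (i : ℕ) :
    {X | X ∈ trios ∧ clF S X = i}.ncard = cntTri fun a b => force (thd a b) fun c =>
      Nat.beq (sumL T0L fun x => Nat.add (sqI x a) (Nat.add (sqI x b) (sqI x c))) i := by
  obtain ⟨g, hg, rfl⟩ := T_trio hS
  rw [ncard_smul_congr g _ (fun X => X ∈ trios ∧ clF (famL T0L) X = i)
    (fun x => by simp only [smul_mem_trios_iff hg, clF_smul])]
  refine ncard_trios_with (fun X => clF (famL T0L) X = i) _ fun a b ha hb ha' hb' hd => ?_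
  have n1 : a ≠ b := fun e => ne_of_disjoint_octads ha' hd (by rw [e])
  have n2 : a ≠ thd a b := fun e => ne_of_disjoint_octads ha' (disjoint_third_left _ _)
    (by rw [← ofMask_thd, ← e])
  have n3 : b ≠ thd a b := fun e => ne_of_disjoint_octads hb' (disjoint_third_right _ _)
    (by rw [← ofMask_thd, ← e])
  rw [tri_mask, clF_famL (by decide) (by decide) (by
      simp only [List.forall_mem_cons, List.not_mem_nil, false_imp_iff, implies_true, and_true]
      exact ⟨ha, hb, thd_lt ha hb⟩)
    (by simp [n1, n2, n3]), force_eq, beq_iff, sumL_eq]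
  simp only [sqI_eq, List.map_cons, List.map_nil, List.sum_cons, List.sum_nil, add_zero]
  rfl

theorem trio_count128 {S : Finset (Finset GolayPt)} (hS : S ∈ trios) :
    {X | X ∈ trios ∧ clF S X = 128}.ncard = 42 := by
  rw [trio_count hS]; decide +kernel

theorem trio_count96 {S : Finset (Finset GolayPt)} (hS : S ∈ trios) :
    {X | X ∈ trios ∧ clF S X = 96}.ncard = 56 := by
  rw [trio_count hS]; decide +kernel

theorem trio_count80 {S : Finset (Finset GolayPt)} (hS : S ∈ trios) :
    {X | X ∈ trios ∧ clF S X = 80}.ncard = 1008 := by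
  rw [trio_count hS]; decide +kernel

theorem trio_count72 {S : Finset (Finset GolayPt)} (hS : S ∈ trios) :
    {X | X ∈ trios ∧ clF S X = 72}.ncard = 2688 := by
  rw [trio_count hS]; decide +kernel

theorem trio_coatom {S : Finset (Finset GolayPt)} (hS : S ∈ trios) :
    IsCoatom (MulAction.stabilizer M24 S) := by
  refine isCoatom_of_classes _ _ (orbit_trio hS) (clF S) {192, 128, 80, 96, 72}
    (fun i => if i = 128 then 42 else if i = 80 then 1008 else if i = 96 then 56 else
      if i = 72 then 2688 else 1) 3795 192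
    ncard_trios (by norm_num) (trio_cl_self hS) ?_ ?_ ?_ rfl (by decide +kernel)
  · intro y hy
    simpa using trio_cl_values hS hy
  · intro y hy z hz h
    obtain ⟨g, hg, h1, h2⟩ := trio_orbits hS hy hz h
    exact ⟨⟨g, hg⟩, h1, h2⟩
  · intro i hi hi'
    simp only [mem_insert, mem_singleton] at hi
    rcases hi with rfl | rfl | rfl | rfl | rfl
    · exact absurd rfl hi'
    · exact trio_count128 hS
    · exact trio_count80 hS
    · exact trio_count96 hS
    · exact trio_count72 hS

theorem s1559 (S : Finset (Finset GolayPt)) (hS : S ∈ trios) :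
    ∃ X₁ ∈ trios, ∃ X₂ ∈ trios, ∃ X₃ ∈ trios, ∃ X₄ ∈ trios,
      (MulAction.orbit ↥(MulAction.stabilizer M24 S) X₁).ncard = 42 ∧
      (MulAction.orbit ↥(MulAction.stabilizer M24 S) X₂).ncard = 56 ∧
      (MulAction.orbit ↥(MulAction.stabilizer M24 S) X₃).ncard = 1008 ∧
      (MulAction.orbit ↥(MulAction.stabilizer M24 S) X₄).ncard = 2688 ∧
      trios = {S} ∪ MulAction.orbit ↥(MulAction.stabilizer M24 S) X₁ ∪
        MulAction.orbit ↥(MulAction.stabilizer M24 S) X₂ ∪
        MulAction.orbit ↥(MulAction.stabilizer M24 S) X₃ ∪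
        MulAction.orbit ↥(MulAction.stabilizer M24 S) X₄ ∧
      IsCoatom (MulAction.stabilizer M24 S) := by
  have key : ∀ y ∈ trios, MulAction.orbit (MulAction.stabilizer M24 S) y =
      {z | z ∈ trios ∧ clF S z = clF S y} := fun y hy =>
    orbit_stabilizer_eq_class (MulAction.stabilizer M24 S) trios (clF S)
      (fun g _ y hy => smul_mem_trios g.2 hy)
      (fun g hg y => by
        conv_lhs => rw [← MulAction.mem_stabilizer_iff.1 hg]
        exact clF_smul _ _ _)
      (fun y hy z hz h => by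
        obtain ⟨g, hg, h1, h2⟩ := trio_orbits hS hy hz h
        exact ⟨⟨g, hg⟩, h1, h2⟩) hy
  obtain ⟨X₁, h1, e1⟩ := exists_of_ncard (trio_count128 hS)
  obtain ⟨X₂, h2, e2⟩ := exists_of_ncard (trio_count96 hS)
  obtain ⟨X₃, h3, e3⟩ := exists_of_ncard (trio_count80 hS)
  obtain ⟨X₄, h4, e4⟩ := exists_of_ncard (trio_count72 hS)
  refine ⟨X₁, h1, X₂, h2, X₃, h3, X₄, h4, ?_, ?_, ?_, ?_, ?_, trio_coatom hS⟩
  · rw [key _ h1, e1, trio_count128 hS]
  · rw [key _ h2, e2, trio_count96 hS]
  · rw [key _ h3, e3, trio_count80 hS]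
  · rw [key _ h4, e4, trio_count72 hS]
  · rw [key _ h1, key _ h2, key _ h3, key _ h4, e1, e2, e3, e4]
    ext y
    simp only [Set.mem_union, Set.mem_singleton_iff, Set.mem_ofPred_eq]
    constructor
    · intro hy
      rcases trio_cl_values hS hy with h | h | h | h | h
      · obtain ⟨g, _, h1, h2⟩ := trio_orbits hS hS hy ((trio_cl_self hS).trans h.symm)
        exact Or.inl (Or.inl (Or.inl (Or.inl (h2.symm.trans h1))))
      · exact Or.inl (Or.inl (Or.inl (Or.inr ⟨hy, h⟩)))
      · exact Or.inl (Or.inr ⟨hy, h⟩)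
      · exact Or.inl (Or.inl (Or.inr ⟨hy, h⟩))
      · exact Or.inr ⟨hy, h⟩
    · rintro ((((rfl | h) | h) | h) | h)
      · exact hS
      · exact h.1
      · exact h.1
      · exact h.1
      · exact h.1

end H28
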